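import Mathlib
import Cfsg.Prelude.Def_FusionSystem

set_option autoImplicit false

namespace Cfsg.Agent.Helper84

open Cfsg

variable {G : Type*} [Group G]

/-- `H` is a Sylow `p`-subgroup of the subgroup `K`. -/
def IsSylIn (p : ℕ) (H K : Subgroup G) : Prop := H ≤ K ∧ IsPGroup p H ∧ ¬ p ∣ H.relIndex K

theorem isPGroup_subgroupOf {p : ℕ} {H : Subgroup G} (K : Subgroup G) (hH : IsPGroup p H) :
    IsPGroup p (H.subgroupOf K) :=
  hH.comap_of_injective _ (Subgroup.subtype_injective _)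

theorem isSylIn_of_sylow {p : ℕ} [Fact p.Prime] {H K : Subgroup G} [Finite K] (hHK : H ≤ K)
    (h : ∃ R : Sylow p K, (R : Subgroup K) = H.subgroupOf K) : IsSylIn p H K := by
  obtain ⟨R, hR⟩ := h
  refine ⟨hHK, ?_, ?_⟩
  · have h1 : IsPGroup p (H.subgroupOf K) := hR ▸ R.isPGroup'
    have h2 := h1.map K.subtype
    rw [Subgroup.map_subgroupOf_eq_of_le hHK] at h2
    exact h2
  · have := R.not_dvd_index
    rw [hR] at this
    exact this

theorem IsSylIn.exists_sylow {p : ℕ} [Fact p.Prime] {H K : Subgroup G} (h : IsSylIn p H K) :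
    ∃ R : Sylow p K, (R : Subgroup K) = H.subgroupOf K :=
  ⟨(isPGroup_subgroupOf K h.2.1).toSylow h.2.2, rfl⟩

theorem isSylIn_iff_sylow {p : ℕ} [Fact p.Prime] {H K : Subgroup G} [Finite K] (hHK : H ≤ K) :
    (∃ R : Sylow p K, (R : Subgroup K) = H.subgroupOf K) ↔ IsSylIn p H K :=
  ⟨isSylIn_of_sylow hHK, IsSylIn.exists_sylow⟩

theorem exists_isSylIn_ge {p : ℕ} [Fact p.Prime] {H K : Subgroup G} [Finite K] (hHK : H ≤ K)
    (hH : IsPGroup p H) : ∃ T, H ≤ T ∧ IsSylIn p T K := by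
  obtain ⟨R, hR⟩ := (isPGroup_subgroupOf K hH).exists_le_sylow
  refine ⟨(R : Subgroup K).map K.subtype, ?_, ?_⟩
  · intro x hx
    exact ⟨⟨x, hHK hx⟩, hR (by simpa [Subgroup.mem_subgroupOf] using hx), rfl⟩
  · have hle : (R : Subgroup K).map K.subtype ≤ K := Subgroup.map_subtype_le _
    apply isSylIn_of_sylow hle
    refine ⟨R, ?_⟩
    ext x
    simp [Subgroup.mem_subgroupOf]

theorem IsSylIn.exists_conj {p : ℕ} [Fact p.Prime] {T T' K : Subgroup G} [Finite K]
    (h : IsSylIn p T K) (h' : IsSylIn p T' K) :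
    ∃ k ∈ K, T' = T.map (MulAut.conj k).toMonoidHom := by
  obtain ⟨R, hR⟩ := h.exists_sylow
  obtain ⟨R', hR'⟩ := h'.exists_sylow
  obtain ⟨k, hk⟩ := MulAction.exists_smul_eq K R R'
  refine ⟨k, k.2, ?_⟩
  have h1 : ((k • R : Sylow p K) : Subgroup K) = T'.subgroupOf K := by rw [hk, hR']
  ext x
  constructor
  · intro hx
    have hxK : x ∈ K := h'.1 hx
    have : (⟨x, hxK⟩ : K) ∈ ((k • R : Sylow p K) : Subgroup K) := by
      rw [h1]; exact hx
    rw [Sylow.smul_def, Sylow.pointwise_smul_def, Subgroup.mem_pointwise_smul_iff_inv_smul_mem] at this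
    have h2 : (MulAut.conj k)⁻¹ • (⟨x, hxK⟩ : K) ∈ T.subgroupOf K := hR ▸ this
    rw [Subgroup.mem_subgroupOf] at h2
    refine ⟨_, h2, ?_⟩
    simp [MulAut.smul_def, MulAut.conj_apply, mul_assoc]
  · rintro ⟨y, hy, rfl⟩
    have hyK : y ∈ K := h.1 hy
    have h2 : (⟨y, hyK⟩ : K) ∈ (R : Subgroup K) := by rw [hR]; exact hy
    have h3 : MulAut.conj k • (⟨y, hyK⟩ : K) ∈ ((k • R : Sylow p K) : Subgroup K) := by
      rw [Sylow.smul_def, Sylow.pointwise_smul_def]
      exact Subgroup.smul_mem_pointwise_smul _ _ _ h2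
    rw [h1, Subgroup.mem_subgroupOf] at h3
    simpa [MulAut.smul_def, MulAut.conj_apply] using h3

theorem IsSylIn.of_le {p : ℕ} {T K K' : Subgroup G} (h : IsSylIn p T K) (h1 : T ≤ K')
    (h2 : K' ≤ K) : IsSylIn p T K' := by
  refine ⟨h1, h.2.1, fun hd => h.2.2 ?_⟩
  rw [← Subgroup.relIndex_mul_relIndex T K' K h1 h2]
  exact Dvd.dvd.mul_right hd _

theorem IsSylIn.map_conj {p : ℕ} {T K : Subgroup G} (h : IsSylIn p T K) (g : G) :
    IsSylIn p (T.map (MulAut.conj g).toMonoidHom) (K.map (MulAut.conj g).toMonoidHom) := by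
  refine ⟨Subgroup.map_mono h.1, h.2.1.map _, ?_⟩
  rw [Subgroup.relIndex_map_map_of_injective _ _ (MulAut.conj g).injective]
  exact h.2.2

theorem map_conj_eq_self_of_mem {K : Subgroup G} {k : G} (hk : k ∈ K) :
    K.map (MulAut.conj k).toMonoidHom = K := by
  ext x
  constructor
  · rintro ⟨y, hy, rfl⟩
    exact K.mul_mem (K.mul_mem hk hy) (K.inv_mem hk)
  · intro hx
    refine ⟨k⁻¹ * x * k, K.mul_mem (K.mul_mem (K.inv_mem hk) hx) hk, ?_⟩
    simp [MulAut.conj_apply, mul_assoc]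

/-- A `p`-subgroup of `K` lies in a `K`-conjugate of any given Sylow `p`-subgroup of `K`. -/
theorem IsSylIn.exists_conj_ge {p : ℕ} [Fact p.Prime] {T H K : Subgroup G} [Finite K]
    (h : IsSylIn p T K) (hHK : H ≤ K) (hH : IsPGroup p H) :
    ∃ k ∈ K, H ≤ T.map (MulAut.conj k).toMonoidHom := by
  obtain ⟨T', hHT', hT'⟩ := exists_isSylIn_ge hHK hH
  obtain ⟨k, hk, rfl⟩ := h.exists_conj hT'
  exact ⟨k, hk, hHT'⟩

theorem card_map_conj (H : Subgroup G) (g : G) :
    Nat.card (H.map (MulAut.conj g).toMonoidHom) = Nat.card H :=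
  (Nat.card_congr (H.equivMapOfInjective _ (MulAut.conj g).injective).toEquiv).symm

theorem IsSylIn.card_le {p : ℕ} [Fact p.Prime] {T H K : Subgroup G} [Finite K]
    (h : IsSylIn p T K) (hHK : H ≤ K) (hH : IsPGroup p H) : Nat.card H ≤ Nat.card T := by
  obtain ⟨k, hk, hle⟩ := h.exists_conj_ge hHK hH
  have hfin : Finite (T.map (MulAut.conj k).toMonoidHom) := by
    have : T.map (MulAut.conj k).toMonoidHom ≤ K := by
      rw [← map_conj_eq_self_of_mem hk]
      exact Subgroup.map_mono h.1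
    exact Finite.of_injective (Subgroup.inclusion this) (Subgroup.inclusion_injective _)
  calc Nat.card H ≤ Nat.card (T.map (MulAut.conj k).toMonoidHom) := Subgroup.card_le_of_le hle
    _ = Nat.card T := card_map_conj T k

/-- A `p`-subgroup of `K` at least as large as a Sylow `p`-subgroup of `K` is a Sylow `p`-subgroup. -/
theorem IsSylIn.of_card_ge {p : ℕ} [Fact p.Prime] {T H K : Subgroup G} [Finite K]
    (h : IsSylIn p T K) (hHK : H ≤ K) (hH : IsPGroup p H) (hc : Nat.card T ≤ Nat.card H) :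
    IsSylIn p H K := by
  obtain ⟨k, hk, hle⟩ := h.exists_conj_ge hHK hH
  have hle2 : T.map (MulAut.conj k).toMonoidHom ≤ K := by
    rw [← map_conj_eq_self_of_mem hk]
    exact Subgroup.map_mono h.1
  have hfin : Finite (T.map (MulAut.conj k).toMonoidHom) :=
    Finite.of_injective (Subgroup.inclusion hle2) (Subgroup.inclusion_injective _)
  have heq : H = T.map (MulAut.conj k).toMonoidHom := by
    apply Subgroup.eq_of_le_of_card_ge hle
    rw [card_map_conj]
    exact hc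
  rw [heq]
  have := h.map_conj k
  rw [map_conj_eq_self_of_mem hk] at this
  exact this

/-- Intersecting a Sylow `p`-subgroup of `K` with a subgroup `N ≤ K` normalized by `K`. -/
theorem IsSylIn.inf_normal {p : ℕ} [Fact p.Prime] {T K N : Subgroup G} [Finite K]
    (h : IsSylIn p T K) (hNK : N ≤ K) (hn : K ≤ Subgroup.normalizer (N : Set G)) :
    IsSylIn p (T ⊓ N) N := by
  have hfinN : Finite N := Finite.of_injective (Subgroup.inclusion hNK) (Subgroup.inclusion_injective _)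
  have hp : IsPGroup p (T ⊓ N : Subgroup G) := h.2.1.to_inf_left
  obtain ⟨T₁, hT₁le, hT₁⟩ := exists_isSylIn_ge (inf_le_right : T ⊓ N ≤ N) hp
  obtain ⟨k, hk, hle⟩ := h.exists_conj_ge (hT₁.1.trans hNK) hT₁.2.1
  -- T₁ ≤ k (T ⊓ N) k⁻¹
  have hle2 : T₁ ≤ (T ⊓ N).map (MulAut.conj k).toMonoidHom := by
    intro x hx
    obtain ⟨y, hy, rfl⟩ := hle hx
    refine ⟨y, ⟨hy, ?_⟩, rfl⟩
    have hxN : k * y * k⁻¹ ∈ N := hT₁.1 hx
    have := (Subgroup.mem_normalizer_iff.mp (hn hk) y).mpr hxN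
    exact this
  apply hT₁.of_card_ge inf_le_right hp
  have hfin : Finite ((T ⊓ N).map (MulAut.conj k).toMonoidHom) := by
    have : (T ⊓ N).map (MulAut.conj k).toMonoidHom ≤ K := by
      rw [← map_conj_eq_self_of_mem hk]
      exact Subgroup.map_mono (inf_le_right.trans hNK)
    exact Finite.of_injective (Subgroup.inclusion this) (Subgroup.inclusion_injective _)
  calc Nat.card T₁ ≤ Nat.card ((T ⊓ N).map (MulAut.conj k).toMonoidHom) := Subgroup.card_le_of_le hle2
    _ = Nat.card (T ⊓ N : Subgroup G) := card_map_conj _ k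

/-- The image of a Sylow `p`-subgroup of a finite group is a Sylow `p`-subgroup of the image. -/
theorem isSylIn_map_of_sylow {p : ℕ} [Fact p.Prime] [Finite G] {A : Type*} [Group A] (f : G →* A)
    {T : Subgroup G} (h : IsSylIn p T ⊤) : IsSylIn p (T.map f) f.range := by
  refine ⟨?_, h.2.1.map f, ?_⟩
  · rintro _ ⟨x, -, rfl⟩
    exact ⟨x, rfl⟩
  · intro hd
    apply h.2.2
    rw [Subgroup.relIndex_top_right]
    have h1 : (T.map f).relIndex f.range = (T ⊔ f.ker).index := by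
      rw [MonoidHom.range_eq_map, Subgroup.relIndex_map_map, top_sup_eq, Subgroup.relIndex_top_right]
    rw [h1] at hd
    exact hd.trans (Subgroup.index_dvd_of_le le_sup_left)


theorem IsSylIn.map_injective {p : ℕ} {T K : Subgroup G} (h : IsSylIn p T K) {A : Type*} [Group A]
    (f : G →* A) (hf : Function.Injective f) : IsSylIn p (T.map f) (K.map f) := by
  refine ⟨Subgroup.map_mono h.1, h.2.1.map _, ?_⟩
  rw [Subgroup.relIndex_map_map_of_injective _ _ hf]
  exact h.2.2

end Cfsg.Agent.Helper84
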