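import Mathlib
import Cfsg.Prelude.Def_Spor_Fi22
import Cfsg.Prelude.Def_Classical
import Cfsg.Agent.Lib.Helper27.Fi22.A1.Data

/-!
# Definitions for the "O7F" lemma server (helper84): statement S1686

In the presented Fischer group `Fi22` the subgroup `K = ⟨b, …, i⟩` is isomorphic to `PΩ(7,3)`.
`A1G` is helper27's presented group on `b, …, i` (level `A1` of his tower, `|A1G| ≤ 4585351680`).
Vectors of `(ZMod 3)^7` are coded by numbers below `2187 = 3^7` (`encN`, `decV`).
-/

set_option autoImplicit false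

namespace Cfsg.Agent.Helper84.O7

open Cfsg.Spor.Fi22 (Gen)

/-- the index type of the 7-dimensional space -/
abbrev ι : Type := Unit ⊕ (Fin 3 ⊕ Fin 3)

/-- the quadratic form `x₀² + x₁y₁ + x₂y₂ + x₃y₃` over `ZMod 3` -/
abbrev Q : (ι → ZMod 3) → ZMod 3 := Cfsg.quadFormOdd 3 (ZMod 3)

/-- helper27's presented group on `b, …, i` (with the relator `a`) -/
abbrev A1G : Type := PresentedGroup Cfsg.Agent.Helper27.Fi22TC.A1.D.rels

/-- the relators of the presented `Fi22`, as written in the statements -/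
abbrev relsFi : Set (FreeGroup Gen) :=
  Cfsg.Spor.coxRelators Cfsg.Spor.Fi22.edges ∪ {r | r ∈ Cfsg.Spor.Fi22.extra}

/-- the subgroup `⟨b, …, i⟩` of the presented `Fi22`, as written in statement S1686 -/
abbrev K : Subgroup (PresentedGroup relsFi) :=
  (Subgroup.closure ({Cfsg.Spor.Fi22.b, Cfsg.Spor.Fi22.c, Cfsg.Spor.Fi22.d, Cfsg.Spor.Fi22.e,
    Cfsg.Spor.Fi22.f, Cfsg.Spor.Fi22.g, Cfsg.Spor.Fi22.h, Cfsg.Spor.Fi22.i} :
      Set (FreeGroup Gen))).map (PresentedGroup.mk relsFi)

/-- position of a coordinate -/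
def pos : ι → Nat
  | .inl _ => 0
  | .inr (.inl i) => 1 + i.val
  | .inr (.inr i) => 4 + i.val

/-- a number as an element of `ZMod 3` (kernel friendly) -/
def toZ (n : Nat) : ZMod 3 := (⟨n % 3, Nat.mod_lt n (by decide)⟩ : Fin 3)

/-- the value of an element of `ZMod 3` (kernel friendly) -/
def zv (z : ZMod 3) : Nat := (show Fin 3 from z).val

/-- the code of a vector: its coordinates are the base 3 digits -/
def encN (v : ι → ZMod 3) : Nat :=
  zv (v (.inl ())) + 3 * (zv (v (.inr (.inl 0))) + 3 * (zv (v (.inr (.inl 1))) +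
    3 * (zv (v (.inr (.inl 2))) + 3 * (zv (v (.inr (.inr 0))) + 3 * (zv (v (.inr (.inr 1))) +
      3 * zv (v (.inr (.inr 2))))))))

/-- the vector of a code -/
def decV (p : Nat) : ι → ZMod 3 := fun i => toZ (p / 3 ^ (pos i))

end Cfsg.Agent.Helper84.O7
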