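import Mathlib
import Cfsg.Prelude.Def_RootSubgroups
import Cfsg.Prelude.Def_ClassicalGeometry
import Cfsg.Agent.Lib.Helper13.SympGeom
import Cfsg.Agent.Lib.Helper83.SL2
import Cfsg.Agent.S0765

set_option autoImplicit false

namespace Cfsg.Agent.Helper84.SpRoot

open Matrix Cfsg Cfsg.Agent.Helper13
open scoped commutatorElement

variable {F : Type*} [Field F] {n : ℕ}

/-- two symplectic matrices with the same action on vectors are equal -/
theorem sp_ext {g h : Matrix.symplecticGroup (Fin n) F}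
    (H : ∀ v : Fin n ⊕ Fin n → F, g.val *ᵥ v = h.val *ᵥ v) : g = h := by
  apply Subtype.ext
  apply Matrix.mulVec_injective
  funext v
  exact H v

theorem sympT_act (p : Fin n ⊕ Fin n → F) (c : F) (v : Fin n ⊕ Fin n → F) :
    (sympT p c).val *ᵥ v = v + (c * Cfsg.sympForm n F v p) • p :=
  sympTransvection_mulVec p c v

theorem mul_act (g h : Matrix.symplecticGroup (Fin n) F) (v : Fin n ⊕ Fin n → F) :
    (g * h).val *ᵥ v = g.val *ᵥ (h.val *ᵥ v) := by
  rw [Submonoid.coe_mul, Matrix.mulVec_mulVec]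

theorem one_act (v : Fin n ⊕ Fin n → F) :
    (1 : Matrix.symplecticGroup (Fin n) F).val *ᵥ v = v := by
  rw [Submonoid.coe_one, Matrix.one_mulVec]

theorem sympT_mul (p : Fin n ⊕ Fin n → F) (c d : F) :
    sympT p c * sympT p d = sympT p (c + d) := by
  apply sp_ext
  intro v
  rw [mul_act, sympT_act, sympT_act, sympT_act, sympForm_add_left, sympForm_smul_left,
    sympForm_self]
  module

theorem sympT_zero (p : Fin n ⊕ Fin n → F) : sympT p (0 : F) = 1 := by
  apply sp_ext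
  intro v
  rw [sympT_act, one_act, zero_mul, zero_smul, add_zero]

theorem sympT_zero_vec (c : F) : sympT (0 : Fin n ⊕ Fin n → F) c = 1 := by
  apply sp_ext
  intro v
  rw [sympT_act, one_act, smul_zero, add_zero]

theorem sympT_inv (p : Fin n ⊕ Fin n → F) (c : F) : (sympT p c)⁻¹ = sympT p (-c) := by
  rw [inv_eq_iff_mul_eq_one, sympT_mul, add_neg_cancel, sympT_zero]

/-- the generating set of the statement -/
def genSet (p : Fin n ⊕ Fin n → F) : Set (Matrix.symplecticGroup (Fin n) F) :=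
  {g | ∃ c : F, ∀ v : Fin n ⊕ Fin n → F,
    (g : Matrix (Fin n ⊕ Fin n) (Fin n ⊕ Fin n) F) *ᵥ v =
      v + (c * (v ⬝ᵥ (Matrix.J (Fin n) F *ᵥ p))) • p}

/-- the transvection subgroup with centre `p` -/
def T (p : Fin n ⊕ Fin n → F) : Subgroup (Matrix.symplecticGroup (Fin n) F) :=
  Subgroup.closure (genSet p)

theorem sympT_mem_T (p : Fin n ⊕ Fin n → F) (c : F) : sympT p c ∈ T p :=
  Subgroup.subset_closure ⟨c, fun v => sympT_act p c v⟩

theorem mem_T_iff {p : Fin n ⊕ Fin n → F} {g : Matrix.symplecticGroup (Fin n) F} :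
    g ∈ T p ↔ ∃ c : F, g = sympT p c := by
  constructor
  · intro hg
    induction hg using Subgroup.closure_induction with
    | mem g hg =>
      obtain ⟨c, hc⟩ := hg
      exact ⟨c, sp_ext fun v => (hc v).trans (sympT_act p c v).symm⟩
    | one => exact ⟨0, (sympT_zero p).symm⟩
    | mul g h _ _ ihg ihh =>
      obtain ⟨c, rfl⟩ := ihg
      obtain ⟨d, rfl⟩ := ihh
      exact ⟨c + d, sympT_mul p c d⟩
    | inv g _ ihg =>
      obtain ⟨c, rfl⟩ := ihg
      exact ⟨-c, sympT_inv p c⟩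
  · rintro ⟨c, rfl⟩
    exact sympT_mem_T p c

theorem sympForm_act_right (g : Matrix.symplecticGroup (Fin n) F) (v p : Fin n ⊕ Fin n → F) :
    Cfsg.sympForm n F v (g.val *ᵥ p) = Cfsg.sympForm n F ((g⁻¹).val *ᵥ v) p := by
  conv_lhs => rw [← mulVec_inv_mulVec g v]
  exact sympForm_mulVec g.2 _ _

theorem conj_sympT (g : Matrix.symplecticGroup (Fin n) F) (p : Fin n ⊕ Fin n → F) (c : F) :
    g * sympT p c * g⁻¹ = sympT (g.val *ᵥ p) c := by
  apply sp_ext
  intro v
  rw [mul_act, mul_act, sympT_act, sympT_act, Matrix.mulVec_add, Matrix.mulVec_smul,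
    mulVec_inv_mulVec, sympForm_act_right]

theorem conjBy_T (g : Matrix.symplecticGroup (Fin n) F) (p : Fin n ⊕ Fin n → F) :
    conjBy (T p) g = T (g.val *ᵥ p) := by
  ext h
  rw [Cfsg.Agent.Helper83.mem_conjBy_iff_exists]
  constructor
  · rintro ⟨t, ht, rfl⟩
    obtain ⟨c, rfl⟩ := mem_T_iff.1 ht
    rw [conj_sympT]
    exact sympT_mem_T _ c
  · intro hh
    obtain ⟨c, rfl⟩ := mem_T_iff.1 hh
    exact ⟨sympT p c, sympT_mem_T p c, conj_sympT g p c⟩

theorem sympT_smul (a : F) (p : Fin n ⊕ Fin n → F) (c : F) :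
    sympT (a • p) c = sympT p (c * a ^ 2) := by
  apply sp_ext
  intro v
  rw [sympT_act, sympT_act, sympForm_smul_right, smul_smul]
  congr 2
  ring

theorem T_smul {a : F} (ha : a ≠ 0) (p : Fin n ⊕ Fin n → F) : T (a • p) = T p := by
  ext g
  rw [mem_T_iff, mem_T_iff]
  constructor
  · rintro ⟨c, rfl⟩
    exact ⟨c * a ^ 2, sympT_smul a p c⟩
  · rintro ⟨c, rfl⟩
    refine ⟨c / a ^ 2, ?_⟩
    rw [sympT_smul]
    congr 1
    field_simp

theorem sympT_comm {p r : Fin n ⊕ Fin n → F} (h : Cfsg.sympForm n F p r = 0) (c d : F) :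
    sympT p c * sympT r d = sympT r d * sympT p c := by
  have h' : Cfsg.sympForm n F r p = 0 := by rw [sympForm_swap, h, neg_zero]
  apply sp_ext
  intro v
  rw [mul_act, mul_act, sympT_act, sympT_act, sympT_act, sympT_act, sympForm_add_left,
    sympForm_smul_left, sympForm_add_left, sympForm_smul_left, h, h']
  module

theorem T_comm {p r : Fin n ⊕ Fin n → F} (h : Cfsg.sympForm n F p r = 0)
    {a b : Matrix.symplecticGroup (Fin n) F} (ha : a ∈ T p) (hb : b ∈ T r) : a * b = b * a := by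
  obtain ⟨c, rfl⟩ := mem_T_iff.1 ha
  obtain ⟨d, rfl⟩ := mem_T_iff.1 hb
  exact sympT_comm h c d

theorem T_commutative (p : Fin n ⊕ Fin n → F) : IsMulCommutative (T p) :=
  ⟨⟨fun a b => Subtype.ext (T_comm (sympForm_self p) a.2 b.2)⟩⟩

theorem T_commutator_eq_bot {p r : Fin n ⊕ Fin n → F} (h : Cfsg.sympForm n F p r = 0) :
    ⁅T p, T r⁆ = ⊥ := by
  rw [Subgroup.commutator_eq_bot_iff_le_centralizer]
  intro a ha
  rw [Subgroup.mem_centralizer_iff]
  intro b hb
  exact (T_comm h ha hb).symm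

theorem sympT_eq_one_iff {p : Fin n ⊕ Fin n → F} (hp : p ≠ 0) {c : F} :
    sympT p c = 1 ↔ c = 0 := by
  constructor
  · intro h
    obtain ⟨v, hv⟩ := exists_partner hp
    have h1 := congrArg (fun g : Matrix.symplecticGroup (Fin n) F => g.val *ᵥ v) h
    simp only [sympT_act, one_act] at h1
    have h2 : (c * Cfsg.sympForm n F v p) • p = 0 := by
      have := h1
      rwa [add_eq_left] at this
    rcases smul_eq_zero.1 h2 with h3 | h3
    · rw [sympForm_swap, hv] at h3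
      simpa using h3
    · exact absurd h3 hp
  · rintro rfl
    exact sympT_zero p

theorem T_ne_bot {p : Fin n ⊕ Fin n → F} (hp : p ≠ 0) : T p ≠ ⊥ := by
  intro h
  have h1 : sympT p (1 : F) ∈ T p := sympT_mem_T p 1
  rw [h, Subgroup.mem_bot, sympT_eq_one_iff hp] at h1
  exact one_ne_zero h1

/-- the set of all transvection subgroups with non-zero centre -/
def rootSet (F : Type*) [Field F] (n : ℕ) : Set (Subgroup (Matrix.symplecticGroup (Fin n) F)) :=
  {A | ∃ p : Fin n ⊕ Fin n → F, p ≠ 0 ∧ A = T p}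

theorem T_mem_rootSet {p : Fin n ⊕ Fin n → F} (hp : p ≠ 0) : T p ∈ rootSet F n := ⟨p, hp, rfl⟩

theorem iSup_rootSet : (⨆ A ∈ rootSet F n, A) = ⊤ := by
  rw [eq_top_iff, ← Cfsg.Agent.S0765.result n, Subgroup.closure_le]
  rintro A ⟨w, c, hA⟩
  have hA' : A = sympT w c := Subtype.ext hA
  rw [hA']
  by_cases hw : w = 0
  · rw [hw, sympT_zero_vec]
    exact Subgroup.one_mem _
  · exact Subgroup.mem_iSup_of_mem (T w)
      (Subgroup.mem_iSup_of_mem (T_mem_rootSet hw) (sympT_mem_T w c))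

theorem act_ne_zero (g : Matrix.symplecticGroup (Fin n) F) {p : Fin n ⊕ Fin n → F} (hp : p ≠ 0) :
    g.val *ᵥ p ≠ 0 := by
  intro h
  have := inv_mulVec_mulVec g p
  rw [h, Matrix.mulVec_zero] at this
  exact hp this.symm

theorem conj_mem_rootSet {A : Subgroup (Matrix.symplecticGroup (Fin n) F)} (hA : A ∈ rootSet F n)
    (g : Matrix.symplecticGroup (Fin n) F) : conjBy A g ∈ rootSet F n := by
  obtain ⟨p, hp, rfl⟩ := hA
  rw [conjBy_T]
  exact T_mem_rootSet (act_ne_zero g hp)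

theorem ne_zero_left {p r : Fin n ⊕ Fin n → F} (h : Cfsg.sympForm n F p r ≠ 0) : p ≠ 0 := by
  rintro rfl
  exact h (sympForm_zero_left _)

theorem ne_zero_right {p r : Fin n ⊕ Fin n → F} (h : Cfsg.sympForm n F p r ≠ 0) : r ≠ 0 := by
  rintro rfl
  exact h (sympForm_zero_right _)

theorem rankOneCond {p r : Fin n ⊕ Fin n → F} (hpr : Cfsg.sympForm n F p r ≠ 0) :
    RankOneCondition (T p) (T r) := by
  intro a ha ha1
  obtain ⟨c, rfl⟩ := mem_T_iff.1 ha
  have hp : p ≠ 0 := ne_zero_left hpr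
  have hr : r ≠ 0 := ne_zero_right hpr
  have hc : c ≠ 0 := fun h => ha1 (by rw [h, sympT_zero])
  set l := Cfsg.sympForm n F p r with hl
  set μ := (c * l)⁻¹ with hμdef
  have hμ : μ * (c * l) = 1 := inv_mul_cancel₀ (mul_ne_zero hc hpr)
  have hμ0 : μ ≠ 0 := inv_ne_zero (mul_ne_zero hc hpr)
  refine ⟨sympT r (-(μ ^ 2 * c)), sympT_mem_T _ _, ?_, ?_⟩
  · rw [Ne, sympT_eq_one_iff hr, neg_eq_zero]
    exact mul_ne_zero (pow_ne_zero 2 hμ0) hc
  · rw [conjBy_T, conjBy_T, sympT_inv, sympT_inv, sympT_act, sympT_act, neg_neg,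
      sympForm_swap r p, ← hl]
    have e1 : μ ^ 2 * c * l = μ := by linear_combination μ * hμ
    have e2 : p + (μ ^ 2 * c * l) • r = μ • (r + (-c * -l) • p) := by
      rw [e1, smul_add, smul_smul]
      have e3 : μ * (-c * -l) = 1 := by linear_combination hμ
      rw [e3, one_smul, add_comm]
    rw [e2, T_smul hμ0]

theorem T_ne_of_nonorth {p r : Fin n ⊕ Fin n → F} (hpr : Cfsg.sympForm n F p r ≠ 0) :
    T p ≠ T r := by
  intro h
  have hr : r ≠ 0 := ne_zero_right hpr
  have h1 : sympT r (1 : F) ∈ T p := by rw [h]; exact sympT_mem_T r 1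
  obtain ⟨c, hc⟩ := mem_T_iff.1 h1
  have h2 := congrArg (fun g : Matrix.symplecticGroup (Fin n) F => g.val *ᵥ p) hc
  simp only [sympT_act, sympForm_self, mul_zero, zero_smul, add_zero, one_mul] at h2
  rw [add_eq_left] at h2
  rcases smul_eq_zero.1 h2 with h3 | h3
  · exact hpr h3
  · exact hr h3

theorem rankOnePair_of_nonorth {p r : Fin n ⊕ Fin n → F} (hpr : Cfsg.sympForm n F p r ≠ 0) :
    IsRankOnePair (T p) (T r) := by
  have hrp : Cfsg.sympForm n F r p ≠ 0 := by
    rw [sympForm_swap]; exact neg_ne_zero.2 hpr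
  exact ⟨T_ne_of_nonorth hpr,
    Cfsg.Agent.Helper83.isNilpotent_of_isMulCommutative (T_commutative p),
    Cfsg.Agent.Helper83.isNilpotent_of_isMulCommutative (T_commutative r),
    rankOneCond hpr, rankOneCond hrp⟩

theorem act_fix_of_orth {p r : Fin n ⊕ Fin n → F} (h : Cfsg.sympForm n F p r = 0)
    {b : Matrix.symplecticGroup (Fin n) F} (hb : b ∈ T r) : b.val *ᵥ p = p := by
  obtain ⟨d, rfl⟩ := mem_T_iff.1 hb
  rw [sympT_act, h, mul_zero, zero_smul, add_zero]

theorem nonorth_of_rankOnePair {p r : Fin n ⊕ Fin n → F} (hp : p ≠ 0)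
    (h : IsRankOnePair (T p) (T r)) : Cfsg.sympForm n F p r ≠ 0 := by
  intro h0
  have h0' : Cfsg.sympForm n F r p = 0 := by rw [sympForm_swap, h0, neg_zero]
  have ha1 : sympT p (1 : F) ≠ 1 := by
    rw [Ne, sympT_eq_one_iff hp]; exact one_ne_zero
  obtain ⟨b, hb, _, hbe⟩ := h.cond_left (sympT p 1) (sympT_mem_T p 1) ha1
  rw [conjBy_T, conjBy_T, act_fix_of_orth h0 ((T r).inv_mem hb),
    act_fix_of_orth h0' ((T p).inv_mem (sympT_mem_T p 1))] at hbe
  exact h.ne hbe

theorem rootSet_isRootSubgroupSet : IsRootSubgroupSet (rootSet F n) where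
  commutative := by
    rintro A ⟨p, _, rfl⟩
    exact T_commutative p
  ne_bot := by
    rintro A ⟨p, hp, rfl⟩
    exact T_ne_bot hp
  generates := iSup_rootSet
  conj_mem := fun A hA g => conj_mem_rootSet hA g
  pair := by
    rintro A ⟨p, _, rfl⟩ B ⟨r, _, rfl⟩
    by_cases h : Cfsg.sympForm n F p r = 0
    · exact Or.inl (T_commutator_eq_bot h)
    · exact Or.inr (Or.inl (rankOnePair_of_nonorth h))

theorem rootSet_isConjClass (hn : 0 < n) : IsConjClassOfSubgroups (rootSet F n) := by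
  constructor
  · refine ⟨T (Pi.single (Sum.inl ⟨0, hn⟩) 1), T_mem_rootSet ?_⟩
    intro h
    have := congrFun h (Sum.inl ⟨0, hn⟩)
    simp at this
  · rintro A ⟨p, hp, rfl⟩ B ⟨r, hr, rfl⟩
    obtain ⟨g, hg⟩ := exists_symp_map hp hr
    exact ⟨g, by rw [conjBy_T, hg]⟩

theorem rootSet_connected :
    IsConnectedFamily (FAdj (rootSet F n)) (rootSet F n) := by
  rintro A ⟨p, hp, rfl⟩ B ⟨r, hr, rfl⟩
  have key : ∃ s, Cfsg.sympForm n F p s ≠ 0 ∧ Cfsg.sympForm n F s r ≠ 0 := by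
    obtain ⟨v₁, hv₁⟩ := exists_partner hp
    obtain ⟨v₂, hv₂⟩ := exists_partner hr
    have hv₂' : Cfsg.sympForm n F v₂ r = -1 := by rw [sympForm_swap, hv₂]
    by_cases h1 : Cfsg.sympForm n F v₁ r = 0
    · by_cases h2 : Cfsg.sympForm n F p v₂ = 0
      · refine ⟨v₁ + v₂, ?_, ?_⟩
        · rw [sympForm_add_right, hv₁, h2, add_zero]; exact one_ne_zero
        · rw [sympForm_add_left, h1, hv₂', zero_add]; simp
      · refine ⟨v₂, h2, ?_⟩
        rw [hv₂']; simp
    · exact ⟨v₁, by rw [hv₁]; exact one_ne_zero, h1⟩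
  obtain ⟨s, hs1, hs2⟩ := key
  have hs : s ≠ 0 := ne_zero_right hs1
  exact Relation.ReflTransGen.tail
    (Relation.ReflTransGen.single
      ⟨T_mem_rootSet hp, T_mem_rootSet hs, rankOnePair_of_nonorth hs1⟩)
    ⟨T_mem_rootSet hs, T_mem_rootSet hr, rankOnePair_of_nonorth hs2⟩

theorem rootSet_degenerate : IsDegenerateRootSet (rootSet F n) := by
  rintro A ⟨p, hp, rfl⟩ B ⟨r, hr, rfl⟩ ⟨hmem, hcentral, -, -⟩
  by_cases h : Cfsg.sympForm n F p r = 0
  · rw [T_commutator_eq_bot h] at hmem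
    obtain ⟨s, hs, hbot⟩ := hmem
    exact T_ne_bot hs hbot.symm
  · have hrp : Cfsg.sympForm n F r p = - Cfsg.sympForm n F p r := sympForm_swap r p
    have hc := hcentral ⁅sympT p (1 : F), sympT r (1 : F)⁆
      (Subgroup.commutator_mem_commutator (sympT_mem_T p 1) (sympT_mem_T r 1)) (sympT p 1)
      (Subgroup.mem_sup_left (sympT_mem_T p 1))
    have hap : (sympT p (1 : F)).val *ᵥ p = p := by
      rw [sympT_act, sympForm_self, mul_zero, zero_smul, add_zero]
    have h1 := congrArg (fun g : Matrix.symplecticGroup (Fin n) F => g.val *ᵥ p) hc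
    simp only [mul_act] at h1
    rw [hap, sympT_act, one_mul, left_eq_add] at h1
    have h2 : Cfsg.sympForm n F ((⁅sympT p (1 : F), sympT r (1 : F)⁆).val *ᵥ p) p
        = (Cfsg.sympForm n F p r) ^ 4 := by
      simp only [commutatorElement_def, mul_act, sympT_inv, sympT_act, sympForm_add_left,
        sympForm_smul_left, sympForm_self, hrp]
      ring
    rcases smul_eq_zero.1 h1 with h3 | h3
    · rw [h2] at h3
      exact h (pow_eq_zero_iff (by norm_num) |>.1 h3)
    · exact hp h3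

/-! ### The `SL₂` attached to a hyperbolic pair -/

/-- a matrix preserving the form is symplectic -/
theorem mem_sp_of_preserves {A : Matrix (Fin n ⊕ Fin n) (Fin n ⊕ Fin n) F}
    (H : ∀ u v : Fin n ⊕ Fin n → F,
      Cfsg.sympForm n F (A *ᵥ u) (A *ᵥ v) = Cfsg.sympForm n F u v) :
    A ∈ Matrix.symplecticGroup (Fin n) F := by
  rw [SymplecticGroup.mem_iff']
  ext i j
  have h := H (Pi.single i 1) (Pi.single j 1)
  unfold Cfsg.sympForm at h
  rw [Matrix.mulVec_mulVec, ← Matrix.vecMul_transpose, Matrix.dotProduct_mulVec,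
    Matrix.vecMul_vecMul, ← Matrix.dotProduct_mulVec, ← Matrix.mul_assoc] at h
  simpa [Matrix.mulVec_single_one, single_one_dotProduct] using h

/-- the matrix of the image of `M` under the embedding of `SL₂` attached to the pair `(p, r)` -/
def phiMat (p r : Fin n ⊕ Fin n → F) (M : Matrix (Fin 2) (Fin 2) F) :
    Matrix (Fin n ⊕ Fin n) (Fin n ⊕ Fin n) F :=
  1 + vecMulVec p ((M 0 0 - 1) • (Matrix.J (Fin n) F *ᵥ r) - M 0 1 • (Matrix.J (Fin n) F *ᵥ p))
    + vecMulVec r (M 1 0 • (Matrix.J (Fin n) F *ᵥ r) - (M 1 1 - 1) • (Matrix.J (Fin n) F *ᵥ p))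

theorem phiMat_mulVec (p r : Fin n ⊕ Fin n → F) (M : Matrix (Fin 2) (Fin 2) F)
    (v : Fin n ⊕ Fin n → F) :
    phiMat p r M *ᵥ v = v
      + ((M 0 0 - 1) * Cfsg.sympForm n F v r - M 0 1 * Cfsg.sympForm n F v p) • p
      + (M 1 0 * Cfsg.sympForm n F v r - (M 1 1 - 1) * Cfsg.sympForm n F v p) • r := by
  unfold phiMat Cfsg.sympForm
  rw [Matrix.add_mulVec, Matrix.add_mulVec, Matrix.one_mulVec, Matrix.vecMulVec_mulVec,
    Matrix.vecMulVec_mulVec, op_smul_eq_smul, op_smul_eq_smul, sub_dotProduct, sub_dotProduct,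
    smul_dotProduct, smul_dotProduct, smul_dotProduct, smul_dotProduct,
    dotProduct_comm _ v, dotProduct_comm _ v]
  simp only [smul_eq_mul]

theorem phiMat_mem {p r : Fin n ⊕ Fin n → F} (hpr : Cfsg.sympForm n F p r = 1)
    {M : Matrix (Fin 2) (Fin 2) F} (hM : M.det = 1) :
    phiMat p r M ∈ Matrix.symplecticGroup (Fin n) F := by
  apply mem_sp_of_preserves
  intro u v
  have hrp : Cfsg.sympForm n F r p = -1 := by rw [sympForm_swap, hpr]
  have hdet : M 0 0 * M 1 1 - M 0 1 * M 1 0 = 1 := by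
    rw [← Matrix.det_fin_two]; exact hM
  rw [phiMat_mulVec, phiMat_mulVec]
  simp only [sympForm_add_left, sympForm_add_right, sympForm_smul_left, sympForm_smul_right,
    sympForm_self, hpr, hrp]
  rw [sympForm_swap p v, sympForm_swap r v]
  linear_combination (Cfsg.sympForm n F u p * Cfsg.sympForm n F v r
    - Cfsg.sympForm n F u r * Cfsg.sympForm n F v p) * hdet

theorem phiMat_mul {p r : Fin n ⊕ Fin n → F} (hpr : Cfsg.sympForm n F p r = 1)
    (M N : Matrix (Fin 2) (Fin 2) F) :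
    phiMat p r (M * N) = phiMat p r M * phiMat p r N := by
  have hrp : Cfsg.sympForm n F r p = -1 := by rw [sympForm_swap, hpr]
  apply Matrix.mulVec_injective
  funext v
  rw [← Matrix.mulVec_mulVec, phiMat_mulVec, phiMat_mulVec, phiMat_mulVec]
  simp only [sympForm_add_left, sympForm_smul_left, sympForm_self, hpr, hrp, Matrix.mul_apply,
    Fin.sum_univ_two]
  module

/-- the embedding of `SL₂(F)` attached to a hyperbolic pair -/
noncomputable def phi {p r : Fin n ⊕ Fin n → F} (hpr : Cfsg.sympForm n F p r = 1) :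
    Matrix.SpecialLinearGroup (Fin 2) F →* Matrix.symplecticGroup (Fin n) F :=
  MonoidHom.mk' (fun M => ⟨phiMat p r M.val, phiMat_mem hpr M.2⟩) (by
    intro M N
    apply Subtype.ext
    simp only [Matrix.SpecialLinearGroup.coe_mul, Submonoid.coe_mul]
    exact phiMat_mul hpr _ _)

theorem phi_act {p r : Fin n ⊕ Fin n → F} (hpr : Cfsg.sympForm n F p r = 1)
    (M : Matrix.SpecialLinearGroup (Fin 2) F) (v : Fin n ⊕ Fin n → F) :
    (phi hpr M).val *ᵥ v = v
      + ((M.val 0 0 - 1) * Cfsg.sympForm n F v r - M.val 0 1 * Cfsg.sympForm n F v p) • p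
      + (M.val 1 0 * Cfsg.sympForm n F v r - (M.val 1 1 - 1) * Cfsg.sympForm n F v p) • r :=
  phiMat_mulVec p r M.val v

theorem phi_uSL {p r : Fin n ⊕ Fin n → F} (hpr : Cfsg.sympForm n F p r = 1) (t : F) :
    phi hpr (Cfsg.Agent.Helper83.uSL t) = sympT p (-t) := by
  apply sp_ext
  intro v
  rw [phi_act, sympT_act]
  simp

theorem phi_lSL {p r : Fin n ⊕ Fin n → F} (hpr : Cfsg.sympForm n F p r = 1) (t : F) :
    phi hpr (Cfsg.Agent.Helper83.lSL t) = sympT r t := by
  apply sp_ext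
  intro v
  rw [phi_act, sympT_act]
  simp

theorem phi_map_upper {p r : Fin n ⊕ Fin n → F} (hpr : Cfsg.sympForm n F p r = 1) :
    (upperUnipotentSL2 F).map (phi hpr) = T p := by
  ext g
  rw [Subgroup.mem_map, mem_T_iff]
  constructor
  · rintro ⟨M, hM, rfl⟩
    obtain ⟨t, rfl⟩ := Cfsg.Agent.Helper83.mem_upperUnipotentSL2.1 hM
    exact ⟨-t, phi_uSL hpr t⟩
  · rintro ⟨c, rfl⟩
    refine ⟨Cfsg.Agent.Helper83.uSL (-c), Cfsg.Agent.Helper83.mem_upperUnipotentSL2.2 ⟨_, rfl⟩, ?_⟩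
    rw [phi_uSL, neg_neg]

theorem phi_map_lower {p r : Fin n ⊕ Fin n → F} (hpr : Cfsg.sympForm n F p r = 1) :
    (lowerUnipotentSL2 F).map (phi hpr) = T r := by
  ext g
  rw [Subgroup.mem_map, mem_T_iff]
  constructor
  · rintro ⟨M, hM, rfl⟩
    obtain ⟨t, rfl⟩ := Cfsg.Agent.Helper83.mem_lowerUnipotentSL2.1 hM
    exact ⟨t, phi_lSL hpr t⟩
  · rintro ⟨c, rfl⟩
    exact ⟨Cfsg.Agent.Helper83.lSL c, Cfsg.Agent.Helper83.mem_lowerUnipotentSL2.2 ⟨_, rfl⟩,
      phi_lSL hpr c⟩

theorem phi_range {p r : Fin n ⊕ Fin n → F} (hpr : Cfsg.sympForm n F p r = 1) :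
    (phi hpr).range = T p ⊔ T r := by
  rw [MonoidHom.range_eq_map, ← Cfsg.Agent.Helper83.sl2_generation, Subgroup.map_sup,
    phi_map_upper, phi_map_lower, sup_comm]

theorem phi_ker {p r : Fin n ⊕ Fin n → F} (hpr : Cfsg.sympForm n F p r = 1) :
    (phi hpr).ker ≤ Subgroup.center (Matrix.SpecialLinearGroup (Fin 2) F) := by
  have hrp : Cfsg.sympForm n F r p = -1 := by rw [sympForm_swap, hpr]
  intro M hM
  rw [MonoidHom.mem_ker] at hM
  have h1 := congrArg (fun g : Matrix.symplecticGroup (Fin n) F => g.val *ᵥ p) hM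
  have h2 := congrArg (fun g : Matrix.symplecticGroup (Fin n) F => g.val *ᵥ r) hM
  simp only [phi_act, one_act, sympForm_self, hpr, hrp, mul_zero, sub_zero, mul_one, zero_sub,
    mul_neg, neg_neg] at h1 h2
  have h1a := congrArg (fun x => Cfsg.sympForm n F x r) h1
  have h1b := congrArg (fun x => Cfsg.sympForm n F x p) h1
  have h2a := congrArg (fun x => Cfsg.sympForm n F x r) h2
  have h2b := congrArg (fun x => Cfsg.sympForm n F x p) h2
  simp only [sympForm_add_left, sympForm_smul_left, sympForm_self, hpr, hrp, mul_zero, mul_one,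
    add_zero, mul_neg] at h1a h1b h2a h2b
  have e00 : M.val 0 0 = 1 := by linear_combination h1a
  have e10 : M.val 1 0 = 0 := by linear_combination -h1b
  have e01 : M.val 0 1 = 0 := by linear_combination h2a
  have e11 : M.val 1 1 = 1 := by linear_combination -h2b
  have : M = 1 := by
    apply Cfsg.Agent.Helper83.sl2_ext <;> simp [e00, e01, e10, e11]
  rw [this]
  exact Subgroup.one_mem _

theorem psl2Pair_of_nonorth {p r : Fin n ⊕ Fin n → F} (hpr : Cfsg.sympForm n F p r ≠ 0) :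
    IsPSL2PairOver F (T p) (T r) := by
  have h1 : Cfsg.sympForm n F p ((Cfsg.sympForm n F p r)⁻¹ • r) = 1 := by
    rw [sympForm_smul_right, inv_mul_cancel₀ hpr]
  have hT : T ((Cfsg.sympForm n F p r)⁻¹ • r) = T r := T_smul (inv_ne_zero hpr) r
  refine ⟨phi h1, ?_, phi_ker h1, phi_map_upper h1, ?_⟩
  · rw [phi_range, hT]
  · rw [phi_map_lower, hT]

theorem rootSet_isKRoot : IsKRootSubgroupSet F (rootSet F n) := by
  refine ⟨rootSet_isRootSubgroupSet, ?_⟩
  rintro A ⟨p, hp, rfl⟩ B ⟨r, hr, rfl⟩ h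
  exact psl2Pair_of_nonorth (nonorth_of_rankOnePair hp h)

end Cfsg.Agent.Helper84.SpRoot
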