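import Mathlib
import Cfsg.Prelude.Def_FusionSystem

set_option autoImplicit false

namespace Cfsg.Agent.Helper84

open Cfsg Cfsg.FusionSystem

variable {Ω : Type*} [Group Ω] {S : Subgroup Ω}

theorem hom_congr (F : FusionSystem S) {P P' : Subgroup Ω} (h : P = P') {φ : P →* Ω} {φ' : P' →* Ω}
    (hφφ' : ∀ (x : Ω) (hx : x ∈ P) (hx' : x ∈ P'), φ ⟨x, hx⟩ = φ' ⟨x, hx'⟩) (hφ : φ ∈ F.Hom P) :
    φ' ∈ F.Hom P' := by
  subst h
  have : φ = φ' := by
    ext ⟨x, hx⟩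
    exact hφφ' x hx hx
  exact this ▸ hφ

theorem restrict_mem (F : FusionSystem S) {P R : Subgroup Ω} {φ : P →* Ω} (hφ : φ ∈ F.Hom P)
    (h : R ≤ P) : φ.comp (Subgroup.inclusion h) ∈ F.Hom R := by
  have hPS := (F.le_of_mem hφ).1
  have h1 : conjHom R 1 ∈ F.Hom R := F.conj_mem (h.trans hPS) S.one_mem
  have h2 : ∀ x : R, conjHom R 1 x ∈ P := fun x => by
    simpa [conjHom] using h x.2
  have h3 := F.comp_mem h1 hφ h2
  refine hom_congr F rfl ?_ h3
  intro x hx hx'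
  simp only [MonoidHom.comp_apply]
  congr 1
  apply Subtype.ext
  simp [conjHom]

theorem id_mem (F : FusionSystem S) {P : Subgroup Ω} (hP : P ≤ S) : P.subtype ∈ F.Hom P := by
  have h1 : conjHom P 1 ∈ F.Hom P := F.conj_mem hP S.one_mem
  refine hom_congr F rfl ?_ h1
  intro x hx hx'
  simp [conjHom]


theorem inv_exists (F : FusionSystem S) {P Q : Subgroup Ω} {φ : P →* Ω} (hφ : φ ∈ F.Hom P)
    (hQ : φ.range = Q) :
    ∃ ψ ∈ F.Hom Q, ψ.range = P ∧ (∀ (x : P) (h : φ x ∈ Q), ψ ⟨φ x, h⟩ = x) ∧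
      (∀ (y : Q) (h : ψ y ∈ P), φ ⟨ψ y, h⟩ = y) := by
  subst hQ
  obtain ⟨ψ, hψ, hψφ⟩ := F.inv_mem hφ
  have hinj := F.injective_of_mem hφ
  refine ⟨ψ, hψ, ?_, ?_, ?_⟩
  · ext y
    constructor
    · rintro ⟨⟨_, x, rfl⟩, rfl⟩
      rw [hψφ x]
      exact x.2
    · intro hy
      exact ⟨⟨φ ⟨y, hy⟩, ⟨⟨y, hy⟩, rfl⟩⟩, hψφ ⟨y, hy⟩⟩
  · intro x h
    exact hψφ x
  · rintro ⟨_, x, rfl⟩ h
    have : (⟨ψ ⟨φ x, ⟨x, rfl⟩⟩, h⟩ : P) = x := Subtype.ext (hψφ x)
    simp only [this]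

theorem conj_refl (F : FusionSystem S) {P : Subgroup Ω} (hP : P ≤ S) : F.IsConj P P :=
  ⟨P.subtype, id_mem F hP, Subgroup.range_subtype P⟩

theorem conj_symm (F : FusionSystem S) {P Q : Subgroup Ω} (h : F.IsConj P Q) : F.IsConj Q P := by
  obtain ⟨φ, hφ, hQ⟩ := h
  obtain ⟨ψ, hψ, hr, -, -⟩ := inv_exists F hφ hQ
  exact ⟨ψ, hψ, hr⟩

theorem conj_le (F : FusionSystem S) {P Q : Subgroup Ω} (h : F.IsConj P Q) : P ≤ S ∧ Q ≤ S := by
  obtain ⟨φ, hφ, hQ⟩ := h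
  refine ⟨(F.le_of_mem hφ).1, ?_⟩
  rw [← hQ]
  rintro _ ⟨x, rfl⟩
  exact (F.le_of_mem hφ).2 x

theorem conj_trans (F : FusionSystem S) {P Q R : Subgroup Ω} (h1 : F.IsConj P Q) (h2 : F.IsConj Q R) :
    F.IsConj P R := by
  obtain ⟨φ, hφ, hQ⟩ := h1
  obtain ⟨ψ, hψ, hR⟩ := h2
  have h : ∀ x : P, φ x ∈ Q := fun x => hQ ▸ ⟨x, rfl⟩
  refine ⟨ψ.comp (φ.codRestrict Q h), F.comp_mem hφ hψ h, ?_⟩
  rw [← hR]
  ext y
  constructor
  · rintro ⟨x, rfl⟩
    exact ⟨_, rfl⟩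
  · rintro ⟨⟨q, hq⟩, rfl⟩
    rw [← hQ] at hq
    obtain ⟨x, rfl⟩ := hq
    exact ⟨x, rfl⟩

theorem le_extender (F : FusionSystem S) {P : Subgroup Ω} {φ : P →* Ω} (hφ : φ ∈ F.Hom P) :
    P ≤ extender S P φ := by
  intro g hg
  apply Subgroup.subset_closure
  refine ⟨(F.le_of_mem hφ).1 hg, Subgroup.le_normalizer hg, φ ⟨g, hg⟩, (F.le_of_mem hφ).2 _, ?_⟩
  intro x hx
  have : (⟨g * x * g⁻¹, hx⟩ : P) = ⟨g, hg⟩ * x * ⟨g, hg⟩⁻¹ := Subtype.ext (by simp)
  rw [this, map_mul, map_mul, map_inv]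

theorem centralizerIn_le_extender (P : Subgroup Ω) (φ : P →* Ω) :
    centralizerIn S P ≤ extender S P φ := by
  intro g hg
  apply Subgroup.subset_closure
  have hgc : g ∈ Subgroup.centralizer (P : Set Ω) := hg.2
  refine ⟨hg.1, Subgroup.centralizer_le_normalizer (P : Set Ω) hgc, 1, S.one_mem, ?_⟩
  intro x hx
  have h1 : g * (x : Ω) * g⁻¹ = x := by
    have := hgc x x.2
    rw [← this]
    simp
  have : (⟨g * x * g⁻¹, hx⟩ : P) = x := Subtype.ext h1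
  rw [this]
  simp


/-- The set of automorphisms of `P` that are maps of the system. -/
def autSet (F : FusionSystem S) (P : Subgroup Ω) : Set (MulAut P) :=
  {α : MulAut P | P.subtype.comp α.toMonoidHom ∈ F.Hom P}

theorem one_mem_autSet (F : FusionSystem S) {P : Subgroup Ω} (hP : P ≤ S) : (1 : MulAut P) ∈ autSet F P := by
  show P.subtype.comp (1 : MulAut P).toMonoidHom ∈ F.Hom P
  refine hom_congr F rfl ?_ (id_mem F hP)
  intro x hx hx'
  rfl

theorem mul_mem_autSet (F : FusionSystem S) {P : Subgroup Ω} {α β : MulAut P}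
    (hα : α ∈ autSet F P) (hβ : β ∈ autSet F P) : α * β ∈ autSet F P := by
  have h : ∀ x : P, (P.subtype.comp β.toMonoidHom) x ∈ P := fun x => (β x).2
  have := F.comp_mem hβ hα h
  refine hom_congr F rfl ?_ this
  intro x hx hx'
  rfl

theorem inv_mem_autSet (F : FusionSystem S) {P : Subgroup Ω} {α : MulAut P}
    (hα : α ∈ autSet F P) : α⁻¹ ∈ autSet F P := by
  have hr : (P.subtype.comp α.toMonoidHom).range = P := by
    ext y
    constructor
    · rintro ⟨x, rfl⟩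
      exact (α x).2
    · intro hy
      exact ⟨α⁻¹ ⟨y, hy⟩, by simp⟩
  obtain ⟨ψ, hψ, -, h1, -⟩ := inv_exists F hα hr
  refine hom_congr F rfl ?_ hψ
  intro x hx hx'
  have := h1 (α⁻¹ ⟨x, hx⟩) (by simpa using hx)
  simp only [MonoidHom.comp_apply, Subgroup.coe_subtype, MulEquiv.coe_toMonoidHom,
    MulAut.apply_inv_self] at this
  exact this

theorem autGroup_eq_autSet (F : FusionSystem S) {P : Subgroup Ω} (hP : P ≤ S) :
    (F.autGroup P : Set (MulAut P)) = autSet F P := by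
  apply Set.Subset.antisymm
  · intro α hα
    induction hα using Subgroup.closure_induction with
    | mem x hx => exact hx
    | one => exact one_mem_autSet F hP
    | mul x y _ _ hx hy => exact mul_mem_autSet F hx hy
    | inv x _ hx => exact inv_mem_autSet F hx
  · exact Subgroup.subset_closure

theorem mem_autGroup_iff (F : FusionSystem S) {P : Subgroup Ω} (hP : P ≤ S) (α : MulAut P) :
    α ∈ F.autGroup P ↔ P.subtype.comp α.toMonoidHom ∈ F.Hom P := by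
  have := autGroup_eq_autSet F hP
  constructor
  · intro h
    have h' : α ∈ (F.autGroup P : Set (MulAut P)) := h
    rw [this] at h'
    exact h'
  · intro h
    exact Subgroup.subset_closure h

theorem conj_mem_autGroup (F : FusionSystem S) {P : Subgroup Ω} (hP : P ≤ S) {g : Ω} (hg : g ∈ S)
    (α : MulAut P)
    (hα : ∀ x : P, ((α x : P) : Ω) = g * x * g⁻¹) : α ∈ F.autGroup P := by
  apply Subgroup.subset_closure
  show P.subtype.comp α.toMonoidHom ∈ F.Hom P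
  refine hom_congr F rfl ?_ (F.conj_mem hP hg : conjHom P g ∈ F.Hom P)
  intro x hx hx'
  exact (hα ⟨x, hx⟩).symm

theorem inn_le_autGroup (F : FusionSystem S) {P : Subgroup Ω} (hP : P ≤ S) : Inn P ≤ F.autGroup P := by
  rintro _ ⟨g, rfl⟩
  refine conj_mem_autGroup F hP (hP g.2) _ ?_
  intro x
  simp [MulAut.conj_apply]

theorem autInducedBy_le_autGroup (F : FusionSystem S) {P : Subgroup Ω} (hP : P ≤ S) :
    autInducedBy S P ≤ F.autGroup P := by
  apply (Subgroup.closure_le _).mpr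
  rintro α ⟨g, hg, hα⟩
  apply Subgroup.subset_closure
  show P.subtype.comp α.toMonoidHom ∈ F.Hom P
  refine hom_congr F rfl ?_ (F.conj_mem hP hg : conjHom P g ∈ F.Hom P)
  intro x hx hx'
  exact (hα ⟨x, hx⟩).symm


theorem sup_subtype_induction {P Q : Subgroup Ω} (K : Subgroup ↥(P ⊔ Q))
    (hP : ∀ x : P, Subgroup.inclusion le_sup_left x ∈ K)
    (hQ : ∀ y : Q, Subgroup.inclusion le_sup_right y ∈ K) (z : ↥(P ⊔ Q)) : z ∈ K := by
  have h1 : P ⊔ Q ≤ K.map (P ⊔ Q).subtype := by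
    apply sup_le
    · intro x hx
      exact ⟨_, hP ⟨x, hx⟩, rfl⟩
    · intro y hy
      exact ⟨_, hQ ⟨y, hy⟩, rfl⟩
  obtain ⟨k, hk, hkz⟩ := h1 z.2
  have : k = z := Subtype.ext hkz
  exact this ▸ hk

/-- A map on `P ⊔ Q` sending `P` into `P'` and `Q` into `Q'` has values in `P' ⊔ Q'`. -/
theorem sup_map_mem {P Q P' Q' : Subgroup Ω} (ψ : ↥(P ⊔ Q) →* Ω)
    (hP : ∀ x : P, ψ (Subgroup.inclusion le_sup_left x) ∈ P')
    (hQ : ∀ y : Q, ψ (Subgroup.inclusion le_sup_right y) ∈ Q') (z : ↥(P ⊔ Q)) : ψ z ∈ P' ⊔ Q' :=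
  sup_subtype_induction ((P' ⊔ Q').comap ψ)
    (fun x => (le_sup_left : P' ≤ P' ⊔ Q') (hP x))
    (fun y => (le_sup_right : Q' ≤ P' ⊔ Q') (hQ y)) z

theorem map_subgroupOf_sup_right_eq {P Q : Subgroup Ω} (ψ : ↥(P ⊔ Q) →* Ω) (Q' : Subgroup Ω) :
    (Q.subgroupOf (P ⊔ Q)).map ψ = Q' ↔
      (∀ y : Q, ψ (Subgroup.inclusion le_sup_right y) ∈ Q') ∧
        ∀ y' ∈ Q', ∃ y : Q, ψ (Subgroup.inclusion le_sup_right y) = y' := by
  constructor
  · intro h
    subst h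
    constructor
    · intro y
      exact ⟨_, by simp [Subgroup.mem_subgroupOf], rfl⟩
    · rintro _ ⟨z, hz, rfl⟩
      exact ⟨⟨z, hz⟩, rfl⟩
  · rintro ⟨h1, h2⟩
    ext y'
    constructor
    · rintro ⟨z, hz, rfl⟩
      exact h1 ⟨z, hz⟩
    · intro hy'
      obtain ⟨y, rfl⟩ := h2 y' hy'
      exact ⟨_, by simp [Subgroup.mem_subgroupOf], rfl⟩


theorem mem_autInducedBy_iff (K P : Subgroup Ω) (α : MulAut P) :
    α ∈ autInducedBy K P ↔ ∃ g ∈ K, ∀ x : P, ((α x : P) : Ω) = g * x * g⁻¹ := by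
  constructor
  · intro h
    induction h using Subgroup.closure_induction with
    | mem x hx => exact hx
    | one => exact ⟨1, K.one_mem, fun x => by simp⟩
    | mul a b _ _ ha hb =>
      obtain ⟨g, hg, hga⟩ := ha
      obtain ⟨k, hk, hkb⟩ := hb
      refine ⟨g * k, K.mul_mem hg hk, fun x => ?_⟩
      rw [MulAut.mul_apply, hga, hkb]
      group
    | inv a _ ha =>
      obtain ⟨g, hg, hga⟩ := ha
      refine ⟨g⁻¹, K.inv_mem hg, fun x => ?_⟩
      have := hga (a⁻¹ x)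
      rw [MulAut.apply_inv_self] at this
      rw [this]
      group
  · intro h
    exact Subgroup.subset_closure h

theorem mem_normalizer_of_autInduced {P : Subgroup Ω} {α : MulAut P} {g : Ω}
    (h : ∀ x : P, ((α x : P) : Ω) = g * x * g⁻¹) : g ∈ Subgroup.normalizer (P : Set Ω) := by
  rw [Subgroup.mem_normalizer_iff]
  intro y
  constructor
  · intro hy
    rw [← h ⟨y, hy⟩]
    exact (α ⟨y, hy⟩).2
  · intro hy
    have := h (α⁻¹ ⟨_, hy⟩)
    rw [MulAut.apply_inv_self] at this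
    have h2 : y = ((α⁻¹ ⟨_, hy⟩ : P) : Ω) := by
      have h3 : g * y * g⁻¹ = g * ((α⁻¹ ⟨_, hy⟩ : P) : Ω) * g⁻¹ := this
      exact mul_left_cancel (mul_right_cancel h3)
    rw [h2]
    exact (α⁻¹ ⟨_, hy⟩).2

theorem autInducedBy_eq_map (K P : Subgroup Ω) :
    autInducedBy K P =
      (K.subgroupOf (Subgroup.normalizer (P : Set Ω))).map P.normalizerMonoidHom := by
  ext α
  rw [mem_autInducedBy_iff]
  constructor
  · rintro ⟨g, hg, h⟩
    refine ⟨⟨g, mem_normalizer_of_autInduced h⟩, hg, ?_⟩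
    ext x
    rw [h]
    rfl
  · rintro ⟨n, hn, rfl⟩
    exact ⟨n, hn, fun x => rfl⟩

theorem autInducedBy_mono {K K' : Subgroup Ω} (h : K ≤ K') (P : Subgroup Ω) :
    autInducedBy K P ≤ autInducedBy K' P := by
  intro α hα
  rw [mem_autInducedBy_iff] at hα ⊢
  obtain ⟨g, hg, hα⟩ := hα
  exact ⟨g, h hg, hα⟩

end Cfsg.Agent.Helper84
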