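import Mathlib
import Cfsg.Prelude.Def_FusionSystem
import Cfsg.Agent.Lib.Helper84.FusBasic
import Cfsg.Agent.Lib.Helper84.GrpSylow

set_option autoImplicit false

namespace Cfsg.Agent.Helper84

open Cfsg Cfsg.FusionSystem
open scoped Pointwise

variable {G : Type*} [Group G]

theorem normalizer_map_conj (P : Subgroup G) (g : G) :
    Subgroup.normalizer ((P.map (MulAut.conj g).toMonoidHom : Subgroup G) : Set G) =
      (Subgroup.normalizer (P : Set G)).map (MulAut.conj g).toMonoidHom :=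
  (Subgroup.map_equiv_normalizer_eq P (MulAut.conj g)).symm

theorem centralizer_map_conj (P : Subgroup G) (g : G) :
    Subgroup.centralizer ((P.map (MulAut.conj g).toMonoidHom : Subgroup G) : Set G) =
      (Subgroup.centralizer (P : Set G)).map (MulAut.conj g).toMonoidHom := by
  ext x
  simp only [Subgroup.mem_centralizer_iff, Subgroup.mem_map, MulEquiv.coe_toMonoidHom,
    MulAut.conj_apply, SetLike.mem_coe]
  constructor
  · intro h
    refine ⟨g⁻¹ * x * g, ?_, by group⟩
    intro y hy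
    have := h (g * y * g⁻¹) ⟨y, hy, rfl⟩
    have h2 : y * (g⁻¹ * x * g) = g⁻¹ * ((g * y * g⁻¹) * x) * g := by group
    rw [h2, this]
    group
  · rintro ⟨c, hc, rfl⟩ _ ⟨y, hy, rfl⟩
    have := hc y hy
    have h2 : g * y * g⁻¹ * (g * c * g⁻¹) = g * (y * c) * g⁻¹ := by group
    rw [h2, this]
    group

theorem map_conj_map_conj_inv (P : Subgroup G) (g : G) :
    (P.map (MulAut.conj g).toMonoidHom).map (MulAut.conj g⁻¹).toMonoidHom = P := by
  rw [Subgroup.map_map]
  convert Subgroup.map_id P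
  ext x
  simp [MulAut.conj_apply, mul_assoc]

theorem gfs_isConj_iff (S : Subgroup G) (P Q : Subgroup G) :
    (groupFusionSystem S).IsConj P Q ↔
      P ≤ S ∧ Q ≤ S ∧ ∃ g : G, P.map (MulAut.conj g).toMonoidHom = Q := by
  constructor
  · rintro ⟨φ, ⟨hPS, hφS, g, hg⟩, rfl⟩
    refine ⟨hPS, ?_, g, ?_⟩
    · rintro _ ⟨x, rfl⟩
      exact hφS x
    · ext y
      constructor
      · rintro ⟨x, hx, rfl⟩
        exact ⟨⟨x, hx⟩, hg _⟩
      · rintro ⟨x, rfl⟩
        exact ⟨x, x.2, (hg x).symm⟩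
  · rintro ⟨hPS, hQS, g, rfl⟩
    refine ⟨conjHom P g, ⟨hPS, fun x => hQS ⟨x, x.2, rfl⟩, g, fun x => rfl⟩, ?_⟩
    ext y
    constructor
    · rintro ⟨x, rfl⟩
      exact ⟨x, x.2, rfl⟩
    · rintro ⟨x, hx, rfl⟩
      exact ⟨⟨x, hx⟩, rfl⟩

theorem normalizerIn_map_conj_le (S P : Subgroup G) (g : G) (T : Subgroup G)
    (hT : T ≤ Subgroup.normalizer (P : Set G)) (hTS : T.map (MulAut.conj g).toMonoidHom ≤ S) :
    T.map (MulAut.conj g).toMonoidHom ≤ normalizerIn S (P.map (MulAut.conj g).toMonoidHom) := by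
  apply le_inf hTS
  rw [normalizer_map_conj]
  exact Subgroup.map_mono hT

variable [Finite G] {p : ℕ} [Fact p.Prime]

theorem sylow_isSylIn_top (S : Sylow p G) : IsSylIn p (S : Subgroup G) ⊤ := by
  refine ⟨le_top, S.isPGroup', ?_⟩
  rw [Subgroup.relIndex_top_right]
  exact S.not_dvd_index

omit [Finite G] [Fact p.Prime] in
theorem isPGroup_of_le_sylow (S : Sylow p G) {H : Subgroup G} (h : H ≤ S) : IsPGroup p H :=
  S.isPGroup'.to_le h

/-- Every subgroup of `S` has a conjugate in `S` whose `S`-normalizer is Sylow in its normalizer. -/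
theorem exists_conj_normalizer_sylow (S : Sylow p G) (P : Subgroup G) (hP : P ≤ S) :
    ∃ g : G, P.map (MulAut.conj g).toMonoidHom ≤ S ∧
      IsSylIn p (normalizerIn (S : Subgroup G) (P.map (MulAut.conj g).toMonoidHom))
        (Subgroup.normalizer ((P.map (MulAut.conj g).toMonoidHom : Subgroup G) : Set G)) := by
  have hNSp : IsPGroup p (normalizerIn (S : Subgroup G) P) := isPGroup_of_le_sylow S inf_le_left
  obtain ⟨T, hT1, hT⟩ := exists_isSylIn_ge (inf_le_right : normalizerIn (S : Subgroup G) P ≤ _) hNSp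
  obtain ⟨h, -, hle⟩ := (sylow_isSylIn_top S).exists_conj_ge le_top hT.2.1
  have hPT : P ≤ T := (le_inf hP Subgroup.le_normalizer).trans hT1
  have hTS : T.map (MulAut.conj h⁻¹).toMonoidHom ≤ S := by
    have := Subgroup.map_mono (f := (MulAut.conj h⁻¹).toMonoidHom) hle
    rwa [map_conj_map_conj_inv] at this
  refine ⟨h⁻¹, (Subgroup.map_mono hPT).trans hTS, ?_⟩
  have h1 := hT.map_conj h⁻¹
  rw [← normalizer_map_conj] at h1
  have h2 := normalizerIn_map_conj_le (S : Subgroup G) P h⁻¹ T hT.1 hTS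
  exact h1.of_card_ge inf_le_right (isPGroup_of_le_sylow S inf_le_left) (Subgroup.card_le_of_le h2)


omit [Finite G] [Fact p.Prime] in
theorem normalizer_le_normalizer_centralizer (Q : Subgroup G) :
    Subgroup.normalizer (Q : Set G) ≤
      Subgroup.normalizer ((Subgroup.centralizer (Q : Set G) : Subgroup G) : Set G) :=
  (Subgroup.normal_subgroupOf_iff_le_normalizer (Subgroup.centralizer_le_normalizer (Q : Set G))).mp
    (Subgroup.normal_subgroupOf_centralizer_normalizer (Q : Set G))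

omit [Finite G] [Fact p.Prime] in
theorem normalizerIn_inf_centralizer (S Q : Subgroup G) :
    normalizerIn S Q ⊓ Subgroup.centralizer (Q : Set G) = centralizerIn S Q := by
  apply le_antisymm
  · exact le_inf (inf_le_left.trans inf_le_left) inf_le_right
  · exact le_inf (le_inf inf_le_left (inf_le_right.trans (Subgroup.centralizer_le_normalizer _)))
      inf_le_right

/-- If `N_S(Q)` is Sylow in `N_G(Q)` then `C_S(Q)` is Sylow in `C_G(Q)`. -/
theorem centralizer_sylow_of_normalizer_sylow {S Q : Subgroup G}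
    (h : IsSylIn p (normalizerIn S Q) (Subgroup.normalizer (Q : Set G))) :
    IsSylIn p (centralizerIn S Q) (Subgroup.centralizer (Q : Set G)) := by
  have := h.inf_normal (Subgroup.centralizer_le_normalizer (Q : Set G))
    (normalizer_le_normalizer_centralizer Q)
  rwa [normalizerIn_inf_centralizer] at this

omit [Finite G] [Fact p.Prime] in
theorem normalizerIn_map_conj (S P : Subgroup G) (g : G) :
    (normalizerIn S P).map (MulAut.conj g).toMonoidHom =
      normalizerIn (S.map (MulAut.conj g).toMonoidHom) (P.map (MulAut.conj g).toMonoidHom) := by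
  unfold normalizerIn
  rw [normalizer_map_conj, Subgroup.map_inf _ _ _ (MulAut.conj g).injective]

omit [Finite G] [Fact p.Prime] in
theorem centralizerIn_map_conj (S P : Subgroup G) (g : G) :
    (centralizerIn S P).map (MulAut.conj g).toMonoidHom =
      centralizerIn (S.map (MulAut.conj g).toMonoidHom) (P.map (MulAut.conj g).toMonoidHom) := by
  unfold centralizerIn
  rw [centralizer_map_conj, Subgroup.map_inf _ _ _ (MulAut.conj g).injective]

/-- Fully normalized in the fusion system of a group. -/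
theorem gfs_fullyNormalized_iff (S : Sylow p G) (P : Subgroup G) (hP : P ≤ S) :
    (groupFusionSystem (S : Subgroup G)).IsFullyNormalized P ↔
      IsSylIn p (normalizerIn (S : Subgroup G) P) (Subgroup.normalizer (P : Set G)) := by
  constructor
  · rintro ⟨-, h⟩
    obtain ⟨g, hgS, hg⟩ := exists_conj_normalizer_sylow S P hP
    have hc := h _ ((gfs_isConj_iff _ _ _).mpr ⟨hP, hgS, g, rfl⟩)
    have h1 := hg.map_conj g⁻¹
    rw [← normalizer_map_conj, map_conj_map_conj_inv] at h1
    apply h1.of_card_ge inf_le_right (isPGroup_of_le_sylow S inf_le_left)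
    rw [card_map_conj]
    exact hc
  · intro h
    refine ⟨hP, ?_⟩
    intro Q hQ
    obtain ⟨-, hQS, g, rfl⟩ := (gfs_isConj_iff _ _ _).mp hQ
    have h1 := h.map_conj g
    rw [← normalizer_map_conj] at h1
    have := h1.card_le inf_le_right (isPGroup_of_le_sylow S inf_le_left :
      IsPGroup p (normalizerIn (S : Subgroup G) (P.map (MulAut.conj g).toMonoidHom)))
    rwa [card_map_conj] at this

/-- Fully centralized in the fusion system of a group. -/
theorem gfs_fullyCentralized_iff (S : Sylow p G) (P : Subgroup G) (hP : P ≤ S) :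
    (groupFusionSystem (S : Subgroup G)).IsFullyCentralized P ↔
      IsSylIn p (centralizerIn (S : Subgroup G) P) (Subgroup.centralizer (P : Set G)) := by
  constructor
  · rintro ⟨-, h⟩
    obtain ⟨g, hgS, hg⟩ := exists_conj_normalizer_sylow S P hP
    have hg' := centralizer_sylow_of_normalizer_sylow hg
    have hc := h _ ((gfs_isConj_iff _ _ _).mpr ⟨hP, hgS, g, rfl⟩)
    have h1 := hg'.map_conj g⁻¹
    rw [← centralizer_map_conj, map_conj_map_conj_inv] at h1
    apply h1.of_card_ge inf_le_right (isPGroup_of_le_sylow S inf_le_left)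
    rw [card_map_conj]
    exact hc
  · intro h
    refine ⟨hP, ?_⟩
    intro Q hQ
    obtain ⟨-, hQS, g, rfl⟩ := (gfs_isConj_iff _ _ _).mp hQ
    have h1 := h.map_conj g
    rw [← centralizer_map_conj] at h1
    have := h1.card_le inf_le_right (isPGroup_of_le_sylow S inf_le_left :
      IsPGroup p (centralizerIn (S : Subgroup G) (P.map (MulAut.conj g).toMonoidHom)))
    rwa [card_map_conj] at this

/-- If `N_S(Q)` is Sylow in `N_G(Q)` then `Aut_S(Q)` is Sylow in `Aut_G(Q)`. -/
theorem autInduced_sylow_of_normalizer_sylow {S Q : Subgroup G}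
    (h : IsSylIn p (normalizerIn S Q) (Subgroup.normalizer (Q : Set G))) :
    IsSylIn p (autInducedBy S Q) (autInducedBy ⊤ Q) := by
  obtain ⟨R, hR⟩ := h.exists_sylow
  have h1 : IsSylIn p ((normalizerIn S Q).subgroupOf (Subgroup.normalizer (Q : Set G))) ⊤ := by
    refine ⟨le_top, hR ▸ R.isPGroup', ?_⟩
    rw [Subgroup.relIndex_top_right, ← hR]
    exact R.not_dvd_index
  have h2 := isSylIn_map_of_sylow Q.normalizerMonoidHom h1
  have e1 : autInducedBy S Q =
      ((normalizerIn S Q).subgroupOf (Subgroup.normalizer (Q : Set G))).map Q.normalizerMonoidHom := by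
    rw [autInducedBy_eq_map]
    congr 1
    ext x
    simp [Subgroup.mem_subgroupOf, normalizerIn]
  have e2 : autInducedBy ⊤ Q = Q.normalizerMonoidHom.range := by
    rw [autInducedBy_eq_map, MonoidHom.range_eq_map]
    congr 1
  rw [e1, e2]
  exact h2


/-- Sylow extension lemma. -/
theorem sylow_extension (S P Q : Subgroup G) (g : G)
    (hN : IsSylIn p (normalizerIn S Q) (Subgroup.normalizer (Q : Set G)))
    (hp : IsPGroup p (normalizerIn S P)) :
    ∃ h ∈ Subgroup.centralizer (Q : Set G),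
      ((normalizerIn S P) ⊓ (normalizerIn S Q ⊔ Subgroup.centralizer (Q : Set G)).comap
        (MulAut.conj g).toMonoidHom).map (MulAut.conj (h * g)).toMonoidHom ≤ normalizerIn S Q := by
  set M := normalizerIn S Q ⊔ Subgroup.centralizer (Q : Set G) with hM
  have hMle : M ≤ Subgroup.normalizer (Q : Set G) :=
    sup_le inf_le_right (Subgroup.centralizer_le_normalizer _)
  have hsylM : IsSylIn p (normalizerIn S Q) M := hN.of_le le_sup_left hMle
  set N := (normalizerIn S P) ⊓ M.comap (MulAut.conj g).toMonoidHom with hNdef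
  have hNp : IsPGroup p (N.map (MulAut.conj g).toMonoidHom) := (hp.to_inf_left).map _
  have hNM : N.map (MulAut.conj g).toMonoidHom ≤ M := by
    rintro _ ⟨x, hx, rfl⟩
    exact hx.2
  have hfinM : Finite M := inferInstance
  obtain ⟨m, hm, hle⟩ := hsylM.exists_conj_ge hNM hNp
  have hm' : m⁻¹ ∈ M := M.inv_mem hm
  have hcoe : ((M : Subgroup G) : Set G) =
      (normalizerIn S Q : Set G) * (Subgroup.centralizer (Q : Set G) : Set G) :=
    Subgroup.coe_mul_of_left_le_normalizer_right _ _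
      (inf_le_right.trans (normalizer_le_normalizer_centralizer Q))
  have hm'' : m⁻¹ ∈ ((M : Subgroup G) : Set G) := hm'
  rw [hcoe] at hm''
  obtain ⟨s', hs', c', hc', hsc⟩ := hm''
  refine ⟨c', hc', ?_⟩
  rintro _ ⟨x, hx, rfl⟩
  obtain ⟨y, hy, hyx⟩ := hle ⟨x, hx, rfl⟩
  have hmeq : m = c'⁻¹ * s'⁻¹ := by
    have : m = (m⁻¹)⁻¹ := by simp
    rw [this, ← hsc]
    simp
  have key : (MulAut.conj (c' * g)).toMonoidHom x = s'⁻¹ * y * s' := by
    have h1 : g * x * g⁻¹ = m * y * m⁻¹ := by
      simpa [MulAut.conj_apply] using hyx.symm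
    simp only [MulEquiv.coe_toMonoidHom, MulAut.conj_apply, mul_inv_rev]
    have h2 : c' * g * x * (g⁻¹ * c'⁻¹) = c' * (g * x * g⁻¹) * c'⁻¹ := by group
    rw [h2, h1, hmeq]
    group
  rw [key]
  exact (normalizerIn S Q).mul_mem ((normalizerIn S Q).mul_mem ((normalizerIn S Q).inv_mem hs') hy) hs'


omit [Finite G] [Fact p.Prime] in
theorem gfs_autGroup_eq (S Q : Subgroup G) (hQ : Q ≤ S) :
    (groupFusionSystem S).autGroup Q = autInducedBy ⊤ Q := by
  ext α
  rw [mem_autGroup_iff _ hQ, mem_autInducedBy_iff]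
  constructor
  · rintro ⟨-, -, g, hg⟩
    exact ⟨g, Subgroup.mem_top g, fun x => hg x⟩
  · rintro ⟨g, -, hg⟩
    exact ⟨hQ, fun x => hQ (α x).2, g, fun x => hg x⟩

theorem gfs_fullyAutomized_of_normalizer_sylow {S Q : Subgroup G} (hQ : Q ≤ S)
    (h : IsSylIn p (normalizerIn S Q) (Subgroup.normalizer (Q : Set G))) :
    (groupFusionSystem S).IsFullyAutomized p Q := by
  refine ⟨hQ, ?_⟩
  rw [gfs_autGroup_eq S Q hQ]
  exact (autInduced_sylow_of_normalizer_sylow h).exists_sylow

theorem gfs_receptive_of_normalizer_sylow {S Q : Subgroup G} (hQ : Q ≤ S) (hS : IsPGroup p S)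
    (h : IsSylIn p (normalizerIn S Q) (Subgroup.normalizer (Q : Set G))) :
    (groupFusionSystem S).IsReceptive Q := by
  refine ⟨hQ, ?_⟩
  rintro P φ ⟨hPS, hφS, k, hk⟩ hr
  have hQk : P.map (MulAut.conj k).toMonoidHom = Q := by
    rw [← hr]
    ext y
    constructor
    · rintro ⟨x, hx, rfl⟩
      exact ⟨⟨x, hx⟩, hk _⟩
    · rintro ⟨x, rfl⟩
      exact ⟨x, x.2, (hk x).symm⟩
  obtain ⟨c', hc', hle⟩ := sylow_extension S P Q k h (hS.to_le inf_le_left)
  have hext : extender S P φ ≤ (normalizerIn S P) ⊓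
      (normalizerIn S Q ⊔ Subgroup.centralizer (Q : Set G)).comap (MulAut.conj k).toMonoidHom := by
    apply (Subgroup.closure_le _).mpr
    rintro x ⟨hxS, hxN, h', hh'S, hh'⟩
    refine ⟨⟨hxS, hxN⟩, ?_⟩
    show k * x * k⁻¹ ∈ normalizerIn S Q ⊔ Subgroup.centralizer (Q : Set G)
    have hkxN : k * x * k⁻¹ ∈ Subgroup.normalizer (Q : Set G) := by
      rw [← hQk, normalizer_map_conj]
      exact ⟨x, hxN, rfl⟩
    have hcen : h'⁻¹ * (k * x * k⁻¹) ∈ Subgroup.centralizer (Q : Set G) := by
      rw [Subgroup.mem_centralizer_iff]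
      intro z hz
      rw [← hQk] at hz
      obtain ⟨y, hy, rfl⟩ := hz
      have hxy : x * y * x⁻¹ ∈ P := (Subgroup.mem_normalizer_iff.mp hxN y).mp hy
      have := hh' ⟨y, hy⟩ hxy
      rw [hk, hk] at this
      simp only [MulEquiv.coe_toMonoidHom, MulAut.conj_apply]
      have e : k * (x * y * x⁻¹) * k⁻¹ = h' * (k * y * k⁻¹) * h'⁻¹ := this
      have e2 : k * y * k⁻¹ = h'⁻¹ * (k * (x * y * x⁻¹) * k⁻¹) * h' := by rw [e]; group
      calc k * y * k⁻¹ * (h'⁻¹ * (k * x * k⁻¹))
          = h'⁻¹ * (k * (x * y * x⁻¹) * k⁻¹) * h' * (h'⁻¹ * (k * x * k⁻¹)) := by rw [← e2]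
        _ = h'⁻¹ * (k * x * k⁻¹) * (k * y * k⁻¹) := by group
    have hh'N : h' ∈ Subgroup.normalizer (Q : Set G) := by
      have h1 : h' = (k * x * k⁻¹) * (h'⁻¹ * (k * x * k⁻¹))⁻¹ := by group
      rw [h1]
      exact Subgroup.mul_mem _ hkxN (Subgroup.inv_mem _ (Subgroup.centralizer_le_normalizer _ hcen))
    have h2 : k * x * k⁻¹ = h' * (h'⁻¹ * (k * x * k⁻¹)) := by group
    rw [h2]
    exact Subgroup.mul_mem _ ((le_sup_left : normalizerIn S Q ≤ _) ⟨hh'S, hh'N⟩)
      ((le_sup_right : Subgroup.centralizer (Q : Set G) ≤ _) hcen)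
  have hextS : extender S P φ ≤ S := hext.trans (inf_le_left.trans inf_le_left)
  refine ⟨conjHom (extender S P φ) (c' * k), ⟨hextS, ?_, c' * k, fun x => rfl⟩, ?_⟩
  · intro x
    have : (MulAut.conj (c' * k)).toMonoidHom x ∈ normalizerIn S Q := hle ⟨x, hext x.2, rfl⟩
    exact this.1
  · intro x hxP hxN
    rw [hk]
    show c' * k * x * (c' * k)⁻¹ = k * x * k⁻¹
    have hz : k * x * k⁻¹ ∈ Q := by
      rw [← hQk]; exact ⟨x, hxP, rfl⟩
    have := hc' (k * x * k⁻¹) hz
    calc c' * k * x * (c' * k)⁻¹ = c' * (k * x * k⁻¹) * c'⁻¹ := by group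
      _ = (k * x * k⁻¹) * c' * c'⁻¹ := by rw [← this]
      _ = k * x * k⁻¹ := by group

theorem gfs_saturated (S : Sylow p G) : (groupFusionSystem (S : Subgroup G)).IsSaturated p := by
  intro P hP
  obtain ⟨g, hgS, hg⟩ := exists_conj_normalizer_sylow S P hP
  exact ⟨_, (gfs_isConj_iff _ _ _).mpr ⟨hP, hgS, g, rfl⟩,
    gfs_fullyAutomized_of_normalizer_sylow hgS hg,
    gfs_receptive_of_normalizer_sylow hgS S.isPGroup' hg⟩

end Cfsg.Agent.Helper84
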