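import Mathlib
import Cfsg.Prelude.Def_FusionSystem
import Cfsg.Agent.Lib.Helper84.FusBasic

set_option autoImplicit false

namespace Cfsg.Agent.Helper84

open Cfsg Cfsg.FusionSystem

variable {Ω : Type*} [Group Ω] {S : Subgroup Ω}

/-- The isomorphisms `P ≃* Q` that are maps of the system. -/
def isoSet (F : FusionSystem S) (P Q : Subgroup Ω) : Set (P ≃* Q) :=
  {e | Q.subtype.comp e.toMonoidHom ∈ F.Hom P}

theorem isoSet_le (F : FusionSystem S) {P Q : Subgroup Ω} {e : P ≃* Q} (he : e ∈ isoSet F P Q) :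
    P ≤ S ∧ Q ≤ S := by
  refine ⟨(F.le_of_mem he).1, fun y hy => ?_⟩
  have := (F.le_of_mem he).2 (e.symm ⟨y, hy⟩)
  simpa using this

theorem isoSet_refl (F : FusionSystem S) {P : Subgroup Ω} (hP : P ≤ S) :
    MulEquiv.refl P ∈ isoSet F P P :=
  one_mem_autSet F hP

theorem isoSet_trans (F : FusionSystem S) {P Q R : Subgroup Ω} {e : P ≃* Q} {e' : Q ≃* R}
    (he : e ∈ isoSet F P Q) (he' : e' ∈ isoSet F Q R) : e.trans e' ∈ isoSet F P R := by
  have h : ∀ x : P, (Q.subtype.comp e.toMonoidHom) x ∈ Q := fun x => (e x).2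
  have := F.comp_mem he he' h
  refine hom_congr F rfl ?_ this
  intro x hx hx'
  rfl

theorem isoSet_symm (F : FusionSystem S) {P Q : Subgroup Ω} {e : P ≃* Q}
    (he : e ∈ isoSet F P Q) : e.symm ∈ isoSet F Q P := by
  have hr : (Q.subtype.comp e.toMonoidHom).range = Q := by
    ext y
    constructor
    · rintro ⟨x, rfl⟩
      exact (e x).2
    · intro hy
      exact ⟨e.symm ⟨y, hy⟩, by simp⟩
  obtain ⟨ψ, hψ, -, h1, -⟩ := inv_exists F he hr
  refine hom_congr F rfl ?_ hψ
  intro x hx hx'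
  have := h1 (e.symm ⟨x, hx⟩) (by simpa using hx)
  simp only [MonoidHom.comp_apply, Subgroup.coe_subtype, MulEquiv.coe_toMonoidHom,
    MulEquiv.apply_symm_apply] at this
  exact this

theorem exists_iso_of_hom (F : FusionSystem S) {P Q : Subgroup Ω} {φ : P →* Ω}
    (hφ : φ ∈ F.Hom P) (hr : φ.range = Q) :
    ∃ e ∈ isoSet F P Q, ∀ x : P, ((e x : Q) : Ω) = φ x := by
  have hmem : ∀ x : P, φ x ∈ Q := fun x => hr ▸ ⟨x, rfl⟩
  have hinj := F.injective_of_mem hφ
  have hbij : Function.Bijective (φ.codRestrict Q hmem) := by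
    constructor
    · intro a b hab
      exact hinj (congrArg Subtype.val hab)
    · rintro ⟨y, hy⟩
      rw [← hr] at hy
      obtain ⟨x, rfl⟩ := hy
      exact ⟨x, rfl⟩
  refine ⟨MulEquiv.ofBijective (φ.codRestrict Q hmem) hbij, ?_, fun x => rfl⟩
  refine hom_congr F rfl ?_ hφ
  intro x hx hx'
  rfl

theorem isConj_iff_exists_iso (F : FusionSystem S) {P Q : Subgroup Ω} :
    F.IsConj P Q ↔ ∃ e : P ≃* Q, e ∈ isoSet F P Q := by
  constructor
  · rintro ⟨φ, hφ, hr⟩
    obtain ⟨e, he, -⟩ := exists_iso_of_hom F hφ hr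
    exact ⟨e, he⟩
  · rintro ⟨e, he⟩
    refine ⟨_, he, ?_⟩
    ext y
    constructor
    · rintro ⟨x, rfl⟩
      exact (e x).2
    · intro hy
      exact ⟨e.symm ⟨y, hy⟩, by simp⟩

theorem mem_autGroup_iff_isoSet (F : FusionSystem S) {P : Subgroup Ω} (hP : P ≤ S) (α : MulAut P) :
    α ∈ F.autGroup P ↔ α ∈ isoSet F P P :=
  mem_autGroup_iff F hP α

/-- Transport of automorphisms along an isomorphism of the system. -/
theorem congr_mem_autGroup (F : FusionSystem S) {P Q : Subgroup Ω} {e : P ≃* Q}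
    (he : e ∈ isoSet F P Q) {α : MulAut P} (hα : α ∈ F.autGroup P) :
    MulAut.congr e α ∈ F.autGroup Q := by
  have hP := (isoSet_le F he).1
  have hQ := (isoSet_le F he).2
  rw [mem_autGroup_iff_isoSet F hQ]
  rw [mem_autGroup_iff_isoSet F hP] at hα
  exact isoSet_trans F (isoSet_symm F he) (isoSet_trans F hα he)

theorem map_congr_autGroup (F : FusionSystem S) {P Q : Subgroup Ω} {e : P ≃* Q}
    (he : e ∈ isoSet F P Q) :
    (F.autGroup P).map (MulAut.congr e).toMonoidHom = F.autGroup Q := by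
  apply le_antisymm
  · rintro _ ⟨α, hα, rfl⟩
    exact congr_mem_autGroup F he hα
  · intro β hβ
    refine ⟨MulAut.congr e.symm β, congr_mem_autGroup F (isoSet_symm F he) hβ, ?_⟩
    ext x
    simp [MulAut.congr]

/-- The restriction of a map of the system to a subgroup, as an isomorphism onto the image. -/
theorem exists_iso_restrict (F : FusionSystem S) {P R : Subgroup Ω} {φ : P →* Ω}
    (hφ : φ ∈ F.Hom P) (h : R ≤ P) :
    ∃ e ∈ isoSet F R ((R.subgroupOf P).map φ), ∀ x : R, ((e x : _) : Ω) = φ (Subgroup.inclusion h x) := by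
  have h1 := restrict_mem F hφ h
  have hr : (φ.comp (Subgroup.inclusion h)).range = (R.subgroupOf P).map φ := by
    ext y
    constructor
    · rintro ⟨x, rfl⟩
      exact ⟨Subgroup.inclusion h x, by simp [Subgroup.mem_subgroupOf], rfl⟩
    · rintro ⟨z, hz, rfl⟩
      exact ⟨⟨z, hz⟩, rfl⟩
  obtain ⟨e, he, hex⟩ := exists_iso_of_hom F h1 hr
  exact ⟨e, he, hex⟩

/-- A map of the system composed after an isomorphism of the system. -/
theorem comp_iso_mem (F : FusionSystem S) {P Q : Subgroup Ω} {e : P ≃* Q} (he : e ∈ isoSet F P Q)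
    {ψ : Q →* Ω} (hψ : ψ ∈ F.Hom Q) : ψ.comp e.toMonoidHom ∈ F.Hom P := by
  have h : ∀ x : P, (Q.subtype.comp e.toMonoidHom) x ∈ Q := fun x => (e x).2
  have := F.comp_mem he hψ h
  refine hom_congr F rfl ?_ this
  intro x hx hx'
  rfl


/-- Restriction of a map of the system to a subgroup with prescribed image. -/
theorem exists_iso_restrict' (F : FusionSystem S) {N R R' : Subgroup Ω} {φ : N →* Ω}
    (hφ : φ ∈ F.Hom N) (h : R ≤ N) (hmap : (R.subgroupOf N).map φ = R') :
    ∃ e ∈ isoSet F R R', ∀ x : R, ((e x : R') : Ω) = φ (Subgroup.inclusion h x) := by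
  subst hmap
  exact exists_iso_restrict F hφ h

/-- An isomorphism agreeing pointwise with a map of (another) system is an isomorphism of that system. -/
theorem isoSet_of_hom_eq (E : FusionSystem S) {P Q : Subgroup Ω} (e : P ≃* Q) {ψ : P →* Ω}
    (hψ : ψ ∈ E.Hom P) (h : ∀ x : P, ((e x : Q) : Ω) = ψ x) : e ∈ isoSet E P Q := by
  refine hom_congr E rfl ?_ hψ
  intro x hx hx'
  exact (h ⟨x, hx⟩).symm

end Cfsg.Agent.Helper84
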