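import Mathlib
import Cfsg.Prelude.Def_FusionSystem
import Cfsg.Agent.Lib.Helper84.FusBasic
import Cfsg.Agent.Lib.Helper84.FusIso
import Cfsg.Agent.Lib.Helper84.GrpSylow

set_option autoImplicit false

namespace Cfsg.Agent.Helper84

open Cfsg Cfsg.FusionSystem

variable {Ω : Type*} [Group Ω] {S : Subgroup Ω}

theorem finite_of_le {P S : Subgroup Ω} [Finite S] (h : P ≤ S) : Finite P :=
  Finite.of_injective (Subgroup.inclusion h) (Subgroup.inclusion_injective h)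

theorem range_subtype_comp_iso {P Q : Subgroup Ω} (e : P ≃* Q) :
    (Q.subtype.comp e.toMonoidHom).range = Q := by
  ext y
  constructor
  · rintro ⟨x, rfl⟩
    exact (e x).2
  · intro hy
    exact ⟨e.symm ⟨y, hy⟩, by simp⟩

theorem isPGroup_autInducedBy {p : ℕ} {K : Subgroup Ω} (hK : IsPGroup p K) (P : Subgroup Ω) :
    IsPGroup p (autInducedBy K P) := by
  rw [autInducedBy_eq_map]
  exact (isPGroup_subgroupOf _ hK).map _

theorem fullyAutomized_iff (F : FusionSystem S) [Finite S] {p : ℕ} [Fact p.Prime] (P : Subgroup Ω) :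
    F.IsFullyAutomized p P ↔ P ≤ S ∧ IsSylIn p (autInducedBy S P) (F.autGroup P) := by
  constructor
  · rintro ⟨hP, h⟩
    have : Finite P := finite_of_le hP
    exact ⟨hP, isSylIn_of_sylow (autInducedBy_le_autGroup F hP) h⟩
  · rintro ⟨hP, h⟩
    exact ⟨hP, h.exists_sylow⟩

/-- Conjugation by `g ∈ N_S(Q)` as an automorphism of `Q`. -/
noncomputable def normAut (S Q : Subgroup Ω) (g : normalizerIn S Q) : MulAut Q :=
  Q.normalizerMonoidHom ⟨g, g.2.2⟩

theorem normAut_apply (S Q : Subgroup Ω) (g : normalizerIn S Q) (x : Q) :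
    ((normAut S Q g x : Q) : Ω) = g * x * (g : Ω)⁻¹ := rfl

theorem normAut_mem (S Q : Subgroup Ω) (g : normalizerIn S Q) : normAut S Q g ∈ autInducedBy S Q := by
  rw [mem_autInducedBy_iff]
  exact ⟨g, g.2.1, fun x => rfl⟩

/-- If `g` normalizes `Q` and lies in `S`, and `e c_g e⁻¹` is induced by an element of `S`, then `g`
lies in the extender of `e`. -/
theorem mem_extender_of_congr_mem {P Q : Subgroup Ω} (e : Q ≃* P) (g : normalizerIn S Q)
    (h : MulAut.congr e (normAut S Q g) ∈ autInducedBy S P) :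
    (g : Ω) ∈ extender S Q (P.subtype.comp e.toMonoidHom) := by
  rw [mem_autInducedBy_iff] at h
  obtain ⟨h', hh'S, hh'⟩ := h
  apply Subgroup.subset_closure
  refine ⟨g.2.1, g.2.2, h', hh'S, ?_⟩
  intro x hx
  have := hh' (e x)
  simp only [MulAut.congr_apply, MulEquiv.trans_apply, MulEquiv.symm_apply_apply] at this
  simp only [MonoidHom.comp_apply, Subgroup.coe_subtype, MulEquiv.coe_toMonoidHom]
  rw [← this]
  rfl

/-- If a map of the system is defined on `N` with `Q ≤ N ≤ N_S(Q)` and sends `Q` onto `P`, its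
values lie in `N_S(P)`. -/
theorem map_mem_normalizerIn (F : FusionSystem S) {P Q N : Subgroup Ω} {φ : N →* Ω}
    (hφ : φ ∈ F.Hom N) (hN : N ≤ normalizerIn S Q)
    (hmap : (Q.subgroupOf N).map φ = P) (g : N) : φ g ∈ normalizerIn S P := by
  refine Subgroup.mem_inf.mpr ⟨(F.le_of_mem hφ).2 g, ?_⟩
  have key : ∀ g : N, ∀ y ∈ P, φ g * y * (φ g)⁻¹ ∈ P := by
    intro g y hy
    rw [← hmap] at hy
    obtain ⟨x, hx, rfl⟩ := hy
    have hxQ : (x : Ω) ∈ Q := hx
    have hgN : (g : Ω) ∈ Subgroup.normalizer (Q : Set Ω) := (hN g.2).2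
    have h1 : (g : Ω) * x * (g : Ω)⁻¹ ∈ Q := (Subgroup.mem_normalizer_iff.mp hgN x).mp hxQ
    rw [← map_inv, ← map_mul, ← map_mul, ← hmap]
    exact ⟨g * x * g⁻¹, h1, rfl⟩
  rw [Subgroup.mem_normalizer_iff]
  intro y
  constructor
  · exact key g y
  · intro hy
    have := key g⁻¹ _ hy
    rw [map_inv] at this
    have e : (φ g)⁻¹ * (φ g * y * (φ g)⁻¹) * (φ g)⁻¹⁻¹ = y := by group
    rwa [e] at this

/-- AKO Lemma I.2.6(c): a map `N_S(Q) → N_S(P)` onto a fully automized receptive subgroup. -/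
theorem exists_normalizer_hom (F : FusionSystem S) [Finite S] {p : ℕ} [Fact p.Prime]
    (hS : IsPGroup p S) {P Q : Subgroup Ω} (h₁ : F.IsFullyAutomized p P) (h₂ : F.IsReceptive P)
    (hQ : F.IsConj Q P) :
    ∃ φ ∈ F.Hom (normalizerIn S Q), (∀ x, φ x ∈ normalizerIn S P) ∧
      (Q.subgroupOf (normalizerIn S Q)).map φ = P := by
  obtain ⟨e, he⟩ := (isConj_iff_exists_iso F).mp hQ
  obtain ⟨hQS, hPS⟩ := isoSet_le F he
  obtain ⟨-, hsyl⟩ := (fullyAutomized_iff F P).mp h₁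
  have hfinP : Finite P := finite_of_le hPS
  -- the p-subgroup B of Aut_F(P)
  have hB : (autInducedBy S Q).map (MulAut.congr e).toMonoidHom ≤ F.autGroup P := by
    rw [← map_congr_autGroup F he]
    exact Subgroup.map_mono (autInducedBy_le_autGroup F hQS)
  have hBp : IsPGroup p ((autInducedBy S Q).map (MulAut.congr e).toMonoidHom) :=
    (isPGroup_autInducedBy hS Q).map _
  obtain ⟨χ, hχ, hle⟩ := hsyl.exists_conj_ge hB hBp
  -- the corrected isomorphism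
  have hχiso : χ⁻¹ ∈ isoSet F P P :=
    (mem_autGroup_iff_isoSet F hPS _).mp ((F.autGroup P).inv_mem hχ)
  set e' : Q ≃* P := e.trans χ⁻¹ with he'def
  have he' : e' ∈ isoSet F Q P := isoSet_trans F he hχiso
  have hN : normalizerIn S Q ≤ extender S Q (P.subtype.comp e'.toMonoidHom) := by
    intro g hg
    apply mem_extender_of_congr_mem e' ⟨g, hg⟩
    have h1 : MulAut.congr e (normAut S Q ⟨g, hg⟩) ∈
        (autInducedBy S P).map (MulAut.conj χ).toMonoidHom :=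
      hle ⟨_, normAut_mem S Q ⟨g, hg⟩, rfl⟩
    obtain ⟨β, hβ, hβeq⟩ := h1
    have h2 : MulAut.congr e' (normAut S Q ⟨g, hg⟩) = β := by
      have : MulAut.congr e' (normAut S Q ⟨g, hg⟩) =
          χ⁻¹ * MulAut.congr e (normAut S Q ⟨g, hg⟩) * χ := by
        ext y
        simp [he'def, MulAut.congr, MulAut.mul_apply]
      rw [this, ← hβeq]
      simp [MulAut.conj_apply]
      group
    rw [h2]
    exact hβ
  obtain ⟨ψ, hψ, hag⟩ := h₂.2 Q _ he' (range_subtype_comp_iso e')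
  have hQN : Q ≤ normalizerIn S Q := le_inf hQS Subgroup.le_normalizer
  have hmap : (Q.subgroupOf (normalizerIn S Q)).map (ψ.comp (Subgroup.inclusion hN)) = P := by
    ext y
    constructor
    · rintro ⟨x, hx, rfl⟩
      have hxQ : (x : Ω) ∈ Q := hx
      have := hag x hxQ (hN x.2)
      simp only [MonoidHom.comp_apply]
      have h3 : ψ (Subgroup.inclusion hN x) = ψ ⟨x, hN x.2⟩ := rfl
      rw [h3, this]
      exact (e' ⟨x, hxQ⟩).2
    · intro hy
      refine ⟨⟨e'.symm ⟨y, hy⟩, hQN (e'.symm ⟨y, hy⟩).2⟩, (e'.symm ⟨y, hy⟩).2, ?_⟩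
      have := hag (e'.symm ⟨y, hy⟩) (e'.symm ⟨y, hy⟩).2 (hN (hQN (e'.symm ⟨y, hy⟩).2))
      simp only [MonoidHom.comp_apply]
      refine Eq.trans this ?_
      simp
  refine ⟨ψ.comp (Subgroup.inclusion hN), restrict_mem F hψ hN, ?_, hmap⟩
  intro x
  exact map_mem_normalizerIn F (restrict_mem F hψ hN) le_rfl hmap x


theorem finite_subgroups_le (S : Subgroup Ω) [Finite S] : {Q : Subgroup Ω | Q ≤ S}.Finite := by
  have : Finite ↑{Q : Subgroup Ω | Q ≤ S} := by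
    apply Finite.of_injective (fun Q : ↑{Q : Subgroup Ω | Q ≤ S} => (Q.1.subgroupOf S : Subgroup S))
    intro Q Q' h
    apply Subtype.ext
    have h1 := congrArg (Subgroup.map S.subtype) h
    simp only [Subgroup.map_subgroupOf_eq_of_le Q.2, Subgroup.map_subgroupOf_eq_of_le Q'.2] at h1
    exact h1
  exact Set.toFinite _

theorem exists_fullyNormalized_conj (F : FusionSystem S) [Finite S] {P : Subgroup Ω} (hP : P ≤ S) :
    ∃ Q, F.IsConj P Q ∧ F.IsFullyNormalized Q := by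
  have hfin : {Q : Subgroup Ω | F.IsConj P Q}.Finite :=
    (finite_subgroups_le S).subset (fun Q hQ => (conj_le F hQ).2)
  obtain ⟨Q, hQ, hmax⟩ := Set.exists_max_image _ (fun Q => Nat.card (normalizerIn S Q)) hfin
    ⟨P, conj_refl F hP⟩
  refine ⟨Q, hQ, (conj_le F hQ).2, ?_⟩
  intro Q' hQ'
  exact hmax Q' (conj_trans F hQ hQ')

theorem exists_fullyCentralized_conj (F : FusionSystem S) [Finite S] {P : Subgroup Ω} (hP : P ≤ S) :
    ∃ Q, F.IsConj P Q ∧ F.IsFullyCentralized Q := by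
  have hfin : {Q : Subgroup Ω | F.IsConj P Q}.Finite :=
    (finite_subgroups_le S).subset (fun Q hQ => (conj_le F hQ).2)
  obtain ⟨Q, hQ, hmax⟩ := Set.exists_max_image _ (fun Q => Nat.card (centralizerIn S Q)) hfin
    ⟨P, conj_refl F hP⟩
  refine ⟨Q, hQ, (conj_le F hQ).2, ?_⟩
  intro Q' hQ'
  exact hmax Q' (conj_trans F hQ hQ')

/-- AKO Lemma I.2.6(b). -/
theorem fullyNormalized_of_automized_receptive (F : FusionSystem S) [Finite S] {p : ℕ} [Fact p.Prime]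
    (hS : IsPGroup p S) {P : Subgroup Ω} (h₁ : F.IsFullyAutomized p P) (h₂ : F.IsReceptive P) :
    F.IsFullyNormalized P := by
  refine ⟨h₁.1, ?_⟩
  intro Q hQ
  obtain ⟨φ, hφ, hval, -⟩ := exists_normalizer_hom F hS h₁ h₂ (conj_symm F hQ)
  have : Finite (normalizerIn S P) := finite_of_le inf_le_left
  apply Nat.card_le_card_of_injective
    (fun x : normalizerIn S Q => (⟨φ x, hval x⟩ : normalizerIn S P))
  intro a b hab
  exact F.injective_of_mem hφ (congrArg Subtype.val hab)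


/-- Transfer receptivity back along a map of normalizers. -/
theorem receptive_of_hom (F : FusionSystem S) {P R : Subgroup Ω} (hR : F.IsReceptive R)
    {φ : normalizerIn S P →* Ω} (hφ : φ ∈ F.Hom (normalizerIn S P)) (hPS : P ≤ S)
    (hmap : (P.subgroupOf (normalizerIn S P)).map φ = R)
    (hC : centralizerIn S R ≤ φ.range) : F.IsReceptive P := by
  refine ⟨hPS, ?_⟩
  intro Q ψ hψ hr
  have hPN : P ≤ normalizerIn S P := le_inf hPS Subgroup.le_normalizer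
  obtain ⟨e', he', he'x⟩ := exists_iso_of_hom F hψ hr
  obtain ⟨eφ, heφ, heφx⟩ := exists_iso_restrict F hφ hPN
  subst hmap
  set e'' := e'.trans eφ with he''def
  have he'' : e'' ∈ isoSet F Q _ := isoSet_trans F he' heφ
  have he''x : ∀ x : Q, ((e'' x : _) : Ω) = φ ⟨ψ x, hPN (hr ▸ ⟨x, rfl⟩)⟩ := by
    intro x
    rw [he''def, MulEquiv.trans_apply, heφx]
    congr 1
    apply Subtype.ext
    exact he'x x
  -- generators of the extender of ψ
  have hgen : ∀ g : Ω, g ∈ S → g ∈ Subgroup.normalizer (Q : Set Ω) → ∀ h ∈ S,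
      (∀ (x : Q) (hx : g * (x : Ω) * g⁻¹ ∈ Q), ψ ⟨g * x * g⁻¹, hx⟩ = h * ψ x * h⁻¹) →
      ∃ hN : h ∈ normalizerIn S P, ∀ (x : Q) (hx : g * (x : Ω) * g⁻¹ ∈ Q),
        ((e'' ⟨g * x * g⁻¹, hx⟩ : _) : Ω) = φ ⟨h, hN⟩ * (e'' x : _) * (φ ⟨h, hN⟩)⁻¹ := by
    intro g hgS hgN h hhS hh
    have hhN : h ∈ normalizerIn S P := by
      refine Subgroup.mem_inf.mpr ⟨hhS, ?_⟩
      rw [Subgroup.mem_normalizer_iff]
      intro y
      constructor
      · intro hy
        rw [← hr] at hy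
        obtain ⟨x, rfl⟩ := hy
        have hx : g * (x : Ω) * g⁻¹ ∈ Q := (Subgroup.mem_normalizer_iff.mp hgN x).mp x.2
        rw [← hh x hx, ← hr]
        exact ⟨_, rfl⟩
      · intro hy
        rw [← hr] at hy
        obtain ⟨x', hx'⟩ := hy
        have hx : g⁻¹ * (x' : Ω) * g ∈ Q := by
          apply (Subgroup.mem_normalizer_iff.mp hgN _).mpr
          have : g * (g⁻¹ * (x' : Ω) * g) * g⁻¹ = x' := by group
          rw [this]; exact x'.2
        have hx2 : g * ((⟨g⁻¹ * (x' : Ω) * g, hx⟩ : Q) : Ω) * g⁻¹ ∈ Q := by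
          have : g * (g⁻¹ * (x' : Ω) * g) * g⁻¹ = x' := by group
          rw [this]; exact x'.2
        have h1 := hh ⟨g⁻¹ * (x' : Ω) * g, hx⟩ hx2
        have h2 : (⟨g * ((⟨g⁻¹ * (x' : Ω) * g, hx⟩ : Q) : Ω) * g⁻¹, hx2⟩ : Q) = x' := by
          apply Subtype.ext
          show g * (g⁻¹ * (x' : Ω) * g) * g⁻¹ = x'
          group
        rw [h2, hx'] at h1
        have h3 : y = ψ ⟨g⁻¹ * (x' : Ω) * g, hx⟩ := mul_left_cancel (mul_right_cancel h1)
        rw [h3, ← hr]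
        exact ⟨_, rfl⟩
    refine ⟨hhN, ?_⟩
    intro x hx
    rw [he''x, he''x]
    rw [← map_inv, ← map_mul, ← map_mul]
    congr 1
    apply Subtype.ext
    exact hh x hx
  -- the extender of ψ lies in the extender of e''
  have hN12 : extender S Q ψ ≤ extender S Q (Subgroup.subtype _ |>.comp e''.toMonoidHom) := by
    apply (Subgroup.closure_le _).mpr
    rintro g ⟨hgS, hgN, h, hhS, hh⟩
    obtain ⟨hhN, hkey⟩ := hgen g hgS hgN h hhS hh
    apply Subgroup.subset_closure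
    refine ⟨hgS, hgN, φ ⟨h, hhN⟩, (F.le_of_mem hφ).2 _, ?_⟩
    intro x hx
    exact hkey x hx
  obtain ⟨ψ'', hψ'', hag⟩ := hR.2 Q _ he'' (range_subtype_comp_iso e'')
  have hQN1 : Q ≤ extender S Q ψ := le_extender F hψ
  have hQN2 : Q ≤ extender S Q (Subgroup.subtype _ |>.comp e''.toMonoidHom) := hQN1.trans hN12
  have hag' : ∀ x : Q, ψ'' ⟨x, hQN2 x.2⟩ = (e'' x : _) := fun x => hag x x.2 (hQN2 x.2)
  -- values of ψ'' on the extender of ψ lie in the range of φ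
  have hval : ∀ g : extender S Q ψ, ψ'' (Subgroup.inclusion hN12 g) ∈ φ.range := by
    have hle : extender S Q ψ ≤ (φ.range.comap ψ'').map (Subgroup.subtype _) := by
      apply (Subgroup.closure_le _).mpr
      rintro g ⟨hgS, hgN, h, hhS, hh⟩
      obtain ⟨hhN, hkey⟩ := hgen g hgS hgN h hhS hh
      have hg2 : g ∈ extender S Q (Subgroup.subtype _ |>.comp e''.toMonoidHom) :=
        hN12 (Subgroup.subset_closure ⟨hgS, hgN, h, hhS, hh⟩)
      refine ⟨⟨g, hg2⟩, ?_, rfl⟩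
      show ψ'' ⟨g, hg2⟩ ∈ φ.range
      have hc : (φ ⟨h, hhN⟩)⁻¹ * ψ'' ⟨g, hg2⟩ ∈
          centralizerIn S (Subgroup.map φ (P.subgroupOf (normalizerIn S P))) := by
        refine Subgroup.mem_inf.mpr ⟨S.mul_mem (S.inv_mem ((F.le_of_mem hφ).2 _))
          ((F.le_of_mem hψ'').2 _), ?_⟩
        rw [Subgroup.mem_centralizer_iff]
        intro z hz
        obtain ⟨x, rfl⟩ : ∃ x : Q, ((e'' x : _) : Ω) = z := ⟨e''.symm ⟨z, hz⟩, by simp⟩
        have hx : g * (x : Ω) * g⁻¹ ∈ Q := (Subgroup.mem_normalizer_iff.mp hgN x).mp x.2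
        have h1 := hkey x hx
        rw [← hag' x, ← hag' ⟨_, hx⟩] at h1
        have h2 : (⟨((⟨g * (x : Ω) * g⁻¹, hx⟩ : Q) : Ω), hQN2 hx⟩ :
            extender S Q (Subgroup.subtype _ |>.comp e''.toMonoidHom)) =
            ⟨g, hg2⟩ * ⟨x, hQN2 x.2⟩ * ⟨g, hg2⟩⁻¹ := Subtype.ext rfl
        rw [h2, map_mul, map_mul, map_inv] at h1
        rw [← hag' x]
        have h3 : ψ'' ⟨g, hg2⟩ * ψ'' ⟨x, hQN2 x.2⟩ =
            φ ⟨h, hhN⟩ * ψ'' ⟨x, hQN2 x.2⟩ * (φ ⟨h, hhN⟩)⁻¹ * ψ'' ⟨g, hg2⟩ := by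
          rw [← h1]; group
        calc ψ'' ⟨x, hQN2 x.2⟩ * ((φ ⟨h, hhN⟩)⁻¹ * ψ'' ⟨g, hg2⟩)
            = (φ ⟨h, hhN⟩)⁻¹ * (φ ⟨h, hhN⟩ * ψ'' ⟨x, hQN2 x.2⟩ * (φ ⟨h, hhN⟩)⁻¹ * ψ'' ⟨g, hg2⟩) := by
              group
          _ = (φ ⟨h, hhN⟩)⁻¹ * (ψ'' ⟨g, hg2⟩ * ψ'' ⟨x, hQN2 x.2⟩) := by rw [h3]
          _ = (φ ⟨h, hhN⟩)⁻¹ * ψ'' ⟨g, hg2⟩ * ψ'' ⟨x, hQN2 x.2⟩ := by group
      have h4 : ψ'' ⟨g, hg2⟩ = φ ⟨h, hhN⟩ * ((φ ⟨h, hhN⟩)⁻¹ * ψ'' ⟨g, hg2⟩) := by group
      rw [h4]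
      exact φ.range.mul_mem ⟨_, rfl⟩ (hC hc)
    intro g
    obtain ⟨k, hk, hkg⟩ := hle g.2
    have : k = Subgroup.inclusion hN12 g := Subtype.ext hkg
    rw [← this]
    exact hk
  -- the inverse of φ on its range
  obtain ⟨eN, heN, heNx⟩ := exists_iso_of_hom F hφ rfl
  have heNs := isoSet_symm F heN
  have hcomp := F.comp_mem (restrict_mem F hψ'' hN12) heNs hval
  refine ⟨_, hcomp, ?_⟩
  intro x hxQ hxN
  simp only [MonoidHom.comp_apply, Subgroup.coe_subtype, MulEquiv.coe_toMonoidHom]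
  have h5 : ψ'' (Subgroup.inclusion hN12 ⟨x, hxN⟩) = (e'' ⟨x, hxQ⟩ : _) := hag' ⟨x, hxQ⟩
  have h6 : (⟨ψ ⟨x, hxQ⟩, hPN (hr ▸ ⟨⟨x, hxQ⟩, rfl⟩)⟩ : normalizerIn S P) =
      eN.symm ((ψ''.comp (Subgroup.inclusion hN12)).codRestrict φ.range hval ⟨x, hxN⟩) := by
    apply eN.injective
    rw [MulEquiv.apply_symm_apply]
    apply Subtype.ext
    rw [heNx]
    show _ = ψ'' (Subgroup.inclusion hN12 ⟨x, hxN⟩)
    rw [h5, he''x]
  rw [← h6]


/-- Transfer full automization back along a map of normalizers onto `N_S(R)`. -/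
theorem automized_of_hom (F : FusionSystem S) [Finite S] {p : ℕ} [Fact p.Prime] (hS : IsPGroup p S)
    {P R : Subgroup Ω} (hR : F.IsFullyAutomized p R)
    {φ : normalizerIn S P →* Ω} (hφ : φ ∈ F.Hom (normalizerIn S P)) (hPS : P ≤ S)
    (hmap : (P.subgroupOf (normalizerIn S P)).map φ = R)
    (hN : normalizerIn S R ≤ φ.range) : F.IsFullyAutomized p P := by
  have hPN : P ≤ normalizerIn S P := le_inf hPS Subgroup.le_normalizer
  obtain ⟨eφ, heφ, heφx⟩ := exists_iso_restrict F hφ hPN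
  subst hmap
  obtain ⟨hRS, hsyl⟩ := (fullyAutomized_iff F _).mp hR
  rw [fullyAutomized_iff]
  refine ⟨hPS, ?_⟩
  have hfinP : Finite P := finite_of_le hPS
  have h1 := hsyl.map_injective (MulAut.congr eφ.symm).toMonoidHom (MulAut.congr eφ.symm).injective
  rw [map_congr_autGroup F (isoSet_symm F heφ)] at h1
  apply h1.of_card_ge (autInducedBy_le_autGroup F hPS) (isPGroup_autInducedBy hS P)
  apply Subgroup.card_le_of_le
  rintro _ ⟨β, hβ, rfl⟩
  rw [mem_autInducedBy_iff]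
  obtain ⟨h, hhS, hh⟩ := (mem_autInducedBy_iff _ _ _).mp hβ
  have hhN : h ∈ normalizerIn S _ := Subgroup.mem_inf.mpr ⟨hhS, mem_normalizer_of_autInduced hh⟩
  obtain ⟨g, rfl⟩ := hN hhN
  refine ⟨g, g.2.1, ?_⟩
  intro x
  have hx : (g : Ω) * x * (g : Ω)⁻¹ ∈ P := (Subgroup.mem_normalizer_iff.mp g.2.2 x).mp x.2
  have h2 : (MulAut.congr eφ.symm).toMonoidHom β x = ⟨(g : Ω) * x * (g : Ω)⁻¹, hx⟩ := by
    apply eφ.injective
    apply Subtype.ext
    simp only [MulEquiv.coe_toMonoidHom, MulAut.congr_apply, MulEquiv.symm_symm,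
      MulEquiv.trans_apply, MulEquiv.apply_symm_apply]
    rw [hh, heφx, heφx]
    rw [← map_inv, ← map_mul, ← map_mul]
    rfl
  rw [h2]

end Cfsg.Agent.Helper84
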