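import Mathlib
import Cfsg.Prelude.Def_FusionSystem
import Cfsg.Agent.Lib.Helper84.FusSat
import Cfsg.Agent.S5078

set_option autoImplicit false

namespace Cfsg.Agent.Helper84

open Cfsg Cfsg.FusionSystem

variable {Ω : Type*} [Group Ω] {S : Subgroup Ω}

theorem receptive_fullyCentralized (F : FusionSystem S) [Finite S] {P : Subgroup Ω}
    (hP : F.IsReceptive P) : F.IsFullyCentralized P :=
  Cfsg.Agent.S5078.result F P hP

theorem card_range_of_injective {A B : Type*} [Group A] [Group B] (f : A →* B)
    (hf : Function.Injective f) : Nat.card f.range = Nat.card A :=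
  (Nat.card_congr (MonoidHom.ofInjective hf).toEquiv).symm

/-- In a saturated system a fully normalized subgroup is fully automized and receptive. -/
theorem saturated_fn (F : FusionSystem S) [Finite S] {p : ℕ} [Fact p.Prime] (hS : IsPGroup p S)
    (hF : F.IsSaturated p) {P : Subgroup Ω} (hP : F.IsFullyNormalized P) :
    F.IsFullyAutomized p P ∧ F.IsReceptive P := by
  obtain ⟨R, hPR, hFA, hRec⟩ := hF P hP.1
  obtain ⟨φ, hφ, hval, hmap⟩ := exists_normalizer_hom F hS hFA hRec hPR
  have hcard := hP.2 R hPR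
  have hle : φ.range ≤ normalizerIn S R := by
    rintro _ ⟨x, rfl⟩
    exact hval x
  have hfin : Finite (normalizerIn S R) := finite_of_le inf_le_left
  have heq : φ.range = normalizerIn S R := by
    apply Subgroup.eq_of_le_of_card_ge hle
    rw [card_range_of_injective φ (F.injective_of_mem hφ)]
    exact hcard
  refine ⟨automized_of_hom F hS hFA hφ hP.1 hmap heq.ge, ?_⟩
  refine receptive_of_hom F hRec hφ hP.1 hmap ?_
  rw [heq]
  exact le_inf inf_le_left (inf_le_right.trans (Subgroup.centralizer_le_normalizer _))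

/-- In a saturated system a fully centralized subgroup is receptive. -/
theorem saturated_fc (F : FusionSystem S) [Finite S] {p : ℕ} [Fact p.Prime] (hS : IsPGroup p S)
    (hF : F.IsSaturated p) {P : Subgroup Ω} (hP : F.IsFullyCentralized P) :
    F.IsReceptive P := by
  obtain ⟨R, hPR, hFA, hRec⟩ := hF P hP.1
  obtain ⟨φ, hφ, hval, hmap⟩ := exists_normalizer_hom F hS hFA hRec hPR
  have hcard := hP.2 R hPR
  refine receptive_of_hom F hRec hφ hP.1 hmap ?_
  have hCN : centralizerIn S P ≤ normalizerIn S P :=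
    le_inf inf_le_left (inf_le_right.trans (Subgroup.centralizer_le_normalizer _))
  have hK : ((centralizerIn S P).subgroupOf (normalizerIn S P)).map φ ≤ centralizerIn S R := by
    rintro _ ⟨c, hc, rfl⟩
    refine Subgroup.mem_inf.mpr ⟨(F.le_of_mem hφ).2 c, ?_⟩
    rw [Subgroup.mem_centralizer_iff]
    intro z hz
    rw [← hmap] at hz
    obtain ⟨x, hx, rfl⟩ := hz
    rw [← map_mul, ← map_mul]
    congr 1
    apply Subtype.ext
    have hcc : (c : Ω) ∈ Subgroup.centralizer (P : Set Ω) := (Subgroup.mem_subgroupOf.mp hc).2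
    exact hcc x hx
  have hfin : Finite (centralizerIn S R) := finite_of_le inf_le_left
  have hcardK : Nat.card (((centralizerIn S P).subgroupOf (normalizerIn S P)).map φ) =
      Nat.card (centralizerIn S P) := by
    rw [← Nat.card_congr (Subgroup.subgroupOfEquivOfLe hCN).toEquiv]
    exact (Nat.card_congr (Subgroup.equivMapOfInjective _ φ (F.injective_of_mem hφ)).toEquiv).symm
  have heq : ((centralizerIn S P).subgroupOf (normalizerIn S P)).map φ = centralizerIn S R := by
    apply Subgroup.eq_of_le_of_card_ge hK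
    rw [hcardK]
    exact hcard
  rw [← heq]
  rintro _ ⟨c, -, rfl⟩
  exact ⟨c, rfl⟩

/-- AKO Proposition I.2.5. -/
theorem saturated_iff_axioms (F : FusionSystem S) [Finite S] {p : ℕ} [Fact p.Prime]
    (hS : IsPGroup p S) :
    F.IsSaturated p ↔ ((∀ P : Subgroup Ω, F.IsFullyNormalized P →
      F.IsFullyCentralized P ∧ F.IsFullyAutomized p P) ∧
      (∀ P : Subgroup Ω, F.IsFullyCentralized P → F.IsReceptive P)) := by
  constructor
  · intro hF
    refine ⟨fun P hP => ?_, fun P hP => saturated_fc F hS hF hP⟩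
    obtain ⟨h1, h2⟩ := saturated_fn F hS hF hP
    exact ⟨receptive_fullyCentralized F h2, h1⟩
  · rintro ⟨h1, h2⟩ P hP
    obtain ⟨Q, hPQ, hQ⟩ := exists_fullyNormalized_conj F hP
    obtain ⟨hFC, hFA⟩ := h1 Q hQ
    exact ⟨Q, hPQ, hFA, h2 Q hFC⟩

end Cfsg.Agent.Helper84
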