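import Mathlib

/-!
# Definitions for the PSP4F lemma server (S5320, helper84)

`Sp4 F = Matrix.symplecticGroup (Fin 2) F` (index type `Fin 2 ⊕ Fin 2`, form `J = [0 -1; 1 0]`).
The planes `V_i = ⟨e_{inl i}, e_{inr i}⟩` (`i = 0, 1`) are hyperbolic and orthogonal to each other;
`emb (A, B)` acts as `A` on `V_0` and as `B` on `V_1`; `sw` swaps the two planes.

In `SL2 F`: `i0 = rot 0 1`, `Tor = C(i0) = {rot a b}`, `NTor = {ref x y}` (the other coset of
`N(Tor)`), `Tor2` = 2-part of `Tor`, `j0` a chosen element of `NTor`, `Q = Tor2 ⟨j0⟩` (a Sylow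
2-subgroup of `SL2 F` for `F` finite of odd order, generalized quaternion).

`SS = emb (Q × Q) ⟨sw⟩` is a Sylow 2-subgroup of `Sp4 F`.
-/

set_option autoImplicit false
set_option linter.dupNamespace false

namespace Cfsg.Agent.Helper84.Sp4

open Matrix

variable {F : Type*} [Field F]

/-- `SL₂(F)` -/
abbrev SL2 (F : Type*) [Field F] := Matrix.SpecialLinearGroup (Fin 2) F

/-- `Sp₄(F)` -/
abbrev Sp4 (F : Type*) [Field F] := ↥(Matrix.symplecticGroup (Fin 2) F)

/-- rotation-type matrix -/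
def rot (a b : F) : Matrix (Fin 2) (Fin 2) F := !![a, b; -b, a]

/-- reflection-type matrix -/
def ref (x y : F) : Matrix (Fin 2) (Fin 2) F := !![x, y; y, -x]

/-- `i0 = rot 0 1`, of order 4 -/
def i0 : SL2 F := ⟨rot 0 1, by simp [rot, Matrix.det_fin_two]⟩

@[simp] theorem i0_val : ((i0 : SL2 F) : Matrix (Fin 2) (Fin 2) F) = rot 0 1 := rfl

/-- the torus `C(i0) = SO₂(F)` -/
def Tor : Subgroup (SL2 F) := Subgroup.centralizer {i0}

/-- the other coset of the torus normalizer -/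
def NTor : Set (SL2 F) := {X | ∃ x y : F, (X : Matrix (Fin 2) (Fin 2) F) = ref x y}

/-- the 2-part of the torus -/
def Tor2 : Subgroup (SL2 F) := Subgroup.closure {X | X ∈ Tor ∧ ∃ m : ℕ, X ^ (2 ^ m) = 1}

open Classical in
/-- a chosen element of `NTor` (exists for finite fields) -/
noncomputable def j0 : SL2 F := if h : ∃ X : SL2 F, X ∈ NTor then h.choose else 1

/-- the explicit Sylow 2-subgroup of `SL₂(F)` -/
noncomputable def Q : Subgroup (SL2 F) := Tor2 ⊔ Subgroup.zpowers j0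

/-- the matrix of `emb (A, B)` -/
def embM (A B : Matrix (Fin 2) (Fin 2) F) : Matrix (Fin 2 ⊕ Fin 2) (Fin 2 ⊕ Fin 2) F :=
  Matrix.fromBlocks (Matrix.diagonal ![A 0 0, B 0 0]) (Matrix.diagonal ![A 0 1, B 0 1])
    (Matrix.diagonal ![A 1 0, B 1 0]) (Matrix.diagonal ![A 1 1, B 1 1])

theorem embM_mul (A B A' B' : Matrix (Fin 2) (Fin 2) F) :
    embM (A * A') (B * B') = embM A B * embM A' B' := by
  ext i j
  rcases i with i | i <;> rcases j with j | j <;> fin_cases i <;> fin_cases j <;>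
    simp [embM, Matrix.mul_apply, Fintype.sum_sum_type, Fin.sum_univ_two]

theorem embM_one : embM (1 : Matrix (Fin 2) (Fin 2) F) 1 = 1 := by
  ext i j
  rcases i with i | i <;> rcases j with j | j <;> fin_cases i <;> fin_cases j <;>
    simp [embM, Matrix.one_apply]

theorem embM_mem (A B : SL2 F) :
    embM (A : Matrix (Fin 2) (Fin 2) F) (B : Matrix (Fin 2) (Fin 2) F) ∈
      Matrix.symplecticGroup (Fin 2) F := by
  rw [SymplecticGroup.mem_iff]
  have hA : (A : Matrix (Fin 2) (Fin 2) F) 0 0 * (A : Matrix (Fin 2) (Fin 2) F) 1 1 -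
      (A : Matrix (Fin 2) (Fin 2) F) 0 1 * (A : Matrix (Fin 2) (Fin 2) F) 1 0 = 1 := by
    rw [← Matrix.det_fin_two]; exact A.2
  have hB : (B : Matrix (Fin 2) (Fin 2) F) 0 0 * (B : Matrix (Fin 2) (Fin 2) F) 1 1 -
      (B : Matrix (Fin 2) (Fin 2) F) 0 1 * (B : Matrix (Fin 2) (Fin 2) F) 1 0 = 1 := by
    rw [← Matrix.det_fin_two]; exact B.2
  ext i j
  rcases i with i | i <;> rcases j with j | j <;> fin_cases i <;> fin_cases j <;>
    simp [embM, Matrix.J, Matrix.mul_apply, Fintype.sum_sum_type, Fin.sum_univ_two,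
      Matrix.one_apply]
  all_goals first | linear_combination hA | linear_combination hB |
    linear_combination (-1 : F) * hA | linear_combination (-1 : F) * hB | ring

/-- the embedding `SL₂ × SL₂ → Sp₄` -/
def emb : SL2 F × SL2 F →* Sp4 F where
  toFun X := ⟨embM (X.1 : Matrix (Fin 2) (Fin 2) F) (X.2 : Matrix (Fin 2) (Fin 2) F),
    embM_mem X.1 X.2⟩
  map_one' := Subtype.ext embM_one
  map_mul' X Y := Subtype.ext (by
    show embM ((X.1 * Y.1 : SL2 F) : Matrix (Fin 2) (Fin 2) F) ((X.2 * Y.2 : SL2 F) : Matrix (Fin 2) (Fin 2) F) = _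
    rw [Matrix.SpecialLinearGroup.coe_mul, Matrix.SpecialLinearGroup.coe_mul, embM_mul]
    rfl)

@[simp] theorem emb_val (X : SL2 F × SL2 F) :
    ((emb X : Sp4 F) : Matrix (Fin 2 ⊕ Fin 2) (Fin 2 ⊕ Fin 2) F) =
      embM (X.1 : Matrix (Fin 2) (Fin 2) F) (X.2 : Matrix (Fin 2) (Fin 2) F) := rfl

/-- the matrix of the swap of the two planes -/
def swM : Matrix (Fin 2 ⊕ Fin 2) (Fin 2 ⊕ Fin 2) F :=
  Matrix.fromBlocks !![0, 1; 1, 0] 0 0 !![0, 1; 1, 0]

theorem swM_mem : (swM : Matrix (Fin 2 ⊕ Fin 2) (Fin 2 ⊕ Fin 2) F) ∈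
    Matrix.symplecticGroup (Fin 2) F := by
  rw [SymplecticGroup.mem_iff]
  ext i j
  rcases i with i | i <;> rcases j with j | j <;> fin_cases i <;> fin_cases j <;>
    simp [swM, Matrix.J, Matrix.mul_apply, Fintype.sum_sum_type, Fin.sum_univ_two,
      Matrix.one_apply]

/-- the swap of the two planes -/
def sw : Sp4 F := ⟨swM, swM_mem⟩

@[simp] theorem sw_val : ((sw : Sp4 F) : Matrix (Fin 2 ⊕ Fin 2) (Fin 2 ⊕ Fin 2) F) = swM := rfl

/-- the involution `-1` on `V_0`, `1` on `V_1` -/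
def tt : Sp4 F := emb (-1, 1)

/-- the central involution `-1` -/
def zc : Sp4 F := emb (-1, -1)

/-- the explicit Sylow 2-subgroup of `Sp₄(F)` -/
noncomputable def SS : Subgroup (Sp4 F) := (Q.prod Q).map emb ⊔ Subgroup.zpowers sw

/-- the matrix of the element of order 3 normalizing `Q₈` -/
noncomputable def omM : Matrix (Fin 2) (Fin 2) F :=
  (2 : F)⁻¹ • ((-1 : Matrix (Fin 2) (Fin 2) F) + (i0 : SL2 F) + (j0 : SL2 F) + ((i0 * j0 : SL2 F) : Matrix (Fin 2) (Fin 2) F))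

open Classical in
/-- the element of order 3 normalizing `Q₈ = ⟨i0, j0⟩` -/
noncomputable def om : SL2 F := if h : (omM : Matrix (Fin 2) (Fin 2) F).det = 1 then ⟨omM, h⟩ else 1

/-- the diagonal element of order 3 of `N(SS)` when `Q = Q₈` -/
noncomputable def dd : Sp4 F := emb (om, om)

/-- the matrix of the mixing element -/
noncomputable def uuM : Matrix (Fin 2 ⊕ Fin 2) (Fin 2 ⊕ Fin 2) F :=
  Matrix.fromBlocks ((2 : F)⁻¹ • !![1, 1; -1, 1]) ((2 : F)⁻¹ • !![1, 1; -1, 1])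
    (-((2 : F)⁻¹ • !![1, 1; -1, 1])) ((2 : F)⁻¹ • !![1, 1; -1, 1])

open Classical in
/-- the mixing element `(1 + i0) ⊗ ρ/2` (of order 4, normalizes `R1`, inverts `dd` modulo `R1`) -/
noncomputable def uu : Sp4 F :=
  if h : (uuM : Matrix (Fin 2 ⊕ Fin 2) (Fin 2 ⊕ Fin 2) F) ∈ Matrix.symplecticGroup (Fin 2) F
  then ⟨uuM, h⟩ else 1

/-- the subgroup `{emb (b, ±b)}⟨sw⟩` (of order 32, `R1/⟨zc⟩ ≅ 2⁴`, when `Q = Q₈`) -/
noncomputable def R1 : Subgroup (Sp4 F) :=
  Subgroup.closure ({g | ∃ b ∈ (Q : Subgroup (SL2 F)), g = emb (b, b)} ∪ {tt, sw})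

end Cfsg.Agent.Helper84.Sp4
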