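import Mathlib
import Cfsg.Prelude.Def_FusionSystem

set_option autoImplicit false

namespace Cfsg.Agent.Helper84

open Cfsg

/-- A nontrivial `p`-group contains an element of order `p`. -/
theorem exists_orderOf_eq_prime_of_ne_bot {X : Type*} [Group X] {p : ℕ} [hp : Fact p.Prime]
    {N : Subgroup X} (hN : IsPGroup p N) (hne : N ≠ ⊥) : ∃ x ∈ N, orderOf x = p := by
  obtain ⟨y, hyN, hy1⟩ : ∃ y ∈ N, y ≠ 1 := by
    by_contra h
    push Not at h
    exact hne ((Subgroup.eq_bot_iff_forall N).mpr h)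
  obtain ⟨k, hk⟩ := (IsPGroup.iff_orderOf.mp hN) ⟨y, hyN⟩
  have hk' : orderOf y = p ^ k := by
    rw [← hk]
    exact (Subgroup.orderOf_mk y hyN).symm
  have hk0 : k ≠ 0 := by
    rintro rfl
    rw [pow_zero, orderOf_eq_one_iff] at hk'
    exact hy1 hk'
  obtain ⟨j, rfl⟩ := Nat.exists_eq_succ_of_ne_zero hk0
  refine ⟨y ^ (p ^ j), N.pow_mem hyN _, ?_⟩
  have : orderOf (y ^ p ^ j) = orderOf y / p ^ j := by
    apply orderOf_pow_of_dvd (pow_ne_zero _ hp.out.ne_zero)
    rw [hk']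
    exact pow_dvd_pow p (Nat.le_succ j)
  rw [this, hk', pow_succ, Nat.mul_div_cancel_left _ (pow_pos hp.out.pos j)]

/-- A nontrivial `p`-subgroup does not have `p`-rank at most `0`. -/
theorem not_pRankLE_zero_of_ne_bot {X : Type*} [Group X] {p : ℕ} [hp : Fact p.Prime]
    {N : Subgroup X} (hN : IsPGroup p N) (hne : N ≠ ⊥) : ¬ PRankLE p 0 N := by
  intro h
  obtain ⟨x, hxN, hx⟩ := exists_orderOf_eq_prime_of_ne_bot hN hne
  let x' : N := ⟨x, hxN⟩
  have hx' : orderOf x' = p := by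
    rw [← hx]; exact Subgroup.orderOf_mk x hxN
  have h1 := h (Subgroup.zpowers x') inferInstance (by
    rintro a ⟨n, rfl⟩
    rw [← zpow_natCast, ← zpow_mul, mul_comm, zpow_mul, zpow_natCast, ← hx', pow_orderOf_eq_one, one_zpow])
  rw [Nat.card_zpowers, hx', pow_zero] at h1
  exact absurd h1 (not_le.mpr hp.out.one_lt)

/-- If `X` has a strongly `p`-embedded subgroup then every normal `p`-subgroup of `X` is trivial. -/
theorem normal_pSubgroup_eq_bot_of_stronglyPEmbedded {X : Type*} [Group X] {p : ℕ} [hp : Fact p.Prime]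
    {E : Subgroup X} (hE : IsStronglyPEmbedded p E) (N : Subgroup X) [hNn : N.Normal]
    (hN : IsPGroup p N) : N = ⊥ := by
  by_contra hne
  obtain ⟨-, hEtop, T, hT⟩ := hE
  have hNT : N ≤ T := hN.le_sylow_of_normal T
  have hr : ¬ PRankLE p (1 - 1) N := not_pRankLE_zero_of_ne_bot hN hne
  have h1 : Subgroup.normalizer ((N : Subgroup X) : Set X) ≤ kGeneratedCore p 1 (T : Subgroup X) := by
    unfold kGeneratedCore
    exact le_iSup (fun Q : {Q : Subgroup X // Q ≤ (T : Subgroup X) ∧ ¬ PRankLE p (1 - 1) Q} =>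
      Subgroup.normalizer ((Q : Subgroup X) : Set X)) ⟨N, hNT, hr⟩
  rw [Subgroup.normalizer_eq_top] at h1
  exact hEtop (top_le_iff.mp (h1.trans hT))

end Cfsg.Agent.Helper84
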