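import Mathlib
import Cfsg.Prelude.Def_FusionSystem
import Cfsg.Agent.Lib.Helper84.GrpBasic
import Cfsg.Agent.Lib.Helper84.GrpSylow

set_option autoImplicit false

namespace Cfsg.Agent.Helper84

open Cfsg

variable {X : Type*} [Group X]

theorem map_conj_mul (H : Subgroup X) (a b : X) :
    (H.map (MulAut.conj a).toMonoidHom).map (MulAut.conj b).toMonoidHom =
      H.map (MulAut.conj (b * a)).toMonoidHom := by
  rw [Subgroup.map_map]
  congr 1
  ext x
  simp [MulAut.conj_apply, mul_assoc]

theorem map_conj_one (H : Subgroup X) : H.map (MulAut.conj (1 : X)).toMonoidHom = H := by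
  ext x
  simp

theorem map_conj_inv_le_iff (H K : Subgroup X) (a : X) :
    H.map (MulAut.conj a⁻¹).toMonoidHom ≤ K ↔ H ≤ K.map (MulAut.conj a).toMonoidHom := by
  constructor
  · intro h
    have := Subgroup.map_mono (f := (MulAut.conj a).toMonoidHom) h
    rwa [map_conj_mul, mul_inv_cancel, map_conj_one] at this
  · intro h
    have := Subgroup.map_mono (f := (MulAut.conj a⁻¹).toMonoidHom) h
    rwa [map_conj_mul, inv_mul_cancel, map_conj_one] at this

theorem exists_mem_normalizer_not_mem {p : ℕ} [Fact p.Prime] {T U : Subgroup X} [Finite T]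
    (hT : IsPGroup p T) (hUT : U < T) :
    ∃ t ∈ T, t ∈ Subgroup.normalizer (U : Set X) ∧ t ∉ U := by
  have hnil : Group.IsNilpotent T := hT.isNilpotent
  have hnc := Group.normalizerCondition_of_isNilpotent (G := T)
  have hlt : U.subgroupOf T < ⊤ := by
    rw [lt_top_iff_ne_top, Ne, Subgroup.subgroupOf_eq_top]
    exact not_le_of_gt hUT
  have h1 := hnc _ hlt
  obtain ⟨t, htn, htU⟩ := SetLike.exists_of_lt h1
  rw [← Subgroup.subgroupOf_normalizer_eq hUT.le] at htn
  exact ⟨t, t.2, htn, fun h => htU (Subgroup.mem_subgroupOf.mpr h)⟩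

theorem card_lt_card_inf_normalizer {p : ℕ} [Fact p.Prime] {T U : Subgroup X} [Finite T]
    (hT : IsPGroup p T) (hUT : U < T) :
    Nat.card U < Nat.card (T ⊓ Subgroup.normalizer (U : Set X) : Subgroup X) := by
  obtain ⟨t, htT, htN, htU⟩ := exists_mem_normalizer_not_mem hT hUT
  have hfin : Finite (T ⊓ Subgroup.normalizer (U : Set X) : Subgroup X) :=
    Finite.of_injective (Subgroup.inclusion (inf_le_left : T ⊓ _ ≤ T)) (Subgroup.inclusion_injective _)
  have hle : U ≤ T ⊓ Subgroup.normalizer (U : Set X) := le_inf hUT.le Subgroup.le_normalizer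
  apply lt_of_le_of_ne (Subgroup.card_le_of_le hle)
  intro heq
  have := Subgroup.eq_of_le_of_card_ge hle heq.ge
  exact htU (this ▸ ⟨htT, htN⟩)

/-- Control of fusion by a subgroup containing the normalizers of the nontrivial subgroups of a
Sylow subgroup. -/
theorem control_of_normalizers [Finite X] {p : ℕ} [Fact p.Prime] {T M : Subgroup X}
    (hT : IsSylIn p T ⊤)
    (hM : ∀ Q ≤ T, Q ≠ ⊥ → Subgroup.normalizer (Q : Set X) ≤ M) :
    ∀ U ≤ T, U ≠ ⊥ → ∀ x : X, U.map (MulAut.conj x).toMonoidHom ≤ T → x ∈ M := by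
  have hTp : IsPGroup p T := hT.2.1
  suffices H : ∀ n : ℕ, ∀ U ≤ T, U ≠ ⊥ → Nat.card T - Nat.card U = n →
      ∀ x : X, U.map (MulAut.conj x).toMonoidHom ≤ T → x ∈ M from
    fun U hU hne x hx => H _ U hU hne rfl x hx
  intro n
  induction n using Nat.strong_induction_on with
  | _ n ih =>
    intro U hUT hne hn x hx
    set V := U.map (MulAut.conj x).toMonoidHom with hV
    have hcardV : Nat.card V = Nat.card U := card_map_conj U x
    have hVne : V ≠ ⊥ := by
      intro h
      apply hne
      rw [← Subgroup.card_eq_one] at h ⊢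
      rw [← hcardV]; exact h
    rcases eq_or_lt_of_le hUT with hUeq | hUlt
    · -- U = T
      have hVT : V = T := by
        apply Subgroup.eq_of_le_of_card_ge hx
        rw [hcardV, hUeq]
      have hxN : x ∈ Subgroup.normalizer (T : Set X) := by
        rw [Subgroup.mem_normalizer_iff_map_conj_eq]
        have : T.map (MulAut.conj x).toMonoidHom = T := by
          rw [← hUeq]; exact hVT.trans hUeq.symm
        exact this
      exact hM T le_rfl (hUeq ▸ hne) hxN
    · -- U < T
      have hVlt : V < T := by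
        apply lt_of_le_of_ne hx
        intro h
        have h2 : Nat.card U = Nat.card T := by rw [← hcardV, h]
        have := Subgroup.eq_of_le_of_card_ge hUT h2.ge
        exact absurd this (ne_of_lt hUlt)
      have hcU := card_lt_card_inf_normalizer hTp hUlt
      have hcV := card_lt_card_inf_normalizer hTp hVlt
      set NU := T ⊓ Subgroup.normalizer (U : Set X) with hNU
      set NV := T ⊓ Subgroup.normalizer (V : Set X) with hNV
      have hNVp : IsPGroup p NV := hTp.to_inf_left
      have hNUp : IsPGroup p NU := hTp.to_inf_left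
      obtain ⟨Y, hNVY, hY⟩ := exists_isSylIn_ge (inf_le_right : NV ≤ Subgroup.normalizer (V : Set X)) hNVp
      have hNUx : NU.map (MulAut.conj x).toMonoidHom ≤ Subgroup.normalizer (V : Set X) := by
        have h1 := Subgroup.le_normalizer_map (H := U) (MulAut.conj x).toMonoidHom
        exact (Subgroup.map_mono inf_le_right).trans h1
      obtain ⟨m, hm, hle⟩ := hY.exists_conj_ge hNUx (hNUp.map _)
      obtain ⟨y, -, hyle⟩ := hT.exists_conj_ge le_top hY.2.1
      have hY' : Y.map (MulAut.conj y⁻¹).toMonoidHom ≤ T := (map_conj_inv_le_iff _ _ _).mpr hyle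
      have hcardTU : Nat.card U < Nat.card T := by
        apply lt_of_le_of_ne (Subgroup.card_le_of_le hUT)
        intro h
        exact absurd (Subgroup.eq_of_le_of_card_ge hUT h.ge) (ne_of_lt hUlt)
      have hNVne : NV ≠ ⊥ := by
        intro h
        rw [h, Subgroup.card_bot] at hcV
        have := Nat.card_pos (α := V)
        omega
      have hNUne : NU ≠ ⊥ := by
        intro h
        rw [h, Subgroup.card_bot] at hcU
        have := Nat.card_pos (α := U)
        omega
      -- y⁻¹ ∈ M
      have h1 : y⁻¹ ∈ M := by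
        refine ih (Nat.card T - Nat.card NV) ?_ NV inf_le_left hNVne rfl y⁻¹
          ((Subgroup.map_mono hNVY).trans hY')
        rw [← hn]
        have : Nat.card NV ≤ Nat.card T := Subgroup.card_le_of_le inf_le_left
        omega
      -- y⁻¹ m⁻¹ x ∈ M
      have h2 : y⁻¹ * m⁻¹ * x ∈ M := by
        refine ih (Nat.card T - Nat.card NU) ?_ NU inf_le_left hNUne rfl (y⁻¹ * m⁻¹ * x) ?_
        · rw [← hn]
          have : Nat.card NU ≤ Nat.card T := Subgroup.card_le_of_le inf_le_left
          omega
        · have e1 : NU.map (MulAut.conj (y⁻¹ * m⁻¹ * x)).toMonoidHom =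
              ((NU.map (MulAut.conj x).toMonoidHom).map (MulAut.conj m⁻¹).toMonoidHom).map
                (MulAut.conj y⁻¹).toMonoidHom := by
            rw [map_conj_mul, map_conj_mul, mul_assoc]
          rw [e1]
          refine (Subgroup.map_mono ?_).trans hY'
          exact (map_conj_inv_le_iff _ _ _).mpr hle
      have h3 : m ∈ M := hM V hx hVne hm
      have h4 : x = m * (y⁻¹)⁻¹ * (y⁻¹ * m⁻¹ * x) := by group
      rw [h4]
      exact M.mul_mem (M.mul_mem h3 (M.inv_mem h1)) h2


theorem pRankLE_zero_bot (p : ℕ) : PRankLE p 0 (⊥ : Subgroup X) := by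
  intro A _ _
  rw [pow_zero]
  have : Subsingleton (⊥ : Subgroup X) := inferInstance
  have : Subsingleton A := inferInstance
  exact Finite.card_le_one_iff_subsingleton.mpr this

theorem normalizer_map_conj' (P : Subgroup X) (g : X) :
    Subgroup.normalizer ((P.map (MulAut.conj g).toMonoidHom : Subgroup X) : Set X) =
      (Subgroup.normalizer (P : Set X)).map (MulAut.conj g).toMonoidHom :=
  (Subgroup.map_equiv_normalizer_eq P (MulAut.conj g)).symm

/-- A subgroup containing the normalizers of all nontrivial subgroups of a nontrivial Sylow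
`p`-subgroup, and proper, is strongly `p`-embedded. -/
theorem stronglyPEmbedded_of_normalizers [Finite X] {p : ℕ} [Fact p.Prime] {T M : Subgroup X}
    (hT : IsSylIn p T ⊤) (hTne : T ≠ ⊥) (hMtop : M ≠ ⊤)
    (hM : ∀ Q ≤ T, Q ≠ ⊥ → Subgroup.normalizer (Q : Set X) ≤ M) : IsStronglyPEmbedded p M := by
  refine ⟨?_, hMtop, ?_⟩
  · have h1 : p ∣ Nat.card T := by
      rcases hT.2.1.card_eq_or_dvd with h | h
      · exact absurd (Subgroup.card_eq_one.mp h) hTne
      · exact h
    exact h1.trans (Subgroup.card_subgroup_dvd_card T)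
  · have hidx : ¬ p ∣ T.index := by
      have := hT.2.2
      rwa [Subgroup.relIndex_top_right] at this
    refine ⟨hT.2.1.toSylow hidx, ?_⟩
    unfold kGeneratedCore
    apply iSup_le
    rintro ⟨Q, hQT, hQr⟩
    apply hM Q hQT
    rintro rfl
    exact hQr (pRankLE_zero_bot p)

/-- From a strongly `p`-embedded subgroup we get, for any Sylow `p`-subgroup `T`, a proper subgroup
controlling fusion of nontrivial subgroups of `T`. -/
theorem stronglyPEmbedded_control [Finite X] {p : ℕ} [Fact p.Prime] {T E : Subgroup X}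
    (hT : IsSylIn p T ⊤) (hE : IsStronglyPEmbedded p E) :
    ∃ M : Subgroup X, M ≠ ⊤ ∧
      ∀ U ≤ T, U ≠ ⊥ → ∀ x : X, U.map (MulAut.conj x).toMonoidHom ≤ T → x ∈ M := by
  obtain ⟨-, hEtop, T₀, hT₀⟩ := hE
  have hT₀syl : IsSylIn p (T₀ : Subgroup X) ⊤ := by
    refine ⟨le_top, T₀.isPGroup', ?_⟩
    rw [Subgroup.relIndex_top_right]
    exact T₀.not_dvd_index
  obtain ⟨x₀, -, hx₀⟩ := hT₀syl.exists_conj hT
  refine ⟨E.map (MulAut.conj x₀).toMonoidHom, ?_, ?_⟩
  · intro h
    apply hEtop
    have := congrArg (Subgroup.map (MulAut.conj x₀⁻¹).toMonoidHom) h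
    rw [map_conj_mul, inv_mul_cancel, map_conj_one] at this
    rw [this, ← top_le_iff]
    intro z _
    exact ⟨x₀ * z * x₀⁻¹, Subgroup.mem_top _, by simp [MulAut.conj_apply, mul_assoc]⟩
  · apply control_of_normalizers hT
    intro Q hQT hQne
    set Q₀ := Q.map (MulAut.conj x₀⁻¹).toMonoidHom with hQ₀
    have hQ₀T : Q₀ ≤ T₀ := by
      rw [hQ₀, map_conj_inv_le_iff, ← hx₀]
      exact hQT
    have hQ₀ne : Q₀ ≠ ⊥ := by
      intro h
      apply hQne
      rw [← Subgroup.card_eq_one] at h ⊢
      rwa [hQ₀, card_map_conj] at h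
    have hQeq : Q = Q₀.map (MulAut.conj x₀).toMonoidHom := by
      rw [hQ₀, map_conj_mul, mul_inv_cancel, map_conj_one]
    have hr : ¬ PRankLE p (1 - 1) Q₀ :=
      not_pRankLE_zero_of_ne_bot (T₀.isPGroup'.to_le hQ₀T) hQ₀ne
    have h1 : Subgroup.normalizer ((Q₀ : Subgroup X) : Set X) ≤ kGeneratedCore p 1 (T₀ : Subgroup X) := by
      unfold kGeneratedCore
      exact le_iSup (fun Q : {Q : Subgroup X // Q ≤ (T₀ : Subgroup X) ∧ ¬ PRankLE p (1 - 1) Q} =>
        Subgroup.normalizer ((Q : Subgroup X) : Set X)) ⟨Q₀, hQ₀T, hr⟩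
    rw [hQeq, normalizer_map_conj']
    exact Subgroup.map_mono (h1.trans hT₀)

end Cfsg.Agent.Helper84
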