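import Mathlib
import Cfsg.Prelude.Def_FusionSystem
import Cfsg.Agent.Lib.Helper84.FusSat2
import Cfsg.Agent.Lib.Helper84.GrpSE

set_option autoImplicit false

namespace Cfsg.Agent.Helper84

open Cfsg Cfsg.FusionSystem

variable {Ω : Type*} [Group Ω] {S : Subgroup Ω}

/-- Automorphisms of `P` that extend to a map of the system on a strictly larger subgroup. -/
def extSet (F : FusionSystem S) (P : Subgroup Ω) : Set (MulAut P) :=
  {α | ∃ (Q : Subgroup Ω) (hPQ : P < Q) (φ : Q →* Ω), φ ∈ F.Hom Q ∧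
    ∀ x : P, φ (Subgroup.inclusion hPQ.le x) = α x}

theorem extSet_subset_autGroup (F : FusionSystem S) (P : Subgroup Ω) {α : MulAut P}
    (hα : α ∈ extSet F P) : α ∈ F.autGroup P := by
  obtain ⟨Q, hPQ, φ, hφ, hag⟩ := hα
  apply Subgroup.subset_closure
  show P.subtype.comp α.toMonoidHom ∈ F.Hom P
  refine hom_congr F rfl ?_ (restrict_mem F hφ hPQ.le)
  intro x hx hx'
  exact hag ⟨x, hx⟩

theorem closure_extSet_le_autGroup (F : FusionSystem S) (P : Subgroup Ω) :
    Subgroup.closure (extSet F P) ≤ F.autGroup P :=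
  (Subgroup.closure_le _).mpr (fun _ hα => extSet_subset_autGroup F P hα)

theorem lt_normalizerIn [Finite S] {p : ℕ} [Fact p.Prime] (hS : IsPGroup p S)
    {P : Subgroup Ω} (hP : P < S) : P < normalizerIn S P := by
  obtain ⟨t, htS, htN, htP⟩ := exists_mem_normalizer_not_mem hS hP
  refine lt_of_le_of_ne (le_inf hP.le Subgroup.le_normalizer) ?_
  intro h
  exact htP (h ▸ (Subgroup.mem_inf.mpr ⟨htS, htN⟩))

theorem autInducedBy_subset_extSet (F : FusionSystem S) [Finite S] {p : ℕ} [Fact p.Prime]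
    (hS : IsPGroup p S) {P : Subgroup Ω} (hP : P < S) {α : MulAut P}
    (hα : α ∈ autInducedBy S P) : α ∈ extSet F P := by
  rw [mem_autInducedBy_iff] at hα
  obtain ⟨g, hg, hα⟩ := hα
  refine ⟨normalizerIn S P, lt_normalizerIn hS hP, conjHom (normalizerIn S P) g,
    F.conj_mem inf_le_left hg, ?_⟩
  intro x
  exact (hα x).symm

/-- Receptivity gives extensions. -/
theorem mem_extSet_of_receptive (F : FusionSystem S) {P : Subgroup Ω} (hP : F.IsReceptive P)
    {α : MulAut P} (hα : α ∈ F.autGroup P) {N : Subgroup Ω} (hPN : P < N)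
    (hN : N ≤ extender S P (P.subtype.comp α.toMonoidHom)) : α ∈ extSet F P := by
  have hα' := (mem_autGroup_iff F hP.1 α).mp hα
  obtain ⟨ψ, hψ, hag⟩ := hP.2 P _ hα' (range_subtype_comp_iso α)
  refine ⟨N, hPN, ψ.comp (Subgroup.inclusion hN), restrict_mem F hψ hN, ?_⟩
  intro x
  exact hag x x.2 (hN (hPN.le x.2))

/-- The homomorphism `N_S(P) → Aut_F(P)`. -/
noncomputable def normAutHom (F : FusionSystem S) {P : Subgroup Ω} (hP : P ≤ S) :
    normalizerIn S P →* F.autGroup P :=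
  (P.normalizerMonoidHom.comp (Subgroup.inclusion (inf_le_right : normalizerIn S P ≤ _))).codRestrict
    (F.autGroup P) (fun g => autInducedBy_le_autGroup F hP (normAut_mem S P g))

theorem normAutHom_val (F : FusionSystem S) {P : Subgroup Ω} (hP : P ≤ S) (g : normalizerIn S P) :
    ((normAutHom F hP g : F.autGroup P) : MulAut P) = normAut S P g := rfl

theorem normAutHom_mem_inn_iff (F : FusionSystem S) {P : Subgroup Ω} (hP : P ≤ S)
    (hC : centralizerIn S P ≤ P) (g : normalizerIn S P) :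
    normAutHom F hP g ∈ (Inn P).subgroupOf (F.autGroup P) ↔ (g : Ω) ∈ P := by
  rw [Subgroup.mem_subgroupOf, normAutHom_val]
  constructor
  · rintro ⟨r, hr⟩
    have h1 : (r : Ω)⁻¹ * g ∈ centralizerIn S P := by
      refine Subgroup.mem_inf.mpr ⟨S.mul_mem (S.inv_mem (hP r.2)) g.2.1, ?_⟩
      rw [Subgroup.mem_centralizer_iff]
      intro y hy
      have h2 := congrArg (fun β : MulAut P => ((β ⟨y, hy⟩ : P) : Ω)) hr
      simp only [MulAut.conj_apply, normAut_apply] at h2
      have h3 : (r : Ω) * y * (r : Ω)⁻¹ = g * y * (g : Ω)⁻¹ := by simpa using h2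
      have : y = (r : Ω)⁻¹ * (g * y * (g : Ω)⁻¹) * r := by rw [← h3]; group
      calc y * ((r : Ω)⁻¹ * g) = (r : Ω)⁻¹ * (g * y * (g : Ω)⁻¹) * r * ((r : Ω)⁻¹ * g) := by rw [← this]
        _ = (r : Ω)⁻¹ * g * y := by group
    have h4 : (g : Ω) = r * ((r : Ω)⁻¹ * g) := by group
    rw [h4]
    exact P.mul_mem r.2 (hC h1)
  · intro hg
    refine ⟨⟨g, hg⟩, ?_⟩
    ext y
    simp [MulAut.conj_apply, normAut_apply]

theorem normAutHom_mem_inn_of_mem (F : FusionSystem S) {P : Subgroup Ω} (hP : P ≤ S)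
    (g : normalizerIn S P) (hg : (g : Ω) ∈ P) :
    normAutHom F hP g ∈ (Inn P).subgroupOf (F.autGroup P) := by
  rw [Subgroup.mem_subgroupOf, normAutHom_val]
  refine ⟨⟨g, hg⟩, ?_⟩
  ext y
  simp [MulAut.conj_apply, normAut_apply]

instance inn_subgroupOf_normal (F : FusionSystem S) (P : Subgroup Ω) :
    ((Inn P).subgroupOf (F.autGroup P)).Normal :=
  Subgroup.Normal.subgroupOf inferInstance _


/-- The quotient map `Aut_F(P) → Out_F(P)`. -/
abbrev outMk (F : FusionSystem S) (P : Subgroup Ω) :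
    F.autGroup P →* (F.autGroup P ⧸ (Inn P).subgroupOf (F.autGroup P)) :=
  QuotientGroup.mk' _

/-- `Aut_S(P)` inside `Aut_F(P)`. -/
abbrev autSHat (F : FusionSystem S) (P : Subgroup Ω) : Subgroup (F.autGroup P) :=
  (autInducedBy S P).subgroupOf (F.autGroup P)

/-- The subgroup generated by extendable automorphisms, inside `Aut_F(P)`. -/
abbrev extHat (F : FusionSystem S) (P : Subgroup Ω) : Subgroup (F.autGroup P) :=
  (Subgroup.closure (extSet F P)).subgroupOf (F.autGroup P)

theorem outS_sylow (F : FusionSystem S) [Finite S] {p : ℕ} [Fact p.Prime] {P : Subgroup Ω}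
    (hFA : F.IsFullyAutomized p P) : IsSylIn p ((autSHat F P).map (outMk F P)) ⊤ := by
  obtain ⟨hPS, hsyl⟩ := (fullyAutomized_iff F P).mp hFA
  have hfinP : Finite P := finite_of_le hPS
  have h1 : IsSylIn p (autSHat F P) ⊤ := by
    refine ⟨le_top, isPGroup_subgroupOf _ hsyl.2.1, ?_⟩
    rw [Subgroup.relIndex_top_right]
    exact hsyl.2.2
  have h2 := isSylIn_map_of_sylow (outMk F P) h1
  rwa [MonoidHom.range_eq_top.mpr (QuotientGroup.mk'_surjective _)] at h2

theorem normAutHom_mem_autSHat (F : FusionSystem S) {P : Subgroup Ω} (hP : P ≤ S)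
    (g : normalizerIn S P) : normAutHom F hP g ∈ autSHat F P := by
  rw [Subgroup.mem_subgroupOf, normAutHom_val]
  exact normAut_mem S P g

theorem exists_normAutHom_eq (F : FusionSystem S) {P : Subgroup Ω} (hP : P ≤ S)
    {t : F.autGroup P} (ht : t ∈ autSHat F P) : ∃ g : normalizerIn S P, normAutHom F hP g = t := by
  rw [Subgroup.mem_subgroupOf, mem_autInducedBy_iff] at ht
  obtain ⟨g, hg, hgt⟩ := ht
  refine ⟨⟨g, Subgroup.mem_inf.mpr ⟨hg, mem_normalizer_of_autInduced hgt⟩⟩, ?_⟩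
  apply Subtype.ext
  ext x
  rw [normAutHom_val, normAut_apply, hgt]

theorem inn_le_autSHat (F : FusionSystem S) {P : Subgroup Ω} (hP : P ≤ S) :
    (Inn P).subgroupOf (F.autGroup P) ≤ autSHat F P := by
  intro a ha
  rw [Subgroup.mem_subgroupOf] at ha ⊢
  obtain ⟨r, hr⟩ := ha
  rw [mem_autInducedBy_iff]
  refine ⟨r, hP r.2, fun x => ?_⟩
  rw [← hr]
  simp [MulAut.conj_apply]

/-- Key step of AKO Proposition I.3.3: normalizers of nontrivial subgroups of `Out_S(P)` consist of
classes of extendable automorphisms. -/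
theorem normalizer_le_extHat_map (F : FusionSystem S)
    {P : Subgroup Ω} (hPS : P ≤ S) (hRec : F.IsReceptive P)
    (Qb : Subgroup (F.autGroup P ⧸ (Inn P).subgroupOf (F.autGroup P)))
    (hQb : Qb ≤ (autSHat F P).map (outMk F P)) (hQne : Qb ≠ ⊥) :
    Subgroup.normalizer (Qb : Set _) ≤ (extHat F P).map (outMk F P) := by
  intro xb hxb
  obtain ⟨a, rfl⟩ := QuotientGroup.mk'_surjective _ xb
  refine ⟨a, ?_, rfl⟩
  show (a : MulAut P) ∈ Subgroup.closure (extSet F P)
  apply Subgroup.subset_closure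
  -- the subgroup N
  set N : Subgroup Ω := ((Qb.comap (outMk F P)).comap (normAutHom F hPS)).map
    (normalizerIn S P).subtype with hNdef
  have hPN : P ≤ N := by
    intro g hg
    have hgN : g ∈ normalizerIn S P := Subgroup.mem_inf.mpr ⟨hPS hg, Subgroup.le_normalizer hg⟩
    refine ⟨⟨g, hgN⟩, ?_, rfl⟩
    show outMk F P (normAutHom F hPS ⟨g, hgN⟩) ∈ Qb
    have : outMk F P (normAutHom F hPS ⟨g, hgN⟩) = 1 := by
      rw [← MonoidHom.mem_ker, QuotientGroup.ker_mk']
      exact normAutHom_mem_inn_of_mem F hPS ⟨g, hgN⟩ hg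
    rw [this]
    exact Qb.one_mem
  have hNne : ¬ N ≤ P := by
    intro hNP
    apply hQne
    rw [Subgroup.eq_bot_iff_forall]
    intro qb hqb
    obtain ⟨t, ht, rfl⟩ := hQb hqb
    obtain ⟨g, rfl⟩ := exists_normAutHom_eq F hPS ht
    have hgN : (g : Ω) ∈ N := ⟨g, hqb, rfl⟩
    have := normAutHom_mem_inn_of_mem F hPS g (hNP hgN)
    rw [← QuotientGroup.ker_mk' ((Inn P).subgroupOf (F.autGroup P)), MonoidHom.mem_ker] at this
    exact this
  have hPltN : P < N := lt_of_le_not_ge hPN hNne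
  refine mem_extSet_of_receptive F hRec a.2 hPltN ?_
  rintro _ ⟨g, hg, rfl⟩
  apply mem_extender_of_congr_mem (a : MulAut P) g
  -- a * c_g * a⁻¹ ∈ Aut_S(P)
  have h1 : outMk F P (a * normAutHom F hPS g * a⁻¹) ∈ Qb := by
    rw [map_mul, map_mul, map_inv]
    exact (Subgroup.mem_normalizer_iff.mp hxb _).mp hg
  obtain ⟨t, ht, hteq⟩ := hQb h1
  have h2 : t⁻¹ * (a * normAutHom F hPS g * a⁻¹) ∈ (Inn P).subgroupOf (F.autGroup P) := by
    rw [← QuotientGroup.ker_mk' ((Inn P).subgroupOf (F.autGroup P)), MonoidHom.mem_ker, map_mul,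
      map_inv]
    have hteq' : (QuotientGroup.mk' ((Inn P).subgroupOf (F.autGroup P))) t =
      (QuotientGroup.mk' ((Inn P).subgroupOf (F.autGroup P))) (a * normAutHom F hPS g * a⁻¹) := hteq
    rw [hteq']
    exact inv_mul_cancel _
  have h3 : a * normAutHom F hPS g * a⁻¹ ∈ autSHat F P := by
    have := (autSHat F P).mul_mem ht (inn_le_autSHat F hPS h2)
    simpa using this
  rw [Subgroup.mem_subgroupOf] at h3
  have h4 : MulAut.congr (a : MulAut P) (normAut S P g) =
      ((a * normAutHom F hPS g * a⁻¹ : F.autGroup P) : MulAut P) := by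
    ext y
    simp [MulAut.congr, MulAut.mul_apply, normAutHom_val]
  rw [h4]
  exact h3

end Cfsg.Agent.Helper84
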