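import Mathlib
import Cfsg.Prelude.Def_FusionSystem
import Cfsg.Agent.Lib.Helper84.FusAlp
import Cfsg.Agent.S5104

set_option autoImplicit false

namespace Cfsg.Agent.Helper84

open Cfsg Cfsg.FusionSystem

variable {Ω : Type*} [Group Ω] {S : Subgroup Ω}

theorem outS_ne_bot (F : FusionSystem S) [Finite S] {p : ℕ} [Fact p.Prime] (hS : IsPGroup p S)
    {P : Subgroup Ω} (hP : P < S) (hC : centralizerIn S P ≤ P) :
    (autSHat F P).map (outMk F P) ≠ ⊥ := by
  intro h
  obtain ⟨g, hgS, hgN, hgP⟩ := exists_mem_normalizer_not_mem hS hP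
  have hg : g ∈ normalizerIn S P := Subgroup.mem_inf.mpr ⟨hgS, hgN⟩
  have h1 : outMk F P (normAutHom F hP.le ⟨g, hg⟩) ∈ (autSHat F P).map (outMk F P) :=
    ⟨_, normAutHom_mem_autSHat F hP.le ⟨g, hg⟩, rfl⟩
  rw [h, Subgroup.mem_bot, ← MonoidHom.mem_ker, QuotientGroup.ker_mk'] at h1
  exact hgP ((normAutHom_mem_inn_iff F hP.le hC ⟨g, hg⟩).mp h1)

theorem extHat_map_ne_top (F : FusionSystem S) [Finite S] {p : ℕ} [Fact p.Prime] (hS : IsPGroup p S)
    {P : Subgroup Ω} (hP : P < S) (hC : centralizerIn S P ≤ P) (hFA : F.IsFullyAutomized p P)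
    {E : Subgroup (F.autGroup P ⧸ (Inn P).subgroupOf (F.autGroup P))}
    (hE : IsStronglyPEmbedded p E) : (extHat F P).map (outMk F P) ≠ ⊤ := by
  have hfinP : Finite P := finite_of_le hP.le
  obtain ⟨M, hMtop, hM⟩ := stronglyPEmbedded_control (outS_sylow F hFA) hE
  intro htop
  apply hMtop
  rw [← top_le_iff, ← htop]
  rintro _ ⟨a, ha, rfl⟩
  -- reduce to generators
  have hle : Subgroup.closure (extSet F P) ≤ (M.comap (outMk F P)).map (F.autGroup P).subtype := by
    apply (Subgroup.closure_le _).mpr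
    intro α hα
    have hαA : α ∈ F.autGroup P := extSet_subset_autGroup F P hα
    refine ⟨⟨α, hαA⟩, ?_, rfl⟩
    show outMk F P ⟨α, hαA⟩ ∈ M
    obtain ⟨R, hPR, φ, hφ, hag⟩ := hα
    have hRS : R ≤ S := (F.le_of_mem hφ).1
    have hfinR : Finite R := finite_of_le hRS
    obtain ⟨g₀, hg₀R, hg₀N, hg₀P⟩ := exists_mem_normalizer_not_mem (hS.to_le hRS) hPR
    set N' : Subgroup Ω := R ⊓ Subgroup.normalizer (P : Set Ω) with hN'
    have hN'S : N' ≤ normalizerIn S P := inf_le_inf_right _ hRS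
    have hPN' : P ≤ N' := le_inf hPR.le Subgroup.le_normalizer
    -- φ maps N' into N_S(P)
    have hφN' := restrict_mem F hφ (inf_le_left : N' ≤ R)
    have hmapP : (P.subgroupOf N').map (φ.comp (Subgroup.inclusion (inf_le_left : N' ≤ R))) = P := by
      ext y
      constructor
      · rintro ⟨x, hx, rfl⟩
        have := hag ⟨x, hx⟩
        simp only [MonoidHom.comp_apply]
        have e : φ (Subgroup.inclusion inf_le_left x) = φ (Subgroup.inclusion hPR.le ⟨x, hx⟩) := rfl
        rw [e, this]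
        exact (α ⟨x, hx⟩).2
      · intro hy
        refine ⟨⟨α⁻¹ ⟨y, hy⟩, hPN' (α⁻¹ ⟨y, hy⟩).2⟩, (α⁻¹ ⟨y, hy⟩).2, ?_⟩
        have := hag (α⁻¹ ⟨y, hy⟩)
        simp only [MonoidHom.comp_apply]
        refine Eq.trans this ?_
        simp
    have hφval : ∀ g : N', φ (Subgroup.inclusion inf_le_left g) ∈ normalizerIn S P :=
      fun g => map_mem_normalizerIn F hφN' hN'S hmapP g
    set Ub := (((N'.subgroupOf (normalizerIn S P)).map (normAutHom F hP.le)).map (outMk F P)) with hUb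
    have hUb_le : Ub ≤ (autSHat F P).map (outMk F P) := by
      apply Subgroup.map_mono
      rintro _ ⟨g, -, rfl⟩
      exact normAutHom_mem_autSHat F hP.le g
    have hUb_ne : Ub ≠ ⊥ := by
      intro h
      have hg₀ : g₀ ∈ normalizerIn S P := hN'S (Subgroup.mem_inf.mpr ⟨hg₀R, hg₀N⟩)
      have h1 : outMk F P (normAutHom F hP.le ⟨g₀, hg₀⟩) ∈ Ub :=
        ⟨_, ⟨⟨g₀, hg₀⟩, Subgroup.mem_inf.mpr ⟨hg₀R, hg₀N⟩, rfl⟩, rfl⟩
      rw [h, Subgroup.mem_bot, ← MonoidHom.mem_ker, QuotientGroup.ker_mk'] at h1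
      exact hg₀P ((normAutHom_mem_inn_iff F hP.le hC ⟨g₀, hg₀⟩).mp h1)
    apply hM Ub hUb_le hUb_ne
    rintro _ ⟨_, ⟨_, ⟨g, hg, rfl⟩, rfl⟩, rfl⟩
    have hgN' : (g : Ω) ∈ N' := hg
    set gN' : N' := ⟨(g : Ω), hgN'⟩ with hgN'def
    set gR : R := Subgroup.inclusion (inf_le_left : N' ≤ R) gN' with hgRdef
    simp only [MulEquiv.coe_toMonoidHom, MulAut.conj_apply]
    rw [← map_inv, ← map_mul, ← map_mul]
    refine ⟨normAutHom F hP.le ⟨φ gR, hφval gN'⟩,
      normAutHom_mem_autSHat F hP.le _, ?_⟩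
    congr 1
    apply Subtype.ext
    ext y
    simp only [normAutHom_val, normAut_apply, Subgroup.coe_mul, MulAut.mul_apply, InvMemClass.coe_inv]
    -- α (g (α⁻¹ y) g⁻¹) = φ g * y * (φ g)⁻¹
    have hz : (g : Ω) * ((α⁻¹ y : P) : Ω) * (g : Ω)⁻¹ ∈ P :=
      (Subgroup.mem_normalizer_iff.mp hgN'.2 _).mp (α⁻¹ y).2
    have h1 := hag ⟨_, hz⟩
    have h2 := hag (α⁻¹ y)
    rw [MulAut.apply_inv_self] at h2
    have h3 : (Subgroup.inclusion hPR.le ⟨(g : Ω) * ((α⁻¹ y : P) : Ω) * (g : Ω)⁻¹, hz⟩ : R) =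
        gR * Subgroup.inclusion hPR.le (α⁻¹ y) * gR⁻¹ := Subtype.ext rfl
    rw [h3, map_mul, map_mul, map_inv, h2] at h1
    rw [h1]
    rfl
  obtain ⟨a', ha', haa'⟩ := hle (Subgroup.mem_subgroupOf.mp ha)
  have : a' = a := Subtype.ext haa'
  exact this ▸ ha'


theorem centric_of_fullyCentralized (F : FusionSystem S) [Finite S] {p : ℕ} [Fact p.Prime]
    (hS : IsPGroup p S) (hF : F.IsSaturated p) {U : Subgroup Ω} (hU : F.IsFullyCentralized U)
    (hC : centralizerIn S U ≤ U) : F.IsCentric U :=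
  Cfsg.Agent.S5104.result p hS F hF U hU hC

theorem inn_le_extHat (F : FusionSystem S) [Finite S] {p : ℕ} [Fact p.Prime] (hS : IsPGroup p S)
    {P : Subgroup Ω} (hP : P < S) : (Inn P).subgroupOf (F.autGroup P) ≤ extHat F P := by
  intro a ha
  have h1 := inn_le_autSHat F hP.le ha
  rw [Subgroup.mem_subgroupOf] at h1 ⊢
  exact Subgroup.subset_closure (autInducedBy_subset_extSet F hS hP h1)

/-- AKO Proposition I.3.3. -/
theorem alperin_dichotomy (F : FusionSystem S) [Finite S] {p : ℕ} [Fact p.Prime] (hS : IsPGroup p S)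
    (hF : F.IsSaturated p) {P : Subgroup Ω} (hPS : P < S) (hPn : F.IsFullyNormalized P) :
    (¬ F.IsEssential p P ∧ Subgroup.closure (extSet F P) = F.autGroup P) ∨
    (F.IsEssential p P ∧ ∃ _ : ((Inn P).subgroupOf (F.autGroup P)).Normal,
      IsStronglyPEmbedded p ((extHat F P).map (outMk F P))) := by
  obtain ⟨hFA, hRec⟩ := saturated_fn F hS hF hPn
  have hFC := receptive_fullyCentralized F hRec
  have hfinP : Finite P := finite_of_le hPS.le
  by_cases hcen : F.IsCentric P
  · have hC : centralizerIn S P ≤ P := hcen.2 P (conj_refl F hPS.le)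
    have hsylT := outS_sylow F hFA
    have hTne := outS_ne_bot F hS hPS hC
    have hnorm : ∀ Q ≤ (autSHat F P).map (outMk F P), Q ≠ ⊥ →
        Subgroup.normalizer (Q : Set _) ≤ (extHat F P).map (outMk F P) :=
      fun Q hQ hQne => normalizer_le_extHat_map F hPS.le hRec Q hQ hQne
    by_cases hess : F.IsEssential p P
    · right
      refine ⟨hess, inferInstance, ?_⟩
      obtain ⟨-, -, hn, E, hE⟩ := hess
      have hne := extHat_map_ne_top F hS hPS hC hFA hE
      exact stronglyPEmbedded_of_normalizers hsylT hTne hne hnorm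
    · left
      refine ⟨hess, ?_⟩
      by_contra hne
      apply hess
      refine ⟨hcen, hPn, inferInstance, (extHat F P).map (outMk F P), ?_⟩
      refine stronglyPEmbedded_of_normalizers hsylT hTne ?_ hnorm
      intro htop
      apply hne
      apply le_antisymm (closure_extSet_le_autGroup F P)
      intro α hα
      have h1 : outMk F P ⟨α, hα⟩ ∈ (extHat F P).map (outMk F P) := htop ▸ Subgroup.mem_top _
      obtain ⟨b, hb, hbeq⟩ := h1
      have h2 : b⁻¹ * ⟨α, hα⟩ ∈ (Inn P).subgroupOf (F.autGroup P) := by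
        rw [← QuotientGroup.ker_mk' ((Inn P).subgroupOf (F.autGroup P)), MonoidHom.mem_ker, map_mul,
          map_inv]
        have hbeq' : (QuotientGroup.mk' ((Inn P).subgroupOf (F.autGroup P))) b =
          (QuotientGroup.mk' ((Inn P).subgroupOf (F.autGroup P))) ⟨α, hα⟩ := hbeq
        rw [hbeq']
        exact inv_mul_cancel _
      have h3 := (extHat F P).mul_mem hb (inn_le_extHat F hS hPS h2)
      rw [mul_inv_cancel_left] at h3
      exact Subgroup.mem_subgroupOf.mp h3
  · left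
    refine ⟨fun hess => hcen hess.1, ?_⟩
    apply le_antisymm (closure_extSet_le_autGroup F P)
    intro α hα
    apply Subgroup.subset_closure
    have hnC : ¬ centralizerIn S P ≤ P := fun hC => hcen (centric_of_fullyCentralized F hS hF hFC hC)
    have hlt : P < P ⊔ centralizerIn S P := by
      refine lt_of_le_not_ge le_sup_left ?_
      intro h
      exact hnC (le_sup_right.trans h)
    refine mem_extSet_of_receptive F hRec hα hlt ?_
    exact sup_le (le_extender F ((mem_autGroup_iff F hPS.le α).mp hα)) (centralizerIn_le_extender P _)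

end Cfsg.Agent.Helper84
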