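import Mathlib
import Cfsg.Prelude.Def_FusionSystem
import Cfsg.Agent.Lib.Helper84.FusAlp2

set_option autoImplicit false

namespace Cfsg.Agent.Helper84

open Cfsg Cfsg.FusionSystem

variable {Ω : Type*} [Group Ω] {S : Subgroup Ω}

theorem card_lt_of_lt {H K : Subgroup Ω} [Finite K] (h : H < K) : Nat.card H < Nat.card K := by
  apply lt_of_le_of_ne (Subgroup.card_le_of_le h.le)
  intro heq
  exact absurd (Subgroup.eq_of_le_of_card_ge h.le heq.ge) (ne_of_lt h)

theorem card_eq_of_iso {P Q : Subgroup Ω} (e : P ≃* Q) : Nat.card P = Nat.card Q :=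
  Nat.card_congr e.toEquiv

/-- Alperin–Goldschmidt fusion theorem. -/
theorem alperin (F : FusionSystem S) [Finite S] {p : ℕ} [Fact p.Prime] (hS : IsPGroup p S)
    (hF : F.IsSaturated p) (E : FusionSystem S)
    (hE : ∀ P : Subgroup Ω, (P = S ∨ F.IsEssential p P) → F.autGroup P ≤ E.autGroup P) :
    ∀ P : Subgroup Ω, F.Hom P ⊆ E.Hom P := by
  suffices H : ∀ n : ℕ, ∀ P : Subgroup Ω, P ≤ S → Nat.card S - Nat.card P = n →
      F.Hom P ⊆ E.Hom P from fun P φ hφ => H _ P (F.le_of_mem hφ).1 rfl hφ
  intro n
  induction n using Nat.strong_induction_on with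
  | _ n ih =>
    intro P hPS hn φ hφ
    have IH : ∀ P' : Subgroup Ω, P' ≤ S → Nat.card P < Nat.card P' → F.Hom P' ⊆ E.Hom P' := by
      intro P' hP'S hlt
      refine ih (Nat.card S - Nat.card P') ?_ P' hP'S rfl
      have : Nat.card P' ≤ Nat.card S := Subgroup.card_le_of_le hP'S
      omega
    rcases eq_or_lt_of_le hPS with hPeq | hPlt
    · -- P = S
      subst hPeq
      have hrange : φ.range = P := by
        have hle : φ.range ≤ P := by
          rintro _ ⟨x, rfl⟩
          exact (F.le_of_mem hφ).2 x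
        apply Subgroup.eq_of_le_of_card_ge hle
        rw [card_range_of_injective φ (F.injective_of_mem hφ)]
      obtain ⟨e, he, hex⟩ := exists_iso_of_hom F hφ hrange
      have h1 : e ∈ F.autGroup P := (mem_autGroup_iff_isoSet F le_rfl e).mpr he
      have h2 := hE P (Or.inl rfl) h1
      have h3 := (mem_autGroup_iff_isoSet E le_rfl e).mp h2
      refine hom_congr E rfl ?_ h3
      intro x hx hx'
      exact hex ⟨x, hx⟩
    · -- P < S
      obtain ⟨eφ, heφ, heφx⟩ := exists_iso_of_hom F hφ rfl
      obtain ⟨R, hPR, hFA, hRec⟩ := hF P hPS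
      have hQR : F.IsConj φ.range R := conj_trans F (conj_symm F ⟨φ, hφ, rfl⟩) hPR
      have hQS : φ.range ≤ S := (conj_le F hQR).1
      obtain ⟨ψ₁, hψ₁, -, hmap₁⟩ := exists_normalizer_hom F hS hFA hRec hPR
      obtain ⟨ψ₂, hψ₂, -, hmap₂⟩ := exists_normalizer_hom F hS hFA hRec hQR
      have hcardQ : Nat.card φ.range = Nat.card P := (card_eq_of_iso eφ).symm
      have hQlt : φ.range < S := by
        refine lt_of_le_of_ne hQS ?_
        intro h
        have := card_lt_of_lt hPlt
        rw [← h, hcardQ] at this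
        exact lt_irrefl _ this
      have hfinNP : Finite (normalizerIn S P) := finite_of_le inf_le_left
      have hfinNQ : Finite (normalizerIn S φ.range) := finite_of_le inf_le_left
      have hc1 : Nat.card P < Nat.card (normalizerIn S P) := card_lt_of_lt (lt_normalizerIn hS hPlt)
      have hc2 : Nat.card P < Nat.card (normalizerIn S φ.range) := by
        rw [← hcardQ]
        exact card_lt_of_lt (lt_normalizerIn hS hQlt)
      have hψ₁E := IH _ inf_le_left hc1 hψ₁
      have hψ₂E := IH _ inf_le_left hc2 hψ₂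
      have hPN : P ≤ normalizerIn S P := le_inf hPS Subgroup.le_normalizer
      have hQN : φ.range ≤ normalizerIn S φ.range := le_inf hQS Subgroup.le_normalizer
      obtain ⟨e₁, he₁, he₁x⟩ := exists_iso_restrict' F hψ₁ hPN hmap₁
      obtain ⟨e₂, he₂, he₂x⟩ := exists_iso_restrict' F hψ₂ hQN hmap₂
      have he₁E : e₁ ∈ isoSet E P R := isoSet_of_hom_eq E e₁ (restrict_mem E hψ₁E hPN) he₁x
      have he₂E : e₂ ∈ isoSet E φ.range R := isoSet_of_hom_eq E e₂ (restrict_mem E hψ₂E hQN) he₂x
      -- the automorphism of R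
      set α : R ≃* R := e₁.symm.trans (eφ.trans e₂) with hα
      have hαF : α ∈ isoSet F R R := isoSet_trans F (isoSet_symm F he₁) (isoSet_trans F heφ he₂)
      have hRS : R ≤ S := hFA.1
      have hcardR : Nat.card R = Nat.card P := (card_eq_of_iso e₁).symm
      have hRlt : R < S := by
        refine lt_of_le_of_ne hRS ?_
        intro h
        have := card_lt_of_lt hPlt
        rw [← h, hcardR] at this
        exact lt_irrefl _ this
      have hRn := fullyNormalized_of_automized_receptive F hS hFA hRec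
      have hAut : F.autGroup R ≤ E.autGroup R := by
        rcases alperin_dichotomy F hS hF hRlt hRn with ⟨-, hcl⟩ | ⟨hess, -⟩
        · rw [← hcl]
          apply (Subgroup.closure_le _).mpr
          rintro β ⟨R', hlt, φ', hφ', hag⟩
          have hR'S : R' ≤ S := (F.le_of_mem hφ').1
          have hfinR' : Finite R' := finite_of_le hR'S
          have hc : Nat.card P < Nat.card R' := by
            rw [← hcardR]
            exact card_lt_of_lt hlt
          have hφ'E := IH R' hR'S hc hφ'
          apply Subgroup.subset_closure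
          show R.subtype.comp β.toMonoidHom ∈ E.Hom R
          refine hom_congr E rfl ?_ (restrict_mem E hφ'E hlt.le)
          intro x hx hx'
          exact hag ⟨x, hx⟩
        · exact hE R (Or.inr hess)
      have hαE : α ∈ isoSet E R R :=
        (mem_autGroup_iff_isoSet E hRS α).mp (hAut ((mem_autGroup_iff_isoSet F hRS α).mpr hαF))
      have hcomp : e₁.trans (α.trans e₂.symm) ∈ isoSet E P φ.range :=
        isoSet_trans E he₁E (isoSet_trans E hαE (isoSet_symm E he₂E))
      refine hom_congr E rfl ?_ hcomp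
      intro x hx hx'
      simp only [MonoidHom.comp_apply, Subgroup.coe_subtype, MulEquiv.coe_toMonoidHom, hα,
        MulEquiv.trans_apply, MulEquiv.symm_apply_apply]
      exact heφx ⟨x, hx⟩


theorem fusionSystem_ext {F E : FusionSystem S} (h : ∀ P : Subgroup Ω, F.Hom P = E.Hom P) : F = E := by
  cases F
  cases E
  congr
  funext P
  exact h P

theorem conj_top_eq (F : FusionSystem S) [Finite S] {R : Subgroup Ω} (h : F.IsConj S R) : R = S := by
  obtain ⟨e, he⟩ := (isConj_iff_exists_iso F).mp h
  apply Subgroup.eq_of_le_of_card_ge (isoSet_le F he).2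
  rw [card_eq_of_iso e]

theorem top_fullyAutomized (F : FusionSystem S) [Finite S] {p : ℕ} (hF : F.IsSaturated p) :
    F.IsFullyAutomized p S := by
  obtain ⟨R, hR, hFA, -⟩ := hF S le_rfl
  rwa [conj_top_eq F hR] at hFA

theorem top_receptive (F : FusionSystem S) [Finite S] {p : ℕ} (hF : F.IsSaturated p) :
    F.IsReceptive S := by
  obtain ⟨R, hR, -, hRec⟩ := hF S le_rfl
  rwa [conj_top_eq F hR] at hRec

theorem IsSylIn.le_of_isPGroup {G : Type*} [Group G] {p : ℕ} [Fact p.Prime] {T K : Subgroup G}
    [Finite K] (h : IsSylIn p T K) (hK : IsPGroup p K) : K ≤ T := by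
  have := h.card_le le_rfl hK
  have hfinT : Finite T := Finite.of_injective (Subgroup.inclusion h.1) (Subgroup.inclusion_injective _)
  exact (Subgroup.eq_of_le_of_card_ge h.1 this).ge

theorem not_essential_of_isPGroup (F : FusionSystem S) {p : ℕ} [Fact p.Prime] {P : Subgroup Ω}
    (h : IsPGroup p (F.autGroup P)) : ¬ F.IsEssential p P := by
  rintro ⟨-, -, hn, E, hE⟩
  have hX : IsPGroup p (F.autGroup P ⧸ (Inn P).subgroupOf (F.autGroup P)) := h.to_quotient _
  have htop : IsPGroup p (⊤ : Subgroup (F.autGroup P ⧸ (Inn P).subgroupOf (F.autGroup P))) :=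
    hX.to_subgroup _
  have h1 := normal_pSubgroup_eq_bot_of_stronglyPEmbedded hE ⊤ htop
  obtain ⟨hdvd, -, -⟩ := hE
  have h2 : Nat.card (F.autGroup P ⧸ (Inn P).subgroupOf (F.autGroup P)) = 1 := by
    rw [← Subgroup.card_top, h1, Subgroup.card_bot]
  rw [h2] at hdvd
  exact (Fact.out : p.Prime).one_lt.ne' (Nat.dvd_one.mp hdvd)

/-- A saturated system all of whose automorphism groups are `p`-groups is the inner system. -/
theorem eq_inner_of_isPGroup (F : FusionSystem S) [Finite S] {p : ℕ} [Fact p.Prime]
    (hS : IsPGroup p S) (hF : F.IsSaturated p)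
    (h : ∀ P : Subgroup Ω, P ≤ S → IsPGroup p (F.autGroup P)) : F = innerFusionSystem S := by
  apply fusionSystem_ext
  intro P
  apply Set.Subset.antisymm
  · apply alperin F hS hF (innerFusionSystem S)
    rintro Q (rfl | hess)
    · obtain ⟨-, hsyl⟩ := (fullyAutomized_iff F Q).mp (top_fullyAutomized F hF)
      have hfin : Finite Q := inferInstance
      exact (hsyl.le_of_isPGroup (h Q le_rfl)).trans (autInducedBy_le_autGroup _ le_rfl)
    · exact absurd hess (not_essential_of_isPGroup F (h Q hess.1.1))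
  · rintro φ ⟨hPS, g, hg, hφ⟩
    refine hom_congr F rfl ?_ (F.conj_mem hPS hg : conjHom P g ∈ F.Hom P)
    intro x hx hx'
    exact (hφ ⟨x, hx⟩).symm

end Cfsg.Agent.Helper84
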