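import Mathlib
import Cfsg.Prelude.Def_FusionSystem
import Cfsg.Agent.Lib.Helper84.FusAlp3
import Cfsg.Agent.S5096
import Cfsg.Agent.S5080

set_option autoImplicit false

namespace Cfsg.Agent.Helper84

open Cfsg Cfsg.FusionSystem

variable {Ω : Type*} [Group Ω] {S : Subgroup Ω}

theorem fusionSystem_transport {T T' : Subgroup Ω} (h : T = T') (E : FusionSystem T) :
    ∃ E' : FusionSystem T', ∀ P : Subgroup Ω, E'.Hom P = E.Hom P := by
  subst h
  exact ⟨E, fun _ => rfl⟩

/-- The normalizer system of a subgroup normal in `S`, as a system over `S`. -/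
theorem exists_normalizerSystem_top (F : FusionSystem S) {Q : Subgroup Ω} (hQ : Q ≤ S)
    (hn : S ≤ Subgroup.normalizer (Q : Set Ω)) :
    ∃ E : FusionSystem S, ∀ P : Subgroup Ω, E.Hom P = F.normalizerHom Q P := by
  obtain ⟨E, hE⟩ := Cfsg.Agent.S5096.result F Q hQ
  have h : normalizerIn S Q = S := inf_eq_left.mpr hn
  obtain ⟨E', hE'⟩ := fusionSystem_transport h E
  exact ⟨E', fun P => (hE' P).trans (hE P)⟩

theorem essential_radical (F : FusionSystem S) [Finite S] {p : ℕ} [Fact p.Prime] (hS : IsPGroup p S)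
    (hF : F.IsSaturated p) {P : Subgroup Ω} (hP : F.IsEssential p P) : F.IsRadical p P :=
  Cfsg.Agent.S5080.result p hS F hF P hP

/-- Conjugating `c_g` by an automorphism that extends to `φ`. -/
theorem conj_aut_of_extension {P R : Subgroup Ω} (hPR : P ≤ R) (α β : MulAut P) (φ : R →* Ω)
    (hag : ∀ x : P, φ (Subgroup.inclusion hPR x) = α x) (g : R)
    (hβ : ∀ x : P, ((β x : P) : Ω) = g * x * (g : Ω)⁻¹) (y : P) :
    (((α * β * α⁻¹) y : P) : Ω) = φ g * y * (φ g)⁻¹ := by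
  simp only [MulAut.mul_apply]
  have h1 := hag (β (α⁻¹ y))
  have h2 := hag (α⁻¹ y)
  rw [MulAut.apply_inv_self] at h2
  have h3 : Subgroup.inclusion hPR (β (α⁻¹ y)) = g * Subgroup.inclusion hPR (α⁻¹ y) * g⁻¹ :=
    Subtype.ext (hβ (α⁻¹ y))
  rw [h3, map_mul, map_mul, map_inv, h2] at h1
  exact h1.symm

/-- If `Q` is normal in the system it is strongly closed. -/
theorem stronglyClosed_of_normal (F : FusionSystem S) {Q : Subgroup Ω} (hQ : F.IsNormal Q) :
    F.StronglyClosed Q := by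
  refine ⟨hQ.1, ?_⟩
  intro R hRQ φ hφ x
  obtain ⟨ψ, hψ, hext, hmap⟩ := hQ.2 R φ hφ
  rw [← hext]
  rw [map_subgroupOf_sup_right_eq] at hmap
  have := hmap.1 ⟨x, hRQ x.2⟩
  exact this

/-- A strongly closed subgroup is normalized by `S`. -/
theorem stronglyClosed_normal (F : FusionSystem S) {Q : Subgroup Ω} (hQ : F.StronglyClosed Q) :
    S ≤ Subgroup.normalizer (Q : Set Ω) := by
  have key : ∀ g ∈ S, ∀ y ∈ Q, g * y * g⁻¹ ∈ Q := by
    intro g hg y hy
    have := hQ.2 Q le_rfl (conjHom Q g) (F.conj_mem hQ.1 hg) ⟨y, hy⟩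
    exact this
  intro g hg
  rw [Subgroup.mem_normalizer_iff]
  intro y
  constructor
  · exact key g hg y
  · intro hy
    have := key g⁻¹ (S.inv_mem hg) _ hy
    simpa [mul_assoc] using this

/-- An automorphism in the system of `P ≥ Q` with `Q` strongly closed maps `Q` onto `Q`. -/
theorem aut_map_eq_of_stronglyClosed (F : FusionSystem S) {Q P : Subgroup Ω}
    (hQ : F.StronglyClosed Q) (hPS : P ≤ S) (hQP : Q ≤ P) {α : MulAut P} (hα : α ∈ F.autGroup P) :
    (Q.subgroupOf P).map α.toMonoidHom = Q.subgroupOf P := by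
  have key : ∀ β ∈ F.autGroup P, ∀ x : P, (x : Ω) ∈ Q → ((β x : P) : Ω) ∈ Q := by
    intro β hβ x hx
    have h1 := (mem_autGroup_iff F hPS β).mp hβ
    have h2 := restrict_mem F h1 hQP
    exact hQ.2 Q le_rfl _ h2 ⟨x, hx⟩
  ext y
  constructor
  · rintro ⟨x, hx, rfl⟩
    exact key α hα x hx
  · intro hy
    refine ⟨α⁻¹ y, key α⁻¹ ((F.autGroup P).inv_mem hα) y hy, ?_⟩
    simp


/-- A subgroup normal in the system lies in every centric radical subgroup. -/
theorem le_of_normal_centric_radical (F : FusionSystem S) [Finite S] {p : ℕ} [Fact p.Prime]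
    (hS : IsPGroup p S) {Q P : Subgroup Ω} (hQ : F.IsNormal Q) (hcen : F.IsCentric P)
    (hrad : F.IsRadical p P) : Q ≤ P := by
  have hPS : P ≤ S := hcen.1
  have hQS : Q ≤ S := hQ.1
  have hC : centralizerIn S P ≤ P := hcen.2 P (conj_refl F hPS)
  set P₀ : Subgroup Ω := (P ⊔ Q) ⊓ Subgroup.normalizer (P : Set Ω) with hP₀
  have hP₀S : P₀ ≤ S := inf_le_left.trans (sup_le hPS hQS)
  have hP₀N : P₀ ≤ normalizerIn S P := le_inf hP₀S inf_le_right
  have hKle : autInducedBy P₀ P ≤ F.autGroup P :=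
    (autInducedBy_mono hP₀S P).trans (autInducedBy_le_autGroup F hPS)
  have hKn : ((autInducedBy P₀ P).subgroupOf (F.autGroup P)).Normal := by
    constructor
    intro k hk a
    rw [Subgroup.mem_subgroupOf] at hk ⊢
    obtain ⟨g, hg, hkg⟩ := (mem_autInducedBy_iff _ _ _).mp hk
    have ha := (mem_autGroup_iff F hPS a).mp a.2
    obtain ⟨ψ, hψ, hext, hmap⟩ := hQ.2 P _ ha
    rw [map_subgroupOf_sup_right_eq] at hmap
    have hgPQ : g ∈ P ⊔ Q := hg.1
    have hconj := conj_aut_of_extension (le_sup_left : P ≤ P ⊔ Q) (a : MulAut P) (k : MulAut P) ψ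
      (fun x => hext x) ⟨g, hgPQ⟩ hkg
    have hval : ψ ⟨g, hgPQ⟩ ∈ P ⊔ Q :=
      sup_map_mem ψ (fun x => by rw [hext]; exact ((a : MulAut P) x).2) hmap.1 ⟨g, hgPQ⟩
    rw [mem_autInducedBy_iff]
    refine ⟨ψ ⟨g, hgPQ⟩, Subgroup.mem_inf.mpr ⟨hval, ?_⟩, ?_⟩
    · exact mem_normalizer_of_autInduced (α := (a : MulAut P) * (k : MulAut P) * (a : MulAut P)⁻¹) hconj
    · intro y
      exact hconj y
  have hKp : IsPGroup p ((autInducedBy P₀ P).subgroupOf (F.autGroup P)) :=
    isPGroup_subgroupOf _ (isPGroup_autInducedBy (hS.to_le hP₀S) P)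
  have hKcore : (autInducedBy P₀ P).subgroupOf (F.autGroup P) ≤ pCore p (F.autGroup P) :=
    le_sSup ⟨hKn, hKp⟩
  have hKinn : autInducedBy P₀ P ≤ Inn P := by
    rw [← hrad.2, ← Subgroup.map_subgroupOf_eq_of_le hKle]
    exact Subgroup.map_mono hKcore
  have hP₀P : P₀ ≤ P := by
    intro g hg
    have h1 : normAut S P ⟨g, hP₀N hg⟩ ∈ autInducedBy P₀ P := by
      rw [mem_autInducedBy_iff]
      exact ⟨g, hg, fun x => rfl⟩
    have h2 := hKinn h1
    exact (normAutHom_mem_inn_iff F hPS hC ⟨g, hP₀N hg⟩).mp (Subgroup.mem_subgroupOf.mpr h2)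
  have hPQS : P ⊔ Q ≤ S := sup_le hPS hQS
  have hfin : Finite ↥(P ⊔ Q) := finite_of_le hPQS
  by_contra hQP
  have hlt : P < P ⊔ Q := lt_of_le_not_ge le_sup_left (fun h => hQP (le_sup_right.trans h))
  obtain ⟨t, ht1, ht2, ht3⟩ := exists_mem_normalizer_not_mem (hS.to_le hPQS) hlt
  exact ht3 (hP₀P (Subgroup.mem_inf.mpr ⟨ht1, ht2⟩))

/-- Criterion for normality via Alperin's theorem. -/
theorem normal_of_alperin_invariant (F : FusionSystem S) [Finite S] {p : ℕ} [Fact p.Prime]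
    (hS : IsPGroup p S) (hF : F.IsSaturated p) {Q : Subgroup Ω}
    (h : ∀ P : Subgroup Ω, (P = S ∨ F.IsEssential p P) → (Q ≤ P ∧ ∀ α ∈ F.autGroup P,
      (Q.subgroupOf P).map α.toMonoidHom = Q.subgroupOf P)) : F.IsNormal Q := by
  obtain ⟨hQS, hS'⟩ := h S (Or.inl rfl)
  have key : ∀ g ∈ S, ∀ y ∈ Q, g * y * g⁻¹ ∈ Q := by
    intro g hg y hy
    have h1 := hS' (MulAut.conj ⟨g, hg⟩) (inn_le_autGroup F le_rfl ⟨_, rfl⟩)
    have h2 : (MulAut.conj (⟨g, hg⟩ : S)).toMonoidHom ⟨y, hQS hy⟩ ∈ Q.subgroupOf S := by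
      rw [← h1]
      exact ⟨⟨y, hQS hy⟩, hy, rfl⟩
    exact h2
  have hn : S ≤ Subgroup.normalizer (Q : Set Ω) := by
    intro g hg
    rw [Subgroup.mem_normalizer_iff]
    intro y
    constructor
    · exact key g hg y
    · intro hy
      have := key g⁻¹ (S.inv_mem hg) _ hy
      simpa [mul_assoc] using this
  obtain ⟨E, hE⟩ := exists_normalizerSystem_top F hQS hn
  have hle : ∀ P : Subgroup Ω, F.Hom P ⊆ E.Hom P := by
    apply alperin F hS hF E
    intro P hP α hα
    obtain ⟨hQP, hinv⟩ := h P hP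
    have hPS : P ≤ S := by
      rcases hP with rfl | hess
      · exact le_rfl
      · exact hess.1.1
    apply Subgroup.subset_closure
    show P.subtype.comp α.toMonoidHom ∈ E.Hom P
    rw [hE]
    have hα' := (mem_autGroup_iff F hPS α).mp hα
    have hPN : P ≤ normalizerIn S Q := le_inf hPS (hPS.trans hn)
    have hle2 : P ⊔ Q ≤ P := sup_le le_rfl hQP
    refine ⟨hα', hPN, fun x => hPN (α x).2,
      (P.subtype.comp α.toMonoidHom).comp (Subgroup.inclusion hle2), restrict_mem F hα' hle2, ?_, ?_⟩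
    · intro x
      rfl
    · rw [map_subgroupOf_sup_right_eq]
      have hinvα := hinv α hα
      constructor
      · intro y
        have : α.toMonoidHom ⟨y, hQP y.2⟩ ∈ Q.subgroupOf P := by
          rw [← hinvα]
          exact ⟨⟨y, hQP y.2⟩, y.2, rfl⟩
        exact this
      · intro y' hy'
        have : (⟨y', hQP hy'⟩ : P) ∈ (Q.subgroupOf P).map α.toMonoidHom := by
          rw [hinvα]
          exact hy'
        obtain ⟨x, hx, hxy⟩ := this
        refine ⟨⟨x, hx⟩, ?_⟩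
        exact congrArg Subtype.val hxy
  refine ⟨hQS, ?_⟩
  intro P φ hφ
  have := hle P hφ
  rw [hE] at this
  exact this.2.2.2

end Cfsg.Agent.Helper84
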