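import Mathlib
import Cfsg.Prelude.Def_FusionSystem
import Cfsg.Agent.Lib.Helper84.FusSat2

/-!
# `K`-normalizers in saturated fusion systems (AKO I.5.2), for an abstract subgroup `K ≤ Aut(U)`
-/

set_option autoImplicit false

namespace Cfsg.Agent.Helper84

open Cfsg Cfsg.FusionSystem
open scoped Pointwise

variable {Ω : Type*} [Group Ω] {S : Subgroup Ω}

/-- Conjugation, as a homomorphism `N_S(U) → Aut(U)`. -/
noncomputable def normAutMHom (S U : Subgroup Ω) : normalizerIn S U →* MulAut U :=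
  U.normalizerMonoidHom.comp (Subgroup.inclusion inf_le_right)

theorem normAutMHom_apply (S U : Subgroup Ω) (g : normalizerIn S U) :
    normAutMHom S U g = normAut S U g := rfl

/-- `N_S^K(U)`: the elements of `N_S(U)` whose conjugation action on `U` lies in `K`. -/
noncomputable def normK (S U : Subgroup Ω) (K : Subgroup (MulAut U)) : Subgroup Ω :=
  (K.comap (normAutMHom S U)).map (normalizerIn S U).subtype

theorem mem_normK_iff {U : Subgroup Ω} {K : Subgroup (MulAut U)} {g : Ω} :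
    g ∈ normK S U K ↔ ∃ hg : g ∈ normalizerIn S U, normAut S U ⟨g, hg⟩ ∈ K := by
  constructor
  · rintro ⟨⟨g, hg⟩, h, rfl⟩
    exact ⟨hg, h⟩
  · rintro ⟨hg, h⟩
    exact ⟨⟨g, hg⟩, h, rfl⟩

theorem normK_le (S U : Subgroup Ω) (K : Subgroup (MulAut U)) : normK S U K ≤ normalizerIn S U := by
  intro g hg
  exact (mem_normK_iff.mp hg).1

theorem mem_autInducedBy_inf_iff {U : Subgroup Ω} {K : Subgroup (MulAut U)} {α : MulAut U} :
    α ∈ autInducedBy S U ⊓ K ↔
      ∃ (g : Ω) (hg : g ∈ normK S U K), α = normAut S U ⟨g, normK_le S U K hg⟩ := by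
  constructor
  · intro h
    obtain ⟨h1, h2⟩ := Subgroup.mem_inf.mp h
    rw [mem_autInducedBy_iff] at h1
    obtain ⟨g, hgS, hg⟩ := h1
    have hgN : g ∈ normalizerIn S U := Subgroup.mem_inf.mpr ⟨hgS, mem_normalizer_of_autInduced hg⟩
    have heq : α = normAut S U ⟨g, hgN⟩ := by
      ext x
      rw [hg x, normAut_apply]
    refine ⟨g, mem_normK_iff.mpr ⟨hgN, heq ▸ h2⟩, heq⟩
  · rintro ⟨g, hg, rfl⟩
    obtain ⟨hgN, h⟩ := mem_normK_iff.mp hg
    exact Subgroup.mem_inf.mpr ⟨normAut_mem S U _, h⟩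

/-- Some conjugate of a Sylow subgroup of `A` meets `H ≤ A` in a Sylow subgroup of `H`. -/
theorem exists_conj_inf_sylow {G : Type*} [Group G] {p : ℕ} [Fact p.Prime] {T A H : Subgroup G}
    [Finite A] (hT : IsSylIn p T A) (hH : H ≤ A) :
    ∃ a ∈ A, IsSylIn p (T.map (MulAut.conj a).toMonoidHom ⊓ H) H := by
  have hfinH : Finite H :=
    Finite.of_injective (Subgroup.inclusion hH) (Subgroup.inclusion_injective hH)
  obtain ⟨R, -, hR⟩ := exists_isSylIn_ge (p := p) (bot_le : (⊥ : Subgroup G) ≤ H) IsPGroup.of_bot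
  obtain ⟨a, ha, hle⟩ := hT.exists_conj_ge (hR.1.trans hH) hR.2.1
  refine ⟨a, ha, hR.of_card_ge inf_le_right ?_ ?_⟩
  · exact (hT.2.1.map _).to_inf_left
  · have : Finite (T.map (MulAut.conj a).toMonoidHom ⊓ H : Subgroup G) :=
      Finite.of_injective (Subgroup.inclusion (inf_le_right : _ ≤ H)) (Subgroup.inclusion_injective _)
    exact Subgroup.card_le_of_le (le_inf hle hR.1)

theorem map_conj_mul' {G : Type*} [Group G] (T : Subgroup G) (a t : G) (ht : t ∈ T) :
    T.map (MulAut.conj (a * t)).toMonoidHom = T.map (MulAut.conj a).toMonoidHom := by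
  have h1 : (MulAut.conj (a * t)).toMonoidHom =
      (MulAut.conj a).toMonoidHom.comp (MulAut.conj t).toMonoidHom := by
    ext x; simp [MulAut.conj_apply, mul_assoc]
  rw [h1, ← Subgroup.map_map, map_conj_eq_self_of_mem ht]

theorem map_conj_map_conj_inv' {G : Type*} [Group G] (T : Subgroup G) (a : G) :
    (T.map (MulAut.conj a).toMonoidHom).map (MulAut.conj a⁻¹).toMonoidHom = T := by
  rw [Subgroup.map_map]
  convert Subgroup.map_id T
  ext x
  simp [MulAut.conj_apply, mul_assoc]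

theorem congr_trans_eq {U V : Type*} [Group U] [Group V] (e : U ≃* V) (a : MulAut V)
    (α : MulAut U) :
    MulAut.congr (e.trans a) α = a * MulAut.congr e α * a⁻¹ := by
  ext y
  simp [MulAut.congr, MulAut.mul_apply]

theorem congr_symm_congr {U V : Type*} [Group U] [Group V] (e : U ≃* V) (α : MulAut U) :
    MulAut.congr e.symm (MulAut.congr e α) = α := by
  ext y
  simp [MulAut.congr]

theorem congr_congr_symm {U V : Type*} [Group U] [Group V] (e : U ≃* V) (β : MulAut V) :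
    MulAut.congr e (MulAut.congr e.symm β) = β := by
  ext y
  simp [MulAut.congr]

theorem congr_apply' {U V : Type*} [Group U] [Group V] (e : U ≃* V) (α : MulAut U) (x : U) :
    MulAut.congr e α (e x) = e (α x) := by
  simp [MulAut.congr]

/-- The extension lemma (AKO I.5.2(c), refined as in the proof of I.5.5). -/
theorem extend_of_good (F : FusionSystem S) [Finite S] {p : ℕ} [Fact p.Prime] (hS : IsPGroup p S)
    {U V : Subgroup Ω} {e : U ≃* V} (he : e ∈ isoSet F U V) (K' : Subgroup (MulAut V))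
    (hV : F.IsReceptive V)
    (hsyl : IsSylIn p (autInducedBy S V ⊓ K') (F.autGroup V ⊓ K'))
    (A₀ : Subgroup (MulAut V)) (hA₀ : A₀ ≤ F.autGroup V ⊓ K')
    (hnorm : autInducedBy S V ⊓ K' ≤ Subgroup.normalizer (A₀ : Set (MulAut V)))
    (M : Subgroup Ω) (hM : M ≤ normalizerIn S U)
    (hMA : ∀ g (hg : g ∈ M),
      MulAut.congr e (normAut S U ⟨g, hM hg⟩) ∈ A₀ ⊔ (autInducedBy S V ⊓ K')) :
    ∃ a ∈ A₀, ∃ ψ ∈ F.Hom (M ⊔ U),
      (∀ x : U, ψ (Subgroup.inclusion le_sup_right x) = ((a (e x) : V) : Ω)) ∧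
      (∀ g (hg : g ∈ M), ψ ⟨g, (le_sup_left : M ≤ M ⊔ U) hg⟩ ∈ normK S V K') := by
  obtain ⟨hUS, hVS⟩ := isoSet_le F he
  have hfinV : Finite V := finite_of_le hVS
  set T := autInducedBy S V ⊓ K' with hTdef
  set H := F.autGroup V ⊓ K' with hHdef
  have hDH : A₀ ⊔ T ≤ H := sup_le hA₀ hsyl.1
  have hsylD : IsSylIn p T (A₀ ⊔ T) := hsyl.of_le le_sup_right hDH
  -- the p-subgroup B
  set B : Subgroup (MulAut V) :=
    ((M.subgroupOf (normalizerIn S U)).map (normAutMHom S U)).map (MulAut.congr e).toMonoidHom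
    with hBdef
  have hBD : B ≤ A₀ ⊔ T := by
    rintro _ ⟨_, ⟨g, hg, rfl⟩, rfl⟩
    exact hMA g hg
  have hBp : IsPGroup p B :=
    ((isPGroup_subgroupOf _ (hS.to_le (hM.trans inf_le_left))).map _).map _
  obtain ⟨d, hd, hBd⟩ := hsylD.exists_conj_ge hBD hBp
  have hd' : d ∈ ((A₀ ⊔ T : Subgroup (MulAut V)) : Set (MulAut V)) := hd
  rw [Subgroup.coe_mul_of_right_le_normalizer_left A₀ T hnorm] at hd'
  obtain ⟨a₁, ha₁, t, ht, rfl⟩ := Set.mem_mul.mp hd'
  rw [map_conj_mul' T a₁ t ht] at hBd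
  have ha : a₁⁻¹ ∈ A₀ := A₀.inv_mem ha₁
  have haF : a₁⁻¹ ∈ isoSet F V V := (mem_autGroup_iff_isoSet F hVS _).mp (hA₀ ha).1
  set e' : U ≃* V := e.trans a₁⁻¹ with he'def
  have he' : e' ∈ isoSet F U V := isoSet_trans F he haF
  have hkey : ∀ g (hg : g ∈ M), MulAut.congr e' (normAut S U ⟨g, hM hg⟩) ∈ T := by
    intro g hg
    have h1 : MulAut.congr e (normAut S U ⟨g, hM hg⟩) ∈ B :=
      ⟨_, ⟨⟨g, hM hg⟩, hg, rfl⟩, rfl⟩
    obtain ⟨τ, hτ, hτeq⟩ := hBd h1
    rw [he'def, congr_trans_eq, ← hτeq]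
    have : a₁⁻¹ * (MulAut.conj a₁).toMonoidHom τ * a₁⁻¹⁻¹ = τ := by
      simp [MulAut.conj_apply]
      group
    rw [this]
    exact hτ
  have hle : M ⊔ U ≤ extender S U (V.subtype.comp e'.toMonoidHom) := by
    apply sup_le
    · intro g hg
      exact mem_extender_of_congr_mem e' ⟨g, hM hg⟩ (hkey g hg).1
    · exact le_extender F he'
  obtain ⟨ψ₀, hψ₀, hag⟩ := hV.2 U _ he' (range_subtype_comp_iso e')
  refine ⟨a₁⁻¹, ha, ψ₀.comp (Subgroup.inclusion hle), restrict_mem F hψ₀ hle, ?_, ?_⟩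
  · intro x
    have := hag x x.2 (hle ((le_sup_right : U ≤ M ⊔ U) x.2))
    simp only [MonoidHom.comp_apply]
    exact this
  · intro g hg
    have hψU : ∀ x : U, ψ₀ ⟨x, hle ((le_sup_right : U ≤ M ⊔ U) x.2)⟩ = ((e' x : V) : Ω) := by
      intro x
      exact hag x x.2 _
    set c := ψ₀ ⟨g, hle ((le_sup_left : M ≤ M ⊔ U) hg)⟩ with hcdef
    have hconj : ∀ y : V, ((MulAut.congr e' (normAut S U ⟨g, hM hg⟩) y : V) : Ω) = c * y * c⁻¹ := by
      intro y
      obtain ⟨x, rfl⟩ := e'.surjective y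
      rw [congr_apply', ← hψU, ← hψU, hcdef, ← map_inv, ← map_mul, ← map_mul]
      congr 1
    have hcN : c ∈ normalizerIn S V :=
      Subgroup.mem_inf.mpr ⟨(F.le_of_mem hψ₀).2 _, mem_normalizer_of_autInduced hconj⟩
    show c ∈ normK S V K'
    rw [mem_normK_iff]
    refine ⟨hcN, ?_⟩
    have : normAut S V ⟨c, hcN⟩ = MulAut.congr e' (normAut S U ⟨g, hM hg⟩) := by
      ext y
      rw [hconj y, normAut_apply]
    rw [this]
    exact (hkey g hg).2

theorem map_congr_trans {U V : Type*} [Group U] [Group V] (e : U ≃* V) (a : MulAut V)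
    (K : Subgroup (MulAut U)) :
    K.map (MulAut.congr (e.trans a)).toMonoidHom =
      (K.map (MulAut.congr e).toMonoidHom).map (MulAut.conj a).toMonoidHom := by
  rw [Subgroup.map_map]
  congr 1

/-- Existence of a conjugate that is receptive and has the Sylow property for the transported `K`. -/
theorem exists_good_target (F : FusionSystem S) [Finite S] {p : ℕ} [Fact p.Prime]
    (hF : F.IsSaturated p) {U : Subgroup Ω} (hU : U ≤ S) (K : Subgroup (MulAut U)) :
    ∃ (V : Subgroup Ω) (e : U ≃* V), e ∈ isoSet F U V ∧ F.IsReceptive V ∧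
      IsSylIn p (autInducedBy S V ⊓ K.map (MulAut.congr e).toMonoidHom)
        (F.autGroup V ⊓ K.map (MulAut.congr e).toMonoidHom) := by
  obtain ⟨V, hUV, hFA, hRec⟩ := hF U hU
  obtain ⟨e₀, he₀⟩ := (isConj_iff_exists_iso F).mp hUV
  obtain ⟨hVS, hsyl⟩ := (fullyAutomized_iff F V).mp hFA
  have hfinV : Finite V := finite_of_le hVS
  set K₀ := K.map (MulAut.congr e₀).toMonoidHom with hK₀
  obtain ⟨a, ha, hsyl'⟩ := exists_conj_inf_sylow hsyl (inf_le_left : F.autGroup V ⊓ K₀ ≤ F.autGroup V)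
  have haF : a⁻¹ ∈ isoSet F V V :=
    (mem_autGroup_iff_isoSet F hVS _).mp ((F.autGroup V).inv_mem ha)
  refine ⟨V, e₀.trans a⁻¹, isoSet_trans F he₀ haF, hRec, ?_⟩
  rw [map_congr_trans]
  have h1 := hsyl'.map_conj a⁻¹
  have hinj : Function.Injective (MulAut.conj a⁻¹).toMonoidHom := (MulAut.conj a⁻¹).injective
  rw [Subgroup.map_inf _ _ _ hinj, Subgroup.map_inf _ _ _ hinj, map_conj_map_conj_inv',
    map_conj_eq_self_of_mem ((F.autGroup V).inv_mem ha), ← inf_assoc,
    inf_eq_left.mpr (autInducedBy_le_autGroup F hVS)] at h1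
  exact h1

theorem centralizerIn_le_normK (S U : Subgroup Ω) (K : Subgroup (MulAut U)) :
    centralizerIn S U ≤ normK S U K := by
  intro c hc
  have hcc : c ∈ Subgroup.centralizer (U : Set Ω) := hc.2
  have hcN : c ∈ normalizerIn S U :=
    Subgroup.mem_inf.mpr ⟨hc.1, Subgroup.centralizer_le_normalizer _ hcc⟩
  rw [mem_normK_iff]
  refine ⟨hcN, ?_⟩
  have : normAut S U ⟨c, hcN⟩ = 1 := by
    ext x
    rw [normAut_apply]
    show c * x * c⁻¹ = x
    rw [← hcc x x.2, mul_inv_cancel_right]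
  rw [this]
  exact K.one_mem

/-- Transfer of the good properties back along an isomorphism when `N_S^K` does not shrink
(AKO I.5.2, (a) implies (b)). -/
theorem good_of_card_le (F : FusionSystem S) [Finite S] {p : ℕ} [Fact p.Prime] (hS : IsPGroup p S)
    (hF : F.IsSaturated p)
    {U V : Subgroup Ω} {e : U ≃* V} (he : e ∈ isoSet F U V) (K : Subgroup (MulAut U))
    (hV : F.IsReceptive V)
    (hsyl : IsSylIn p (autInducedBy S V ⊓ K.map (MulAut.congr e).toMonoidHom)
      (F.autGroup V ⊓ K.map (MulAut.congr e).toMonoidHom))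
    (hcard : Nat.card (normK S V (K.map (MulAut.congr e).toMonoidHom)) ≤ Nat.card (normK S U K)) :
    F.IsReceptive U ∧ IsSylIn p (autInducedBy S U ⊓ K) (F.autGroup U ⊓ K) := by
  obtain ⟨hUS, hVS⟩ := isoSet_le F he
  have hfinV : Finite V := finite_of_le hVS
  have hfinU : Finite U := finite_of_le hUS
  set K' := K.map (MulAut.congr e).toMonoidHom with hK'
  have hMA : ∀ g (hg : g ∈ normK S U K),
      MulAut.congr e (normAut S U ⟨g, normK_le S U K hg⟩) ∈
        (F.autGroup V ⊓ K') ⊔ (autInducedBy S V ⊓ K') := by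
    intro g hg
    apply (le_sup_left : F.autGroup V ⊓ K' ≤ _)
    refine Subgroup.mem_inf.mpr ⟨?_, ?_⟩
    · exact congr_mem_autGroup F he (autInducedBy_le_autGroup F hUS (normAut_mem S U _))
    · exact ⟨_, (mem_normK_iff.mp hg).2, rfl⟩
  obtain ⟨a, ha, ψ, hψ, hψU, hψM⟩ := extend_of_good F hS he K' hV hsyl (F.autGroup V ⊓ K') le_rfl
    (hsyl.1.trans Subgroup.le_normalizer) (normK S U K) (normK_le S U K) hMA
  have haF : a ∈ isoSet F V V := (mem_autGroup_iff_isoSet F hVS _).mp ha.1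
  set e' : U ≃* V := e.trans a with he'def
  have he' : e' ∈ isoSet F U V := isoSet_trans F he haF
  have hK'e' : K.map (MulAut.congr e').toMonoidHom = K' := by
    rw [he'def, map_congr_trans, ← hK']
    exact map_conj_eq_self_of_mem ha.2
  have hψinj := F.injective_of_mem hψ
  -- the injection N_S^K(U) → N_S^{K'}(V)
  let f : normK S U K → normK S V K' := fun g => ⟨ψ ⟨g, (le_sup_left : _ ≤ normK S U K ⊔ U) g.2⟩, hψM g g.2⟩
  have hfinj : Function.Injective f := by
    intro g₁ g₂ h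
    have h1 := hψinj (congrArg Subtype.val h)
    have h2 : (g₁ : Ω) = g₂ := congrArg (fun z : ↥(normK S U K ⊔ U) => (z : Ω)) h1
    exact Subtype.ext h2
  have hfinNV : Finite (normK S V K') := finite_of_le ((normK_le S V K').trans inf_le_left)
  have hfbij : Function.Bijective f := hfinj.bijective_of_nat_card_le hcard
  -- conjugation compatibility
  have hconj : ∀ (g : Ω) (hg : g ∈ normK S U K),
      normAut S V ⟨(f ⟨g, hg⟩ : Ω), normK_le S V K' (f ⟨g, hg⟩).2⟩ =
        MulAut.congr e' (normAut S U ⟨g, normK_le S U K hg⟩) := by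
    intro g hg
    ext y
    obtain ⟨x, rfl⟩ := e'.surjective y
    rw [congr_apply', normAut_apply]
    have h1 : ∀ x : U, ((e' x : V) : Ω) = ψ (Subgroup.inclusion le_sup_right x) := fun x => (hψU x).symm
    rw [h1, h1]
    show ψ _ * ψ _ * (ψ _)⁻¹ = _
    rw [← map_inv, ← map_mul, ← map_mul]
    congr 1
  refine ⟨?_, ?_⟩
  · -- receptive, via fully centralized
    apply saturated_fc F hS hF
    refine ⟨hUS, ?_⟩
    intro W hW
    have hVW : F.IsConj V W :=
      conj_trans F (conj_symm F ((isConj_iff_exists_iso F).mpr ⟨e, he⟩)) hW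
    refine ((receptive_fullyCentralized F hV).2 W hVW).trans ?_
    have hfinCU : Finite (centralizerIn S U) := finite_of_le inf_le_left
    let fe := Equiv.ofBijective f hfbij
    have hmem : ∀ c : centralizerIn S V,
        ((fe.symm ⟨c, centralizerIn_le_normK S V K' c.2⟩ : normK S U K) : Ω) ∈ centralizerIn S U := by
      intro c
      set g := fe.symm ⟨c, centralizerIn_le_normK S V K' c.2⟩ with hgdef
      have hfg : f g = ⟨c, centralizerIn_le_normK S V K' c.2⟩ := by
        rw [hgdef]; exact fe.apply_symm_apply _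
      have hgS : (g : Ω) ∈ S := ((normK_le S U K) g.2).1
      refine Subgroup.mem_inf.mpr ⟨hgS, ?_⟩
      rw [Subgroup.mem_centralizer_iff]
      intro x hx
      have hgx : (⟨x, (le_sup_right : U ≤ normK S U K ⊔ U) hx⟩ : ↥(normK S U K ⊔ U)) *
          ⟨g, (le_sup_left : _ ≤ normK S U K ⊔ U) g.2⟩ =
          ⟨g, (le_sup_left : _ ≤ normK S U K ⊔ U) g.2⟩ * ⟨x, (le_sup_right : U ≤ normK S U K ⊔ U) hx⟩ := by
        apply hψinj
        rw [map_mul, map_mul]
        have h1 : ψ ⟨g, (le_sup_left : _ ≤ normK S U K ⊔ U) g.2⟩ = c := congrArg Subtype.val hfg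
        have h2 : ψ ⟨x, (le_sup_right : U ≤ normK S U K ⊔ U) hx⟩ ∈ V := by
          have := hψU ⟨x, hx⟩
          rw [show Subgroup.inclusion le_sup_right (⟨x, hx⟩ : U) = (⟨x, (le_sup_right : U ≤ normK S U K ⊔ U) hx⟩ : ↥(normK S U K ⊔ U)) from rfl] at this
          rw [this]
          exact (a (e ⟨x, hx⟩)).2
        rw [h1]
        have hcc : (c : Ω) ∈ Subgroup.centralizer (V : Set Ω) := c.2.2
        exact hcc _ h2
      exact congrArg Subtype.val hgx
    apply Nat.card_le_card_of_injective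
      (fun c : centralizerIn S V => (⟨_, hmem c⟩ : centralizerIn S U))
    intro c₁ c₂ h
    have h0 : ((fe.symm ⟨c₁, centralizerIn_le_normK S V K' c₁.2⟩ : normK S U K) : Ω) =
        ((fe.symm ⟨c₂, centralizerIn_le_normK S V K' c₂.2⟩ : normK S U K) : Ω) :=
      congrArg (fun z : centralizerIn S U => (z : Ω)) h
    have h1 : fe.symm ⟨c₁, centralizerIn_le_normK S V K' c₁.2⟩ =
        fe.symm ⟨c₂, centralizerIn_le_normK S V K' c₂.2⟩ := Subtype.ext h0
    have h2 := fe.symm.injective h1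
    have h3 : (c₁ : Ω) = c₂ := congrArg (fun z : normK S V K' => (z : Ω)) h2
    exact Subtype.ext h3
  · -- Sylow property
    have h1 := hsyl.map_injective (MulAut.congr e'.symm).toMonoidHom (MulAut.congr e'.symm).injective
    have hinj : Function.Injective (MulAut.congr e'.symm).toMonoidHom := (MulAut.congr e'.symm).injective
    have hK2 : K'.map (MulAut.congr e'.symm).toMonoidHom = K := by
      rw [← hK'e', Subgroup.map_map]
      convert Subgroup.map_id K
      ext α y
      simp [MulAut.congr]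
    rw [Subgroup.map_inf _ _ _ hinj, Subgroup.map_inf _ _ _ hinj,
      map_congr_autGroup F (isoSet_symm F he'), hK2] at h1
    have hfinA : Finite (F.autGroup U ⊓ K : Subgroup (MulAut U)) := inferInstance
    refine h1.of_card_ge (inf_le_inf_right _ (autInducedBy_le_autGroup F hUS))
      ((isPGroup_autInducedBy hS U).to_inf_left) ?_
    apply Subgroup.card_le_of_le
    intro β hβ
    obtain ⟨⟨τ, hτ1, rfl⟩, hβK⟩ := Subgroup.mem_inf.mp hβ
    refine Subgroup.mem_inf.mpr ⟨?_, hβK⟩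
    have hτ2 : τ ∈ K' := by
      rw [← hK'e']
      refine ⟨_, hβK, ?_⟩
      exact congr_congr_symm e' τ
    have hτ : τ ∈ autInducedBy S V ⊓ K' := Subgroup.mem_inf.mpr ⟨hτ1, hτ2⟩
    obtain ⟨c, hc, rfl⟩ := mem_autInducedBy_inf_iff.mp hτ
    obtain ⟨⟨g, hg⟩, hfg⟩ := hfbij.2 ⟨c, hc⟩
    have h2 := hconj g hg
    have h3 : normAut S V ⟨c, normK_le S V K' hc⟩ =
        MulAut.congr e' (normAut S U ⟨g, normK_le S U K hg⟩) := by
      rw [← h2]
      congr 2
      exact (congrArg Subtype.val hfg).symm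
    show MulAut.congr e'.symm _ ∈ _
    rw [h3, congr_symm_congr]
    exact normAut_mem S U _

end Cfsg.Agent.Helper84
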