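import Mathlib
import Cfsg.Prelude.Def_FusionSystem
import Cfsg.Agent.Lib.Helper84.FusK

/-!
# Automorphisms of `U` stabilizing or fixing subgroups; restriction
-/

set_option autoImplicit false

namespace Cfsg.Agent.Helper84

open Cfsg Cfsg.FusionSystem

variable {Ω : Type*} [Group Ω] {S : Subgroup Ω}

/-- Automorphisms of `U` stabilizing `P` (as a subset of `U`). -/
def stabIn (U P : Subgroup Ω) : Subgroup (MulAut U) where
  carrier := {α | ∀ x : U, (x : Ω) ∈ P ↔ ((α x : U) : Ω) ∈ P}
  one_mem' := fun _ => Iff.rfl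
  mul_mem' := fun {_ b} ha hb x => (hb x).trans (ha (b x))
  inv_mem' := fun {a} ha x => by
    have := ha (a⁻¹ x)
    rw [MulAut.apply_inv_self] at this
    exact this.symm

theorem mem_stabIn_iff {U P : Subgroup Ω} {α : MulAut U} :
    α ∈ stabIn U P ↔ ∀ x : U, (x : Ω) ∈ P ↔ ((α x : U) : Ω) ∈ P := Iff.rfl

/-- Automorphisms of `U` fixing the elements of `P`. -/
def fixIn (U P : Subgroup Ω) : Subgroup (MulAut U) where
  carrier := {α | ∀ x : U, (x : Ω) ∈ P → α x = x}
  one_mem' := fun _ _ => rfl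
  mul_mem' := fun {a b} ha hb x hx => by rw [MulAut.mul_apply, hb x hx, ha x hx]
  inv_mem' := fun {a} ha x hx => by
    calc a⁻¹ x = a⁻¹ (a x) := by rw [ha x hx]
      _ = x := MulAut.inv_apply_self _ _ _

theorem mem_fixIn_iff {U P : Subgroup Ω} {α : MulAut U} :
    α ∈ fixIn U P ↔ ∀ x : U, (x : Ω) ∈ P → α x = x := Iff.rfl

theorem fixIn_le_stabIn (U P : Subgroup Ω) : fixIn U P ≤ stabIn U P := by
  intro α hα x
  constructor
  · intro hx
    rw [hα x hx]; exact hx
  · intro hx
    have h1 := (fixIn U P).inv_mem hα (α x) hx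
    rw [MulAut.inv_apply_self] at h1
    rw [h1]; exact hx

/-- Restriction to `P ≤ U` of the automorphisms of `U` stabilizing `P`. -/
noncomputable def resIn {U P : Subgroup Ω} (hPU : P ≤ U) : stabIn U P →* MulAut P where
  toFun α :=
    { toFun := fun x => ⟨((α : MulAut U) ⟨x, hPU x.2⟩ : U), (α.2 ⟨x, hPU x.2⟩).mp x.2⟩
      invFun := fun x => ⟨(((α⁻¹ : stabIn U P) : MulAut U) ⟨x, hPU x.2⟩ : U),
        ((α⁻¹).2 ⟨x, hPU x.2⟩).mp x.2⟩
      left_inv := fun x => by
        apply Subtype.ext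
        simp
      right_inv := fun x => by
        apply Subtype.ext
        simp
      map_mul' := fun x y => by
        apply Subtype.ext
        show (((α : MulAut U) (⟨x, hPU x.2⟩ * ⟨y, hPU y.2⟩) : U) : Ω) = _
        rw [map_mul]
        rfl }
  map_one' := by
    ext x
    rfl
  map_mul' := fun α β => by
    ext x
    rfl

theorem resIn_apply {U P : Subgroup Ω} (hPU : P ≤ U) (α : stabIn U P) (x : P) :
    ((resIn hPU α x : P) : Ω) = (((α : MulAut U) ⟨x, hPU x.2⟩ : U) : Ω) := rfl

theorem conj_mem_sup_of_mem_normalizer {P Q : Subgroup Ω} {g : Ω}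
    (hP : g ∈ Subgroup.normalizer (P : Set Ω)) (hQ : g ∈ Subgroup.normalizer (Q : Set Ω))
    {x : Ω} (hx : x ∈ P ⊔ Q) : g * x * g⁻¹ ∈ P ⊔ Q := by
  have h1 : P ⊔ Q ≤ (P ⊔ Q).comap (MulAut.conj g).toMonoidHom := by
    apply sup_le
    · intro y hy
      exact (le_sup_left : P ≤ P ⊔ Q) ((Subgroup.mem_normalizer_iff.mp hP y).mp hy)
    · intro y hy
      exact (le_sup_right : Q ≤ P ⊔ Q) ((Subgroup.mem_normalizer_iff.mp hQ y).mp hy)
  exact h1 hx

theorem mem_normalizer_sup {P Q : Subgroup Ω} {g : Ω}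
    (hP : g ∈ Subgroup.normalizer (P : Set Ω)) (hQ : g ∈ Subgroup.normalizer (Q : Set Ω)) :
    g ∈ Subgroup.normalizer ((P ⊔ Q : Subgroup Ω) : Set Ω) := by
  rw [Subgroup.mem_normalizer_iff]
  intro x
  constructor
  · exact conj_mem_sup_of_mem_normalizer hP hQ
  · intro hx
    have := conj_mem_sup_of_mem_normalizer (Subgroup.inv_mem _ hP) (Subgroup.inv_mem _ hQ) hx
    have e : g⁻¹ * (g * x * g⁻¹) * g⁻¹⁻¹ = x := by group
    rwa [e] at this

/-- An element whose conjugation maps a finite subgroup into itself normalizes it. -/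
theorem mem_normalizer_of_conj_mem_finite {P : Subgroup Ω} [Finite P] {g : Ω}
    (h : ∀ x ∈ P, g * x * g⁻¹ ∈ P) : g ∈ Subgroup.normalizer (P : Set Ω) := by
  rw [Subgroup.mem_normalizer_iff]
  intro x
  constructor
  · exact h x
  · intro hx
    let f : P → P := fun y => ⟨g * y * g⁻¹, h y y.2⟩
    have hinj : Function.Injective f := by
      intro a b hab
      have := congrArg Subtype.val hab
      simp only [f] at this
      exact Subtype.ext (mul_left_cancel (mul_right_cancel this))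
    obtain ⟨y, hy⟩ := (Finite.injective_iff_surjective.mp hinj) ⟨g * x * g⁻¹, hx⟩
    have := congrArg Subtype.val hy
    simp only [f] at this
    have hxy : (y : Ω) = x := mul_left_cancel (mul_right_cancel this)
    rw [← hxy]
    exact y.2

end Cfsg.Agent.Helper84
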