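import Mathlib
import Cfsg.Prelude.Def_FusionSystem
import Cfsg.Agent.Lib.Helper84.FusPair

/-!
# The normalizer system of a fully normalized subgroup is saturated (AKO I.5.5)
-/

set_option autoImplicit false

namespace Cfsg.Agent.Helper84

open Cfsg Cfsg.FusionSystem

variable {Ω : Type*} [Group Ω] {S : Subgroup Ω}

/-- Automorphisms of `PQ` stabilizing both `P` and `Q`. -/
def pairK (P Q : Subgroup Ω) : Subgroup (MulAut ↥(P ⊔ Q)) :=
  stabIn (P ⊔ Q) P ⊓ stabIn (P ⊔ Q) Q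

theorem normalizerIn_le_normK_pair (S P Q : Subgroup Ω) :
    normalizerIn (normalizerIn S Q) P ≤ normK S (P ⊔ Q) (pairK P Q) := by
  intro g hg
  have hgS : g ∈ S := hg.1.1
  have hgQ : g ∈ Subgroup.normalizer (Q : Set Ω) := hg.1.2
  have hgP : g ∈ Subgroup.normalizer (P : Set Ω) := hg.2
  have hgU : g ∈ normalizerIn S (P ⊔ Q) := Subgroup.mem_inf.mpr ⟨hgS, mem_normalizer_sup hgP hgQ⟩
  rw [mem_normK_iff]
  refine ⟨hgU, Subgroup.mem_inf.mpr ⟨?_, ?_⟩⟩
  · intro x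
    exact Subgroup.mem_normalizer_iff.mp hgP x
  · intro x
    exact Subgroup.mem_normalizer_iff.mp hgQ x

/-- If conjugation by `h` on `V` is the transport of an automorphism stabilizing `P`, then `h`
normalizes the image of `P`. -/
theorem mem_normalizer_image_of_congr {U V P : Subgroup Ω} [Finite V] (e : U ≃* V) {α : MulAut U}
    (hα : α ∈ stabIn U P) {h : Ω} (hh : h ∈ normalizerIn S V)
    (heq : normAut S V ⟨h, hh⟩ = MulAut.congr e α) :
    h ∈ Subgroup.normalizer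
      (((P.subgroupOf U).map (V.subtype.comp e.toMonoidHom) : Subgroup Ω) : Set Ω) := by
  have hle : (P.subgroupOf U).map (V.subtype.comp e.toMonoidHom) ≤ V := by
    rintro _ ⟨x, -, rfl⟩
    exact (e x).2
  have : Finite ((P.subgroupOf U).map (V.subtype.comp e.toMonoidHom) : Subgroup Ω) :=
    Finite.of_injective (Subgroup.inclusion hle) (Subgroup.inclusion_injective hle)
  apply mem_normalizer_of_conj_mem_finite
  rintro _ ⟨x, hx, rfl⟩
  refine ⟨α x, ?_, ?_⟩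
  · rw [SetLike.mem_coe, Subgroup.mem_subgroupOf] at hx ⊢
    exact (hα x).mp hx
  · have h1 := congrArg (fun β : MulAut V => ((β (e x) : V) : Ω)) heq
    simp only [normAut_apply, congr_apply'] at h1
    exact h1.symm

theorem range_comp_inclusion {U P : Subgroup Ω} (hPU : P ≤ U) (θ : U →* Ω) :
    (θ.comp (Subgroup.inclusion hPU)).range = (P.subgroupOf U).map θ := by
  ext y
  constructor
  · rintro ⟨x, rfl⟩
    exact ⟨Subgroup.inclusion hPU x, by simp [Subgroup.mem_subgroupOf], rfl⟩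
  · rintro ⟨z, hz, rfl⟩
    exact ⟨⟨z, hz⟩, rfl⟩

/-- Main lemma: for `P` fully normalized in `N_F(Q)`, the pair `(PQ, Aut(PQ; P, Q))` is good. -/
theorem pair_good_of_fullyNormalized (F : FusionSystem S) [Finite S] {p : ℕ} [Fact p.Prime]
    (hS : IsPGroup p S) (hF : F.IsSaturated p) {Q : Subgroup Ω} (hQ : F.IsFullyNormalized Q)
    (E : FusionSystem (normalizerIn S Q)) (hE : F.IsNormalizerSystem Q E) {P : Subgroup Ω}
    (hP : E.IsFullyNormalized P) :
    F.IsReceptive (P ⊔ Q) ∧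
      IsSylIn p (autInducedBy S (P ⊔ Q) ⊓ pairK P Q) (F.autGroup (P ⊔ Q) ⊓ pairK P Q) := by
  have hPN : P ≤ normalizerIn S Q := hP.1
  have hQS : Q ≤ S := hQ.1
  have hQN : Q ≤ normalizerIn S Q := le_inf hQS Subgroup.le_normalizer
  have hUN : P ⊔ Q ≤ normalizerIn S Q := sup_le hPN hQN
  have hUS : P ⊔ Q ≤ S := hUN.trans inf_le_left
  obtain ⟨V, e, he, hVrec, hsyl⟩ := exists_good_target F hF hUS (pairK P Q)
  have hVS : V ≤ S := (isoSet_le F he).2
  have hfinV : Finite V := finite_of_le hVS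
  apply good_of_card_le F hS hF he (pairK P Q) hVrec hsyl
  set K' := (pairK P Q).map (MulAut.congr e).toMonoidHom with hK'
  set ē : ↥(P ⊔ Q) →* Ω := V.subtype.comp e.toMonoidHom with hēdef
  set Q₁ : Subgroup Ω := (Q.subgroupOf (P ⊔ Q)).map ē with hQ₁
  set P₁ : Subgroup Ω := (P.subgroupOf (P ⊔ Q)).map ē with hP₁
  have hQ₁V : Q₁ ≤ V := by
    rintro _ ⟨x, -, rfl⟩
    exact (e x).2
  have hfinQ₁ : Finite Q₁ := finite_of_le (hQ₁V.trans hVS)
  -- Q₁ is conjugate to Q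
  obtain ⟨eQ, heQ, -⟩ := exists_iso_restrict' F he (le_sup_right : Q ≤ P ⊔ Q) hQ₁.symm
  have hQ₁Q : F.IsConj Q₁ Q := conj_symm F ((isConj_iff_exists_iso F).mpr ⟨eQ, heQ⟩)
  obtain ⟨hFA, hRec⟩ := saturated_fn F hS hF hQ
  obtain ⟨ρ, hρ, hρval, hρmap⟩ := exists_normalizer_hom F hS hFA hRec hQ₁Q
  -- V normalizes Q₁
  have hVN₁ : V ≤ normalizerIn S Q₁ := by
    intro v hv
    refine Subgroup.mem_inf.mpr ⟨hVS hv, ?_⟩
    apply mem_normalizer_of_conj_mem_finite
    rintro _ ⟨q, hq, rfl⟩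
    obtain ⟨u, hu⟩ := e.surjective ⟨v, hv⟩
    have huN : (u : Ω) ∈ Subgroup.normalizer (Q : Set Ω) := (hUN u.2).2
    refine ⟨u * q * u⁻¹, ?_, ?_⟩
    · rw [SetLike.mem_coe, Subgroup.mem_subgroupOf] at hq ⊢
      exact (Subgroup.mem_normalizer_iff.mp huN q).mp hq
    · show ((e (u * q * u⁻¹) : V) : Ω) = v * ((e q : V) : Ω) * v⁻¹
      rw [map_mul, map_mul, map_inv, hu]
      rfl
  -- the composite map θ
  have hθ : (ρ.comp (Subgroup.inclusion hVN₁)).comp e.toMonoidHom ∈ F.Hom (P ⊔ Q) :=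
    comp_iso_mem F he (restrict_mem F hρ hVN₁)
  set θ : ↥(P ⊔ Q) →* Ω := (ρ.comp (Subgroup.inclusion hVN₁)).comp e.toMonoidHom with hθdef
  have hθapp : ∀ x : ↥(P ⊔ Q), θ x = ρ ⟨ē x, hVN₁ (e x).2⟩ := fun x => rfl
  have hθQ : (Q.subgroupOf (P ⊔ Q)).map θ = Q := by
    rw [map_subgroupOf_sup_right_eq]
    constructor
    · intro y
      apply hρmap.le
      refine ⟨⟨ē (Subgroup.inclusion le_sup_right y), hVN₁ (e _).2⟩, ?_, rfl⟩
      rw [SetLike.mem_coe, Subgroup.mem_subgroupOf]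
      exact ⟨Subgroup.inclusion le_sup_right y, by simp [Subgroup.mem_subgroupOf], rfl⟩
    · intro y' hy'
      obtain ⟨z, hz, rfl⟩ := hρmap.ge hy'
      rw [SetLike.mem_coe, Subgroup.mem_subgroupOf] at hz
      obtain ⟨x, hx, hxz⟩ := hz
      rw [SetLike.mem_coe, Subgroup.mem_subgroupOf] at hx
      refine ⟨⟨x, hx⟩, ?_⟩
      rw [hθapp]
      congr 1
      exact Subtype.ext hxz
  set P₂ : Subgroup Ω := (P.subgroupOf (P ⊔ Q)).map θ with hP₂
  have hθN : ∀ x : ↥(P ⊔ Q), θ x ∈ normalizerIn S Q := fun x => hρval _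
  -- P₂ is conjugate to P in the normalizer system
  have hconj : E.IsConj P P₂ := by
    refine ⟨θ.comp (Subgroup.inclusion le_sup_left), ?_, range_comp_inclusion le_sup_left θ⟩
    rw [hE P]
    exact ⟨restrict_mem F hθ le_sup_left, hPN, fun x => hθN _, θ, hθ, fun x => rfl, hθQ⟩
  have hfinN : Finite (normalizerIn S Q) := finite_of_le inf_le_left
  have hcard1 := hP.2 P₂ hconj
  have hcard2 : Nat.card (normalizerIn (normalizerIn S Q) P) ≤ Nat.card (normK S (P ⊔ Q) (pairK P Q)) := by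
    have : Finite (normK S (P ⊔ Q) (pairK P Q)) :=
      finite_of_le ((normK_le S _ _).trans inf_le_left)
    exact Subgroup.card_le_of_le (normalizerIn_le_normK_pair S P Q)
  refine le_trans ?_ (hcard1.trans hcard2)
  -- the injection N_S^{K'}(V) → N_N(P₂)
  have hmem : ∀ h : normK S V K', ∃ (h1 : (h : Ω) ∈ normalizerIn S Q₁),
      ρ ⟨h, h1⟩ ∈ normalizerIn (normalizerIn S Q) P₂ := by
    intro h
    obtain ⟨hhN, hhK⟩ := mem_normK_iff.mp h.2
    obtain ⟨α, hα, hαeq⟩ := hhK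
    have hαP : α ∈ stabIn (P ⊔ Q) P := (Subgroup.mem_inf.mp hα).1
    have hαQ : α ∈ stabIn (P ⊔ Q) Q := (Subgroup.mem_inf.mp hα).2
    have hnQ₁ := mem_normalizer_image_of_congr (S := S) e hαQ hhN hαeq.symm
    have h1 : (h : Ω) ∈ normalizerIn S Q₁ := Subgroup.mem_inf.mpr ⟨hhN.1, hnQ₁⟩
    refine ⟨h1, Subgroup.mem_inf.mpr ⟨hρval _, ?_⟩⟩
    have hP₂N : P₂ ≤ normalizerIn S Q := by
      rintro _ ⟨x, -, rfl⟩
      exact hθN x
    have : Finite P₂ := finite_of_le hP₂N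
    apply mem_normalizer_of_conj_mem_finite
    rintro _ ⟨x, hx, rfl⟩
    refine ⟨α x, ?_, ?_⟩
    · rw [SetLike.mem_coe, Subgroup.mem_subgroupOf] at hx ⊢
      exact (hαP x).mp hx
    · rw [hθapp, hθapp, ← map_inv, ← map_mul, ← map_mul]
      congr 1
      apply Subtype.ext
      have h2 := congrArg (fun β : MulAut V => ((β (e x) : V) : Ω)) hαeq
      simp only [normAut_apply, MulEquiv.coe_toMonoidHom, congr_apply'] at h2
      show ((e (α x) : V) : Ω) = h * ((e x : V) : Ω) * (h : Ω)⁻¹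
      exact h2
  have hfinT : Finite (normalizerIn (normalizerIn S Q) P₂) := finite_of_le inf_le_left
  apply Nat.card_le_card_of_injective
    (fun h : normK S V K' => (⟨ρ ⟨h, (hmem h).1⟩, (hmem h).2⟩ : normalizerIn (normalizerIn S Q) P₂))
  intro h₁ h₂ h
  have h3 := F.injective_of_mem hρ (congrArg Subtype.val h)
  have h4 : (h₁ : Ω) = h₂ := congrArg (fun z : normalizerIn S Q₁ => (z : Ω)) h3
  exact Subtype.ext h4

theorem normK_pair_le_normalizerIn (S P Q : Subgroup Ω) [Finite P] [Finite Q] :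
    normK S (P ⊔ Q) (pairK P Q) ≤ normalizerIn (normalizerIn S Q) P := by
  intro g hg
  obtain ⟨hgU, hgK⟩ := mem_normK_iff.mp hg
  obtain ⟨hgP, hgQ⟩ := Subgroup.mem_inf.mp hgK
  refine Subgroup.mem_inf.mpr ⟨Subgroup.mem_inf.mpr ⟨hgU.1, ?_⟩, ?_⟩
  · apply mem_normalizer_of_conj_mem_finite
    intro x hx
    exact (hgQ ⟨x, (le_sup_right : Q ≤ P ⊔ Q) hx⟩).mp hx
  · apply mem_normalizer_of_conj_mem_finite
    intro x hx
    exact (hgP ⟨x, (le_sup_left : P ≤ P ⊔ Q) hx⟩).mp hx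

theorem IsSylIn.subgroupOf {G : Type*} [Group G] {p : ℕ} {T H L : Subgroup G}
    (h : IsSylIn p T H) (hHL : H ≤ L) : IsSylIn p (T.subgroupOf L) (H.subgroupOf L) := by
  refine ⟨Subgroup.subgroupOf_mono L h.1, isPGroup_subgroupOf L h.2.1, ?_⟩
  rw [Subgroup.relIndex_subgroupOf hHL]
  exact h.2.2

theorem IsSylIn.map {G A : Type*} [Group G] [Group A] {p : ℕ} [Fact p.Prime] {T H : Subgroup G}
    [Finite H] (h : IsSylIn p T H) (f : G →* A) : IsSylIn p (T.map f) (H.map f) := by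
  have h1 : IsSylIn p (T.subgroupOf H) ⊤ := by
    refine ⟨le_top, isPGroup_subgroupOf H h.2.1, ?_⟩
    rw [Subgroup.relIndex_top_right]
    exact h.2.2
  have h2 := isSylIn_map_of_sylow (f.comp H.subtype) h1
  have h3 : (T.subgroupOf H).map (f.comp H.subtype) = T.map f := by
    rw [← Subgroup.map_map, Subgroup.map_subgroupOf_eq_of_le h.1]
  have h4 : (f.comp H.subtype).range = H.map f := by
    rw [MonoidHom.range_comp, Subgroup.range_subtype]
  rw [h3, h4] at h2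
  exact h2

/-- An extension `ψ` of an automorphism `β` of `P` to `PQ` with `ψ(Q) = Q` is an automorphism of
`PQ` stabilizing `P` and `Q`. -/
theorem exists_pair_aut (F : FusionSystem S) {P Q : Subgroup Ω} (β : MulAut P)
    {ψ : ↥(P ⊔ Q) →* Ω} (hψ : ψ ∈ F.Hom (P ⊔ Q))
    (hψP : ∀ x : P, ψ (Subgroup.inclusion le_sup_left x) = ((β x : P) : Ω))
    (hψQ : (Q.subgroupOf (P ⊔ Q)).map ψ = Q) :
    ∃ α : MulAut ↥(P ⊔ Q), α ∈ F.autGroup (P ⊔ Q) ∧ α ∈ pairK P Q ∧
      ∀ x : ↥(P ⊔ Q), ((α x : ↥(P ⊔ Q)) : Ω) = ψ x := by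
  have hUS : P ⊔ Q ≤ S := (F.le_of_mem hψ).1
  obtain ⟨hQ1, hQ2⟩ := (map_subgroupOf_sup_right_eq ψ Q).mp hψQ
  have hrange : ψ.range = P ⊔ Q := by
    apply le_antisymm
    · rintro _ ⟨z, rfl⟩
      exact sup_map_mem ψ (fun x => by rw [hψP]; exact (β x).2) hQ1 z
    · apply sup_le
      · intro x hx
        refine ⟨Subgroup.inclusion le_sup_left (β.symm ⟨x, hx⟩), ?_⟩
        rw [hψP]
        simp
      · intro y hy
        obtain ⟨y0, hy0⟩ := hQ2 y hy
        exact ⟨_, hy0⟩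
  obtain ⟨α, hα, hαx⟩ := exists_iso_of_hom F hψ hrange
  have hinj := F.injective_of_mem hψ
  refine ⟨α, (mem_autGroup_iff_isoSet F hUS α).mpr hα, Subgroup.mem_inf.mpr ⟨?_, ?_⟩, hαx⟩
  · intro x
    rw [hαx]
    constructor
    · intro hx
      have : x = Subgroup.inclusion le_sup_left (⟨x, hx⟩ : P) := rfl
      rw [this, hψP]
      exact (β _).2
    · intro hx
      have h1 : ψ (Subgroup.inclusion le_sup_left (β.symm ⟨ψ x, hx⟩)) = ψ x := by
        rw [hψP]; simp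
      have h2 := hinj h1
      rw [← h2]
      exact (β.symm ⟨ψ x, hx⟩).2
  · intro x
    rw [hαx]
    constructor
    · intro hx
      exact hQ1 ⟨x, hx⟩
    · intro hx
      obtain ⟨y0, hy0⟩ := hQ2 _ hx
      have h2 := hinj hy0
      rw [← h2]
      exact y0.2

theorem map_pair_aut_eq {P Q : Subgroup Ω} {α : MulAut ↥(P ⊔ Q)} (hα : α ∈ stabIn (P ⊔ Q) Q) :
    (Q.subgroupOf (P ⊔ Q)).map ((P ⊔ Q).subtype.comp α.toMonoidHom) = Q := by
  ext y
  constructor
  · rintro ⟨x, hx, rfl⟩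
    rw [SetLike.mem_coe, Subgroup.mem_subgroupOf] at hx
    exact (hα x).mp hx
  · intro hy
    refine ⟨α⁻¹ ⟨y, (le_sup_right : Q ≤ P ⊔ Q) hy⟩, ?_, ?_⟩
    · rw [SetLike.mem_coe, Subgroup.mem_subgroupOf]
      exact ((stabIn (P ⊔ Q) Q).inv_mem hα _).mp hy
    · simp

/-- Step 2: the Sylow property of the pair gives full automization in the normalizer system. -/
theorem pair_fullyAutomized (F : FusionSystem S) [Finite S] {p : ℕ} [Fact p.Prime]
    {Q : Subgroup Ω} (hQS : Q ≤ S)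
    (E : FusionSystem (normalizerIn S Q)) (hE : F.IsNormalizerSystem Q E) {P : Subgroup Ω}
    (hPN : P ≤ normalizerIn S Q)
    (hsyl : IsSylIn p (autInducedBy S (P ⊔ Q) ⊓ pairK P Q) (F.autGroup (P ⊔ Q) ⊓ pairK P Q)) :
    E.IsFullyAutomized p P := by
  have hfinN : Finite (normalizerIn S Q) := finite_of_le inf_le_left
  have hQN : Q ≤ normalizerIn S Q := le_inf hQS Subgroup.le_normalizer
  have hUN : P ⊔ Q ≤ normalizerIn S Q := sup_le hPN hQN
  have hUS : P ⊔ Q ≤ S := hUN.trans inf_le_left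
  have hfinU : Finite ↥(P ⊔ Q) := finite_of_le hUS
  have hfinP : Finite P := finite_of_le (hPN.trans inf_le_left)
  have hfinQ : Finite Q := finite_of_le hQS
  rw [fullyAutomized_iff]
  refine ⟨hPN, ?_⟩
  have hHL : F.autGroup (P ⊔ Q) ⊓ pairK P Q ≤ stabIn (P ⊔ Q) P :=
    inf_le_right.trans inf_le_left
  have h1 := (hsyl.subgroupOf hHL).map (resIn (le_sup_left : P ≤ P ⊔ Q))
  have hA : ((F.autGroup (P ⊔ Q) ⊓ pairK P Q).subgroupOf (stabIn (P ⊔ Q) P)).map
      (resIn (le_sup_left : P ≤ P ⊔ Q)) = E.autGroup P := by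
    ext β
    constructor
    · rintro ⟨α, hα, rfl⟩
      rw [SetLike.mem_coe, Subgroup.mem_subgroupOf] at hα
      obtain ⟨hαF, hαK⟩ := Subgroup.mem_inf.mp hα
      have hαF' := (mem_autGroup_iff F hUS _).mp hαF
      rw [mem_autGroup_iff E hPN, hE P]
      refine ⟨?_, hPN, fun x => hPN (resIn (le_sup_left : P ≤ P ⊔ Q) α x).2, _, hαF', fun x => rfl,
        map_pair_aut_eq (Subgroup.mem_inf.mp hαK).2⟩
      refine hom_congr F rfl ?_ (restrict_mem F hαF' (le_sup_left : P ≤ P ⊔ Q))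
      intro x hx hx'
      rfl
    · intro hβ
      rw [mem_autGroup_iff E hPN, hE P] at hβ
      obtain ⟨-, -, -, ψ, hψ, hψP, hψQ⟩ := hβ
      obtain ⟨α, hαF, hαK, hαx⟩ := exists_pair_aut F β hψ hψP hψQ
      refine ⟨⟨α, (Subgroup.mem_inf.mp hαK).1⟩, ?_, ?_⟩
      · rw [SetLike.mem_coe, Subgroup.mem_subgroupOf]
        exact Subgroup.mem_inf.mpr ⟨hαF, hαK⟩
      · ext x
        rw [resIn_apply]
        show ((α ⟨x, _⟩ : ↥(P ⊔ Q)) : Ω) = _
        rw [hαx]
        exact hψP x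
  have hT : ((autInducedBy S (P ⊔ Q) ⊓ pairK P Q).subgroupOf (stabIn (P ⊔ Q) P)).map
      (resIn (le_sup_left : P ≤ P ⊔ Q)) = autInducedBy (normalizerIn S Q) P := by
    ext β
    constructor
    · rintro ⟨α, hα, rfl⟩
      rw [SetLike.mem_coe, Subgroup.mem_subgroupOf] at hα
      obtain ⟨g, hg, hαg⟩ := mem_autInducedBy_inf_iff.mp hα
      rw [mem_autInducedBy_iff]
      refine ⟨g, (normK_pair_le_normalizerIn S P Q hg).1, ?_⟩
      intro x
      rw [resIn_apply, hαg, normAut_apply]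
    · intro hβ
      rw [mem_autInducedBy_iff] at hβ
      obtain ⟨g, hgN, hg⟩ := hβ
      have hgNP : g ∈ normalizerIn (normalizerIn S Q) P :=
        Subgroup.mem_inf.mpr ⟨hgN, mem_normalizer_of_autInduced hg⟩
      have hgK := normalizerIn_le_normK_pair S P Q hgNP
      have hα : normAut S (P ⊔ Q) ⟨g, normK_le S _ _ hgK⟩ ∈ autInducedBy S (P ⊔ Q) ⊓ pairK P Q :=
        mem_autInducedBy_inf_iff.mpr ⟨g, hgK, rfl⟩
      refine ⟨⟨_, (Subgroup.mem_inf.mp (Subgroup.mem_inf.mp hα).2).1⟩, ?_, ?_⟩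
      · rw [SetLike.mem_coe, Subgroup.mem_subgroupOf]
        exact hα
      · ext x
        rw [resIn_apply, hg x]
        rfl
  rw [hA, hT] at h1
  exact h1

theorem conj_mem_fixIn {U P : Subgroup Ω} {t a : MulAut U} (ht : t ∈ stabIn U P)
    (ha : a ∈ fixIn U P) : t * a * t⁻¹ ∈ fixIn U P := by
  intro z hz
  have h1 : ((t⁻¹ z : U) : Ω) ∈ P := ((stabIn U P).inv_mem ht z).mp hz
  rw [MulAut.mul_apply, MulAut.mul_apply, ha _ h1, MulAut.apply_inv_self]

theorem mem_normalizer_of_forall_conj_mem {G : Type*} [Group G] {A : Subgroup G} {t : G}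
    (h1 : ∀ a ∈ A, t * a * t⁻¹ ∈ A) (h2 : ∀ a ∈ A, t⁻¹ * a * t ∈ A) :
    t ∈ Subgroup.normalizer (A : Set G) := by
  rw [Subgroup.mem_normalizer_iff]
  intro a
  constructor
  · exact h1 a
  · intro ha
    have := h2 _ ha
    have e : t⁻¹ * (t * a * t⁻¹) * t = a := by group
    rwa [e] at this

theorem extender_le_normalizerIn (S R : Subgroup Ω) (φ : R →* Ω) :
    extender S R φ ≤ normalizerIn S R := by
  apply (Subgroup.closure_le _).mpr
  rintro g ⟨hgS, hgR, -⟩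
  exact Subgroup.mem_inf.mpr ⟨hgS, hgR⟩

/-- Step 3: the good pair gives receptivity in the normalizer system. -/
theorem pair_receptive (F : FusionSystem S) [Finite S] {p : ℕ} [Fact p.Prime] (hS : IsPGroup p S)
    {Q : Subgroup Ω} (hQS : Q ≤ S)
    (E : FusionSystem (normalizerIn S Q)) (hE : F.IsNormalizerSystem Q E) {P : Subgroup Ω}
    (hPN : P ≤ normalizerIn S Q)
    (hrec : F.IsReceptive (P ⊔ Q))
    (hsyl : IsSylIn p (autInducedBy S (P ⊔ Q) ⊓ pairK P Q) (F.autGroup (P ⊔ Q) ⊓ pairK P Q)) :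
    E.IsReceptive P := by
  have hQN : Q ≤ normalizerIn S Q := le_inf hQS Subgroup.le_normalizer
  have hUN : P ⊔ Q ≤ normalizerIn S Q := sup_le hPN hQN
  have hUS : P ⊔ Q ≤ S := hUN.trans inf_le_left
  have hfinP : Finite P := finite_of_le (hPN.trans inf_le_left)
  have hfinQ : Finite Q := finite_of_le hQS
  refine ⟨hPN, ?_⟩
  intro R φ hφ hr
  rw [hE R] at hφ
  obtain ⟨hφF, hRN, hφN, φb, hφb, hφbR, hφbQ⟩ := hφ
  obtain ⟨hQ1, hQ2⟩ := (map_subgroupOf_sup_right_eq φb Q).mp hφbQ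
  have hφP : ∀ x : R, φ x ∈ P := fun x => hr ▸ ⟨x, rfl⟩
  have hWN : R ⊔ Q ≤ normalizerIn S Q := sup_le hRN hQN
  have hWS : R ⊔ Q ≤ S := hWN.trans inf_le_left
  have hrange : φb.range = P ⊔ Q := by
    apply le_antisymm
    · rintro _ ⟨z, rfl⟩
      exact sup_map_mem φb (fun x => by rw [hφbR]; exact hφP x) hQ1 z
    · apply sup_le
      · intro y hy
        rw [← hr] at hy
        obtain ⟨x, rfl⟩ := hy
        exact ⟨_, hφbR x⟩
      · intro y hy
        obtain ⟨y0, hy0⟩ := hQ2 y hy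
        exact ⟨_, hy0⟩
  obtain ⟨ē, hē, hēx⟩ := exists_iso_of_hom F hφb hrange
  have hinj := F.injective_of_mem hφb
  have hR_iff : ∀ w : ↥(R ⊔ Q), φb w ∈ P ↔ (w : Ω) ∈ R := by
    intro w
    constructor
    · intro hw
      rw [← hr] at hw
      obtain ⟨x, hx⟩ := hw
      have h1 : φb (Subgroup.inclusion le_sup_left x) = φb w := by rw [hφbR, hx]
      rw [← hinj h1]
      exact x.2
    · intro hw
      have : w = Subgroup.inclusion le_sup_left (⟨w, hw⟩ : R) := rfl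
      rw [this, hφbR]
      exact hφP _
  have hQ_iff : ∀ w : ↥(R ⊔ Q), φb w ∈ Q ↔ (w : Ω) ∈ Q := by
    intro w
    constructor
    · intro hw
      obtain ⟨y0, hy0⟩ := hQ2 _ hw
      rw [← hinj hy0]
      exact y0.2
    · intro hw
      exact hQ1 ⟨w, hw⟩
  -- the data for the extension lemma
  set T := autInducedBy S (P ⊔ Q) ⊓ pairK P Q with hTdef
  set H := F.autGroup (P ⊔ Q) ⊓ pairK P Q with hHdef
  set A₀ : Subgroup (MulAut ↥(P ⊔ Q)) := H ⊓ fixIn (P ⊔ Q) P with hA₀def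
  have hA₀ : A₀ ≤ H := inf_le_left
  have hnorm : T ≤ Subgroup.normalizer (A₀ : Set (MulAut ↥(P ⊔ Q))) := by
    intro t ht
    have htH : t ∈ H := hsyl.1 ht
    have htP : t ∈ stabIn (P ⊔ Q) P := (Subgroup.mem_inf.mp (Subgroup.mem_inf.mp htH).2).1
    apply mem_normalizer_of_forall_conj_mem
    · intro a ha
      obtain ⟨ha1, ha2⟩ := Subgroup.mem_inf.mp ha
      exact Subgroup.mem_inf.mpr ⟨H.mul_mem (H.mul_mem htH ha1) (H.inv_mem htH),
        conj_mem_fixIn htP ha2⟩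
    · intro a ha
      obtain ⟨ha1, ha2⟩ := Subgroup.mem_inf.mp ha
      refine Subgroup.mem_inf.mpr ⟨H.mul_mem (H.mul_mem (H.inv_mem htH) ha1) htH, ?_⟩
      have := conj_mem_fixIn ((stabIn (P ⊔ Q) P).inv_mem htP) ha2
      rwa [inv_inv] at this
  set M := extender (normalizerIn S Q) R φ with hMdef
  have hMNR : M ≤ normalizerIn (normalizerIn S Q) R := extender_le_normalizerIn _ R φ
  have hM : M ≤ normalizerIn S (R ⊔ Q) := by
    intro g hg
    have h1 := hMNR hg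
    exact Subgroup.mem_inf.mpr ⟨h1.1.1, mem_normalizer_sup h1.2 h1.1.2⟩
  have hMA : ∀ g (hg : g ∈ M),
      MulAut.congr ē (normAut S (R ⊔ Q) ⟨g, hM hg⟩) ∈ A₀ ⊔ T := by
    let Θ : normalizerIn S (R ⊔ Q) →* MulAut ↥(P ⊔ Q) :=
      (MulAut.congr ē).toMonoidHom.comp (normAutMHom S (R ⊔ Q))
    have hle : M ≤ ((A₀ ⊔ T).comap Θ).map (normalizerIn S (R ⊔ Q)).subtype := by
      apply (Subgroup.closure_le _).mpr
      rintro g ⟨hgN, hgR, h, hhN, hh⟩
      have hgW : g ∈ normalizerIn S (R ⊔ Q) :=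
        Subgroup.mem_inf.mpr ⟨hgN.1, mem_normalizer_sup hgR hgN.2⟩
      refine ⟨⟨g, hgW⟩, ?_, rfl⟩
      show MulAut.congr ē (normAut S (R ⊔ Q) ⟨g, hgW⟩) ∈ A₀ ⊔ T
      set γ := MulAut.congr ē (normAut S (R ⊔ Q) ⟨g, hgW⟩) with hγdef
      -- h normalizes P
      have hhP : h ∈ Subgroup.normalizer (P : Set Ω) := by
        apply mem_normalizer_of_conj_mem_finite
        intro y hy
        rw [← hr] at hy
        obtain ⟨x, rfl⟩ := hy
        have hx : g * (x : Ω) * g⁻¹ ∈ R := (Subgroup.mem_normalizer_iff.mp hgR x).mp x.2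
        rw [← hh x hx]
        exact hφP _
      have hhNP : h ∈ normalizerIn (normalizerIn S Q) P := Subgroup.mem_inf.mpr ⟨hhN, hhP⟩
      have hhK := normalizerIn_le_normK_pair S P Q hhNP
      set τ := normAut S (P ⊔ Q) ⟨h, normK_le S _ _ hhK⟩ with hτdef
      have hτT : τ ∈ T := mem_autInducedBy_inf_iff.mpr ⟨h, hhK, rfl⟩
      have hγF : γ ∈ F.autGroup (P ⊔ Q) :=
        congr_mem_autGroup F hē (autInducedBy_le_autGroup F hWS (normAut_mem S _ _))
      have hγapp : ∀ w : ↥(R ⊔ Q), ((γ (ē w) : ↥(P ⊔ Q)) : Ω) =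
          φb ⟨g * w * g⁻¹, (Subgroup.mem_normalizer_iff.mp hgW.2 w).mp w.2⟩ := by
        intro w
        rw [hγdef, congr_apply', hēx]
        rfl
      have hγK : γ ∈ pairK P Q := by
        refine Subgroup.mem_inf.mpr ⟨?_, ?_⟩
        · intro z
          obtain ⟨w, rfl⟩ := ē.surjective z
          rw [hγapp, hēx, hR_iff, hR_iff]
          exact Subgroup.mem_normalizer_iff.mp hgR w
        · intro z
          obtain ⟨w, rfl⟩ := ē.surjective z
          rw [hγapp, hēx, hQ_iff, hQ_iff]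
          exact Subgroup.mem_normalizer_iff.mp hgN.2 w
      have hγH : γ ∈ H := Subgroup.mem_inf.mpr ⟨hγF, hγK⟩
      have hτH : τ ∈ H := hsyl.1 hτT
      have ha : τ⁻¹ * γ ∈ A₀ := by
        refine Subgroup.mem_inf.mpr ⟨H.mul_mem (H.inv_mem hτH) hγH, ?_⟩
        intro z hz
        obtain ⟨w, rfl⟩ := ē.surjective z
        rw [hēx, hR_iff] at hz
        have hx : g * ((⟨w, hz⟩ : R) : Ω) * g⁻¹ ∈ R :=
          (Subgroup.mem_normalizer_iff.mp hgR w).mp hz
        have h1 : γ (ē w) = τ (ē w) := by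
          apply Subtype.ext
          rw [hγapp, hτdef, normAut_apply, hēx]
          have h2 : w = Subgroup.inclusion le_sup_left (⟨w, hz⟩ : R) := rfl
          have h3 : (⟨g * (w : Ω) * g⁻¹, (Subgroup.mem_normalizer_iff.mp hgW.2 w).mp w.2⟩ : ↥(R ⊔ Q)) =
              Subgroup.inclusion le_sup_left (⟨g * ((⟨w, hz⟩ : R) : Ω) * g⁻¹, hx⟩ : R) := rfl
          rw [h3, hφbR, hh ⟨w, hz⟩ hx]
          conv_rhs => rw [h2, hφbR]
        rw [MulAut.mul_apply, h1, MulAut.inv_apply_self]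
      have : γ = τ * (τ⁻¹ * γ) := by group
      rw [this]
      exact (A₀ ⊔ T).mul_mem ((le_sup_right : T ≤ A₀ ⊔ T) hτT) ((le_sup_left : A₀ ≤ A₀ ⊔ T) ha)
    intro g hg
    obtain ⟨g', hg', hgg'⟩ := hle hg
    have : g' = ⟨g, hM hg⟩ := Subtype.ext hgg'
    rw [this] at hg'
    exact hg'
  obtain ⟨a, ha, ψh, hψh, hψhW, hψhM⟩ :=
    extend_of_good F hS hē (pairK P Q) hrec hsyl A₀ hA₀ hnorm M hM hMA
  obtain ⟨haH, haP⟩ := Subgroup.mem_inf.mp ha
  have haQ : a ∈ stabIn (P ⊔ Q) Q := (Subgroup.mem_inf.mp (Subgroup.mem_inf.mp haH).2).2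
  have hMN : M ≤ normalizerIn S Q := hMNR.trans inf_le_left
  have hle2 : M ⊔ Q ≤ M ⊔ (R ⊔ Q) := sup_le le_sup_left (le_sup_right.trans le_sup_right)
  refine ⟨ψh.comp (Subgroup.inclusion (le_sup_left : M ≤ M ⊔ (R ⊔ Q))), ?_, ?_⟩
  · rw [hE M]
    refine ⟨restrict_mem F hψh le_sup_left, hMN, ?_, ψh.comp (Subgroup.inclusion hle2),
      restrict_mem F hψh hle2, fun x => rfl, ?_⟩
    · intro g
      exact (normK_pair_le_normalizerIn S P Q (hψhM g g.2)).1
    · rw [map_subgroupOf_sup_right_eq]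
      constructor
      · intro y
        have h1 : (ψh.comp (Subgroup.inclusion hle2)) (Subgroup.inclusion le_sup_right y) =
            ψh (Subgroup.inclusion le_sup_right (Subgroup.inclusion le_sup_right y : ↥(R ⊔ Q))) := rfl
        rw [h1, hψhW]
        apply (haQ _).mp
        rw [hēx]
        exact hQ1 y
      · intro y' hy'
        set z := a⁻¹ ⟨y', (le_sup_right : Q ≤ P ⊔ Q) hy'⟩ with hzdef
        have hzQ : ((z : ↥(P ⊔ Q)) : Ω) ∈ Q := ((stabIn (P ⊔ Q) Q).inv_mem haQ _).mp hy'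
        set w := ē.symm z with hwdef
        have hwQ : (w : Ω) ∈ Q := by
          rw [← hQ_iff, ← hēx, hwdef, MulEquiv.apply_symm_apply]
          exact hzQ
        refine ⟨⟨w, hwQ⟩, ?_⟩
        have h1 : (ψh.comp (Subgroup.inclusion hle2)) (Subgroup.inclusion le_sup_right (⟨w, hwQ⟩ : Q)) =
            ψh (Subgroup.inclusion le_sup_right w) := rfl
        rw [h1, hψhW, hwdef, MulEquiv.apply_symm_apply, hzdef, MulAut.apply_inv_self]
  · intro x hxR hxM
    have h1 : (ψh.comp (Subgroup.inclusion (le_sup_left : M ≤ M ⊔ (R ⊔ Q)))) ⟨x, hxM⟩ =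
        ψh (Subgroup.inclusion le_sup_right
          (Subgroup.inclusion le_sup_left (⟨x, hxR⟩ : R) : ↥(R ⊔ Q))) := rfl
    rw [h1, hψhW]
    have h2 : ((ē (Subgroup.inclusion le_sup_left (⟨x, hxR⟩ : R)) : ↥(P ⊔ Q)) : Ω) ∈ P := by
      rw [hēx, hφbR]
      exact hφP _
    rw [haP _ h2, hēx, hφbR]

/-- AKO Theorem I.5.5 for normalizers: `N_F(Q)` is saturated when `Q` is fully normalized. -/
theorem normalizerSystem_saturated (F : FusionSystem S) [Finite S] {p : ℕ} [Fact p.Prime]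
    (hS : IsPGroup p S) (hF : F.IsSaturated p) {Q : Subgroup Ω} (hQ : F.IsFullyNormalized Q)
    (E : FusionSystem (normalizerIn S Q)) (hE : F.IsNormalizerSystem Q E) : E.IsSaturated p := by
  have hfinN : Finite (normalizerIn S Q) := finite_of_le inf_le_left
  intro P hP
  obtain ⟨P', hPP', hP'⟩ := exists_fullyNormalized_conj E hP
  obtain ⟨hrec, hsyl⟩ := pair_good_of_fullyNormalized F hS hF hQ E hE hP'
  exact ⟨P', hPP', pair_fullyAutomized F hQ.1 E hE hP'.1 hsyl,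
    pair_receptive F hS hQ.1 E hE hP'.1 hrec hsyl⟩

end Cfsg.Agent.Helper84
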