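import Mathlib
import Cfsg.Prelude.Def_FusionSystem
import Cfsg.Prelude.Def_FusionComponents
import Cfsg.Agent.Lib.Helper87.FusionFactor

/-!
# Transport of structure along an isomorphism of groups, function level

`Tr U U' θ κ`: the functions `θ`, `κ` restrict to mutually inverse isomorphisms between the
subgroups `U` and `U'` (of possibly different ambient groups).  `Rel h F F'`: the fusion system
`F'` is the image of the fusion system `F` under the isomorphism.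
-/

set_option autoImplicit false

namespace Cfsg.Agent.Helper84.T1

open Cfsg Cfsg.FusionSystem
open Cfsg.Agent.Helper87 (Mor Iso extFun extAut extHom)

universe u v w
variable {Ω : Type u} {Ω' : Type v} [Group Ω] [Group Ω']

/-- `θ` and `κ` are mutually inverse isomorphisms between `U` and `U'` -/
structure Tr (U : Subgroup Ω) (U' : Subgroup Ω') (θ : Ω → Ω') (κ : Ω' → Ω) : Prop where
  map : ∀ x ∈ U, θ x ∈ U'
  mul : ∀ x ∈ U, ∀ y ∈ U, θ (x * y) = θ x * θ y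
  inv : ∀ y ∈ U', κ y ∈ U
  left : ∀ x ∈ U, κ (θ x) = x
  right : ∀ y ∈ U', θ (κ y) = y

namespace Tr

variable {U : Subgroup Ω} {U' : Subgroup Ω'} {θ : Ω → Ω'} {κ : Ω' → Ω}

theorem mul' (h : Tr U U' θ κ) : ∀ y ∈ U', ∀ z ∈ U', κ (y * z) = κ y * κ z := by
  intro y hy z hz
  have h1 : θ (κ y * κ z) = y * z := by
    rw [h.mul _ (h.inv y hy) _ (h.inv z hz), h.right y hy, h.right z hz]
  rw [← h1, h.left _ (U.mul_mem (h.inv y hy) (h.inv z hz))]

theorem symm (h : Tr U U' θ κ) : Tr U' U κ θ :=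
  ⟨h.inv, h.mul', h.map, h.right, h.left⟩

theorem one (h : Tr U U' θ κ) : θ 1 = 1 := by
  have h1 := h.mul 1 U.one_mem 1 U.one_mem
  rw [mul_one] at h1
  exact mul_left_cancel (a := θ 1) (by rw [← h1, mul_one])

theorem map_inv (h : Tr U U' θ κ) {x : Ω} (hx : x ∈ U) : θ x⁻¹ = (θ x)⁻¹ := by
  have h1 := h.mul x hx x⁻¹ (U.inv_mem hx)
  rw [mul_inv_cancel, h.one] at h1
  exact eq_inv_of_mul_eq_one_right h1.symm

theorem inj (h : Tr U U' θ κ) {x y : Ω} (hx : x ∈ U) (hy : y ∈ U) (hxy : θ x = θ y) : x = y := by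
  rw [← h.left x hx, ← h.left y hy, hxy]

/-- restriction to a smaller pair of subgroups -/
theorem restrict (h : Tr U U' θ κ) {V : Subgroup Ω} {V' : Subgroup Ω'} (hV : V ≤ U)
    (hV' : V' ≤ U') (h1 : ∀ x ∈ V, θ x ∈ V') (h2 : ∀ y ∈ V', κ y ∈ V) : Tr V V' θ κ :=
  ⟨h1, fun x hx y hy => h.mul x (hV hx) y (hV hy), h2, fun x hx => h.left x (hV hx),
    fun y hy => h.right y (hV' hy)⟩

/-- the image of a subgroup -/
def img (h : Tr U U' θ κ) (P : Subgroup Ω) : Subgroup Ω' where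
  carrier := {y | y ∈ U' ∧ κ y ∈ P}
  mul_mem' := by
    rintro a b ⟨ha, ha'⟩ ⟨hb, hb'⟩
    refine ⟨U'.mul_mem ha hb, ?_⟩
    rw [h.mul' a ha b hb]
    exact P.mul_mem ha' hb'
  one_mem' := ⟨U'.one_mem, by rw [h.symm.one]; exact P.one_mem⟩
  inv_mem' := by
    rintro a ⟨ha, ha'⟩
    refine ⟨U'.inv_mem ha, ?_⟩
    rw [h.symm.map_inv ha]
    exact P.inv_mem ha'

theorem mem_img (h : Tr U U' θ κ) {P : Subgroup Ω} {y : Ω'} :
    y ∈ h.img P ↔ y ∈ U' ∧ κ y ∈ P := Iff.rfl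

theorem mem_img' (h : Tr U U' θ κ) {P : Subgroup Ω} (hP : P ≤ U) {y : Ω'} :
    y ∈ h.img P ↔ ∃ x ∈ P, θ x = y := by
  constructor
  · rintro ⟨hy, hy'⟩
    exact ⟨κ y, hy', h.right y hy⟩
  · rintro ⟨x, hx, rfl⟩
    exact ⟨h.map x (hP hx), by rw [h.left x (hP hx)]; exact hx⟩

theorem map_mem_img (h : Tr U U' θ κ) {P : Subgroup Ω} {x : Ω} (hx : x ∈ P) (hxU : x ∈ U) :
    θ x ∈ h.img P :=
  ⟨h.map x hxU, by rw [h.left x hxU]; exact hx⟩

theorem inv_mem_of_mem_img (h : Tr U U' θ κ) {P : Subgroup Ω} {y : Ω'} (hy : y ∈ h.img P) :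
    κ y ∈ P := hy.2

theorem img_le (h : Tr U U' θ κ) (P : Subgroup Ω) : h.img P ≤ U' := fun _ hy => hy.1

theorem img_mono (h : Tr U U' θ κ) {P Q : Subgroup Ω} (hPQ : P ≤ Q) : h.img P ≤ h.img Q :=
  fun _ hy => ⟨hy.1, hPQ hy.2⟩

theorem symm_img_img (h : Tr U U' θ κ) {P : Subgroup Ω} (hP : P ≤ U) :
    h.symm.img (h.img P) = P := by
  ext x
  constructor
  · rintro ⟨hx, -, hx'⟩
    rw [h.left x hx] at hx'
    exact hx'
  · intro hx
    exact ⟨hP hx, h.map x (hP hx), by rw [h.left x (hP hx)]; exact hx⟩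

theorem img_symm_img (h : Tr U U' θ κ) {P' : Subgroup Ω'} (hP' : P' ≤ U') :
    h.img (h.symm.img P') = P' :=
  h.symm.symm_img_img hP'

theorem img_top (h : Tr U U' θ κ) : h.img U = U' := by
  ext y
  exact ⟨fun hy => hy.1, fun hy => ⟨hy, h.inv y hy⟩⟩

theorem img_le_iff (h : Tr U U' θ κ) {P : Subgroup Ω} (hP : P ≤ U) {X : Subgroup Ω'} :
    h.img P ≤ X ↔ P ≤ h.symm.img X := by
  constructor
  · intro hle x hx
    exact ⟨hP hx, hle (h.map_mem_img hx (hP hx))⟩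
  · intro hle y hy
    have := hle hy.2
    have h2 : θ (κ y) ∈ X := this.2
    rw [h.right y hy.1] at h2
    exact h2

theorem img_sup (h : Tr U U' θ κ) {P Q : Subgroup Ω} (hP : P ≤ U) (hQ : Q ≤ U) :
    h.img (P ⊔ Q) = h.img P ⊔ h.img Q := by
  apply le_antisymm
  · rw [h.img_le_iff (sup_le hP hQ)]
    refine sup_le ?_ ?_
    · rw [← h.img_le_iff hP]
      exact le_sup_left
    · rw [← h.img_le_iff hQ]
      exact le_sup_right
  · exact sup_le (h.img_mono le_sup_left) (h.img_mono le_sup_right)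

theorem img_inf (h : Tr U U' θ κ) (P Q : Subgroup Ω) :
    h.img (P ⊓ Q) = h.img P ⊓ h.img Q := by
  ext y
  constructor
  · rintro ⟨hy, hy1, hy2⟩
    exact ⟨⟨hy, hy1⟩, ⟨hy, hy2⟩⟩
  · rintro ⟨⟨hy, hy1⟩, ⟨-, hy2⟩⟩
    exact ⟨hy, hy1, hy2⟩

theorem img_bot (h : Tr U U' θ κ) : h.img ⊥ = ⊥ := by
  ext y
  constructor
  · rintro ⟨hy, hy'⟩
    rw [Subgroup.mem_bot] at hy' ⊢
    rw [← h.right y hy, hy', h.one]
  · intro hy
    rw [Subgroup.mem_bot] at hy
    subst hy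
    exact Subgroup.one_mem _

theorem img_eq_bot (h : Tr U U' θ κ) {P : Subgroup Ω} (hP : P ≤ U) (h0 : h.img P = ⊥) :
    P = ⊥ := by
  rw [← h.symm_img_img hP, h0, h.symm.img_bot]

theorem img_centralizerIn (h : Tr U U' θ κ) {S T : Subgroup Ω} (hS : S ≤ U) (hT : T ≤ U) :
    h.img (centralizerIn S T) = centralizerIn (h.img S) (h.img T) := by
  ext y
  constructor
  · rintro ⟨hy, hy1, hy2⟩
    refine ⟨⟨hy, hy1⟩, ?_⟩
    have hy2 : κ y ∈ Subgroup.centralizer (T : Set Ω) := hy2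
    show y ∈ Subgroup.centralizer (h.img T : Set Ω')
    rw [Subgroup.mem_centralizer_iff] at hy2 ⊢
    intro t ht
    have h1 := hy2 (κ t) ht.2
    have h2 : θ (κ t * κ y) = θ (κ y * κ t) := by rw [h1]
    rw [h.mul _ (hT ht.2) _ (hS hy1), h.mul _ (hS hy1) _ (hT ht.2), h.right y hy,
      h.right t ht.1] at h2
    exact h2
  · rintro ⟨⟨hy, hy1⟩, hy2⟩
    refine ⟨hy, hy1, ?_⟩
    have hy2 : y ∈ Subgroup.centralizer (h.img T : Set Ω') := hy2
    show κ y ∈ Subgroup.centralizer (T : Set Ω)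
    rw [Subgroup.mem_centralizer_iff] at hy2 ⊢
    intro t ht
    have h1 := hy2 (θ t) (h.map_mem_img ht (hT ht))
    have h2 : κ (θ t * y) = κ (y * θ t) := by rw [h1]
    rw [h.mul' _ (h.map t (hT ht)) _ hy, h.mul' _ hy _ (h.map t (hT ht)), h.left t (hT ht)] at h2
    exact h2

/-- the isomorphism between a subgroup and its image -/
noncomputable def equiv (h : Tr U U' θ κ) {P : Subgroup Ω} (hP : P ≤ U) : P ≃* h.img P where
  toFun x := ⟨θ x, h.map_mem_img x.2 (hP x.2)⟩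
  invFun y := ⟨κ y, y.2.2⟩
  left_inv x := Subtype.ext (h.left x (hP x.2))
  right_inv y := Subtype.ext (h.right y y.2.1)
  map_mul' x y := Subtype.ext (h.mul x (hP x.2) y (hP y.2))

theorem equiv_apply (h : Tr U U' θ κ) {P : Subgroup Ω} (hP : P ≤ U) (x : P) :
    ((h.equiv hP x : h.img P) : Ω') = θ x := rfl

theorem equiv_symm_apply (h : Tr U U' θ κ) {P : Subgroup Ω} (hP : P ≤ U) (y : h.img P) :
    (((h.equiv hP).symm y : P) : Ω) = κ y := rfl

theorem card_img (h : Tr U U' θ κ) {P : Subgroup Ω} (hP : P ≤ U) :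
    Nat.card (h.img P) = Nat.card P :=
  (Nat.card_congr (h.equiv hP).toEquiv).symm

theorem finite_img (h : Tr U U' θ κ) {P : Subgroup Ω} (hP : P ≤ U) [Finite P] :
    Finite (h.img P) :=
  Finite.of_equiv _ (h.equiv hP).toEquiv

theorem isPGroup_img (h : Tr U U' θ κ) {P : Subgroup Ω} (hP : P ≤ U) {p : ℕ}
    (hp : IsPGroup p P) : IsPGroup p (h.img P) :=
  hp.of_equiv (h.equiv hP)

/-- composition -/
theorem trans {Ω'' : Type w} [Group Ω''] {U'' : Subgroup Ω''} {θ' : Ω' → Ω''} {κ' : Ω'' → Ω'}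
    (h : Tr U U' θ κ) (h' : Tr U' U'' θ' κ') :
    Tr U U'' (fun x => θ' (θ x)) (fun z => κ (κ' z)) where
  map x hx := h'.map _ (h.map x hx)
  mul x hx y hy := by
    show θ' (θ (x * y)) = _
    rw [h.mul x hx y hy, h'.mul _ (h.map x hx) _ (h.map y hy)]
  inv z hz := h.inv _ (h'.inv z hz)
  left x hx := by
    show κ (κ' (θ' (θ x))) = x
    rw [h'.left _ (h.map x hx), h.left x hx]
  right z hz := by
    show θ' (θ (κ (κ' z))) = z
    rw [h.right _ (h'.inv z hz), h'.right z hz]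

theorem trans_img {Ω'' : Type w} [Group Ω''] {U'' : Subgroup Ω''} {θ' : Ω' → Ω''}
    {κ' : Ω'' → Ω'} (h : Tr U U' θ κ) (h' : Tr U' U'' θ' κ') (P : Subgroup Ω) :
    (h.trans h').img P = h'.img (h.img P) := by
  ext z
  constructor
  · rintro ⟨hz, hz'⟩
    exact ⟨hz, h'.inv z hz, hz'⟩
  · rintro ⟨hz, -, hz'⟩
    exact ⟨hz, hz'⟩

/-- change of the functions off the subgroups -/
theorem congr (h : Tr U U' θ κ) {θ₂ : Ω → Ω'} {κ₂ : Ω' → Ω} (e1 : ∀ x ∈ U, θ₂ x = θ x)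
    (e2 : ∀ y ∈ U', κ₂ y = κ y) : Tr U U' θ₂ κ₂ where
  map x hx := by rw [e1 x hx]; exact h.map x hx
  mul x hx y hy := by
    rw [e1 _ (U.mul_mem hx hy), e1 x hx, e1 y hy]
    exact h.mul x hx y hy
  inv y hy := by rw [e2 y hy]; exact h.inv y hy
  left x hx := by rw [e1 x hx, e2 _ (h.map x hx)]; exact h.left x hx
  right y hy := by rw [e2 y hy, e1 _ (h.inv y hy)]; exact h.right y hy

end Tr

end Cfsg.Agent.Helper84.T1
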