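import Mathlib
import Cfsg.Prelude.Def_FusionSystem
import Cfsg.Prelude.Def_FusionComponents
import Cfsg.Agent.Lib.Helper84.FusT1
import Cfsg.Agent.Lib.Helper87.FusionAut

/-!
# Fusion systems related by an isomorphism of the underlying groups
-/

set_option autoImplicit false

namespace Cfsg.Agent.Helper84.T2

open Cfsg Cfsg.FusionSystem
open Cfsg.Agent.Helper87 (Mor Iso extFun extAut extHom)
open Cfsg.Agent.Helper84.T1

universe u v w
variable {Ω : Type u} {Ω' : Type v} [Group Ω] [Group Ω']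
variable {U : Subgroup Ω} {U' : Subgroup Ω'} {θ : Ω → Ω'} {κ : Ω' → Ω}

/-- two fusion systems over the same subgroup with the same maps are equal -/
theorem fusionSystem_ext {S : Subgroup Ω} {E F : FusionSystem S}
    (h : ∀ P : Subgroup Ω, E.Hom P = F.Hom P) : E = F := by
  cases E
  cases F
  congr
  funext P
  exact h P

/-- `F'` is the image of `F` under the isomorphism `θ` -/
structure Rel (h : Tr U U' θ κ) {S : Subgroup Ω} {S' : Subgroup Ω'} (F : FusionSystem S)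
    (F' : FusionSystem S') : Prop where
  le : S ≤ U
  eq : S' = h.img S
  fwd : ∀ (P : Subgroup Ω) (f : Ω → Ω), Mor F P f → Mor F' (h.img P) (fun y => θ (f (κ y)))
  bwd : ∀ (P' : Subgroup Ω') (f' : Ω' → Ω'), Mor F' P' f' →
    Mor F (h.symm.img P') (fun x => κ (f' (θ x)))

namespace Rel

variable {h : Tr U U' θ κ} {S : Subgroup Ω} {S' : Subgroup Ω'} {F : FusionSystem S}
  {F' : FusionSystem S'}

theorem le' (hr : Rel h F F') : S' ≤ U' := by
  rw [hr.eq]
  exact h.img_le S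

theorem eq' (hr : Rel h F F') : S = h.symm.img S' := by
  rw [hr.eq, h.symm_img_img hr.le]

theorem symm (hr : Rel h F F') : Rel h.symm F' F :=
  ⟨hr.le', hr.eq', hr.bwd, hr.fwd⟩

theorem img_le (hr : Rel h F F') {P : Subgroup Ω} (hP : P ≤ S) : h.img P ≤ S' := by
  rw [hr.eq]
  exact h.img_mono hP

theorem symm_img_le (hr : Rel h F F') {P' : Subgroup Ω'} (hP' : P' ≤ S') :
    h.symm.img P' ≤ S := hr.symm.img_le hP'

/-- recognizing a map of `F'` -/
theorem mor_of' (hr : Rel h F F') {P' : Subgroup Ω'} (hP' : P' ≤ S') {f' : Ω' → Ω'}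
    (hf' : ∀ y ∈ P', f' y ∈ U')
    (hm : Mor F (h.symm.img P') (fun x => κ (f' (θ x)))) : Mor F' P' f' := by
  have h1 := hr.fwd _ _ hm
  rw [h.img_symm_img (hP'.trans hr.le')] at h1
  refine h1.congr (fun y hy => ?_)
  show θ (κ (f' (θ (κ y)))) = f' y
  rw [h.right y (hr.le' (hP' hy)), h.right _ (hf' y hy)]

/-- recognizing a map of `F` -/
theorem mor_of (hr : Rel h F F') {P : Subgroup Ω} (hP : P ≤ S) {f : Ω → Ω}
    (hf : ∀ x ∈ P, f x ∈ U)
    (hm : Mor F' (h.img P) (fun y => θ (f (κ y)))) : Mor F P f :=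
  hr.symm.mor_of' hP hf hm

theorem mor_iff' (hr : Rel h F F') {P' : Subgroup Ω'} (hP' : P' ≤ S') {f' : Ω' → Ω'}
    (hf' : ∀ y ∈ P', f' y ∈ U') :
    Mor F' P' f' ↔ Mor F (h.symm.img P') (fun x => κ (f' (θ x))) :=
  ⟨hr.bwd P' f', hr.mor_of' hP' hf'⟩

theorem mem_hom_iff (hr : Rel h F F') {P' : Subgroup Ω'} (φ' : P' →* Ω') :
    φ' ∈ F'.Hom P' ↔ P' ≤ S' ∧ (∀ y : P', φ' y ∈ S') ∧
      Mor F (h.symm.img P') (fun x => κ (extFun φ' (θ x))) := by
  constructor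
  · intro hφ'
    exact ⟨(F'.le_of_mem hφ').1, (F'.le_of_mem hφ').2,
      hr.bwd _ _ (Helper87.mor_of_mem hφ')⟩
  · rintro ⟨hP', hφS, hm⟩
    rw [Helper87.mem_hom_iff_mor]
    refine hr.mor_of' hP' (fun y hy => ?_) hm
    rw [Helper87.extFun_mem φ' hy]
    exact hr.le' (hφS _)

/-- the image system is unique -/
theorem unique {S₁ S₂ : Subgroup Ω'} {F₁ : FusionSystem S₁} {F₂ : FusionSystem S₂}
    (h1 : Rel h F F₁) (h2 : Rel h F F₂) : S₁ = S₂ ∧ ∀ P' : Subgroup Ω', F₁.Hom P' = F₂.Hom P' := by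
  have e : S₁ = S₂ := h1.eq.trans h2.eq.symm
  refine ⟨e, fun P' => ?_⟩
  ext φ'
  rw [h1.mem_hom_iff, h2.mem_hom_iff, e]

/-- images of subsystems are subsystems -/
theorem subsystem {T : Subgroup Ω} {T' : Subgroup Ω'} {E : FusionSystem T}
    {E' : FusionSystem T'} (hrE : Rel h E E') (hr : Rel h F F') (hsub : E.IsSubsystemOf F) :
    E'.IsSubsystemOf F' := by
  intro P' φ' hφ'
  have hTS : T ≤ S := by
    intro x hx
    have := hsub T (Helper87.mem_hom_iff_mor.2 ((Mor.id (F := E) le_rfl).congr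
      (fun y hy => (Helper87.extFun_mem T.subtype hy).symm)))
    exact (F.le_of_mem this).1 hx
  have hT'S' : T' ≤ S' := by
    rw [hrE.eq, hr.eq]
    exact h.img_mono hTS
  obtain ⟨hP', hφT, hm⟩ := (hrE.mem_hom_iff φ').1 hφ'
  rw [hr.mem_hom_iff]
  refine ⟨hP'.trans hT'S', fun y => hT'S' (hφT y), ?_⟩
  exact Helper87.Mor.of_subsystem hsub hm

theorem mor_sub {T : Subgroup Ω} {T' : Subgroup Ω'} {E : FusionSystem T}
    {E' : FusionSystem T'} (hrE : Rel h E E') (hr : Rel h F F')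
    (hsub : ∀ (P : Subgroup Ω) (f : Ω → Ω), Mor E P f → Mor F P f) :
    ∀ (P' : Subgroup Ω') (f' : Ω' → Ω'), Mor E' P' f' → Mor F' P' f' := by
  intro P' f' hm
  have h1 := hsub _ _ (hrE.bwd _ _ hm)
  have hP'T' : P' ≤ T' := hm.le
  have hT'S' : T' ≤ S' := by
    have hTS : T ≤ S := (hsub T _ (Mor.id (F := E) le_rfl)).le
    rw [hrE.eq, hr.eq]
    exact h.img_mono hTS
  exact hr.mor_of' (hP'T'.trans hT'S') (fun y hy => hrE.le' (hm.mem hy)) h1

/-- isomorphisms correspond -/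
theorem iso (hr : Rel h F F') {P Q : Subgroup Ω} {f : Ω → Ω} (hf : Iso F P Q f) :
    Iso F' (h.img P) (h.img Q) (fun y => θ (f (κ y))) := by
  refine ⟨hr.fwd _ _ hf.1, fun z => ?_⟩
  have hQ : Q ≤ U := hf.le_right.trans hr.le
  have hP : P ≤ U := hf.le_left.trans hr.le
  constructor
  · intro hz
    obtain ⟨x, hx, e⟩ := hf.surj hz.2
    refine ⟨θ x, h.map_mem_img hx (hP hx), ?_⟩
    show θ (f (κ (θ x))) = z
    rw [h.left x (hP hx), e, h.right z hz.1]
  · rintro ⟨y, hy, rfl⟩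
    exact h.map_mem_img (hf.map_mem hy.2) (hQ (hf.map_mem hy.2))

theorem isConj (hr : Rel h F F') {P Q : Subgroup Ω} (hc : F.IsConj P Q) :
    F'.IsConj (h.img P) (h.img Q) := by
  obtain ⟨f, hf⟩ := Helper87.isConj_iff.1 hc
  exact Helper87.isConj_iff.2 ⟨_, hr.iso hf⟩

/-- composition of relations -/
theorem trans {Ω'' : Type w} [Group Ω''] {U'' : Subgroup Ω''} {θ' : Ω' → Ω''} {κ' : Ω'' → Ω'}
    {h' : Tr U' U'' θ' κ'} {S'' : Subgroup Ω''} {F'' : FusionSystem S''}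
    (hr : Rel h F F') (hr' : Rel h' F' F'') : Rel (h.trans h') F F'' where
  le := hr.le
  eq := by rw [hr'.eq, hr.eq, Tr.trans_img]
  fwd P f hm := by
    have := hr'.fwd _ _ (hr.fwd _ _ hm)
    rw [Tr.trans_img]
    exact this
  bwd P'' f'' hm := by
    have := hr.bwd _ _ (hr'.bwd _ _ hm)
    have e : (h.trans h').symm.img P'' = h.symm.img (h'.symm.img P'') := by
      ext x
      constructor
      · rintro ⟨hx, hx'⟩
        exact ⟨hx, h.map x hx, hx'⟩
      · rintro ⟨hx, -, hx'⟩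
        exact ⟨hx, hx'⟩
    rw [e]
    exact this

/-- change of the functions off the relevant subgroups, and of the ambient pair -/
theorem congr {V : Subgroup Ω} {V' : Subgroup Ω'} {θ₂ : Ω → Ω'} {κ₂ : Ω' → Ω}
    (hr : Rel h F F') (h₂ : Tr V V' θ₂ κ₂) (hSV : S ≤ V) (hS'V' : S' ≤ V')
    (e1 : ∀ x ∈ S, θ₂ x = θ x) (e2 : ∀ y ∈ S', κ₂ y = κ y) : Rel h₂ F F' := by
  have himg : ∀ P : Subgroup Ω, P ≤ S → h₂.img P = h.img P := by
    intro P hP
    ext y
    rw [h₂.mem_img' (hP.trans hSV), h.mem_img' (hP.trans hr.le)]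
    constructor
    · rintro ⟨x, hx, rfl⟩
      exact ⟨x, hx, (e1 x (hP hx)).symm⟩
    · rintro ⟨x, hx, rfl⟩
      exact ⟨x, hx, e1 x (hP hx)⟩
  have himg' : ∀ P' : Subgroup Ω', P' ≤ S' → h₂.symm.img P' = h.symm.img P' := by
    intro P' hP'
    ext y
    rw [h₂.symm.mem_img' (hP'.trans hS'V'), h.symm.mem_img' (hP'.trans hr.le')]
    constructor
    · rintro ⟨x, hx, rfl⟩
      exact ⟨x, hx, (e2 x (hP' hx)).symm⟩
    · rintro ⟨x, hx, rfl⟩
      exact ⟨x, hx, e2 x (hP' hx)⟩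
  refine ⟨hSV, ?_, fun P f hm => ?_, fun P' f' hm => ?_⟩
  · rw [himg S le_rfl]
    exact hr.eq
  · rw [himg P hm.le]
    refine (hr.fwd P f hm).congr (fun y hy => ?_)
    have hyS' : y ∈ S' := hr.img_le hm.le hy
    show θ (f (κ y)) = θ₂ (f (κ₂ y))
    rw [e2 y hyS', e1 _ (hm.mem hy.2)]
  · rw [himg' P' hm.le]
    refine (hr.bwd P' f' hm).congr (fun x hx => ?_)
    have hxS : x ∈ S := hr.symm_img_le hm.le hx
    show κ (f' (θ x)) = κ₂ (f' (θ₂ x))
    rw [e1 x hxS, e2 _ (hm.mem hx.2)]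

end Rel

end Cfsg.Agent.Helper84.T2
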