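import Mathlib
import Cfsg.Prelude.Def_FusionSystem
import Cfsg.Prelude.Def_FusionComponents
import Cfsg.Agent.Lib.Helper84.FusT2
import Cfsg.Agent.Lib.Helper85.FactorSystem
import Cfsg.Agent.Lib.Helper85.Solvable2

/-!
# The relation `Rel` and the predicate `IsFactorSystem ⊥`; existence of images; saturation
-/

set_option autoImplicit false

namespace Cfsg.Agent.Helper84.T3

open Cfsg Cfsg.FusionSystem
open Cfsg.Agent.Helper87 (Mor Iso extFun extAut extHom)
open Cfsg.Agent.Helper84.T1 Cfsg.Agent.Helper84.T2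

universe u v w
variable {Ω : Type u} {Ω' : Type v} [Group Ω] [Group Ω']
variable {U : Subgroup Ω} {U' : Subgroup Ω'} {θ : Ω → Ω'} {κ : Ω' → Ω}

/-- the homomorphism on `S` given by `θ` -/
def homOf (h : Tr U U' θ κ) {S : Subgroup Ω} (hS : S ≤ U) : S →* Ω' where
  toFun x := θ x
  map_one' := h.one
  map_mul' x y := h.mul x (hS x.2) y (hS y.2)

theorem homOf_apply (h : Tr U U' θ κ) {S : Subgroup Ω} (hS : S ≤ U) (x : S) :
    homOf h hS x = θ x := rfl

theorem extHom_homOf (h : Tr U U' θ κ) {S : Subgroup Ω} (hS : S ≤ U) {x : Ω} (hx : x ∈ S) :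
    extHom (homOf h hS) x = θ x := by
  rw [Helper87.extHom_mem _ hx]
  rfl

theorem stronglyClosed_bot {S : Subgroup Ω} (F : FusionSystem S) : F.StronglyClosed ⊥ := by
  refine ⟨bot_le, fun R hR φ hφ x => ?_⟩
  have hx : (x : Ω) = 1 := by
    have := hR x.2
    rwa [Subgroup.mem_bot] at this
  have hx' : x = 1 := Subtype.ext hx
  rw [hx', map_one]
  exact Subgroup.one_mem _

variable {S : Subgroup Ω} {S' : Subgroup Ω'} {F : FusionSystem S} {F' : FusionSystem S'}

/-- from the predicate `IsFactorSystem ⊥` to the relation -/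
theorem rel_of_factor {θ₀ : S →* Ω'} (hE : F.IsFactorSystem ⊥ θ₀ F') (h : Tr U U' θ κ)
    (hS : S ≤ U) (compat : ∀ x (hx : x ∈ S), θ x = θ₀ ⟨x, hx⟩) : Rel h F F' := by
  have hθ : ∀ x ∈ S, extHom θ₀ x = θ x := fun x hx => by
    rw [Helper87.extHom_mem θ₀ hx, compat x hx]
  have heq : S' = h.img S := by
    ext y
    rw [Helper87.factor_range hE, h.mem_img' hS]
    constructor
    · rintro ⟨x, hx, rfl⟩
      exact ⟨x, hx, (hθ x hx).symm⟩
    · rintro ⟨x, hx, rfl⟩
      exact ⟨x, hx, hθ x hx⟩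
  have hS'U' : S' ≤ U' := heq ▸ h.img_le S
  have hpre : ∀ P' : Subgroup Ω', P' ≤ S' → preimageAlong θ₀ P' = h.symm.img P' := by
    intro P' hP'
    ext x
    rw [Helper87.mem_preimageAlong_iff]
    constructor
    · rintro ⟨hx, hx'⟩
      rw [hθ x hx] at hx'
      exact ⟨hS hx, hx'⟩
    · rintro ⟨hx, hx'⟩
      have h1 : θ x ∈ h.img S := heq ▸ hP' hx'
      have h2 : x ∈ S := by
        have := h1.2
        rwa [h.left x hx] at this
      exact ⟨h2, by rw [hθ x h2]; exact hx'⟩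
  refine ⟨hS, heq, fun P f hm => ?_, fun P' f' hm => ?_⟩
  · have hP : P ≤ S := hm.le
    have hP' : h.img P ≤ S' := heq ▸ h.img_mono hP
    have e : preimageAlong θ₀ (h.img P) = P := by
      rw [hpre _ hP', h.symm_img_img (hP.trans hS)]
    refine Helper87.factor_mor_of hE hP' (f := f) (by rw [e]; exact hm) (fun x hx => ?_)
    rw [e] at hx
    rw [hθ x (hP hx), hθ _ (hm.mem hx)]
    show θ (f (κ (θ x))) = θ (f x)
    rw [h.left x (hS (hP hx))]
  · obtain ⟨f, hf, e⟩ := Helper87.factor_mor_exists hE hm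
    have hP' : P' ≤ S' := hm.le
    rw [hpre P' hP'] at hf e
    refine hf.congr (fun x hx => ?_)
    have hxS : x ∈ S := hf.le hx
    have := e x hx
    rw [hθ x hxS, hθ _ (hf.mem hx)] at this
    show f x = κ (f' (θ x))
    rw [this, h.left _ (hS (hf.mem hx))]

/-- an inverse function for an injective `θ₀` -/
theorem exists_tr_of_factor {θ₀ : S →* Ω'} (hE : F.IsFactorSystem ⊥ θ₀ F') :
    ∃ κ, Tr S S' (extHom θ₀) κ := by
  classical
  have hsurj : ∀ y : Ω', y ∈ S' → ∃ x : Ω, x ∈ S ∧ extHom θ₀ x = y := fun y hy =>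
    (Helper87.factor_range hE).1 hy
  refine ⟨fun y => if hy : y ∈ S' then (hsurj y hy).choose else 1, ?_⟩
  have hκ : ∀ y (hy : y ∈ S'), (if hy : y ∈ S' then (hsurj y hy).choose else 1) =
      (hsurj y hy).choose := fun y hy => dif_pos hy
  have hinj : ∀ x ∈ S, ∀ y ∈ S, extHom θ₀ x = extHom θ₀ y → x = y := by
    intro x hx y hy hxy
    have := (Helper87.factor_eq_iff hE hx hy).1 hxy
    rw [Subgroup.mem_bot] at this
    exact inv_mul_eq_one.1 this
  refine ⟨fun x hx => Helper87.factor_mem hE hx, fun x hx y hy => Helper87.extHom_mul θ₀ hx hy,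
    fun y hy => ?_, fun x hx => ?_, fun y hy => ?_⟩
  · show (if hy : y ∈ S' then (hsurj y hy).choose else 1) ∈ S
    rw [hκ y hy]
    exact (hsurj y hy).choose_spec.1
  · have hy : extHom θ₀ x ∈ S' := Helper87.factor_mem hE hx
    show (if hy : extHom θ₀ x ∈ S' then (hsurj _ hy).choose else 1) = x
    rw [hκ _ hy]
    exact hinj _ (hsurj _ hy).choose_spec.1 _ hx (hsurj _ hy).choose_spec.2
  · show extHom θ₀ (if hy : y ∈ S' then (hsurj y hy).choose else 1) = y
    rw [hκ y hy]
    exact (hsurj y hy).choose_spec.2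

/-- from the predicate to the relation, with the canonical functions -/
theorem exists_rel_of_factor {θ₀ : S →* Ω'} (hE : F.IsFactorSystem ⊥ θ₀ F') :
    ∃ κ, ∃ h : Tr S S' (extHom θ₀) κ, Rel h F F' := by
  obtain ⟨κ, h⟩ := exists_tr_of_factor hE
  exact ⟨κ, h, rel_of_factor hE h le_rfl (fun x hx => Helper87.extHom_mem θ₀ hx)⟩

/-- from the relation to the predicate -/
theorem _root_.Cfsg.Agent.Helper84.T2.Rel.isFactorSystem {h : Tr U U' θ κ} (hr : Rel h F F') :
    F.IsFactorSystem ⊥ (homOf h hr.le) F' := by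
  have hS := hr.le
  have hpre : ∀ P' : Subgroup Ω', P' ≤ S' → preimageAlong (homOf h hS) P' = h.symm.img P' := by
    intro P' hP'
    ext x
    rw [Helper87.mem_preimageAlong_iff]
    constructor
    · rintro ⟨hx, hx'⟩
      rw [extHom_homOf h hS hx] at hx'
      exact ⟨hS hx, hx'⟩
    · rintro ⟨hx, hx'⟩
      have h1 : θ x ∈ h.img S := hr.eq ▸ hP' hx'
      have h2 : x ∈ S := by
        have := h1.2
        rwa [h.left x hx] at this
      exact ⟨h2, by rw [extHom_homOf h hS h2]; exact hx'⟩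
  have hrange : (homOf h hS).range = S' := by
    ext y
    rw [hr.eq, h.mem_img' hS]
    constructor
    · rintro ⟨x, rfl⟩
      exact ⟨x, x.2, rfl⟩
    · rintro ⟨x, hx, rfl⟩
      exact ⟨⟨x, hx⟩, rfl⟩
  refine ⟨bot_le, fun s => ?_, hrange, fun P' φ' => ?_⟩
  · rw [Subgroup.mem_bot]
    constructor
    · intro hs
      have : θ (s : Ω) = θ 1 := by rw [h.one]; exact hs
      exact h.inj (hS s.2) U.one_mem this
    · intro hs
      have : s = 1 := Subtype.ext hs
      rw [this, map_one]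
  · constructor
    · intro hφ'
      obtain ⟨hP', hφS, hm⟩ := (hr.mem_hom_iff φ').1 hφ'
      refine ⟨hP', ?_⟩
      rw [hpre P' hP']
      obtain ⟨φ, hφ, eφ⟩ := hm
      have hPS : h.symm.img P' ≤ S := (F.le_of_mem hφ).1
      refine ⟨φ, hφ, hPS, (F.le_of_mem hφ).2, fun x => x.2.2, fun x => ?_⟩
      show φ' ⟨θ x, _⟩ = θ (φ x)
      have h1 := eφ x
      simp only at h1
      rw [h1, Helper87.extFun_mem φ' x.2.2, h.right _ (hr.le' (hφS _))]
    · rintro ⟨hP', φ, hφ, hP, hφS, hPP', hind⟩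
      rw [hr.mem_hom_iff]
      have hvals : ∀ y : P', φ' y ∈ S' := by
        intro y
        have hyS' : (y : Ω') ∈ h.img S := hr.eq ▸ hP' y.2
        have hx : κ y ∈ preimageAlong (homOf h hS) P' := by
          rw [hpre P' hP']
          exact ⟨h.inv _ hyS'.1, by rw [h.right _ hyS'.1]; exact y.2⟩
        have h1 := hind ⟨κ y, hx⟩
        have e : (⟨(homOf h hS) ⟨κ y, hP hx⟩, hPP' ⟨κ y, hx⟩⟩ : P') = y :=
          Subtype.ext (h.right _ hyS'.1)
        rw [e] at h1
        rw [h1]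
        exact hrange.le ⟨_, rfl⟩
      refine ⟨hP', hvals, ?_⟩
      rw [← hpre P' hP']
      refine ⟨φ, hφ, fun x => ?_⟩
      have h1 := hind x
      have h2 : (⟨(homOf h hS) ⟨x, hP x.2⟩, hPP' x⟩ : P') = ⟨θ x, hPP' x⟩ := rfl
      show φ x = κ (extFun φ' (θ x))
      have e3 : extFun φ' (θ x) = φ' ⟨θ x, hPP' x⟩ := Helper87.extFun_mem φ' (hPP' x)
      rw [e3, ← h2, h1]
      show φ x = κ (θ (φ x))
      rw [h.left _ (hS (hφS x))]

/-- existence of the image system -/
theorem exists_push (h : Tr U U' θ κ) [Finite S] (F : FusionSystem S) (hS : S ≤ U) :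
    ∃ F' : FusionSystem (h.img S), Rel h F F' := by
  have hker : ∀ s : S, homOf h hS s = 1 ↔ (s : Ω) ∈ (⊥ : Subgroup Ω) := by
    intro s
    rw [Subgroup.mem_bot]
    constructor
    · intro hs
      have : θ (s : Ω) = θ 1 := by rw [h.one]; exact hs
      exact h.inj (hS s.2) U.one_mem this
    · intro hs
      have : s = 1 := Subtype.ext hs
      rw [this, map_one]
  have hrange : (homOf h hS).range = h.img S := by
    ext y
    rw [h.mem_img' hS]
    constructor
    · rintro ⟨x, rfl⟩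
      exact ⟨x, x.2, rfl⟩
    · rintro ⟨x, hx, rfl⟩
      exact ⟨⟨x, hx⟩, rfl⟩
  refine ⟨Helper85.factorSystem F ⊥ (homOf h hS) (h.img S) hker hrange (stronglyClosed_bot F), ?_⟩
  exact rel_of_factor (Helper85.factorSystem_isFactorSystem F ⊥ (homOf h hS) (h.img S) hker hrange
    (stronglyClosed_bot F)) h hS (fun x hx => rfl)

/-- saturation is transported -/
theorem _root_.Cfsg.Agent.Helper84.T2.Rel.saturated {h : Tr U U' θ κ} [Finite S] {p : ℕ} [Fact p.Prime] (hS : IsPGroup p S)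
    (hr : Rel h F F') (hF : F.IsSaturated p) : F'.IsSaturated p :=
  Helper85.factor_saturated hS hF (stronglyClosed_bot F) hr.isFactorSystem

theorem _root_.Cfsg.Agent.Helper84.T2.Rel.finite {h : Tr U U' θ κ} [Finite S] (hr : Rel h F F') : Finite S' := by
  rw [hr.eq]
  exact h.finite_img hr.le

theorem _root_.Cfsg.Agent.Helper84.T2.Rel.isPGroup {h : Tr U U' θ κ} {p : ℕ} (hS : IsPGroup p S) (hr : Rel h F F') :
    IsPGroup p S' := by
  rw [hr.eq]
  exact h.isPGroup_img hr.le hS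

end Cfsg.Agent.Helper84.T3
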