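import Mathlib
import Cfsg.Prelude.Def_FusionSystem
import Cfsg.Agent.Lib.Helper84.FusPair

/-!
# Local versions of the `K`-normalizer lemmas: only a fully automized receptive conjugate of the
subgroup at hand is assumed, not saturation of the whole system.
-/

set_option autoImplicit false

namespace Cfsg.Agent.Helper84

open Cfsg Cfsg.FusionSystem
open scoped Pointwise

variable {Ω : Type*} [Group Ω] {S : Subgroup Ω}

/-- `U` has a fully automized receptive conjugate. -/
def LocSat (F : FusionSystem S) (p : ℕ) (U : Subgroup Ω) : Prop :=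
  ∃ V : Subgroup Ω, F.IsConj U V ∧ F.IsFullyAutomized p V ∧ F.IsReceptive V

theorem LocSat.of_conj {F : FusionSystem S} {p : ℕ} {U U' : Subgroup Ω} (h : LocSat F p U)
    (hc : F.IsConj U U') : LocSat F p U' := by
  obtain ⟨V, hUV, hFA, hRec⟩ := h
  exact ⟨V, conj_trans F (conj_symm F hc) hUV, hFA, hRec⟩

theorem LocSat.le {F : FusionSystem S} {p : ℕ} {U : Subgroup Ω} (h : LocSat F p U) : U ≤ S := by
  obtain ⟨V, hUV, -, -⟩ := h
  exact (conj_le F hUV).1

/-- A fully normalized subgroup with a fully automized receptive conjugate is itself such. -/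
theorem local_fn (F : FusionSystem S) [Finite S] {p : ℕ} [Fact p.Prime] (hS : IsPGroup p S)
    {P : Subgroup Ω} (hloc : LocSat F p P) (hP : F.IsFullyNormalized P) :
    F.IsFullyAutomized p P ∧ F.IsReceptive P := by
  obtain ⟨R, hPR, hFA, hRec⟩ := hloc
  obtain ⟨φ, hφ, hval, hmap⟩ := exists_normalizer_hom F hS hFA hRec hPR
  have hcard := hP.2 R hPR
  have hle : φ.range ≤ normalizerIn S R := by
    rintro _ ⟨x, rfl⟩
    exact hval x
  have hfin : Finite (normalizerIn S R) := finite_of_le inf_le_left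
  have heq : φ.range = normalizerIn S R := by
    apply Subgroup.eq_of_le_of_card_ge hle
    rw [card_range_of_injective φ (F.injective_of_mem hφ)]
    exact hcard
  refine ⟨automized_of_hom F hS hFA hφ hP.1 hmap heq.ge, ?_⟩
  refine receptive_of_hom F hRec hφ hP.1 hmap ?_
  rw [heq]
  exact le_inf inf_le_left (inf_le_right.trans (Subgroup.centralizer_le_normalizer _))

/-- A fully centralized subgroup with a fully automized receptive conjugate is receptive. -/
theorem local_fc (F : FusionSystem S) [Finite S] {p : ℕ} [Fact p.Prime] (hS : IsPGroup p S)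
    {P : Subgroup Ω} (hloc : LocSat F p P) (hP : F.IsFullyCentralized P) :
    F.IsReceptive P := by
  obtain ⟨R, hPR, hFA, hRec⟩ := hloc
  obtain ⟨φ, hφ, hval, hmap⟩ := exists_normalizer_hom F hS hFA hRec hPR
  have hcard := hP.2 R hPR
  refine receptive_of_hom F hRec hφ hP.1 hmap ?_
  have hCN : centralizerIn S P ≤ normalizerIn S P :=
    le_inf inf_le_left (inf_le_right.trans (Subgroup.centralizer_le_normalizer _))
  have hK : ((centralizerIn S P).subgroupOf (normalizerIn S P)).map φ ≤ centralizerIn S R := by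
    rintro _ ⟨c, hc, rfl⟩
    refine Subgroup.mem_inf.mpr ⟨(F.le_of_mem hφ).2 c, ?_⟩
    rw [Subgroup.mem_centralizer_iff]
    intro z hz
    rw [← hmap] at hz
    obtain ⟨x, hx, rfl⟩ := hz
    rw [← map_mul, ← map_mul]
    congr 1
    apply Subtype.ext
    have hcc : (c : Ω) ∈ Subgroup.centralizer (P : Set Ω) := (Subgroup.mem_subgroupOf.mp hc).2
    exact hcc x hx
  have hfin : Finite (centralizerIn S R) := finite_of_le inf_le_left
  have hcardK : Nat.card (((centralizerIn S P).subgroupOf (normalizerIn S P)).map φ) =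
      Nat.card (centralizerIn S P) := by
    rw [← Nat.card_congr (Subgroup.subgroupOfEquivOfLe hCN).toEquiv]
    exact (Nat.card_congr (Subgroup.equivMapOfInjective _ φ (F.injective_of_mem hφ)).toEquiv).symm
  have heq : ((centralizerIn S P).subgroupOf (normalizerIn S P)).map φ = centralizerIn S R := by
    apply Subgroup.eq_of_le_of_card_ge hK
    rw [hcardK]
    exact hcard
  rw [← heq]
  rintro _ ⟨c, -, rfl⟩
  exact ⟨c, rfl⟩

/-- Existence of a conjugate that is receptive and has the Sylow property for the transported `K`. -/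
theorem exists_good_target_local (F : FusionSystem S) [Finite S] {p : ℕ} [Fact p.Prime]
    {U : Subgroup Ω} (hloc : LocSat F p U) (K : Subgroup (MulAut U)) :
    ∃ (V : Subgroup Ω) (e : U ≃* V), e ∈ isoSet F U V ∧ F.IsReceptive V ∧
      IsSylIn p (autInducedBy S V ⊓ K.map (MulAut.congr e).toMonoidHom)
        (F.autGroup V ⊓ K.map (MulAut.congr e).toMonoidHom) := by
  obtain ⟨V, hUV, hFA, hRec⟩ := hloc
  obtain ⟨e₀, he₀⟩ := (isConj_iff_exists_iso F).mp hUV
  obtain ⟨hVS, hsyl⟩ := (fullyAutomized_iff F V).mp hFA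
  have hfinV : Finite V := finite_of_le hVS
  set K₀ := K.map (MulAut.congr e₀).toMonoidHom with hK₀
  obtain ⟨a, ha, hsyl'⟩ := exists_conj_inf_sylow hsyl (inf_le_left : F.autGroup V ⊓ K₀ ≤ F.autGroup V)
  have haF : a⁻¹ ∈ isoSet F V V :=
    (mem_autGroup_iff_isoSet F hVS _).mp ((F.autGroup V).inv_mem ha)
  refine ⟨V, e₀.trans a⁻¹, isoSet_trans F he₀ haF, hRec, ?_⟩
  rw [map_congr_trans]
  have h1 := hsyl'.map_conj a⁻¹
  have hinj : Function.Injective (MulAut.conj a⁻¹).toMonoidHom := (MulAut.conj a⁻¹).injective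
  rw [Subgroup.map_inf _ _ _ hinj, Subgroup.map_inf _ _ _ hinj, map_conj_map_conj_inv',
    map_conj_eq_self_of_mem ((F.autGroup V).inv_mem ha), ← inf_assoc,
    inf_eq_left.mpr (autInducedBy_le_autGroup F hVS)] at h1
  exact h1

/-- Transfer of the good properties back along an isomorphism when `N_S^K` does not shrink
(AKO I.5.2, (a) implies (b)). -/
theorem good_of_card_le_local (F : FusionSystem S) [Finite S] {p : ℕ} [Fact p.Prime] (hS : IsPGroup p S)
    {U V : Subgroup Ω} (hloc : LocSat F p U)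
    {e : U ≃* V} (he : e ∈ isoSet F U V) (K : Subgroup (MulAut U))
    (hV : F.IsReceptive V)
    (hsyl : IsSylIn p (autInducedBy S V ⊓ K.map (MulAut.congr e).toMonoidHom)
      (F.autGroup V ⊓ K.map (MulAut.congr e).toMonoidHom))
    (hcard : Nat.card (normK S V (K.map (MulAut.congr e).toMonoidHom)) ≤ Nat.card (normK S U K)) :
    F.IsReceptive U ∧ IsSylIn p (autInducedBy S U ⊓ K) (F.autGroup U ⊓ K) := by
  obtain ⟨hUS, hVS⟩ := isoSet_le F he
  have hfinV : Finite V := finite_of_le hVS
  have hfinU : Finite U := finite_of_le hUS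
  set K' := K.map (MulAut.congr e).toMonoidHom with hK'
  have hMA : ∀ g (hg : g ∈ normK S U K),
      MulAut.congr e (normAut S U ⟨g, normK_le S U K hg⟩) ∈
        (F.autGroup V ⊓ K') ⊔ (autInducedBy S V ⊓ K') := by
    intro g hg
    apply (le_sup_left : F.autGroup V ⊓ K' ≤ _)
    refine Subgroup.mem_inf.mpr ⟨?_, ?_⟩
    · exact congr_mem_autGroup F he (autInducedBy_le_autGroup F hUS (normAut_mem S U _))
    · exact ⟨_, (mem_normK_iff.mp hg).2, rfl⟩
  obtain ⟨a, ha, ψ, hψ, hψU, hψM⟩ := extend_of_good F hS he K' hV hsyl (F.autGroup V ⊓ K') le_rfl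
    (hsyl.1.trans Subgroup.le_normalizer) (normK S U K) (normK_le S U K) hMA
  have haF : a ∈ isoSet F V V := (mem_autGroup_iff_isoSet F hVS _).mp ha.1
  set e' : U ≃* V := e.trans a with he'def
  have he' : e' ∈ isoSet F U V := isoSet_trans F he haF
  have hK'e' : K.map (MulAut.congr e').toMonoidHom = K' := by
    rw [he'def, map_congr_trans, ← hK']
    exact map_conj_eq_self_of_mem ha.2
  have hψinj := F.injective_of_mem hψ
  -- the injection N_S^K(U) → N_S^{K'}(V)
  let f : normK S U K → normK S V K' := fun g => ⟨ψ ⟨g, (le_sup_left : _ ≤ normK S U K ⊔ U) g.2⟩, hψM g g.2⟩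
  have hfinj : Function.Injective f := by
    intro g₁ g₂ h
    have h1 := hψinj (congrArg Subtype.val h)
    have h2 : (g₁ : Ω) = g₂ := congrArg (fun z : ↥(normK S U K ⊔ U) => (z : Ω)) h1
    exact Subtype.ext h2
  have hfinNV : Finite (normK S V K') := finite_of_le ((normK_le S V K').trans inf_le_left)
  have hfbij : Function.Bijective f := hfinj.bijective_of_nat_card_le hcard
  -- conjugation compatibility
  have hconj : ∀ (g : Ω) (hg : g ∈ normK S U K),
      normAut S V ⟨(f ⟨g, hg⟩ : Ω), normK_le S V K' (f ⟨g, hg⟩).2⟩ =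
        MulAut.congr e' (normAut S U ⟨g, normK_le S U K hg⟩) := by
    intro g hg
    ext y
    obtain ⟨x, rfl⟩ := e'.surjective y
    rw [congr_apply', normAut_apply]
    have h1 : ∀ x : U, ((e' x : V) : Ω) = ψ (Subgroup.inclusion le_sup_right x) := fun x => (hψU x).symm
    rw [h1, h1]
    show ψ _ * ψ _ * (ψ _)⁻¹ = _
    rw [← map_inv, ← map_mul, ← map_mul]
    congr 1
  refine ⟨?_, ?_⟩
  · -- receptive, via fully centralized
    apply local_fc F hS hloc
    refine ⟨hUS, ?_⟩
    intro W hW
    have hVW : F.IsConj V W :=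
      conj_trans F (conj_symm F ((isConj_iff_exists_iso F).mpr ⟨e, he⟩)) hW
    refine ((receptive_fullyCentralized F hV).2 W hVW).trans ?_
    have hfinCU : Finite (centralizerIn S U) := finite_of_le inf_le_left
    let fe := Equiv.ofBijective f hfbij
    have hmem : ∀ c : centralizerIn S V,
        ((fe.symm ⟨c, centralizerIn_le_normK S V K' c.2⟩ : normK S U K) : Ω) ∈ centralizerIn S U := by
      intro c
      set g := fe.symm ⟨c, centralizerIn_le_normK S V K' c.2⟩ with hgdef
      have hfg : f g = ⟨c, centralizerIn_le_normK S V K' c.2⟩ := by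
        rw [hgdef]; exact fe.apply_symm_apply _
      have hgS : (g : Ω) ∈ S := ((normK_le S U K) g.2).1
      refine Subgroup.mem_inf.mpr ⟨hgS, ?_⟩
      rw [Subgroup.mem_centralizer_iff]
      intro x hx
      have hgx : (⟨x, (le_sup_right : U ≤ normK S U K ⊔ U) hx⟩ : ↥(normK S U K ⊔ U)) *
          ⟨g, (le_sup_left : _ ≤ normK S U K ⊔ U) g.2⟩ =
          ⟨g, (le_sup_left : _ ≤ normK S U K ⊔ U) g.2⟩ * ⟨x, (le_sup_right : U ≤ normK S U K ⊔ U) hx⟩ := by
        apply hψinj
        rw [map_mul, map_mul]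
        have h1 : ψ ⟨g, (le_sup_left : _ ≤ normK S U K ⊔ U) g.2⟩ = c := congrArg Subtype.val hfg
        have h2 : ψ ⟨x, (le_sup_right : U ≤ normK S U K ⊔ U) hx⟩ ∈ V := by
          have := hψU ⟨x, hx⟩
          rw [show Subgroup.inclusion le_sup_right (⟨x, hx⟩ : U) = (⟨x, (le_sup_right : U ≤ normK S U K ⊔ U) hx⟩ : ↥(normK S U K ⊔ U)) from rfl] at this
          rw [this]
          exact (a (e ⟨x, hx⟩)).2
        rw [h1]
        have hcc : (c : Ω) ∈ Subgroup.centralizer (V : Set Ω) := c.2.2
        exact hcc _ h2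
      exact congrArg Subtype.val hgx
    apply Nat.card_le_card_of_injective
      (fun c : centralizerIn S V => (⟨_, hmem c⟩ : centralizerIn S U))
    intro c₁ c₂ h
    have h0 : ((fe.symm ⟨c₁, centralizerIn_le_normK S V K' c₁.2⟩ : normK S U K) : Ω) =
        ((fe.symm ⟨c₂, centralizerIn_le_normK S V K' c₂.2⟩ : normK S U K) : Ω) :=
      congrArg (fun z : centralizerIn S U => (z : Ω)) h
    have h1 : fe.symm ⟨c₁, centralizerIn_le_normK S V K' c₁.2⟩ =
        fe.symm ⟨c₂, centralizerIn_le_normK S V K' c₂.2⟩ := Subtype.ext h0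
    have h2 := fe.symm.injective h1
    have h3 : (c₁ : Ω) = c₂ := congrArg (fun z : normK S V K' => (z : Ω)) h2
    exact Subtype.ext h3
  · -- Sylow property
    have h1 := hsyl.map_injective (MulAut.congr e'.symm).toMonoidHom (MulAut.congr e'.symm).injective
    have hinj : Function.Injective (MulAut.congr e'.symm).toMonoidHom := (MulAut.congr e'.symm).injective
    have hK2 : K'.map (MulAut.congr e'.symm).toMonoidHom = K := by
      rw [← hK'e', Subgroup.map_map]
      convert Subgroup.map_id K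
      ext α y
      simp [MulAut.congr]
    rw [Subgroup.map_inf _ _ _ hinj, Subgroup.map_inf _ _ _ hinj,
      map_congr_autGroup F (isoSet_symm F he'), hK2] at h1
    have hfinA : Finite (F.autGroup U ⊓ K : Subgroup (MulAut U)) := inferInstance
    refine h1.of_card_ge (inf_le_inf_right _ (autInducedBy_le_autGroup F hUS))
      ((isPGroup_autInducedBy hS U).to_inf_left) ?_
    apply Subgroup.card_le_of_le
    intro β hβ
    obtain ⟨⟨τ, hτ1, rfl⟩, hβK⟩ := Subgroup.mem_inf.mp hβ
    refine Subgroup.mem_inf.mpr ⟨?_, hβK⟩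
    have hτ2 : τ ∈ K' := by
      rw [← hK'e']
      refine ⟨_, hβK, ?_⟩
      exact congr_congr_symm e' τ
    have hτ : τ ∈ autInducedBy S V ⊓ K' := Subgroup.mem_inf.mpr ⟨hτ1, hτ2⟩
    obtain ⟨c, hc, rfl⟩ := mem_autInducedBy_inf_iff.mp hτ
    obtain ⟨⟨g, hg⟩, hfg⟩ := hfbij.2 ⟨c, hc⟩
    have h2 := hconj g hg
    have h3 : normAut S V ⟨c, normK_le S V K' hc⟩ =
        MulAut.congr e' (normAut S U ⟨g, normK_le S U K hg⟩) := by
      rw [← h2]
      congr 2
      exact (congrArg Subtype.val hfg).symm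
    show MulAut.congr e'.symm _ ∈ _
    rw [h3, congr_symm_congr]
    exact normAut_mem S U _


end Cfsg.Agent.Helper84
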