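import Mathlib
import Cfsg.Prelude.Def_FusionSystem
import Cfsg.Agent.Lib.Helper84.FusKL
import Cfsg.Agent.Lib.Helper84.FusNorm
import Cfsg.Agent.Lib.Helper87.FusionSaturated

/-!
# `K`-normalizers for pairs `Q ≤ R` with a prescribed restriction to `Q`
-/

set_option autoImplicit false

namespace Cfsg.Agent.Helper84

open Cfsg Cfsg.FusionSystem

variable {Ω : Type*} [Group Ω] {S : Subgroup Ω}

/-- Automorphisms of `R` stabilizing `Q` whose restriction to `Q` lies in `N`. -/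
noncomputable def pairKN {R Q : Subgroup Ω} (hQR : Q ≤ R) (N : Subgroup (MulAut Q)) :
    Subgroup (MulAut R) :=
  (N.comap (resIn hQR)).map (stabIn R Q).subtype

theorem mem_pairKN_iff {R Q : Subgroup Ω} {hQR : Q ≤ R} {N : Subgroup (MulAut Q)} {β : MulAut R} :
    β ∈ pairKN hQR N ↔ ∃ h : β ∈ stabIn R Q, resIn hQR ⟨β, h⟩ ∈ N := by
  constructor
  · rintro ⟨⟨β, h⟩, hβ, rfl⟩
    exact ⟨h, hβ⟩
  · rintro ⟨h, hβ⟩
    exact ⟨⟨β, h⟩, hβ, rfl⟩

theorem pairKN_le_stabIn {R Q : Subgroup Ω} (hQR : Q ≤ R) (N : Subgroup (MulAut Q)) :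
    pairKN hQR N ≤ stabIn R Q := fun _ hβ => (mem_pairKN_iff.mp hβ).1

theorem pairKN_mono {R Q : Subgroup Ω} (hQR : Q ≤ R) {N N' : Subgroup (MulAut Q)} (h : N ≤ N') :
    pairKN hQR N ≤ pairKN hQR N' := by
  intro β hβ
  obtain ⟨h1, h2⟩ := mem_pairKN_iff.mp hβ
  exact mem_pairKN_iff.mpr ⟨h1, h h2⟩

/-- Transport of `pairKN` along an isomorphism (one inclusion). -/
theorem pairKN_map_le {R R' Q Q' : Subgroup Ω} (hQR : Q ≤ R) (hQR' : Q' ≤ R') (e : R ≃* R')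
    (eQ : Q ≃* Q') (hc : ∀ x : Q, ((eQ x : Q') : Ω) = ((e ⟨x, hQR x.2⟩ : R') : Ω))
    (N : Subgroup (MulAut Q)) :
    (pairKN hQR N).map (MulAut.congr e).toMonoidHom ≤
      pairKN hQR' (N.map (MulAut.congr eQ).toMonoidHom) := by
  have hmem : ∀ x : R, (x : Ω) ∈ Q ↔ ((e x : R') : Ω) ∈ Q' := by
    intro x
    constructor
    · intro hx
      have := hc ⟨x, hx⟩
      have h2 : (⟨(x : Ω), hQR hx⟩ : R) = x := Subtype.ext rfl
      rw [h2] at this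
      rw [← this]
      exact (eQ ⟨x, hx⟩).2
    · intro hx
      set y := eQ.symm ⟨_, hx⟩ with hy
      have h1 : ((eQ y : Q') : Ω) = ((e x : R') : Ω) := by rw [hy, MulEquiv.apply_symm_apply]
      rw [hc y] at h1
      have h2 : (⟨(y : Ω), hQR y.2⟩ : R) = x := e.injective (Subtype.ext h1)
      rw [← h2]
      exact y.2
  rintro _ ⟨β, hβ, rfl⟩
  obtain ⟨hst, hres⟩ := mem_pairKN_iff.mp hβ
  have hst' : MulAut.congr e β ∈ stabIn R' Q' := by
    intro y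
    obtain ⟨x, rfl⟩ := e.surjective y
    rw [congr_apply', ← hmem, ← hmem]
    exact hst x
  refine mem_pairKN_iff.mpr ⟨hst', ⟨resIn hQR ⟨β, hst⟩, hres, ?_⟩⟩
  ext z
  obtain ⟨w, rfl⟩ := eQ.surjective z
  have hL : ((MulAut.congr eQ (resIn hQR ⟨β, hst⟩) (eQ w) : Q') : Ω) =
      ((e (β ⟨w, hQR w.2⟩) : R') : Ω) := by
    rw [congr_apply', hc]
    congr 2
  have hR : ((resIn hQR' ⟨MulAut.congr e β, hst'⟩ (eQ w) : Q') : Ω) =
      ((e (β ⟨w, hQR w.2⟩) : R') : Ω) := by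
    rw [resIn_apply]
    have h3 : (⟨((eQ w : Q') : Ω), hQR' (eQ w).2⟩ : R') = e ⟨w, hQR w.2⟩ := Subtype.ext (hc w)
    show (((MulAut.congr e β) ⟨((eQ w : Q') : Ω), hQR' (eQ w).2⟩ : R') : Ω) = _
    rw [h3, congr_apply']
  exact hL.trans hR.symm

theorem map_congr_symm_map_congr {U V : Type*} [Group U] [Group V] (e : U ≃* V)
    (N : Subgroup (MulAut U)) :
    (N.map (MulAut.congr e).toMonoidHom).map (MulAut.congr e.symm).toMonoidHom = N := by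
  rw [Subgroup.map_map]
  convert Subgroup.map_id N
  ext α y
  simp [MulAut.congr]

theorem map_congr_map_congr_symm {U V : Type*} [Group U] [Group V] (e : U ≃* V)
    (N : Subgroup (MulAut V)) :
    (N.map (MulAut.congr e.symm).toMonoidHom).map (MulAut.congr e).toMonoidHom = N := by
  rw [Subgroup.map_map]
  convert Subgroup.map_id N
  ext α y
  simp [MulAut.congr]

/-- Transport of `pairKN` along an isomorphism. -/
theorem pairKN_map {R R' Q Q' : Subgroup Ω} (hQR : Q ≤ R) (hQR' : Q' ≤ R') (e : R ≃* R')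
    (eQ : Q ≃* Q') (hc : ∀ x : Q, ((eQ x : Q') : Ω) = ((e ⟨x, hQR x.2⟩ : R') : Ω))
    (N : Subgroup (MulAut Q)) :
    (pairKN hQR N).map (MulAut.congr e).toMonoidHom =
      pairKN hQR' (N.map (MulAut.congr eQ).toMonoidHom) := by
  apply le_antisymm (pairKN_map_le hQR hQR' e eQ hc N)
  have hc' : ∀ y : Q', ((eQ.symm y : Q) : Ω) = ((e.symm ⟨y, hQR' y.2⟩ : R) : Ω) := by
    intro y
    obtain ⟨x, rfl⟩ := eQ.surjective y
    rw [MulEquiv.symm_apply_apply]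
    have h3 : (⟨((eQ x : Q') : Ω), hQR' (eQ x).2⟩ : R') = e ⟨x, hQR x.2⟩ := Subtype.ext (hc x)
    rw [h3, MulEquiv.symm_apply_apply]
  have h1 := pairKN_map_le hQR' hQR e.symm eQ.symm hc' (N.map (MulAut.congr eQ).toMonoidHom)
  rw [map_congr_symm_map_congr] at h1
  have h2 := Subgroup.map_mono (f := (MulAut.congr e).toMonoidHom) h1
  rwa [map_congr_map_congr_symm] at h2

/-- `N_S^K(R)` for `K = pairKN`. -/
theorem mem_normK_pairKN {R Q : Subgroup Ω} [Finite Q] (hQR : Q ≤ R) (N : Subgroup (MulAut Q))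
    {g : Ω} :
    g ∈ normK S R (pairKN hQR N) ↔ g ∈ normalizerIn S R ∧ g ∈ normK S Q N := by
  constructor
  · intro hg
    obtain ⟨hgR, hgK⟩ := mem_normK_iff.mp hg
    obtain ⟨hst, hres⟩ := mem_pairKN_iff.mp hgK
    refine ⟨hgR, ?_⟩
    have hgQ : g ∈ Subgroup.normalizer (Q : Set Ω) := by
      apply mem_normalizer_of_conj_mem_finite
      intro x hx
      have := (hst ⟨x, hQR hx⟩).mp hx
      rwa [normAut_apply] at this
    have hgNQ : g ∈ normalizerIn S Q := Subgroup.mem_inf.mpr ⟨hgR.1, hgQ⟩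
    rw [mem_normK_iff]
    refine ⟨hgNQ, ?_⟩
    have : normAut S Q ⟨g, hgNQ⟩ = resIn hQR ⟨normAut S R ⟨g, hgR⟩, hst⟩ := by
      ext x
      rfl
    rw [this]
    exact hres
  · rintro ⟨hgR, hgQ⟩
    obtain ⟨hgNQ, hgN⟩ := mem_normK_iff.mp hgQ
    rw [mem_normK_iff]
    refine ⟨hgR, ?_⟩
    have hst : normAut S R ⟨g, hgR⟩ ∈ stabIn R Q := by
      intro x
      rw [normAut_apply]
      exact Subgroup.mem_normalizer_iff.mp hgNQ.2 x
    refine mem_pairKN_iff.mpr ⟨hst, ?_⟩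
    have : resIn hQR ⟨normAut S R ⟨g, hgR⟩, hst⟩ = normAut S Q ⟨g, hgNQ⟩ := by
      ext x
      rfl
    rw [this]
    exact hgN

/-! ### Bridge between `isoSet` and function-level isomorphisms -/

theorem iso_equiv_mem_isoSet {F : FusionSystem S} {P Q : Subgroup Ω} {f : Ω → Ω}
    (h : Helper87.Iso F P Q f) : h.equiv ∈ isoSet F P Q := by
  obtain ⟨φ, hφ, e1⟩ := h.1
  refine hom_congr F rfl ?_ hφ
  intro x hx hx'
  exact e1 ⟨x, hx⟩

theorem iso_of_isoSet {F : FusionSystem S} {P Q : Subgroup Ω} {e : P ≃* Q}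
    (he : e ∈ isoSet F P Q) :
    Helper87.Iso F P Q (Helper87.extFun (Q.subtype.comp e.toMonoidHom)) := by
  have := Helper87.iso_of_mem he
  rwa [range_subtype_comp_iso] at this

theorem extFun_iso_apply {P Q : Subgroup Ω} (e : P ≃* Q) {x : Ω} (hx : x ∈ P) :
    Helper87.extFun (Q.subtype.comp e.toMonoidHom) x = ((e ⟨x, hx⟩ : Q) : Ω) :=
  Helper87.extFun_mem _ hx

/-- A family of subgroups `𝒩 Q ≤ Aut(Q)` compatible with the isomorphisms of the system. -/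
def Equivariant (F : FusionSystem S) (𝒩 : ∀ Q : Subgroup Ω, Subgroup (MulAut Q)) : Prop :=
  ∀ (Q Q' : Subgroup Ω) (e : Q ≃* Q'), e ∈ isoSet F Q Q' →
    (𝒩 Q).map (MulAut.congr e).toMonoidHom = 𝒩 Q'

theorem equivariant_top (F : FusionSystem S) :
    Equivariant F (fun Q => (⊤ : Subgroup (MulAut Q))) := by
  intro Q Q' e _
  rw [eq_top_iff]
  intro β _
  exact ⟨MulAut.congr e.symm β, Subgroup.mem_top _, congr_congr_symm e β⟩

/-- `N_S(R) ∩ N_S^{𝒩}(Q)`. -/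
noncomputable def nk (𝒩 : ∀ Q : Subgroup Ω, Subgroup (MulAut Q)) (S R Q : Subgroup Ω) :
    Subgroup Ω :=
  normalizerIn S R ⊓ normK S Q (𝒩 Q)

theorem normK_pairKN_eq {R Q : Subgroup Ω} [Finite Q] (hQR : Q ≤ R)
    (𝒩 : ∀ Q : Subgroup Ω, Subgroup (MulAut Q)) :
    normK S R (pairKN hQR (𝒩 Q)) = nk 𝒩 S R Q := by
  ext g
  rw [mem_normK_pairKN]
  exact Subgroup.mem_inf.symm

theorem nk_le_normalizerIn_left (𝒩 : ∀ Q : Subgroup Ω, Subgroup (MulAut Q)) (S R Q : Subgroup Ω) :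
    nk 𝒩 S R Q ≤ normalizerIn S R := inf_le_left

theorem nk_le_normalizerIn_right (𝒩 : ∀ Q : Subgroup Ω, Subgroup (MulAut Q)) (S R Q : Subgroup Ω) :
    nk 𝒩 S R Q ≤ normalizerIn S Q := inf_le_right.trans (normK_le S Q _)

theorem mem_nk_top {S R Q : Subgroup Ω} {g : Ω} :
    g ∈ nk (fun Q => (⊤ : Subgroup (MulAut Q))) S R Q ↔
      g ∈ normalizerIn S R ∧ g ∈ normalizerIn S Q := by
  unfold nk
  rw [Subgroup.mem_inf, mem_normK_iff]
  constructor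
  · rintro ⟨h1, h2, -⟩
    exact ⟨h1, h2⟩
  · rintro ⟨h1, h2⟩
    exact ⟨h1, h2, Subgroup.mem_top _⟩

/-- The pair `(R, Q)` is good: `R` is receptive and has the Sylow property for `pairKN`. -/
def GoodP (F : FusionSystem S) (p : ℕ) (𝒩 : ∀ Q : Subgroup Ω, Subgroup (MulAut Q))
    (R Q : Subgroup Ω) : Prop :=
  ∃ hQR : Q ≤ R, F.IsReceptive R ∧
    IsSylIn p (autInducedBy S R ⊓ pairKN hQR (𝒩 Q)) (F.autGroup R ⊓ pairKN hQR (𝒩 Q))

/-- compatibility of the two restricted equivalences of an isomorphism -/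
theorem iso_equiv_compat {F : FusionSystem S} {R R' Q Q' : Subgroup Ω} {f : Ω → Ω}
    (hR : Helper87.Iso F R R' f) (hQ : Helper87.Iso F Q Q' f) (hQR : Q ≤ R) (x : Q) :
    ((hQ.equiv x : Q') : Ω) = ((hR.equiv ⟨x, hQR x.2⟩ : R') : Ω) := rfl

theorem iso_le_of_le {F : FusionSystem S} {R R' Q Q' : Subgroup Ω} {f : Ω → Ω}
    (hR : Helper87.Iso F R R' f) (hQ : Helper87.Iso F Q Q' f) (hQR : Q ≤ R) : Q' ≤ R' := by
  intro y hy
  obtain ⟨x, hx, rfl⟩ := hQ.surj hy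
  exact hR.map_mem (hQR hx)

/-- transport of `pairKN (𝒩 Q)` along an isomorphism of pairs -/
theorem pairKN_map_iso {F : FusionSystem S} {𝒩 : ∀ Q : Subgroup Ω, Subgroup (MulAut Q)}
    (h𝒩 : Equivariant F 𝒩) {R R' Q Q' : Subgroup Ω} {f : Ω → Ω}
    (hR : Helper87.Iso F R R' f) (hQ : Helper87.Iso F Q Q' f) (hQR : Q ≤ R) (hQR' : Q' ≤ R') :
    (pairKN hQR (𝒩 Q)).map (MulAut.congr hR.equiv).toMonoidHom = pairKN hQR' (𝒩 Q') := by
  rw [pairKN_map hQR hQR' hR.equiv hQ.equiv (iso_equiv_compat hR hQ hQR),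
    h𝒩 Q Q' hQ.equiv (iso_equiv_mem_isoSet hQ)]

/-- **KP1**: existence of a good pair in the class of `(R, Q)`. -/
theorem exists_goodP (F : FusionSystem S) [Finite S] {p : ℕ} [Fact p.Prime]
    {𝒩 : ∀ Q : Subgroup Ω, Subgroup (MulAut Q)} (h𝒩 : Equivariant F 𝒩)
    {R Q : Subgroup Ω} (hloc : LocSat F p R) (hQR : Q ≤ R) :
    ∃ (R' Q' : Subgroup Ω) (f : Ω → Ω), Helper87.Iso F R R' f ∧ Helper87.Iso F Q Q' f ∧
      GoodP F p 𝒩 R' Q' := by
  obtain ⟨V, e, he, hRec, hsyl⟩ := exists_good_target_local F hloc (pairKN hQR (𝒩 Q))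
  have hR : Helper87.Iso F R V (Helper87.extFun (V.subtype.comp e.toMonoidHom)) := iso_of_isoSet he
  have hQ := hR.restrict hQR
  have hQR' := iso_le_of_le hR hQ hQR
  refine ⟨V, _, _, hR, hQ, hQR', hRec, ?_⟩
  have hee : hR.equiv = e := by
    ext x
    show Helper87.extFun (V.subtype.comp e.toMonoidHom) x = _
    rw [extFun_iso_apply e x.2]
  have := pairKN_map_iso h𝒩 hR hQ hQR hQR'
  rw [hee] at this
  rw [← this]
  exact hsyl

/-- **KP2**: maps into a good pair extend to the `nk`-normalizer. -/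
theorem goodP_extend (F : FusionSystem S) [Finite S] {p : ℕ} [Fact p.Prime] (hS : IsPGroup p S)
    {𝒩 : ∀ Q : Subgroup Ω, Subgroup (MulAut Q)} (h𝒩 : Equivariant F 𝒩)
    {R' Q' R₁ Q₁ : Subgroup Ω} {f : Ω → Ω} (hg : GoodP F p 𝒩 R' Q')
    (hR : Helper87.Iso F R₁ R' f) (hQ : Helper87.Iso F Q₁ Q' f) (hQR₁ : Q₁ ≤ R₁) :
    ∃ (fb χ : Ω → Ω), Helper87.Mor F (nk 𝒩 S R₁ Q₁ ⊔ R₁) fb ∧
      (∀ g ∈ nk 𝒩 S R₁ Q₁, fb g ∈ nk 𝒩 S R' Q') ∧
      Helper87.Iso F R' R' χ ∧ Helper87.Iso F Q' Q' χ ∧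
      (∃ β ∈ 𝒩 Q', ∀ x : Q', ((β x : Q') : Ω) = χ x) ∧
      ∀ x ∈ R₁, fb x = χ (f x) := by
  obtain ⟨hQR', hRec, hsyl⟩ := hg
  have hR'S := hR.le_right
  have hfinQ' : Finite Q' := finite_of_le (hQR'.trans hR'S)
  have hfinQ₁ : Finite Q₁ := finite_of_le (hQR₁.trans hR.le_left)
  have he := iso_equiv_mem_isoSet hR
  have hMA : ∀ g (hg : g ∈ nk 𝒩 S R₁ Q₁),
      MulAut.congr hR.equiv (normAut S R₁ ⟨g, nk_le_normalizerIn_left 𝒩 S R₁ Q₁ hg⟩) ∈
        (F.autGroup R' ⊓ pairKN hQR' (𝒩 Q')) ⊔ (autInducedBy S R' ⊓ pairKN hQR' (𝒩 Q')) := by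
    intro g hg
    apply (le_sup_left : F.autGroup R' ⊓ pairKN hQR' (𝒩 Q') ≤ _)
    refine Subgroup.mem_inf.mpr ⟨congr_mem_autGroup F he
      (autInducedBy_le_autGroup F hR.le_left (normAut_mem S R₁ _)), ?_⟩
    rw [← pairKN_map_iso h𝒩 hR hQ hQR₁ hQR']
    refine ⟨_, ?_, rfl⟩
    have : g ∈ normK S R₁ (pairKN hQR₁ (𝒩 Q₁)) := by rw [normK_pairKN_eq]; exact hg
    exact (mem_normK_iff.mp this).2
  obtain ⟨a, ha, ψ, hψ, hψU, hψM⟩ := extend_of_good F hS he (pairKN hQR' (𝒩 Q')) hRec hsyl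
    (F.autGroup R' ⊓ pairKN hQR' (𝒩 Q')) le_rfl (hsyl.1.trans Subgroup.le_normalizer)
    (nk 𝒩 S R₁ Q₁) (nk_le_normalizerIn_left 𝒩 S R₁ Q₁) hMA
  obtain ⟨haF, haK⟩ := Subgroup.mem_inf.mp ha
  obtain ⟨hast, hares⟩ := mem_pairKN_iff.mp haK
  have hχR : Helper87.Iso F R' R' (Helper87.extAut a) :=
    Helper87.iso_of_mor_extAut ((Helper87.mem_autGroup_iff hR'S).mp haF)
  refine ⟨Helper87.extFun ψ, Helper87.extAut a, Helper87.mor_of_mem hψ, ?_, hχR, ?_, ?_, ?_⟩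
  · intro g hg
    rw [Helper87.extFun_mem ψ ((le_sup_left : nk 𝒩 S R₁ Q₁ ≤ _) hg), ← normK_pairKN_eq hQR']
    exact hψM g hg
  · refine ⟨hχR.1.restrict hQR', fun y => ⟨fun hy => ?_, ?_⟩⟩
    · have h1 : ((a⁻¹ ⟨y, hQR' hy⟩ : R') : Ω) ∈ Q' :=
        ((stabIn R' Q').inv_mem hast ⟨y, hQR' hy⟩).mp hy
      refine ⟨_, h1, ?_⟩
      rw [Helper87.extAut_mem a (a⁻¹ ⟨y, hQR' hy⟩).2]
      simp
    · rintro ⟨x, hx, rfl⟩
      rw [Helper87.extAut_mem a (hQR' hx)]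
      exact (hast ⟨x, hQR' hx⟩).mp hx
  · refine ⟨resIn hQR' ⟨a, hast⟩, hares, fun x => ?_⟩
    rw [resIn_apply, Helper87.extAut_mem a (hQR' x.2)]
  · intro x hx
    rw [Helper87.extFun_mem ψ ((le_sup_right : R₁ ≤ nk 𝒩 S R₁ Q₁ ⊔ R₁) hx)]
    have h1 := hψU ⟨x, hx⟩
    have h2 : Subgroup.inclusion (le_sup_right : R₁ ≤ nk 𝒩 S R₁ Q₁ ⊔ R₁) ⟨x, hx⟩ =
        ⟨x, (le_sup_right : R₁ ≤ nk 𝒩 S R₁ Q₁ ⊔ R₁) hx⟩ := rfl
    rw [h2] at h1
    rw [h1, Helper87.extAut_mem a (hR.map_mem hx)]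
    rfl

theorem IsSylIn.eq_of_isPGroup {G : Type*} [Group G] {p : ℕ} [Fact p.Prime] {T H : Subgroup G}
    [Finite H] (h : IsSylIn p T H) (hH : IsPGroup p H) : T = H :=
  Subgroup.eq_of_le_of_card_ge h.1 (h.card_le le_rfl hH)

/-- **KP3**: when `𝒩 Q'` is a `p`-group, automorphisms in the `pairKN` of a good pair restrict on
`Q'` to conjugations by elements of the `nk`-normalizer. -/
theorem goodP_sylow (F : FusionSystem S) [Finite S] {p : ℕ} [Fact p.Prime]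
    {𝒩 : ∀ Q : Subgroup Ω, Subgroup (MulAut Q)} {R' Q' : Subgroup Ω} (hg : GoodP F p 𝒩 R' Q')
    (hp𝒩 : IsPGroup p (𝒩 Q')) {χ : Ω → Ω} (hχR : Helper87.Iso F R' R' χ)
    (hχQ : Helper87.Iso F Q' Q' χ) (hχ𝒩 : ∃ β ∈ 𝒩 Q', ∀ x : Q', ((β x : Q') : Ω) = χ x) :
    ∃ h ∈ nk 𝒩 S R' Q', ∀ x ∈ Q', χ x = h * x * h⁻¹ := by
  obtain ⟨hQR', hRec, hsyl⟩ := hg
  have hR'S := hχR.le_right
  have hfinR' : Finite R' := finite_of_le hR'S
  have hfinQ' : Finite Q' := finite_of_le (hQR'.trans hR'S)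
  obtain ⟨β, hβ, hβx⟩ := hχ𝒩
  have haF : hχR.equiv ∈ F.autGroup R' := hχR.equiv_mem_autGroup
  have hast : hχR.equiv ∈ stabIn R' Q' := by
    intro x
    constructor
    · intro hx
      exact hχQ.map_mem hx
    · intro hx
      obtain ⟨x', hx', he⟩ := hχQ.surj hx
      have : x' = x := hχR.1.inj (hQR' hx') x.2 he
      rw [← this]; exact hx'
  have hres : resIn hQR' ⟨hχR.equiv, hast⟩ = β := by
    ext x
    rw [resIn_apply, hβx]
    rfl
  have haK : hχR.equiv ∈ pairKN hQR' (𝒩 Q') := mem_pairKN_iff.mpr ⟨hast, hres ▸ hβ⟩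
  have hHL : F.autGroup R' ⊓ pairKN hQR' (𝒩 Q') ≤ stabIn R' Q' :=
    inf_le_right.trans (pairKN_le_stabIn hQR' _)
  have h1 := (hsyl.subgroupOf hHL).map (resIn hQR')
  have hH'p : IsPGroup p (((F.autGroup R' ⊓ pairKN hQR' (𝒩 Q')).subgroupOf (stabIn R' Q')).map
      (resIn hQR')) := by
    apply hp𝒩.to_le
    rintro _ ⟨⟨b, hbL⟩, hb, rfl⟩
    have hb' : b ∈ F.autGroup R' ⊓ pairKN hQR' (𝒩 Q') := hb
    exact (mem_pairKN_iff.mp hb'.2).2
  have heq := h1.eq_of_isPGroup hH'p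
  have hmem : resIn hQR' ⟨hχR.equiv, hast⟩ ∈
      ((F.autGroup R' ⊓ pairKN hQR' (𝒩 Q')).subgroupOf (stabIn R' Q')).map (resIn hQR') :=
    ⟨⟨hχR.equiv, hast⟩, Subgroup.mem_inf.mpr ⟨haF, haK⟩, rfl⟩
  rw [← heq] at hmem
  obtain ⟨⟨t, htL⟩, ht, hte⟩ := hmem
  have ht' : t ∈ autInducedBy S R' ⊓ pairKN hQR' (𝒩 Q') := ht
  obtain ⟨h, hh, rfl⟩ := mem_autInducedBy_inf_iff.mp ht'
  refine ⟨h, by rw [← normK_pairKN_eq hQR']; exact hh, fun x hx => ?_⟩
  have h2 := congrArg (fun γ : MulAut Q' => ((γ ⟨x, hx⟩ : Q') : Ω)) hte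
  simp only [resIn_apply, normAut_apply] at h2
  rw [h2]
  rfl

/-- **KP4**: transfer of goodness back along an isomorphism of pairs. -/
theorem goodP_of_card_le (F : FusionSystem S) [Finite S] {p : ℕ} [Fact p.Prime] (hS : IsPGroup p S)
    {𝒩 : ∀ Q : Subgroup Ω, Subgroup (MulAut Q)} (h𝒩 : Equivariant F 𝒩)
    {R R' Q Q' : Subgroup Ω} {f : Ω → Ω} (hloc : LocSat F p R) (hg : GoodP F p 𝒩 R' Q')
    (hR : Helper87.Iso F R R' f) (hQ : Helper87.Iso F Q Q' f) (hQR : Q ≤ R)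
    (hcard : Nat.card (nk 𝒩 S R' Q') ≤ Nat.card (nk 𝒩 S R Q)) : GoodP F p 𝒩 R Q := by
  obtain ⟨hQR', hRec, hsyl⟩ := hg
  have hfinQ' : Finite Q' := finite_of_le (hQR'.trans hR.le_right)
  have hfinQ : Finite Q := finite_of_le (hQR.trans hR.le_left)
  refine ⟨hQR, ?_⟩
  apply good_of_card_le_local F hS hloc (iso_equiv_mem_isoSet hR) (pairKN hQR (𝒩 Q)) hRec
  · rw [pairKN_map_iso h𝒩 hR hQ hQR hQR']
    exact hsyl
  · rw [pairKN_map_iso h𝒩 hR hQ hQR hQR', normK_pairKN_eq, normK_pairKN_eq]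
    exact hcard

theorem fixIn_le_pairKN_top {R Q : Subgroup Ω} (hQR : Q ≤ R) :
    fixIn R Q ≤ pairKN hQR (⊤ : Subgroup (MulAut Q)) := fun _ hβ =>
  mem_pairKN_iff.mpr ⟨fixIn_le_stabIn R Q hβ, Subgroup.mem_top _⟩

theorem mem_pairKN_top {R Q : Subgroup Ω} {hQR : Q ≤ R} {β : MulAut R} :
    β ∈ pairKN hQR (⊤ : Subgroup (MulAut Q)) ↔ β ∈ stabIn R Q :=
  ⟨fun h => (mem_pairKN_iff.mp h).1, fun h => mem_pairKN_iff.mpr ⟨h, Subgroup.mem_top _⟩⟩

/-- **KP5**: with a good pair `(T₀, P)` (for `𝒩 = ⊤`) such that `N_S(P)` normalizes `T₀`, an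
automorphism of `P` that extends to `T₀` extends to its extender. -/
theorem extend_aut_of_goodP (F : FusionSystem S) [Finite S] {p : ℕ} [Fact p.Prime]
    (hS : IsPGroup p S) {T₀ P : Subgroup Ω}
    (hg : GoodP F p (fun Q => (⊤ : Subgroup (MulAut Q))) T₀ P)
    (hT₀ : normalizerIn S P ≤ normalizerIn S T₀) {α ab : Ω → Ω}
    (hα : Helper87.Iso F P P α) (hab : Helper87.Iso F T₀ T₀ ab) (hext : ∀ x ∈ P, ab x = α x) :
    ∃ ψ, Helper87.Mor F (hα.ext ⊔ T₀) ψ ∧ ∀ x ∈ P, ψ x = α x := by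
  obtain ⟨hPT, hRec, hsyl⟩ := hg
  have hT₀S : T₀ ≤ S := hRec.1
  have hPS : P ≤ S := hPT.trans hT₀S
  have hfinP : Finite P := finite_of_le hPS
  have he := iso_equiv_mem_isoSet hab
  set K' := pairKN hPT (⊤ : Subgroup (MulAut P)) with hK'
  set A₀ := F.autGroup T₀ ⊓ fixIn T₀ P with hA₀def
  have hA₀ : A₀ ≤ F.autGroup T₀ ⊓ K' := inf_le_inf_left _ (fixIn_le_pairKN_top hPT)
  have hnorm : autInducedBy S T₀ ⊓ K' ≤ Subgroup.normalizer (A₀ : Set (MulAut T₀)) := by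
    intro t ht
    obtain ⟨htS, htK⟩ := Subgroup.mem_inf.mp ht
    have htF : t ∈ F.autGroup T₀ := autInducedBy_le_autGroup F hT₀S htS
    have htst : t ∈ stabIn T₀ P := mem_pairKN_top.mp htK
    apply mem_normalizer_of_forall_conj_mem
    · intro a ha
      exact Subgroup.mem_inf.mpr ⟨(F.autGroup T₀).mul_mem ((F.autGroup T₀).mul_mem htF ha.1)
        ((F.autGroup T₀).inv_mem htF), conj_mem_fixIn htst ha.2⟩
    · intro a ha
      have h1 := conj_mem_fixIn ((stabIn T₀ P).inv_mem htst) ha.2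
      rw [inv_inv] at h1
      exact Subgroup.mem_inf.mpr ⟨(F.autGroup T₀).mul_mem ((F.autGroup T₀).mul_mem
        ((F.autGroup T₀).inv_mem htF) ha.1) htF, h1⟩
  have hM : hα.ext ≤ normalizerIn S T₀ := hα.ext_le_normalizerIn.trans hT₀
  have hMA : ∀ g (hg : g ∈ hα.ext),
      MulAut.congr hab.equiv (normAut S T₀ ⟨g, hM hg⟩) ∈ A₀ ⊔ (autInducedBy S T₀ ⊓ K') := by
    intro g hg
    obtain ⟨hgS, hgN, k, hk, ek⟩ := hα.mem_ext.mp hg
    have hkN : k ∈ Subgroup.normalizer (P : Set Ω) := by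
      apply mem_normalizer_of_conj_mem_finite
      intro y hy
      obtain ⟨x, hx, rfl⟩ := hα.surj hy
      rw [← ek x hx]
      exact hα.map_mem ((Subgroup.mem_normalizer_iff.mp hgN x).mp hx)
    have hkT : k ∈ normalizerIn S T₀ := hT₀ (Subgroup.mem_inf.mpr ⟨hk, hkN⟩)
    have hck : normAut S T₀ ⟨k, hkT⟩ ∈ autInducedBy S T₀ ⊓ K' := by
      refine Subgroup.mem_inf.mpr ⟨normAut_mem S T₀ _, mem_pairKN_top.mpr ?_⟩
      intro x
      rw [normAut_apply]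
      exact Subgroup.mem_normalizer_iff.mp hkN x
    have hcgF : MulAut.congr hab.equiv (normAut S T₀ ⟨g, hM hg⟩) ∈ F.autGroup T₀ :=
      congr_mem_autGroup F he (autInducedBy_le_autGroup F hT₀S (normAut_mem S T₀ _))
    have hd : MulAut.congr hab.equiv (normAut S T₀ ⟨g, hM hg⟩) * (normAut S T₀ ⟨k, hkT⟩)⁻¹ ∈ A₀ := by
      refine Subgroup.mem_inf.mpr ⟨(F.autGroup T₀).mul_mem hcgF ((F.autGroup T₀).inv_mem
        (autInducedBy_le_autGroup F hT₀S (normAut_mem S T₀ _))), ?_⟩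
      intro y hy
      -- z = k⁻¹ y k
      set z : T₀ := (normAut S T₀ ⟨k, hkT⟩)⁻¹ y with hz
      have hzv : (z : Ω) = k⁻¹ * y * k := by
        have h1 : normAut S T₀ ⟨k, hkT⟩ z = y := by rw [hz, MulAut.apply_inv_self]
        have h2 := congrArg (fun w : T₀ => (w : Ω)) h1
        simp only [normAut_apply] at h2
        rw [← h2]; group
      have hzP : (z : Ω) ∈ P := by
        rw [hzv]
        have := (Subgroup.mem_normalizer_iff.mp (Subgroup.inv_mem _ hkN) y).mp hy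
        simpa using this
      obtain ⟨x', hx', hx'z⟩ := hα.surj hzP
      have hex' : hab.equiv ⟨x', hPT hx'⟩ = z := by
        apply Subtype.ext
        show ab x' = z
        rw [hext x' hx', hx'z]
      have hsymm : hab.equiv.symm z = ⟨x', hPT hx'⟩ := by
        rw [← hex', MulEquiv.symm_apply_apply]
      rw [MulAut.mul_apply]
      apply Subtype.ext
      show ((MulAut.congr hab.equiv (normAut S T₀ ⟨g, hM hg⟩) z : T₀) : Ω) = y
      have h3 : MulAut.congr hab.equiv (normAut S T₀ ⟨g, hM hg⟩) z =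
          hab.equiv (normAut S T₀ ⟨g, hM hg⟩ (hab.equiv.symm z)) := rfl
      rw [h3, hsymm]
      show ab (g * x' * g⁻¹) = y
      have hgx' : g * x' * g⁻¹ ∈ P := (Subgroup.mem_normalizer_iff.mp hgN x').mp hx'
      rw [hext _ hgx', ek x' hx', hx'z, hzv]
      group
    have : MulAut.congr hab.equiv (normAut S T₀ ⟨g, hM hg⟩) =
        (MulAut.congr hab.equiv (normAut S T₀ ⟨g, hM hg⟩) * (normAut S T₀ ⟨k, hkT⟩)⁻¹) *
          normAut S T₀ ⟨k, hkT⟩ := by group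
    rw [this]
    exact Subgroup.mul_mem_sup hd hck
  obtain ⟨a, ha, ψ, hψ, hψU, -⟩ := extend_of_good F hS he K' hRec hsyl A₀ hA₀ hnorm
    hα.ext hM hMA
  refine ⟨Helper87.extFun ψ, Helper87.mor_of_mem hψ, fun x hx => ?_⟩
  rw [Helper87.extFun_mem ψ ((le_sup_right : T₀ ≤ hα.ext ⊔ T₀) (hPT hx))]
  have h1 := hψU ⟨x, hPT hx⟩
  have h2 : Subgroup.inclusion (le_sup_right : T₀ ≤ hα.ext ⊔ T₀) ⟨x, hPT hx⟩ =
      ⟨x, (le_sup_right : T₀ ≤ hα.ext ⊔ T₀) (hPT hx)⟩ := rfl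
  rw [h2] at h1
  rw [h1]
  have h3 : ((hab.equiv ⟨x, hPT hx⟩ : T₀) : Ω) = α x := by
    show ab x = α x
    exact hext x hx
  have h4 : ((hab.equiv ⟨x, hPT hx⟩ : T₀) : Ω) ∈ P := by rw [h3]; exact hα.map_mem hx
  rw [ha.2 _ h4, h3]

/-- **KP6**: with a good pair `(T₀, P)` (for `𝒩 = ⊤`) such that `N_S(P)` normalizes `T₀`, if every
automorphism of `P` in the system extends to `T₀` then `P` is fully automized. -/
theorem fullyAutomized_of_goodP (F : FusionSystem S) [Finite S] {p : ℕ} [Fact p.Prime]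
    {T₀ P : Subgroup Ω} (hg : GoodP F p (fun Q => (⊤ : Subgroup (MulAut Q))) T₀ P)
    (hT₀ : normalizerIn S P ≤ normalizerIn S T₀)
    (hext : ∀ α, Helper87.Iso F P P α → ∃ ab, Helper87.Iso F T₀ T₀ ab ∧ ∀ x ∈ P, ab x = α x) :
    F.IsFullyAutomized p P := by
  obtain ⟨hPT, hRec, hsyl⟩ := hg
  have hT₀S : T₀ ≤ S := hRec.1
  have hPS : P ≤ S := hPT.trans hT₀S
  have hfinT : Finite T₀ := finite_of_le hT₀S
  have hfinP : Finite P := finite_of_le hPS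
  have hHL : F.autGroup T₀ ⊓ pairKN hPT (⊤ : Subgroup (MulAut P)) ≤ stabIn T₀ P :=
    inf_le_right.trans (pairKN_le_stabIn hPT _)
  have h1 := (hsyl.subgroupOf hHL).map (resIn hPT)
  have hH' : ((F.autGroup T₀ ⊓ pairKN hPT (⊤ : Subgroup (MulAut P))).subgroupOf
      (stabIn T₀ P)).map (resIn hPT) = F.autGroup P := by
    apply le_antisymm
    · rintro _ ⟨⟨b, hbL⟩, hb, rfl⟩
      have hb' : b ∈ F.autGroup T₀ ⊓ pairKN hPT (⊤ : Subgroup (MulAut P)) := hb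
      rw [Helper87.mem_autGroup_iff hPS]
      have hm := ((Helper87.mem_autGroup_iff hT₀S).mp hb'.1).restrict hPT
      refine hm.congr (fun x hx => ?_)
      rw [Helper87.extAut_mem b (hPT hx), Helper87.extAut_mem _ hx, resIn_apply]
    · intro α hα
      have hαi := Helper87.iso_of_mor_extAut ((Helper87.mem_autGroup_iff hPS).mp hα)
      obtain ⟨ab, hab, habx⟩ := hext _ hαi
      have hbst : hab.equiv ∈ stabIn T₀ P := by
        intro x
        constructor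
        · intro hx
          show ab x ∈ P
          rw [habx x hx]
          exact hαi.map_mem hx
        · intro hx
          have hx2 : ab x ∈ P := hx
          obtain ⟨x', hx', he'⟩ := hαi.surj hx2
          rw [← habx x' hx'] at he'
          have : x' = x := hab.1.inj (hPT hx') x.2 he'
          rw [← this]; exact hx'
      refine ⟨⟨hab.equiv, hbst⟩, Subgroup.mem_inf.mpr ⟨hab.equiv_mem_autGroup,
        mem_pairKN_top.mpr hbst⟩, ?_⟩
      ext x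
      rw [resIn_apply]
      show ab x = _
      rw [habx x x.2, Helper87.extAut_mem α x.2]
  have hT' : ((autInducedBy S T₀ ⊓ pairKN hPT (⊤ : Subgroup (MulAut P))).subgroupOf
      (stabIn T₀ P)).map (resIn hPT) = autInducedBy S P := by
    apply le_antisymm
    · rintro _ ⟨⟨t, htL⟩, ht, rfl⟩
      have ht' : t ∈ autInducedBy S T₀ ⊓ pairKN hPT (⊤ : Subgroup (MulAut P)) := ht
      obtain ⟨h, hhS, hh⟩ := (mem_autInducedBy_iff S T₀ t).mp ht'.1
      rw [mem_autInducedBy_iff]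
      refine ⟨h, hhS, fun x => ?_⟩
      rw [resIn_apply]
      exact hh ⟨x, hPT x.2⟩
    · intro γ hγ
      obtain ⟨h, hhS, hh⟩ := (mem_autInducedBy_iff S P γ).mp hγ
      have hhN : h ∈ Subgroup.normalizer (P : Set Ω) := mem_normalizer_of_autInduced hh
      have hhT : h ∈ normalizerIn S T₀ := hT₀ (Subgroup.mem_inf.mpr ⟨hhS, hhN⟩)
      have htst : normAut S T₀ ⟨h, hhT⟩ ∈ stabIn T₀ P := by
        intro x
        rw [normAut_apply]
        exact Subgroup.mem_normalizer_iff.mp hhN x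
      refine ⟨⟨normAut S T₀ ⟨h, hhT⟩, htst⟩, Subgroup.mem_inf.mpr ⟨normAut_mem S T₀ _,
        mem_pairKN_top.mpr htst⟩, ?_⟩
      ext x
      rw [resIn_apply, normAut_apply, hh x]
  rw [hH', hT'] at h1
  exact (fullyAutomized_iff F P).mpr ⟨hPS, h1⟩

end Cfsg.Agent.Helper84
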