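import Mathlib
import Cfsg.Prelude.Def_FusionSystem
import Cfsg.Agent.Lib.Helper84.FusKP
import Cfsg.Agent.Lib.Helper84.FusAlp3
import Cfsg.Agent.Lib.Helper84.GrpSE
import Cfsg.Agent.Lib.Helper83.PCore

/-!
# The saturation criterion of Broto–Castellana–Grodal–Levi–Oliver (AKO Theorem I.3.10)
-/

set_option autoImplicit false

namespace Cfsg.Agent.Helper84

open Cfsg Cfsg.FusionSystem
open Cfsg.Agent.Helper87 (Mor Iso extFun extAut)

variable {Ω : Type*} [Group Ω] {S : Subgroup Ω}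

/-! ### Generation: an induction principle for the maps on one conjugacy class -/

theorem gen_induction (F : FusionSystem S) (ℋ : Set (Subgroup Ω))
    (hgen : ∀ E : FusionSystem S, (∀ P ∈ ℋ, F.Hom P ⊆ E.Hom P) → F ≤ E)
    (P₀ : Subgroup Ω) (hdisj : ∀ Q, F.IsConj P₀ Q → Q ∉ ℋ) (hS𝒫 : ¬ F.IsConj P₀ S)
    (C : Subgroup Ω → (Ω → Ω) → Prop)
    (hcg : ∀ Q f g, C Q f → (∀ x ∈ Q, f x = g x) → C Q g)
    (hext : ∀ Q R f, F.IsConj P₀ Q → Q ≤ R → Q ≠ R → Mor F R f → C Q f)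
    (hcomp : ∀ Q Q' Q'' f g, F.IsConj P₀ Q → Iso F Q Q' f → Iso F Q' Q'' g → C Q f → C Q' g →
      C Q (fun x => g (f x)))
    (hinv : ∀ Q Q' f g, F.IsConj P₀ Q → Iso F Q Q' f → Iso F Q' Q g → (∀ x ∈ Q, g (f x) = x) →
      C Q f → C Q' g) :
    ∀ Q f, F.IsConj P₀ Q → Mor F Q f → C Q f := by
  let E : FusionSystem S :=
    { Hom := fun Q => {φ | φ ∈ F.Hom Q ∧ (F.IsConj P₀ Q → C Q (extFun φ))}
      le_of_mem := fun h => F.le_of_mem h.1
      injective_of_mem := fun h => F.injective_of_mem h.1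
      conj_mem := by
        intro P g hP hg
        refine ⟨F.conj_mem hP hg, fun hc => ?_⟩
        have hne : P ≠ S := by rintro rfl; exact hS𝒫 hc
        have h1 : Mor F S (fun x => g * x * g⁻¹) := Mor.conj le_rfl hg
        refine hcg _ _ _ (hext P S _ hc hP hne h1) (fun x hx => ?_)
        rw [Helper87.extFun_mem _ hx]
        rfl
      comp_mem := by
        intro P Q φ ψ hφ hψ h
        refine ⟨F.comp_mem hφ.1 hψ.1 h, fun hc => ?_⟩
        have hCφ := hφ.2 hc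
        have hiφ : Iso F P φ.range (extFun φ) := Helper87.iso_of_mem hφ.1
        have hP'Q : φ.range ≤ Q := by rintro _ ⟨x, rfl⟩; exact h x
        have hc' : F.IsConj P₀ φ.range := conj_trans F hc ⟨φ, hφ.1, rfl⟩
        have hmψ : Mor F Q (extFun ψ) := Helper87.mor_of_mem hψ.1
        have hCψ : C φ.range (extFun ψ) := by
          by_cases hQ : φ.range = Q
          · have := hψ.2 (hQ ▸ hc')
            rw [hQ]; exact this
          · exact hext _ _ _ hc' hP'Q hQ hmψ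
        have hiψ := Iso.of_mor (hmψ.restrict hP'Q)
        refine hcg _ _ _ (hcomp _ _ _ _ _ hc hiφ hiψ hCφ hCψ) (fun x hx => ?_)
        rw [Helper87.extFun_mem φ hx, Helper87.extFun_mem ψ (h ⟨x, hx⟩),
          Helper87.extFun_mem (ψ.comp (φ.codRestrict Q h)) hx]
        rfl
      inv_mem := by
        intro P φ hφ
        obtain ⟨ψ, hψ, e⟩ := F.inv_mem hφ.1
        refine ⟨ψ, ⟨hψ, fun hc => ?_⟩, e⟩
        have hcP : F.IsConj P₀ P := conj_trans F hc (conj_symm F ⟨φ, hφ.1, rfl⟩)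
        have hiφ : Iso F P φ.range (extFun φ) := Helper87.iso_of_mem hφ.1
        have hinv' : ∀ x ∈ P, extFun ψ (extFun φ x) = x := by
          intro x hx
          rw [Helper87.extFun_mem φ hx, Helper87.extFun_mem ψ ⟨⟨x, hx⟩, rfl⟩]
          exact e ⟨x, hx⟩
        have hiψ : Iso F φ.range P (extFun ψ) := by
          refine ⟨Helper87.mor_of_mem hψ, fun y => ⟨fun hy => ?_, ?_⟩⟩
          · exact ⟨extFun φ y, hiφ.map_mem hy, hinv' y hy⟩
          · rintro ⟨x, hx, rfl⟩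
            obtain ⟨x₀, hx₀, rfl⟩ := hiφ.surj hx
            rw [hinv' x₀ hx₀]; exact hx₀
        exact hinv _ _ _ _ hcP hiφ hiψ hinv' (hφ.2 hcP) }
  have hle : F ≤ E := hgen E (fun R hR φ hφ => ⟨hφ, fun hc => absurd hR (hdisj R hc)⟩)
  intro Q f hc hf
  obtain ⟨φ, hφ, e1⟩ := hf
  have h1 := (hle Q hφ).2 hc
  refine hcg _ _ _ h1 (fun x hx => ?_)
  rw [Helper87.extFun_mem φ hx, e1 ⟨x, hx⟩]

/-! ### Small function-level helpers -/

theorem iso_symm_sub {F : FusionSystem S} {T T' Q Q' : Subgroup Ω} {ρ g : Ω → Ω}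
    (hT : Iso F T T' ρ) (hQ : Iso F Q Q' ρ) (hQT : Q ≤ T) (hg : Iso F T' T g)
    (hgl : ∀ x ∈ T, g (ρ x) = x) : Iso F Q' Q g := by
  have hQ'T' : Q' ≤ T' := iso_le_of_le hT hQ hQT
  refine ⟨hg.1.restrict hQ'T', fun y => ⟨fun hy => ⟨ρ y, hQ.map_mem hy, hgl y (hQT hy)⟩, ?_⟩⟩
  rintro ⟨x, hx, rfl⟩
  obtain ⟨q, hq, rfl⟩ := hQ.surj hx
  rw [hgl q (hQT hq)]; exact hq

theorem card_lt_of_le_ne {H K : Subgroup Ω} [Finite K] (h : H ≤ K) (hne : H ≠ K) :
    Nat.card H < Nat.card K := card_lt_of_lt (lt_of_le_of_ne h hne)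

theorem iso_card_eq {F : FusionSystem S} {P Q : Subgroup Ω} {f : Ω → Ω} (h : Iso F P Q f) :
    Nat.card P = Nat.card Q := Nat.card_congr h.equiv.toEquiv

theorem isConj_of_iso {F : FusionSystem S} {P Q : Subgroup Ω} {f : Ω → Ω} (h : Iso F P Q f) :
    F.IsConj P Q := Helper87.isConj_iff.2 ⟨f, h⟩

/-- images of a normalizing subgroup lie in the normalizer of the image -/
theorem mor_map_normalizerIn {F : FusionSystem S} {T Q Q' : Subgroup Ω} {ρ : Ω → Ω}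
    (hρ : Mor F T ρ) (hQT : Q ≤ T) (hTN : T ≤ normalizerIn S Q) (hρQ : Iso F Q Q' ρ)
    {t : Ω} (ht : t ∈ T) : ρ t ∈ normalizerIn S Q' :=
  Subgroup.mem_inf.mpr ⟨hρ.mem ht, hρ.map_normalizer hQT hρQ ht (hTN ht).2⟩

/-! ### Step A: all members of the class map, with their normalizers, to a fixed member -/

/-- some map of the system on `N_S(Q)` carries `Q` onto `Ph` -/
def GoodN (F : FusionSystem S) (Ph Q : Subgroup Ω) : Prop :=
  ∃ χ, Mor F (normalizerIn S Q) χ ∧ Iso F Q Ph χ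

theorem nk_top_ge {T Q : Subgroup Ω} (hTS : T ≤ S) (hTN : T ≤ normalizerIn S Q) :
    T ≤ nk (fun Q => (⊤ : Subgroup (MulAut Q))) S T Q := by
  intro t ht
  exact mem_nk_top.mpr ⟨Subgroup.mem_inf.mpr ⟨hTS ht, Subgroup.le_normalizer ht⟩, hTN ht⟩

theorem nk_top_ne [Finite S] {p : ℕ} [Fact p.Prime] (hS : IsPGroup p S) {T Q : Subgroup Ω}
    (hTN : T ≤ normalizerIn S Q) (hne : T ≠ normalizerIn S Q) :
    T ≠ nk (fun Q => (⊤ : Subgroup (MulAut Q))) S T Q := by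
  have hfin : Finite (normalizerIn S Q) := finite_of_le inf_le_left
  have hp : IsPGroup p (normalizerIn S Q) := hS.to_le inf_le_left
  obtain ⟨t, htN, htn, htT⟩ := exists_mem_normalizer_not_mem (T := normalizerIn S Q) hp
    (lt_of_le_of_ne hTN hne)
  intro h
  apply htT
  rw [h]
  exact mem_nk_top.mpr ⟨Subgroup.mem_inf.mpr ⟨htN.1, htn⟩, htN⟩

theorem stepA_key (F : FusionSystem S) [Finite S] {p : ℕ} [Fact p.Prime] (hS : IsPGroup p S)
    {Ph : Subgroup Ω}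
    (hbig : ∀ U : Subgroup Ω, U ≤ S → Nat.card Ph < Nat.card U → LocSat F p U)
    (hfn : F.IsFullyNormalized Ph) :
    ∀ n : ℕ, ∀ (Q T : Subgroup Ω) (ρ : Ω → Ω), Nat.card S ≤ Nat.card T + n → Q ≤ T → Q ≠ T →
      T ≤ normalizerIn S Q → Mor F T ρ → Iso F Q Ph ρ → GoodN F Ph Q := by
  intro n
  induction n using Nat.strong_induction_on with
  | _ n ih =>
  intro Q T ρ hn hQT hne hTN hρ hρQ
  by_cases hT : T = normalizerIn S Q
  · subst hT
    exact ⟨ρ, hρ, hρQ⟩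
  have hTS : T ≤ S := hρ.le
  have hfinT : Finite T := finite_of_le hTS
  have hcQ : Nat.card Q = Nat.card Ph := iso_card_eq hρQ
  have hcQT : Nat.card Q < Nat.card T := card_lt_of_le_ne hQT hne
  -- the image of `T`
  have hiT : Iso F T hρ.image ρ := Iso.of_mor hρ
  set T'' := hρ.image with hT''
  have hT''S : T'' ≤ S := hiT.le_right
  have hfinT'' : Finite T'' := finite_of_le hT''S
  have hcT : Nat.card T = Nat.card T'' := iso_card_eq hiT
  have hT''N : T'' ≤ normalizerIn S Ph := by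
    intro y hy
    obtain ⟨t, ht, rfl⟩ := hiT.surj hy
    exact mor_map_normalizerIn hρ hQT hTN hρQ ht
  have hPhT'' : Ph ≤ T'' := iso_le_of_le hiT hρQ hQT
  have hfinNQ : Finite (normalizerIn S Q) := finite_of_le inf_le_left
  have hfinNP : Finite (normalizerIn S Ph) := finite_of_le inf_le_left
  have hT''ne : T'' ≠ normalizerIn S Ph := by
    intro h
    apply hT
    apply Subgroup.eq_of_le_of_card_ge hTN
    rw [hcT, h]
    exact hfn.2 Q (conj_symm F (isConj_of_iso hρQ))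
  -- the good pair
  have hlocT : LocSat F p T := hbig T hTS (by rw [← hcQ]; exact hcQT)
  obtain ⟨Th, Qh, f₀, hf₀T, hf₀Q, hgood⟩ := exists_goodP F (equivariant_top F) hlocT hQT
  have hQhTh : Qh ≤ Th := iso_le_of_le hf₀T hf₀Q hQT
  -- the extension for `(T, Q)`
  obtain ⟨a, χ₁, haM, -, hχ₁T, hχ₁Q, -, hax⟩ :=
    goodP_extend F hS (equivariant_top F) hgood hf₀T hf₀Q hQT
  have haQ : Iso F Q Qh a := (hf₀Q.comp hχ₁Q).congr (fun x hx => (hax x (hQT hx)).symm)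
  -- the extension for `(T'', Ph)`
  obtain ⟨g, hg, hgl, hgr⟩ := hiT.symm
  have hgP : Iso F Ph Q g := iso_symm_sub hiT hρQ hQT hg hgl
  obtain ⟨b, χ₂, hbM, -, hχ₂T, hχ₂Q, -, hbx⟩ :=
    goodP_extend F hS (equivariant_top F) hgood (hg.comp hf₀T) (hgP.comp hf₀Q) hPhT''
  have hbP : Iso F Ph Qh b :=
    ((hgP.comp hf₀Q).comp hχ₂Q).congr (fun x hx => (hbx x (hPhT'' hx)).symm)
  -- the subgroup `T₂`
  set T₂ := nk (fun Q => (⊤ : Subgroup (MulAut Q))) S T'' Ph with hT₂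
  have hT''T₂ : T'' ≤ T₂ := nk_top_ge hT''S hT''N
  have hT₂ne : T'' ≠ T₂ := nk_top_ne hS hT''N hT''ne
  have hT₂N : T₂ ≤ normalizerIn S Ph := nk_le_normalizerIn_right _ S T'' Ph
  have hT₂S : T₂ ≤ S := hT₂N.trans inf_le_left
  have hfinT₂ : Finite T₂ := finite_of_le hT₂S
  have hbT₂ : Mor F T₂ b := hbM.restrict le_sup_left
  have hiT₂ : Iso F T₂ hbT₂.image b := Iso.of_mor hbT₂
  obtain ⟨g₂, hg₂, hg₂l, -⟩ := hiT₂.symm
  have hPhT₂ : Ph ≤ T₂ := hPhT''.trans hT''T₂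
  have hg₂Q : Iso F Qh Ph g₂ := iso_symm_sub hiT₂ hbP hPhT₂ hg₂ hg₂l
  have hQhT₂ : Qh ≤ hbT₂.image := iso_le_of_le hiT₂ hbP hPhT₂
  have hcT₂ : Nat.card T₂ = Nat.card hbT₂.image := iso_card_eq hiT₂
  have hfinI : Finite hbT₂.image := finite_of_le hiT₂.le_right
  have hcT''T₂ : Nat.card T'' < Nat.card T₂ := card_lt_of_le_ne hT''T₂ hT₂ne
  have hcQh : Nat.card Ph = Nat.card Qh := iso_card_eq hbP
  have hQhne : Qh ≠ hbT₂.image := by
    intro h
    have : Nat.card Qh = Nat.card hbT₂.image := by rw [← h]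
    omega
  have hIN : hbT₂.image ≤ normalizerIn S Qh := by
    intro y hy
    obtain ⟨t, ht, rfl⟩ := hiT₂.surj hy
    exact mor_map_normalizerIn hbT₂ hPhT₂ hT₂N hbP ht
  have hcIS : Nat.card hbT₂.image ≤ Nat.card S := Subgroup.card_le_of_le hiT₂.le_right
  have hn1 : 1 ≤ n := by omega
  -- induction: `Qh` is good
  obtain ⟨γ, hγ, hγQ⟩ := ih (n - 1) (by omega) Qh hbT₂.image g₂ (by omega) hQhT₂ hQhne hIN hg₂.1 hg₂Q
  -- the subgroup `T₁`
  set T₁ := nk (fun Q => (⊤ : Subgroup (MulAut Q))) S T Q with hT₁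
  have hTT₁ : T ≤ T₁ := nk_top_ge hTS hTN
  have hT₁ne : T ≠ T₁ := nk_top_ne hS hTN hT
  have hT₁N : T₁ ≤ normalizerIn S Q := nk_le_normalizerIn_right _ S T Q
  have hT₁S : T₁ ≤ S := hT₁N.trans inf_le_left
  have hfinT₁ : Finite T₁ := finite_of_le hT₁S
  have haT₁ : Mor F T₁ a := haM.restrict le_sup_left
  have hQT₁ : Q ≤ T₁ := hQT.trans hTT₁
  have hρ₁ : Mor F T₁ (fun x => γ (a x)) :=
    haT₁.comp hγ (fun x hx => mor_map_normalizerIn haT₁ hQT₁ hT₁N haQ hx)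
  have hρ₁Q : Iso F Q Ph (fun x => γ (a x)) := haQ.comp hγQ
  have hcTT₁ : Nat.card T < Nat.card T₁ := card_lt_of_le_ne hTT₁ hT₁ne
  have hQne₁ : Q ≠ T₁ := by
    intro h
    have : Nat.card Q = Nat.card T₁ := by rw [← h]
    omega
  exact ih (n - 1) (by omega) Q T₁ _ (by omega) hQT₁ hQne₁ hT₁N hρ₁ hρ₁Q

theorem goodN_of_ext (F : FusionSystem S) [Finite S] {p : ℕ} [Fact p.Prime] (hS : IsPGroup p S)
    {Ph : Subgroup Ω}
    (hbig : ∀ U : Subgroup Ω, U ≤ S → Nat.card Ph < Nat.card U → LocSat F p U)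
    (hfn : F.IsFullyNormalized Ph) {Q R Q' : Subgroup Ω} {f : Ω → Ω} (hQR : Q ≤ R) (hne : Q ≠ R)
    (hf : Mor F R f) (hQQ' : Iso F Q Q' f) (hgood : GoodN F Ph Q') : GoodN F Ph Q := by
  obtain ⟨χ', hχ', hχ'Q⟩ := hgood
  have hRS : R ≤ S := hf.le
  have hfinR : Finite R := finite_of_le hRS
  set T := R ⊓ normalizerIn S Q with hT
  have hQT : Q ≤ T := le_inf hQR (le_inf (hQR.trans hRS) Subgroup.le_normalizer)
  have hTN : T ≤ normalizerIn S Q := inf_le_right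
  have hneT : Q ≠ T := by
    obtain ⟨t, htR, htn, htQ⟩ := exists_mem_normalizer_not_mem (T := R) (hS.to_le hRS)
      (lt_of_le_of_ne hQR hne)
    intro h
    apply htQ
    rw [h]
    exact Subgroup.mem_inf.mpr ⟨htR, Subgroup.mem_inf.mpr ⟨hRS htR, htn⟩⟩
  have hfT : Mor F T f := hf.restrict inf_le_left
  have hρ : Mor F T (fun x => χ' (f x)) :=
    hfT.comp hχ' (fun x hx => mor_map_normalizerIn hfT hQT hTN hQQ' hx)
  exact stepA_key F hS hbig hfn (Nat.card S) Q T _ (by omega) hQT hneT hTN hρ (hQQ'.comp hχ'Q)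

theorem stepA (F : FusionSystem S) [Finite S] {p : ℕ} [Fact p.Prime] (hS : IsPGroup p S)
    (ℋ : Set (Subgroup Ω))
    (hgen : ∀ E : FusionSystem S, (∀ P ∈ ℋ, F.Hom P ⊆ E.Hom P) → F ≤ E)
    {Ph : Subgroup Ω} (hdisj : ∀ Q, F.IsConj Ph Q → Q ∉ ℋ) (hS𝒫 : ¬ F.IsConj Ph S)
    (hbig : ∀ U : Subgroup Ω, U ≤ S → Nat.card Ph < Nat.card U → LocSat F p U)
    (hfn : F.IsFullyNormalized Ph) :
    ∀ Q, F.IsConj Ph Q → GoodN F Ph Q := by
  have key := gen_induction F ℋ hgen Ph hdisj hS𝒫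
    (fun Q f => ∀ Q', Iso F Q Q' f → (GoodN F Ph Q ↔ GoodN F Ph Q'))
    (by
      intro Q f g hC h Q' hQ'
      exact hC Q' (hQ'.congr (fun x hx => (h x hx).symm)))
    (by
      intro Q R f hc hQR hne hf Q' hQQ'
      have hRS : R ≤ S := hf.le
      have hfinR : Finite R := finite_of_le hRS
      have hiR : Iso F R hf.image f := Iso.of_mor hf
      obtain ⟨g, hg, hgl, -⟩ := hiR.symm
      have hgQ : Iso F Q' Q g := iso_symm_sub hiR hQQ' hQR hg hgl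
      have hQ'R' : Q' ≤ hf.image := iso_le_of_le hiR hQQ' hQR
      have hfinI : Finite hf.image := finite_of_le hiR.le_right
      have hne' : Q' ≠ hf.image := by
        intro h
        have h1 : Nat.card Q' = Nat.card hf.image := by rw [← h]
        have h2 := iso_card_eq hQQ'
        have h3 := iso_card_eq hiR
        have h4 := card_lt_of_le_ne hQR hne
        omega
      exact ⟨fun h => goodN_of_ext F hS hbig hfn hQ'R' hne' hg.1 hgQ h,
        fun h => goodN_of_ext F hS hbig hfn hQR hne hf hQQ' h⟩)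
    (by
      intro Q Q' Q'' f g hc hf hg hCf hCg Q₃ h₃
      have : Q'' = Q₃ := (hf.comp hg).eq_of_iso h₃
      subst this
      exact (hCf Q' hf).trans (hCg Q'' hg))
    (by
      intro Q Q' f g hc hf hg hgl hCf Q₂ h₂
      have : Q = Q₂ := hg.eq_of_iso h₂
      subst this
      exact (hCf Q' hf).symm)
  intro Q hc
  obtain ⟨f, hf⟩ := Helper87.isConj_iff.1 (conj_symm F hc)
  have h1 := key Q f hc hf.1 Ph hf
  rw [h1]
  exact ⟨fun x => x, Mor.id inf_le_left, Iso.refl hfn.1⟩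

/-! ### The family `O_p(Aut_F(Q))` -/

/-- `O_p(Aut_F(Q))` as a subgroup of `Aut(Q)`. -/
noncomputable def pcoreN (F : FusionSystem S) (p : ℕ) (Q : Subgroup Ω) : Subgroup (MulAut Q) :=
  (Cfsg.pCore p (F.autGroup Q)).map (F.autGroup Q).subtype

theorem pcoreN_le (F : FusionSystem S) (p : ℕ) (Q : Subgroup Ω) : pcoreN F p Q ≤ F.autGroup Q := by
  rintro _ ⟨x, -, rfl⟩
  exact x.2

theorem pcoreN_isPGroup (F : FusionSystem S) [Finite S] (p : ℕ) [Fact p.Prime] {Q : Subgroup Ω}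
    (hQ : Q ≤ S) : IsPGroup p (pcoreN F p Q) := by
  have : Finite Q := finite_of_le hQ
  exact (Helper83.pCore_isPGroup83 (G := F.autGroup Q) p).map _

theorem pcoreN_conj_mem (F : FusionSystem S) (p : ℕ) {Q : Subgroup Ω} {γ β : MulAut Q}
    (hγ : γ ∈ F.autGroup Q) (hβ : β ∈ pcoreN F p Q) : γ * β * γ⁻¹ ∈ pcoreN F p Q := by
  obtain ⟨b, hb, rfl⟩ := hβ
  have hn : (Cfsg.pCore p (F.autGroup Q)).Normal := Helper83.pCore_normal83 p
  exact ⟨⟨γ, hγ⟩ * b * ⟨γ, hγ⟩⁻¹, hn.conj_mem b hb ⟨γ, hγ⟩, rfl⟩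

/-- maximality of `O_p` -/
theorem le_pcoreN (F : FusionSystem S) (p : ℕ) {Q : Subgroup Ω} {N : Subgroup (MulAut Q)}
    (hN : N ≤ F.autGroup Q) (hp : IsPGroup p N)
    (hnorm : ∀ γ ∈ F.autGroup Q, ∀ β ∈ N, γ * β * γ⁻¹ ∈ N) : N ≤ pcoreN F p Q := by
  have h1 : N.subgroupOf (F.autGroup Q) ≤ Cfsg.pCore p (F.autGroup Q) := by
    apply le_sSup
    refine ⟨⟨fun b hb γ => ?_⟩, isPGroup_subgroupOf _ hp⟩
    rw [Subgroup.mem_subgroupOf] at hb ⊢
    exact hnorm γ γ.2 b hb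
  intro β hβ
  exact ⟨⟨β, hN hβ⟩, h1 (Subgroup.mem_subgroupOf.mpr hβ), rfl⟩

theorem congr_mul {U V : Type*} [Group U] [Group V] (e : U ≃* V) (a b : MulAut U) :
    MulAut.congr e (a * b) = MulAut.congr e a * MulAut.congr e b := map_mul _ _ _

theorem pcoreN_map_le (F : FusionSystem S) [Finite S] (p : ℕ) [Fact p.Prime] {Q Q' : Subgroup Ω}
    {e : Q ≃* Q'} (he : e ∈ isoSet F Q Q') :
    (pcoreN F p Q).map (MulAut.congr e).toMonoidHom ≤ pcoreN F p Q' := by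
  obtain ⟨hQS, hQ'S⟩ := isoSet_le F he
  apply le_pcoreN
  · rw [← map_congr_autGroup F he]
    exact Subgroup.map_mono (pcoreN_le F p Q)
  · exact (pcoreN_isPGroup F p hQS).map _
  · rintro γ' hγ' _ ⟨β, hβ, rfl⟩
    rw [← map_congr_autGroup F he] at hγ'
    obtain ⟨γ, hγ, rfl⟩ := hγ'
    refine ⟨γ * β * γ⁻¹, pcoreN_conj_mem F p hγ hβ, ?_⟩
    simp only [MulEquiv.coe_toMonoidHom, map_mul, map_inv]

theorem equivariant_pcoreN (F : FusionSystem S) [Finite S] (p : ℕ) [Fact p.Prime] :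
    Equivariant F (pcoreN F p) := by
  intro Q Q' e he
  apply le_antisymm (pcoreN_map_le F p he)
  have h1 := pcoreN_map_le F p (isoSet_symm F he)
  have h2 := Subgroup.map_mono (f := (MulAut.congr e).toMonoidHom) h1
  rwa [map_congr_map_congr_symm] at h2

theorem inn_le_pcoreN (F : FusionSystem S) [Finite S] (p : ℕ) [Fact p.Prime] (hS : IsPGroup p S)
    {Q : Subgroup Ω} (hQ : Q ≤ S) : Inn Q ≤ pcoreN F p Q := by
  apply le_pcoreN F p (inn_le_autGroup F hQ)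
  · have hQp : IsPGroup p Q := hS.to_le hQ
    exact hQp.of_surjective (MulAut.conj : Q →* MulAut Q).rangeRestrict
      (MonoidHom.rangeRestrict_surjective _)
  · rintro γ - _ ⟨g, rfl⟩
    refine ⟨γ g, ?_⟩
    ext x
    simp [MulAut.conj_apply]

/-! ### The subgroup `T₀ = N_S^K(P)` for `K = O_p(Aut_F(P))` -/

theorem normK_map_mem {F : FusionSystem S} {𝒩 : ∀ Q : Subgroup Ω, Subgroup (MulAut Q)}
    (h𝒩 : Equivariant F 𝒩) {D Q Q' : Subgroup Ω} {c : Ω → Ω} (hc : Mor F D c) (hQD : Q ≤ D)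
    (hcQ : Iso F Q Q' c) {t : Ω} (htD : t ∈ D) (ht : t ∈ normK S Q (𝒩 Q)) :
    c t ∈ normK S Q' (𝒩 Q') := by
  obtain ⟨htN, htK⟩ := mem_normK_iff.mp ht
  have h1 : c t ∈ normalizerIn S Q' :=
    Subgroup.mem_inf.mpr ⟨hc.mem htD, hc.map_normalizer hQD hcQ htD htN.2⟩
  rw [mem_normK_iff]
  refine ⟨h1, ?_⟩
  have : normAut S Q' ⟨c t, h1⟩ = MulAut.congr hcQ.equiv (normAut S Q ⟨t, htN⟩) := by
    ext y
    obtain ⟨x, rfl⟩ := hcQ.equiv.surjective y
    rw [congr_apply', normAut_apply]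
    show c t * c x * (c t)⁻¹ = c (t * x * t⁻¹)
    rw [hc.map_conj htD (hQD x.2)]
  rw [this, ← h𝒩 Q Q' hcQ.equiv (iso_equiv_mem_isoSet hcQ)]
  exact ⟨_, htK, rfl⟩

/-- `T₀` -/
noncomputable def T0 (F : FusionSystem S) (p : ℕ) (Ph : Subgroup Ω) : Subgroup Ω :=
  normK S Ph (pcoreN F p Ph)

theorem T0_le (F : FusionSystem S) (p : ℕ) (Ph : Subgroup Ω) : T0 F p Ph ≤ normalizerIn S Ph :=
  normK_le S Ph _

theorem le_T0 (F : FusionSystem S) [Finite S] (p : ℕ) [Fact p.Prime] (hS : IsPGroup p S)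
    {Ph : Subgroup Ω} (hPh : Ph ≤ S) : Ph ≤ T0 F p Ph := by
  intro x hx
  have hxN : x ∈ normalizerIn S Ph := Subgroup.mem_inf.mpr ⟨hPh hx, Subgroup.le_normalizer hx⟩
  refine mem_normK_iff.mpr ⟨hxN, inn_le_pcoreN F p hS hPh ⟨⟨x, hx⟩, ?_⟩⟩
  ext y
  simp [MulAut.conj_apply, normAut_apply]

theorem normalizerIn_le_normalizerIn_T0 (F : FusionSystem S) [Finite S] (p : ℕ) {Ph : Subgroup Ω}
    (hPh : Ph ≤ S) : normalizerIn S Ph ≤ normalizerIn S (T0 F p Ph) := by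
  intro h hh
  have hfin : Finite (T0 F p Ph) := finite_of_le ((T0_le F p Ph).trans inf_le_left)
  refine Subgroup.mem_inf.mpr ⟨hh.1, mem_normalizer_of_conj_mem_finite ?_⟩
  intro t ht
  obtain ⟨htN, htK⟩ := mem_normK_iff.mp ht
  have h1 : h * t * h⁻¹ ∈ normalizerIn S Ph :=
    (normalizerIn S Ph).mul_mem ((normalizerIn S Ph).mul_mem hh htN) ((normalizerIn S Ph).inv_mem hh)
  refine mem_normK_iff.mpr ⟨h1, ?_⟩
  have h2 : normAut S Ph ⟨h * t * h⁻¹, h1⟩ =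
      normAut S Ph ⟨h, hh⟩ * normAut S Ph ⟨t, htN⟩ * (normAut S Ph ⟨h, hh⟩)⁻¹ := by
    have h3 : (⟨h * t * h⁻¹, h1⟩ : normalizerIn S Ph) = ⟨h, hh⟩ * ⟨t, htN⟩ * ⟨h, hh⟩⁻¹ := rfl
    rw [h3, ← normAutMHom_apply, map_mul, map_mul, map_inv]
    rfl
  rw [h2]
  exact pcoreN_conj_mem F p (autInducedBy_le_autGroup F hPh (normAut_mem S Ph _)) htK

theorem ext_iso (F : FusionSystem S) [Finite S] (p : ℕ) [Fact p.Prime] {Ph : Subgroup Ω}
    (hPhT : Ph ≤ T0 F p Ph) {ab α : Ω → Ω} (hab : Mor F (T0 F p Ph) ab) (hα : Iso F Ph Ph α)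
    (hx : ∀ x ∈ Ph, ab x = α x) : Iso F (T0 F p Ph) (T0 F p Ph) ab := by
  have hT₀S : T0 F p Ph ≤ S := hab.le
  apply Helper87.iso_of_card_le hab hT₀S _ le_rfl
  intro t ht
  exact normK_map_mem (equivariant_pcoreN F p) hab hPhT
    (hα.congr (fun x hx' => (hx x hx').symm)) ht ht

theorem grow_of_not_le (F : FusionSystem S) [Finite S] (p : ℕ) [Fact p.Prime] (hS : IsPGroup p S)
    {Ph R : Subgroup Ω} (hPh : Ph ≤ S) (hRN : R ≤ normalizerIn S Ph) (hT₀R : ¬ T0 F p Ph ≤ R) :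
    R ≠ nk (pcoreN F p) S R Ph ⊔ R := by
  have hT₀S : T0 F p Ph ≤ S := (T0_le F p Ph).trans inf_le_left
  have hRS : R ≤ S := hRN.trans inf_le_left
  have hRnorm : R ≤ Subgroup.normalizer ((T0 F p Ph : Subgroup Ω) : Set Ω) :=
    fun r hr => (normalizerIn_le_normalizerIn_T0 F p hPh (hRN hr)).2
  have hlt : R < R ⊔ T0 F p Ph := by
    apply lt_of_le_of_ne le_sup_left
    intro h
    apply hT₀R
    rw [h]
    exact le_sup_right
  have hfin : Finite (R ⊔ T0 F p Ph : Subgroup Ω) := finite_of_le (sup_le hRS hT₀S)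
  obtain ⟨t, htRT, htn, htR⟩ := exists_mem_normalizer_not_mem (T := R ⊔ T0 F p Ph)
    (hS.to_le (sup_le hRS hT₀S)) hlt
  have htRT' : t ∈ ((R ⊔ T0 F p Ph : Subgroup Ω) : Set Ω) := htRT
  rw [Subgroup.coe_mul_of_left_le_normalizer_right R (T0 F p Ph) hRnorm] at htRT'
  obtain ⟨r, hr, t', ht', rfl⟩ := htRT'
  have hr' : r ∈ R := hr
  have ht'' : t' ∈ T0 F p Ph := ht'
  have ht'n : t' ∈ Subgroup.normalizer (R : Set Ω) := by
    have h1 : r⁻¹ ∈ Subgroup.normalizer (R : Set Ω) := Subgroup.le_normalizer (R.inv_mem hr')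
    have h2 := Subgroup.mul_mem _ h1 htn
    rwa [inv_mul_cancel_left] at h2
  have ht'R : t' ∉ R := fun h => htR (R.mul_mem hr' h)
  intro heq
  apply ht'R
  rw [heq]
  exact (le_sup_left : nk (pcoreN F p) S R Ph ≤ _)
    (Subgroup.mem_inf.mpr ⟨Subgroup.mem_inf.mpr ⟨hT₀S ht'', ht'n⟩, ht''⟩)

end Cfsg.Agent.Helper84
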