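import Mathlib
import Cfsg.Prelude.Def_FusionSystem
import Cfsg.Agent.Lib.Helper84.FusCrit

/-!
# The saturation criterion, step B: the fully normalized member of the class is fully automized
and receptive
-/

set_option autoImplicit false

namespace Cfsg.Agent.Helper84

open Cfsg Cfsg.FusionSystem
open Cfsg.Agent.Helper87 (Mor Iso extFun extAut)

variable {Ω : Type*} [Group Ω] {S : Subgroup Ω}

theorem iso_conj_self {F : FusionSystem S} [Finite S] {T : Subgroup Ω} (hT : T ≤ S) {t : Ω}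
    (ht : t ∈ T) : Iso F T T (fun x => t * x * t⁻¹) := by
  apply Helper87.iso_of_card_le (Mor.conj hT (hT ht)) hT _ le_rfl
  intro x hx
  exact T.mul_mem (T.mul_mem ht hx) (T.inv_mem ht)

theorem stepB_key (F : FusionSystem S) [Finite S] {p : ℕ} [Fact p.Prime] (hS : IsPGroup p S)
    {Ph : Subgroup Ω} (hPh : Ph ≤ S)
    (hbig : ∀ U : Subgroup Ω, U ≤ S → Nat.card Ph < Nat.card U → LocSat F p U)
    (hgoodN : ∀ Q, F.IsConj Ph Q → GoodN F Ph Q) :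
    ∀ n : ℕ, ∀ (R : Subgroup Ω) (φ : Ω → Ω), Nat.card S ≤ Nat.card R + n → Ph ≤ R → Ph ≠ R →
      R ≤ normalizerIn S Ph → Mor F R φ → Iso F Ph Ph φ →
      ∃ ab, Iso F (T0 F p Ph) (T0 F p Ph) ab ∧ ∀ x ∈ Ph, ab x = φ x := by
  intro n
  induction n using Nat.strong_induction_on with
  | _ n ih =>
  intro R φ hn hPR hne hRN hφ hφP
  have hPhT : Ph ≤ T0 F p Ph := le_T0 F p hS hPh
  have hT₀S : T0 F p Ph ≤ S := (T0_le F p Ph).trans inf_le_left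
  by_cases hTR : T0 F p Ph ≤ R
  · exact ⟨φ, ext_iso F p hPhT (hφ.restrict hTR) hφP (fun x _ => rfl), fun x _ => rfl⟩
  have hRS : R ≤ S := hφ.le
  have hfinR : Finite R := finite_of_le hRS
  have hfinP : Finite Ph := finite_of_le hPh
  have hcPR : Nat.card Ph < Nat.card R := card_lt_of_le_ne hPR hne
  have h𝒩 := equivariant_pcoreN F p
  -- the image of `R`
  have hiR : Iso F R hφ.image φ := Iso.of_mor hφ
  set R' := hφ.image with hR'
  have hR'S : R' ≤ S := hiR.le_right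
  have hfinR' : Finite R' := finite_of_le hR'S
  have hcR : Nat.card R = Nat.card R' := iso_card_eq hiR
  have hR'N : R' ≤ normalizerIn S Ph := by
    intro y hy
    obtain ⟨t, ht, rfl⟩ := hiR.surj hy
    exact mor_map_normalizerIn hφ hPR hRN hφP ht
  have hPR' : Ph ≤ R' := iso_le_of_le hiR hφP hPR
  obtain ⟨g, hg, hgl, hgr⟩ := hiR.symm
  have hgP : Iso F Ph Ph g := iso_symm_sub hiR hφP hPR hg hgl
  have hTR' : ¬ T0 F p Ph ≤ R' := by
    intro h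
    have h1 := ext_iso F p hPhT (hg.1.restrict h) hgP (fun x _ => rfl)
    apply hTR
    intro t ht
    obtain ⟨t', ht', rfl⟩ := h1.surj ht
    exact hg.map_mem (h ht')
  -- the good pair
  have hlocR : LocSat F p R := hbig R hRS hcPR
  obtain ⟨Rh, Qh, f₀, hf₀R, hf₀Q, hgood⟩ := exists_goodP F h𝒩 hlocR hPR
  have hQhRh : Qh ≤ Rh := iso_le_of_le hf₀R hf₀Q hPR
  have hQhS : Qh ≤ S := hf₀Q.le_right
  obtain ⟨a, χ₁, haM, haN, hχ₁R, hχ₁Q, ⟨β₁, hβ₁, hβ₁x⟩, hax⟩ :=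
    goodP_extend F hS h𝒩 hgood hf₀R hf₀Q hPR
  have haP : Iso F Ph Qh a := (hf₀Q.comp hχ₁Q).congr (fun x hx => (hax x (hPR hx)).symm)
  obtain ⟨b, χ₂, hbM, hbN, hχ₂R, hχ₂Q, ⟨β₂, hβ₂, hβ₂x⟩, hbx⟩ :=
    goodP_extend F hS h𝒩 hgood (hg.comp hf₀R) (hgP.comp hf₀Q) hPR'
  have hbP : Iso F Ph Qh b :=
    ((hgP.comp hf₀Q).comp hχ₂Q).congr (fun x hx => (hbx x (hPR' hx)).symm)
  -- `χ = χ₂ ∘ χ₁⁻¹`
  obtain ⟨k₁, hk₁, hk₁l, hk₁r⟩ := hχ₁R.symm
  have hk₁Q : Iso F Qh Qh k₁ := iso_symm_sub hχ₁R hχ₁Q hQhRh hk₁ hk₁l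
  have hχR : Iso F Rh Rh (fun x => χ₂ (k₁ x)) := hk₁.comp hχ₂R
  have hχQ : Iso F Qh Qh (fun x => χ₂ (k₁ x)) := hk₁Q.comp hχ₂Q
  have hχ𝒩 : ∃ β ∈ pcoreN F p Qh, ∀ x : Qh, ((β x : Qh) : Ω) = (fun x => χ₂ (k₁ x)) x := by
    refine ⟨β₂ * β₁⁻¹, (pcoreN F p Qh).mul_mem hβ₂ ((pcoreN F p Qh).inv_mem hβ₁), fun x => ?_⟩
    have h1 : ((β₁⁻¹ x : Qh) : Ω) = k₁ x := by
      have h2 := hβ₁x (β₁⁻¹ x)
      rw [MulAut.apply_inv_self] at h2
      rw [h2, hk₁l _ (hQhRh (β₁⁻¹ x).2)]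
    show (((β₂ * β₁⁻¹) x : Qh) : Ω) = χ₂ (k₁ x)
    rw [MulAut.mul_apply, hβ₂x, h1]
  have hp𝒩 : IsPGroup p (pcoreN F p Qh) := pcoreN_isPGroup F p hQhS
  obtain ⟨h, hh, hhx⟩ := goodP_sylow F hgood hp𝒩 hχR hχQ hχ𝒩
  -- the key equation
  have hkey : ∀ x ∈ Ph, b (φ x) = h * a x * h⁻¹ := by
    intro x hx
    have hxR := hPR hx
    calc b (φ x) = χ₂ (f₀ (g (φ x))) := hbx _ (hiR.map_mem hxR)
      _ = χ₂ (f₀ x) := by rw [hgl x hxR]
      _ = χ₂ (k₁ (χ₁ (f₀ x))) := by rw [hk₁l _ (hf₀R.map_mem hxR)]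
      _ = χ₂ (k₁ (a x)) := by rw [hax x hxR]
      _ = h * a x * h⁻¹ := hhx _ (haP.map_mem hx)
  have hcQh : F.IsConj Ph Qh := isConj_of_iso hf₀Q
  obtain ⟨c, hc, hcQ⟩ := hgoodN Qh hcQh
  have hQhN : Qh ≤ normalizerIn S Qh := Helper87.le_normalizerIn hQhS
  -- the subgroup `R₁`
  set R₁ := nk (pcoreN F p) S R Ph ⊔ R with hR₁
  have hRR₁ : R ≤ R₁ := le_sup_right
  have hR₁ne : R ≠ R₁ := grow_of_not_le F p hS hPh hRN hTR
  have hR₁N : R₁ ≤ normalizerIn S Ph := sup_le (nk_le_normalizerIn_right _ S R Ph) hRN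
  have hR₁S : R₁ ≤ S := hR₁N.trans inf_le_left
  have hfinR₁ : Finite R₁ := finite_of_le hR₁S
  have hPR₁ : Ph ≤ R₁ := hPR.trans hRR₁
  have hat : Mor F R₁ (fun x => c (a x)) :=
    haM.comp hc (fun x hx => mor_map_normalizerIn haM hPR₁ hR₁N haP hx)
  have hatP : Iso F Ph Ph (fun x => c (a x)) := haP.comp hcQ
  have hcRR₁ : Nat.card R < Nat.card R₁ := card_lt_of_le_ne hRR₁ hR₁ne
  have hPne₁ : Ph ≠ R₁ := by
    intro h
    have : Nat.card Ph = Nat.card R₁ := by rw [← h]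
    omega
  have hcR₁S : Nat.card R₁ ≤ Nat.card S := Subgroup.card_le_of_le hR₁S
  obtain ⟨A, hA, hAx⟩ := ih (n - 1) (by omega) R₁ _ (by omega) hPR₁ hPne₁ hR₁N hat hatP
  -- the subgroup `R₁'`
  set R₁' := nk (pcoreN F p) S R' Ph ⊔ R' with hR₁'
  have hRR₁' : R' ≤ R₁' := le_sup_right
  have hR₁'ne : R' ≠ R₁' := grow_of_not_le F p hS hPh hR'N hTR'
  have hR₁'N : R₁' ≤ normalizerIn S Ph := sup_le (nk_le_normalizerIn_right _ S R' Ph) hR'N
  have hR₁'S : R₁' ≤ S := hR₁'N.trans inf_le_left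
  have hfinR₁' : Finite R₁' := finite_of_le hR₁'S
  have hPR₁' : Ph ≤ R₁' := hPR'.trans hRR₁'
  have hbt : Mor F R₁' (fun x => c (b x)) :=
    hbM.comp hc (fun x hx => mor_map_normalizerIn hbM hPR₁' hR₁'N hbP hx)
  have hbtP : Iso F Ph Ph (fun x => c (b x)) := hbP.comp hcQ
  have hcRR₁' : Nat.card R' < Nat.card R₁' := card_lt_of_le_ne hRR₁' hR₁'ne
  have hPne₁' : Ph ≠ R₁' := by
    intro h
    have : Nat.card Ph = Nat.card R₁' := by rw [← h]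
    omega
  have hcR₁'S : Nat.card R₁' ≤ Nat.card S := Subgroup.card_le_of_le hR₁'S
  obtain ⟨B, hB, hBx⟩ := ih (n - 1) (by omega) R₁' _ (by omega) hPR₁' hPne₁' hR₁'N hbt hbtP
  -- the element `t = c h`
  have hhN : h ∈ normalizerIn S Qh := nk_le_normalizerIn_right _ S Rh Qh hh
  have hhK : h ∈ normK S Qh (pcoreN F p Qh) := (Subgroup.mem_inf.mp hh).2
  have htT : c h ∈ T0 F p Ph := normK_map_mem h𝒩 hc hQhN hcQ hhN hhK
  obtain ⟨Bi, hBi, hBil, hBir⟩ := hB.symm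
  have hconj : Iso F (T0 F p Ph) (T0 F p Ph) (fun x => c h * x * (c h)⁻¹) :=
    iso_conj_self hT₀S htT
  refine ⟨fun x => Bi (c h * A x * (c h)⁻¹), (hA.comp hconj).comp hBi, fun x hx => ?_⟩
  have h1 : B (φ x) = c h * A x * (c h)⁻¹ := by
    rw [hBx _ (hφP.map_mem hx), hAx x hx]
    show c (b (φ x)) = c h * c (a x) * (c h)⁻¹
    rw [hkey x hx, hc.map_conj hhN (hQhN (haP.map_mem hx))]
  show Bi (c h * A x * (c h)⁻¹) = φ x
  rw [← h1, hBil _ (hPhT (hφP.map_mem hx))]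

/-! ### Automorphisms of `Ph` that extend to `T₀` -/

/-- `α` agrees on `Ph` with an automorphism of `T₀` in the system -/
def ExtT (F : FusionSystem S) (p : ℕ) (Ph : Subgroup Ω) (α : Ω → Ω) : Prop :=
  ∃ ab, Iso F (T0 F p Ph) (T0 F p Ph) ab ∧ ∀ x ∈ Ph, ab x = α x

theorem ExtT.congr {F : FusionSystem S} {p : ℕ} {Ph : Subgroup Ω} {α α' : Ω → Ω}
    (h : ExtT F p Ph α) (hαα' : ∀ x ∈ Ph, α x = α' x) : ExtT F p Ph α' := by
  obtain ⟨ab, hab, habx⟩ := h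
  exact ⟨ab, hab, fun x hx => (habx x hx).trans (hαα' x hx)⟩

theorem ExtT.comp {F : FusionSystem S} {p : ℕ} {Ph : Subgroup Ω} {α β : Ω → Ω}
    (h1 : ExtT F p Ph α) (h2 : ExtT F p Ph β) (hα : ∀ x ∈ Ph, α x ∈ Ph) :
    ExtT F p Ph (fun x => β (α x)) := by
  obtain ⟨ab, hab, habx⟩ := h1
  obtain ⟨cd, hcd, hcdx⟩ := h2
  refine ⟨fun x => cd (ab x), hab.comp hcd, fun x hx => ?_⟩
  show cd (ab x) = β (α x)
  rw [habx x hx, hcdx _ (hα x hx)]

theorem ExtT.inv {F : FusionSystem S} {p : ℕ} {Ph : Subgroup Ω} (hPhT : Ph ≤ T0 F p Ph)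
    {α β : Ω → Ω} (h1 : ExtT F p Ph α) (hα : Iso F Ph Ph α) (hβ : ∀ x ∈ Ph, β (α x) = x) :
    ExtT F p Ph β := by
  obtain ⟨ab, hab, habx⟩ := h1
  obtain ⟨abi, habi, habil, -⟩ := hab.symm
  refine ⟨abi, habi, fun y hy => ?_⟩
  obtain ⟨x, hx, rfl⟩ := hα.surj hy
  rw [hβ x hx, ← habx x hx, habil x (hPhT hx)]

theorem stepB1 (F : FusionSystem S) [Finite S] {p : ℕ} [Fact p.Prime] (hS : IsPGroup p S)
    (ℋ : Set (Subgroup Ω))
    (hgen : ∀ E : FusionSystem S, (∀ P ∈ ℋ, F.Hom P ⊆ E.Hom P) → F ≤ E)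
    {Ph : Subgroup Ω} (hPh : Ph ≤ S) (hdisj : ∀ Q, F.IsConj Ph Q → Q ∉ ℋ)
    (hS𝒫 : ¬ F.IsConj Ph S)
    (hbig : ∀ U : Subgroup Ω, U ≤ S → Nat.card Ph < Nat.card U → LocSat F p U)
    (hgoodN : ∀ Q, F.IsConj Ph Q → GoodN F Ph Q) :
    ∀ α, Iso F Ph Ph α → ExtT F p Ph α := by
  have hPhT : Ph ≤ T0 F p Ph := le_T0 F p hS hPh
  have key := gen_induction F ℋ hgen Ph hdisj hS𝒫
    (fun Q f => ∀ (Q' : Subgroup Ω) (c c' k : Ω → Ω), Iso F Q Q' f →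
      Mor F (normalizerIn S Q) c → Iso F Q Ph c → Mor F (normalizerIn S Q') c' → Iso F Q' Ph c' →
      Iso F Ph Q k → (∀ x ∈ Q, k (c x) = x) → ExtT F p Ph (fun x => c' (f (k x))))
    (by
      intro Q f g hC h Q' c c' k hQ' hc hcQ hc' hc'Q hk hkc
      refine (hC Q' c c' k (hQ'.congr (fun x hx => (h x hx).symm)) hc hcQ hc' hc'Q hk hkc).congr
        (fun x hx => ?_)
      show c' (f (k x)) = c' (g (k x))
      rw [h _ (hk.map_mem hx)])
    (by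
      intro Q R f hcj hQR hne hf Q' c c' k hQQ' hc hcQ hc' hc'Q hk hkc
      have hRS : R ≤ S := hf.le
      have hQS : Q ≤ S := hQR.trans hRS
      have hfinR : Finite R := finite_of_le hRS
      have hfinQ : Finite Q := finite_of_le hQS
      set T := R ⊓ normalizerIn S Q with hT
      have hQT : Q ≤ T := le_inf hQR (le_inf hQS Subgroup.le_normalizer)
      have hTN : T ≤ normalizerIn S Q := inf_le_right
      have hTS : T ≤ S := hTN.trans inf_le_left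
      have hfinT : Finite T := finite_of_le hTS
      have hneT : Q ≠ T := by
        obtain ⟨t, htR, htn, htQ⟩ := exists_mem_normalizer_not_mem (T := R) (hS.to_le hRS)
          (lt_of_le_of_ne hQR hne)
        intro h
        apply htQ
        rw [h]
        exact Subgroup.mem_inf.mpr ⟨htR, Subgroup.mem_inf.mpr ⟨hRS htR, htn⟩⟩
      have hfT : Mor F T f := hf.restrict inf_le_left
      have hcT : Mor F T c := hc.restrict hTN
      have hiT : Iso F T hcT.image c := Iso.of_mor hcT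
      set R₀ := hcT.image with hR₀
      have hR₀S : R₀ ≤ S := hiT.le_right
      have hfinR₀ : Finite R₀ := finite_of_le hR₀S
      have hPR₀ : Ph ≤ R₀ := iso_le_of_le hiT hcQ hQT
      have hR₀N : R₀ ≤ normalizerIn S Ph := by
        intro y hy
        obtain ⟨t, ht, rfl⟩ := hiT.surj hy
        exact mor_map_normalizerIn hcT hQT hTN hcQ ht
      have hPne : Ph ≠ R₀ := by
        intro h
        have h1 : Nat.card Ph = Nat.card R₀ := by rw [← h]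
        have h2 := iso_card_eq hcQ
        have h3 := iso_card_eq hiT
        have h4 := card_lt_of_le_ne hQT hneT
        omega
      obtain ⟨g₀, hg₀, hg₀l, hg₀r⟩ := hiT.symm
      have hg₀P : Iso F Ph Q g₀ := iso_symm_sub hiT hcQ hQT hg₀ hg₀l
      have hφ : Mor F R₀ (fun x => c' (f (g₀ x))) :=
        hg₀.1.comp (hfT.comp hc' (fun x hx => mor_map_normalizerIn hfT hQT hTN hQQ' hx))
          (fun x hx => hg₀.map_mem hx)
      have hφP : Iso F Ph Ph (fun x => c' (f (g₀ x))) := (hg₀P.comp hQQ').comp hc'Q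
      obtain ⟨ab, hab, habx⟩ := stepB_key F hS hPh hbig hgoodN (Nat.card S) R₀ _ (by omega) hPR₀ hPne
        hR₀N hφ hφP
      refine ⟨ab, hab, fun y hy => ?_⟩
      rw [habx y hy]
      obtain ⟨x, hx, rfl⟩ := hcQ.surj hy
      show c' (f (g₀ (c x))) = c' (f (k (c x)))
      rw [hg₀l x (hQT hx), hkc x hx])
    (by
      intro Q Q' Q'' f g hcj hf hg hCf hCg Q₃ c c'' k h₃ hc hcQ hc'' hc''Q hk hkc
      have : Q'' = Q₃ := (hf.comp hg).eq_of_iso h₃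
      subst this
      have hcj' : F.IsConj Ph Q' := conj_trans F hcj (isConj_of_iso hf)
      obtain ⟨c', hc', hc'Q⟩ := hgoodN Q' hcj'
      obtain ⟨k', hk', hk'l, hk'r⟩ := hc'Q.symm
      have h1 := hCf Q' c c' k hf hc hcQ hc' hc'Q hk hkc
      have h2 := hCg Q'' c' c'' k' hg hc' hc'Q hc'' hc''Q hk' hk'l
      refine (h1.comp h2 (fun x hx => ?_)).congr (fun x hx => ?_)
      · exact hc'Q.map_mem (hf.map_mem (hk.map_mem hx))
      · show c'' (g (k' (c' (f (k x))))) = c'' (g (f (k x)))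
        rw [hk'l _ (hf.map_mem (hk.map_mem hx))])
    (by
      intro Q Q' f g hcj hf hg hgl hCf Q₂ c' c k' h₂ hc' hc'Q hc hcQ hk' hk'c
      have : Q = Q₂ := hg.eq_of_iso h₂
      subst this
      obtain ⟨k, hk, hkl, hkr⟩ := hcQ.symm
      have h1 := hCf Q' c c' k hf hc hcQ hc' hc'Q hk hkl
      have hα : Iso F Ph Ph (fun x => c' (f (k x))) := (hk.comp hf).comp hc'Q
      refine h1.inv hPhT hα (fun y hy => ?_)
      show c (g (k' (c' (f (k y))))) = y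
      rw [hk'c _ (hf.map_mem (hk.map_mem hy)), hgl _ (hk.map_mem hy), hkr y hy])
  intro α hα
  have hN : normalizerIn S Ph ≤ S := inf_le_left
  have h1 := key Ph α (Helper87.isConj_refl hPh) hα.1 Ph (fun x => x) (fun x => x) (fun x => x) hα
    (Mor.id hN) (Iso.refl hPh) (Mor.id hN) (Iso.refl hPh) (Iso.refl hPh) (fun x _ => rfl)
  exact h1

/-! ### `Ph ≠ T₀` -/

theorem T0_ne (F : FusionSystem S) [Finite S] {p : ℕ} [Fact p.Prime] {Ph : Subgroup Ω}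
    (hgoodN : ∀ Q, F.IsConj Ph Q → GoodN F Ph Q) {Q : Subgroup Ω} (hcj : F.IsConj Ph Q) {g : Ω}
    (hg : g ∈ normK S Q (pcoreN F p Q)) (hgQ : g ∉ Q) : Ph ≠ T0 F p Ph := by
  obtain ⟨χ, hχ, hχQ⟩ := hgoodN Q hcj
  have hQS : Q ≤ S := hχQ.le_left
  have hQN : Q ≤ normalizerIn S Q := Helper87.le_normalizerIn hQS
  have hgN : g ∈ normalizerIn S Q := normK_le S Q _ hg
  have h1 : χ g ∈ T0 F p Ph := normK_map_mem (equivariant_pcoreN F p) hχ hQN hχQ hgN hg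
  intro h
  rw [← h] at h1
  obtain ⟨q, hq, hqe⟩ := hχQ.surj h1
  have := hχ.inj (hQN hq) hgN hqe
  exact hgQ (this ▸ hq)

theorem exists_normK_not_mem (F : FusionSystem S) (p : ℕ) {Ph : Subgroup Ω} (hPh : Ph ≤ S)
    (hstar' : F.IsCentric Ph →
      ∃ Q, F.IsConj Ph Q ∧ ¬ (autInducedBy S Q ⊓ pcoreN F p Q ≤ Inn Q)) :
    ∃ Q, F.IsConj Ph Q ∧ ∃ g ∈ normK S Q (pcoreN F p Q), g ∉ Q := by
  by_cases hcen : F.IsCentric Ph
  · obtain ⟨Q, hcj, hn⟩ := hstar' hcen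
    refine ⟨Q, hcj, ?_⟩
    rw [SetLike.not_le_iff_exists] at hn
    obtain ⟨β, hβ, hβI⟩ := hn
    obtain ⟨g, hg, rfl⟩ := mem_autInducedBy_inf_iff.mp hβ
    refine ⟨g, hg, fun hgQ => hβI ⟨⟨g, hgQ⟩, ?_⟩⟩
    ext x
    simp [MulAut.conj_apply, normAut_apply]
  · unfold IsCentric at hcen
    push Not at hcen
    obtain ⟨Q, hcj, hn⟩ := hcen hPh
    rw [SetLike.not_le_iff_exists] at hn
    obtain ⟨c, hc, hcQ⟩ := hn
    exact ⟨Q, hcj, c, centralizerIn_le_normK S Q _ hc, hcQ⟩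

/-! ### `(T₀, Ph)` is a good pair -/

theorem stepB2 (F : FusionSystem S) [Finite S] {p : ℕ} [Fact p.Prime] (hS : IsPGroup p S)
    {Ph : Subgroup Ω} (hPh : Ph ≤ S)
    (hbig : ∀ U : Subgroup Ω, U ≤ S → Nat.card Ph < Nat.card U → LocSat F p U)
    (hfn : F.IsFullyNormalized Ph) (hne : Ph ≠ T0 F p Ph) :
    GoodP F p (fun Q => (⊤ : Subgroup (MulAut Q))) (T0 F p Ph) Ph := by
  have hPhT : Ph ≤ T0 F p Ph := le_T0 F p hS hPh
  have hT₀S : T0 F p Ph ≤ S := (T0_le F p Ph).trans inf_le_left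
  have hfinT : Finite (T0 F p Ph) := finite_of_le hT₀S
  have hloc : LocSat F p (T0 F p Ph) := hbig _ hT₀S (card_lt_of_le_ne hPhT hne)
  obtain ⟨Th, Qh, f, hfT, hfQ, hgood⟩ := exists_goodP F (equivariant_top F) hloc hPhT
  apply goodP_of_card_le F hS (equivariant_top F) hloc hgood hfT hfQ hPhT
  have h1 : nk (fun Q => (⊤ : Subgroup (MulAut Q))) S (T0 F p Ph) Ph = normalizerIn S Ph := by
    ext g
    rw [mem_nk_top]
    exact ⟨fun h => h.2, fun h => ⟨normalizerIn_le_normalizerIn_T0 F p hPh h, h⟩⟩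
  rw [h1]
  have hfinN : Finite (normalizerIn S Qh) := finite_of_le inf_le_left
  exact (Subgroup.card_le_of_le (nk_le_normalizerIn_right _ S Th Qh)).trans
    (hfn.2 Qh (isConj_of_iso hfQ))

/-! ### Receptivity -/

theorem stepB_rec (F : FusionSystem S) [Finite S] {p : ℕ} [Fact p.Prime] (hS : IsPGroup p S)
    {Ph : Subgroup Ω} (hPh : Ph ≤ S)
    (hgoodN : ∀ Q, F.IsConj Ph Q → GoodN F Ph Q)
    (hg : GoodP F p (fun Q => (⊤ : Subgroup (MulAut Q))) (T0 F p Ph) Ph)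
    (hext : ∀ α, Iso F Ph Ph α → ExtT F p Ph α) : F.IsReceptive Ph := by
  rw [Helper87.isReceptive_iff]
  refine ⟨hPh, fun Q f h => ?_⟩
  obtain ⟨c, hc, hcQ⟩ := hgoodN Q (conj_symm F (isConj_of_iso h))
  obtain ⟨k, hk, hkl, hkr⟩ := hcQ.symm
  have hα : Iso F Ph Ph (fun x => f (k x)) := hk.comp h
  obtain ⟨ab, hab, habx⟩ := hext _ hα
  obtain ⟨ψ, hψ, hψx⟩ := extend_aut_of_goodP F hS hg (normalizerIn_le_normalizerIn_T0 F p hPh)
    hα hab habx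
  have hQS : Q ≤ S := h.le_left
  have hQN : Q ≤ normalizerIn S Q := Helper87.le_normalizerIn hQS
  have hmap : ∀ n ∈ h.ext, c n ∈ hα.ext := by
    intro n hn
    have hnN : n ∈ normalizerIn S Q := h.ext_le_normalizerIn hn
    obtain ⟨hnS, hnQ, k₀, hk₀, hk₀x⟩ := hn
    have hcn : c n ∈ normalizerIn S Ph := Helper87.map_normalizerIn hc hcQ hnN
    refine ⟨hcn.1, hcn.2, k₀, hk₀, fun y hy => ?_⟩
    obtain ⟨x, hx, rfl⟩ := hcQ.surj hy
    show f (k (c n * c x * (c n)⁻¹)) = k₀ * f (k (c x)) * k₀⁻¹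
    have hx' : n * x * n⁻¹ ∈ Q := (Subgroup.mem_normalizer_iff.1 hnQ x).1 hx
    rw [← hc.map_conj hnN (hQN hx), hkl _ hx', hkl x hx]
    exact hk₀x x hx
  refine ⟨fun x => ψ (c x), ?_, fun x hx => ?_⟩
  · exact (hc.restrict h.ext_le_normalizerIn).comp hψ
      (fun n hn => (le_sup_left : hα.ext ≤ _) (hmap n hn))
  · show ψ (c x) = f x
    rw [hψx _ (hcQ.map_mem hx)]
    show f (k (c x)) = f x
    rw [hkl x hx]

/-! ### The criterion -/

theorem autInducedBy_self_le_inn : autInducedBy S S ≤ Inn S := by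
  unfold autInducedBy
  rw [Subgroup.closure_le]
  rintro α ⟨g, hg, hα⟩
  refine ⟨⟨g, hg⟩, ?_⟩
  ext x
  rw [hα x]
  simp [MulAut.conj_apply]

theorem locSat_step (F : FusionSystem S) [Finite S] (p : ℕ) [Fact p.Prime] (hS : IsPGroup p S)
    (ℋ : Set (Subgroup Ω)) (hℋconj : ∀ P ∈ ℋ, ∀ Q, F.IsConj P Q → Q ∈ ℋ)
    (hgen : ∀ E : FusionSystem S, (∀ P ∈ ℋ, F.Hom P ⊆ E.Hom P) → F ≤ E)
    (hstar : ∀ P : Subgroup Ω, F.IsCentric P → P ∉ ℋ →
      ∃ Q, F.IsConj P Q ∧ ¬ (autInducedBy S Q ⊓ pcoreN F p Q ≤ Inn Q))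
    {P : Subgroup Ω} (hPS : P ≤ S) (hPℋ : P ∉ ℋ)
    (hbig : ∀ U : Subgroup Ω, U ≤ S → Nat.card P < Nat.card U → LocSat F p U) :
    LocSat F p P := by
  have hSℋ : S ∈ ℋ := by
    by_contra hSn
    have hcen : F.IsCentric S := ⟨le_rfl, fun Q hQ => by
      rw [conj_top_eq F hQ]; exact inf_le_left⟩
    obtain ⟨Q, hQ, hn⟩ := hstar S hcen hSn
    have hQS := conj_top_eq F hQ
    rw [hQS] at hn
    exact hn (inf_le_left.trans autInducedBy_self_le_inn)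
  obtain ⟨Ph, hcj, hfn⟩ := Helper87.exists_fullyNormalized_conj F hPS
  have hPh : Ph ≤ S := hfn.1
  have hcard : Nat.card P = Nat.card Ph := by
    obtain ⟨f, hf⟩ := Helper87.isConj_iff.1 hcj
    exact iso_card_eq hf
  have hdisj : ∀ Q, F.IsConj Ph Q → Q ∉ ℋ := fun Q hQ hQℋ =>
    hPℋ (hℋconj Q hQℋ P (conj_symm F (conj_trans F hcj hQ)))
  have hS𝒫 : ¬ F.IsConj Ph S := fun h => hdisj S h hSℋ
  have hbig' : ∀ U : Subgroup Ω, U ≤ S → Nat.card Ph < Nat.card U → LocSat F p U :=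
    fun U hU h => hbig U hU (hcard ▸ h)
  have hgoodN := stepA F hS ℋ hgen hdisj hS𝒫 hbig' hfn
  have hPhℋ : Ph ∉ ℋ := hdisj Ph (Helper87.isConj_refl hPh)
  obtain ⟨Q, hQ, g, hg, hgQ⟩ := exists_normK_not_mem F p hPh (fun hcen => hstar Ph hcen hPhℋ)
  have hne := T0_ne F hgoodN hQ hg hgQ
  have hext := stepB1 F hS ℋ hgen hPh hdisj hS𝒫 hbig' hgoodN
  have hgood := stepB2 F hS hPh hbig' hfn hne
  have hFA := fullyAutomized_of_goodP F hgood (normalizerIn_le_normalizerIn_T0 F p hPh) hext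
  have hRec := stepB_rec F hS hPh hgoodN hgood hext
  exact ⟨Ph, hcj, hFA, hRec⟩

/-- **The saturation criterion** (Broto–Castellana–Grodal–Levi–Oliver; AKO Theorem I.3.10). -/
theorem saturated_of_criterion (F : FusionSystem S) [Finite S] (p : ℕ) [Fact p.Prime]
    (hS : IsPGroup p S) (ℋ : Set (Subgroup Ω))
    (hℋconj : ∀ P ∈ ℋ, ∀ Q, F.IsConj P Q → Q ∈ ℋ)
    (hsat : ∀ P ∈ ℋ, ∃ Q, F.IsConj P Q ∧ F.IsFullyAutomized p Q ∧ F.IsReceptive Q)
    (hgen : ∀ E : FusionSystem S, (∀ P ∈ ℋ, F.Hom P ⊆ E.Hom P) → F ≤ E)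
    (hstar : ∀ P : Subgroup Ω, F.IsCentric P → P ∉ ℋ →
      ∃ Q, F.IsConj P Q ∧ ¬ (autInducedBy S Q ⊓
        (Cfsg.pCore p (F.autGroup Q)).map (F.autGroup Q).subtype ≤ Inn Q)) :
    F.IsSaturated p := by
  have main : ∀ n : ℕ, ∀ P : Subgroup Ω, P ≤ S → Nat.card S ≤ Nat.card P + n → LocSat F p P := by
    intro n
    induction n using Nat.strong_induction_on with
    | _ n ih =>
    intro P hPS hn
    have hbig : ∀ U : Subgroup Ω, U ≤ S → Nat.card P < Nat.card U → LocSat F p U := by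
      intro U hUS hlt
      have := Subgroup.card_le_of_le hUS
      exact ih (n - 1) (by omega) U hUS (by omega)
    by_cases hPℋ : P ∈ ℋ
    · exact hsat P hPℋ
    · exact locSat_step F p hS ℋ hℋconj hgen hstar hPS hPℋ hbig
  intro P hP
  exact main (Nat.card S) P hP (by omega)

end Cfsg.Agent.Helper84
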