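import Mathlib
import Cfsg.Prelude.Def_FusionSystem
import Cfsg.Agent.Lib.Helper87.FusionAlperin
import Cfsg.Agent.Lib.Helper87.FusionFactor
import Cfsg.Agent.Lib.Helper87.FusionSaturated
import Cfsg.Agent.Lib.Helper47.PRes
import Cfsg.Agent.S5124

/-!
# The category `O^p_*(F)` generated by the `p'`-automorphisms of a fusion system
(Broto–Castellana–Grodal–Levi–Oliver, "Extensions of p-local finite groups", Section 3), at the
level of functions.
-/

set_option autoImplicit false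

namespace Cfsg.Agent.Helper84

open Cfsg Cfsg.FusionSystem
open Cfsg.Agent.Helper87 (Mor Iso extFun extAut)

variable {Ω : Type*} [Group Ω] {S : Subgroup Ω}

/-- the subgroup `s⁻¹ R s` -/
def conjSub (s : Ω) (R : Subgroup Ω) : Subgroup Ω := R.comap (MulAut.conj s).toMonoidHom

theorem mem_conjSub {s x : Ω} {R : Subgroup Ω} : x ∈ conjSub s R ↔ s * x * s⁻¹ ∈ R := by
  unfold conjSub
  rw [Subgroup.mem_comap]
  rfl

theorem conjSub_le {s : Ω} {R : Subgroup Ω} (hs : s ∈ S) (hR : R ≤ S) : conjSub s R ≤ S := by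
  intro x hx
  have h1 : s * x * s⁻¹ ∈ S := hR (mem_conjSub.mp hx)
  have h2 : x = s⁻¹ * (s * x * s⁻¹) * s := by group
  rw [h2]
  exact S.mul_mem (S.mul_mem (S.inv_mem hs) h1) hs

/-- a `p'`-automorphism of `R` in the system, as a function -/
def PGen (F : FusionSystem S) (p : ℕ) (R : Subgroup Ω) (f : Ω → Ω) : Prop :=
  Iso F R R f ∧ ∃ k : ℕ, k.Coprime p ∧ ∀ x ∈ R, f^[k] x = x

/-- the maps of `O^p_*(F)` -/
inductive OMor (F : FusionSystem S) (p : ℕ) : Subgroup Ω → (Ω → Ω) → Prop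
  | base {R : Subgroup Ω} {f : Ω → Ω} : PGen F p R f → OMor F p R f
  | restr {P Q : Subgroup Ω} {f : Ω → Ω} : OMor F p P f → Q ≤ P → OMor F p Q f
  | comp {P Q : Subgroup Ω} {f g : Ω → Ω} : OMor F p P f → OMor F p Q g → (∀ x ∈ P, f x ∈ Q) →
      OMor F p P (fun x => g (f x))
  | congr {P : Subgroup Ω} {f f' : Ω → Ω} : OMor F p P f → (∀ x ∈ P, f x = f' x) → OMor F p P f'

theorem iterate_mem {F : FusionSystem S} {R : Subgroup Ω} {f : Ω → Ω} (hf : Iso F R R f) (k : ℕ)
    {x : Ω} (hx : x ∈ R) : f^[k] x ∈ R := by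
  induction k generalizing x with
  | zero => exact hx
  | succ k ih =>
    rw [Function.iterate_succ_apply]
    exact ih (hf.map_mem hx)

theorem pgen_id (F : FusionSystem S) (p : ℕ) {R : Subgroup Ω} (hR : R ≤ S) :
    PGen F p R (fun x => x) :=
  ⟨Iso.refl hR, 1, Nat.coprime_one_left p, fun _ _ => rfl⟩

theorem OMor.mor {F : FusionSystem S} {p : ℕ} {P : Subgroup Ω} {f : Ω → Ω} (h : OMor F p P f) :
    Mor F P f := by
  induction h with
  | base h => exact h.1.1
  | restr _ hQP ih => exact ih.restrict hQP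
  | comp _ _ hfg ih1 ih2 => exact ih1.comp ih2 hfg
  | congr _ hff ih => exact ih.congr hff

theorem OMor.id (F : FusionSystem S) (p : ℕ) {R : Subgroup Ω} (hR : R ≤ S) :
    OMor F p R (fun x => x) := OMor.base (pgen_id F p hR)

theorem iso_iterate {F : FusionSystem S} {R : Subgroup Ω} {f : Ω → Ω} (hf : Iso F R R f) (k : ℕ) :
    Iso F R R (f^[k]) := by
  induction k with
  | zero => exact Iso.refl hf.le_left
  | succ k ih =>
    refine (hf.comp ih).congr (fun x _ => ?_)
    rw [Function.iterate_succ_apply]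

theorem OMor.iterate {F : FusionSystem S} {p : ℕ} {R : Subgroup Ω} {f : Ω → Ω}
    (h : OMor F p R f) (hf : Iso F R R f) (k : ℕ) : OMor F p R (f^[k]) := by
  induction k with
  | zero => exact OMor.id F p hf.le_left
  | succ k ih =>
    refine (OMor.comp h ih (fun x hx => hf.map_mem hx)).congr (fun x _ => ?_)
    rw [Function.iterate_succ_apply]

/-! ### Invariance under conjugation by `S` -/

theorem conj_cancel (s y : Ω) : s * (s⁻¹ * y * s) * s⁻¹ = y := by group

theorem pgen_conj [Finite S] {F : FusionSystem S} {p : ℕ} {R : Subgroup Ω} {f : Ω → Ω}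
    (h : PGen F p R f) {s : Ω} (hs : s ∈ S) :
    PGen F p (conjSub s R) (fun x => s⁻¹ * f (s * x * s⁻¹) * s) := by
  obtain ⟨hf, k, hk, hfk⟩ := h
  have hR : R ≤ S := hf.le_left
  have hR' : conjSub s R ≤ S := conjSub_le hs hR
  have m1 : Mor F (conjSub s R) (fun x => s * x * s⁻¹) := Mor.conj hR' hs
  have m3 : Mor F R (fun y => s⁻¹ * y * s⁻¹⁻¹) := Mor.conj hR (S.inv_mem hs)
  have m13 := (m1.comp hf.1 (fun x hx => mem_conjSub.mp hx)).comp m3
    (fun x hx => hf.map_mem (mem_conjSub.mp hx))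
  have hmor : Mor F (conjSub s R) (fun x => s⁻¹ * f (s * x * s⁻¹) * s) :=
    m13.congr (fun x _ => by simp only [inv_inv])
  have hmap : ∀ x ∈ conjSub s R, s⁻¹ * f (s * x * s⁻¹) * s ∈ conjSub s R := by
    intro x hx
    rw [mem_conjSub, conj_cancel]
    exact hf.map_mem (mem_conjSub.mp hx)
  refine ⟨Helper87.iso_of_card_le hmor hR' hmap le_rfl, k, hk, fun x hx => ?_⟩
  have key : ∀ j : ℕ, ∀ x : Ω, (fun x => s⁻¹ * f (s * x * s⁻¹) * s)^[j] x =
      s⁻¹ * f^[j] (s * x * s⁻¹) * s := by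
    intro j
    induction j with
    | zero => intro x; simp only [Function.iterate_zero, id_eq]; group
    | succ j ih =>
      intro x
      rw [Function.iterate_succ_apply, ih, conj_cancel, Function.iterate_succ_apply]
  rw [key, hfk _ (mem_conjSub.mp hx)]
  group

/-- pull-back of a map of `O^p_*(F)` along conjugation by an element of `S` -/
theorem OMor.conj [Finite S] {F : FusionSystem S} {p : ℕ} {Q : Subgroup Ω} {f : Ω → Ω}
    (h : OMor F p Q f) {s : Ω} (hs : s ∈ S) :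
    ∀ P₁ : Subgroup Ω, (∀ x ∈ P₁, s * x * s⁻¹ ∈ Q) →
      OMor F p P₁ (fun x => s⁻¹ * f (s * x * s⁻¹) * s) := by
  induction h with
  | base h =>
    intro P₁ hP₁
    exact OMor.restr (OMor.base (pgen_conj h hs)) (fun x hx => mem_conjSub.mpr (hP₁ x hx))
  | restr _ hQP ih =>
    intro P₁ hP₁
    exact ih P₁ (fun x hx => hQP (hP₁ x hx))
  | @comp P Q f g _ _ hfg ih1 ih2 =>
    intro P₁ hP₁
    have h1 := ih1 P₁ hP₁
    have h2 := ih2 (conjSub s Q) (fun x hx => mem_conjSub.mp hx)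
    refine (OMor.comp h1 h2 (fun x hx => ?_)).congr (fun x _ => ?_)
    · rw [mem_conjSub, conj_cancel]
      exact hfg _ (hP₁ x hx)
    · show s⁻¹ * g (s * (s⁻¹ * f (s * x * s⁻¹) * s) * s⁻¹) * s = _
      rw [conj_cancel]
  | congr _ hff ih =>
    intro P₁ hP₁
    exact (ih P₁ hP₁).congr (fun x hx => by
      show s⁻¹ * _ * s = s⁻¹ * _ * s
      rw [hff _ (hP₁ x hx)])

/-! ### The hyperfocal subgroup -/

theorem equiv_pow_apply {F : FusionSystem S} {R : Subgroup Ω} {f : Ω → Ω} (hf : Iso F R R f)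
    (k : ℕ) (x : R) : ((((hf.equiv : MulAut R) ^ k) x : R) : Ω) = f^[k] x := by
  induction k generalizing x with
  | zero => simp
  | succ k ih =>
    rw [pow_succ, MulAut.mul_apply, ih, Function.iterate_succ_apply]
    rfl

theorem pgen_coprime {F : FusionSystem S} {p : ℕ} {R : Subgroup Ω} {f : Ω → Ω}
    (h : PGen F p R f) : (orderOf (h.1.equiv : MulAut R)).Coprime p := by
  obtain ⟨hf, k, hk, hfk⟩ := h
  have h1 : (hf.equiv : MulAut R) ^ k = 1 := by
    ext x
    rw [equiv_pow_apply hf k x, hfk x x.2]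
    rfl
  exact Nat.Coprime.coprime_dvd_left (orderOf_dvd_of_pow_eq_one h1) hk

theorem OMor.hyp {F : FusionSystem S} {p : ℕ} {P : Subgroup Ω} {f : Ω → Ω} (h : OMor F p P f) :
    ∀ x ∈ P, x⁻¹ * f x ∈ F.hyperfocalSubgroup p := by
  induction h with
  | base h =>
    intro x hx
    exact Helper87.mem_hyperfocal h.1.le_left h.1.equiv_mem_autGroup (pgen_coprime h) ⟨x, hx⟩
  | restr _ hQP ih => exact fun x hx => ih x (hQP hx)
  | @comp P Q f g _ _ hfg ih1 ih2 =>
    intro x hx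
    have : x⁻¹ * g (f x) = (x⁻¹ * f x) * ((f x)⁻¹ * g (f x)) := by group
    rw [this]
    exact Subgroup.mul_mem _ (ih1 x hx) (ih2 _ (hfg x hx))
  | congr _ hff ih =>
    intro x hx
    rw [← hff x hx]
    exact ih x hx

/-! ### `p'`-elements and `O^p` of the automorphism groups -/

theorem extAut_iterate {R : Subgroup Ω} (α : MulAut R) (k : ℕ) {x : Ω} (hx : x ∈ R) :
    (extAut α)^[k] x = (((α ^ k) ⟨x, hx⟩ : R) : Ω) := by
  induction k generalizing x with
  | zero => simp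
  | succ k ih =>
    rw [Function.iterate_succ_apply, Helper87.extAut_mem α hx, ih (α ⟨x, hx⟩).2, pow_succ,
      MulAut.mul_apply]

theorem pgen_of_coprime {F : FusionSystem S} {p : ℕ} {R : Subgroup Ω} (hR : R ≤ S)
    {α : MulAut R} (hα : α ∈ F.autGroup R) (hc : (orderOf α).Coprime p) :
    PGen F p R (extAut α) := by
  refine ⟨Helper87.iso_of_mor_extAut ((Helper87.mem_autGroup_iff hR).mp hα), orderOf α, hc,
    fun x hx => ?_⟩
  rw [extAut_iterate α _ hx, pow_orderOf_eq_one]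
  rfl

theorem omor_of_mem_pResidual {F : FusionSystem S} {p : ℕ} {R : Subgroup Ω} (hR : R ≤ S)
    {b : F.autGroup R} (hb : b ∈ pResidual p (F.autGroup R)) :
    OMor F p R (extAut (b : MulAut R)) := by
  suffices h : OMor F p R (extAut (b : MulAut R)) ∧
      OMor F p R (extAut ((b⁻¹ : F.autGroup R) : MulAut R)) from h.1
  unfold pResidual at hb
  induction hb using Subgroup.closure_induction with
  | mem c hc =>
    have hc' : (orderOf (c : MulAut R)).Coprime p := by
      rw [Subgroup.orderOf_coe]; exact hc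
    refine ⟨OMor.base (pgen_of_coprime hR c.2 hc'), OMor.base (pgen_of_coprime hR (c⁻¹).2 ?_)⟩
    rw [Subgroup.orderOf_coe, orderOf_inv]
    exact hc
  | one =>
    have h1 : OMor F p R (extAut ((1 : F.autGroup R) : MulAut R)) :=
      (OMor.id F p hR).congr (fun x hx => (Helper87.extAut_one hx).symm)
    refine ⟨h1, ?_⟩
    rw [inv_one]
    exact h1
  | mul a c _ _ iha ihc =>
    have hmem : ∀ (γ : MulAut R), ∀ x ∈ R, extAut γ x ∈ R := fun γ x hx =>
      Helper87.extAut_mem_self γ hx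
    constructor
    · refine (OMor.comp ihc.1 iha.1 (hmem _)).congr (fun x hx => ?_)
      show extAut (a : MulAut R) (extAut (c : MulAut R) x) = extAut ((a * c : F.autGroup R) : MulAut R) x
      rw [Subgroup.coe_mul, Helper87.extAut_mul _ _ hx]
    · refine (OMor.comp iha.2 ihc.2 (hmem _)).congr (fun x hx => ?_)
      show extAut ((c⁻¹ : F.autGroup R) : MulAut R) (extAut ((a⁻¹ : F.autGroup R) : MulAut R) x) =
        extAut (((a * c)⁻¹ : F.autGroup R) : MulAut R) x
      rw [mul_inv_rev, Subgroup.coe_mul, Helper87.extAut_mul _ _ hx]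
  | inv a _ iha =>
    refine ⟨iha.2, ?_⟩
    rw [inv_inv]
    exact iha.1

/-! ### Inverses -/

theorem OMor.symm {F : FusionSystem S} {p : ℕ} [Fact p.Prime] {P : Subgroup Ω} {f : Ω → Ω}
    (h : OMor F p P f) :
    ∀ P' : Subgroup Ω, Iso F P P' f → ∃ g, OMor F p P' g ∧ ∀ x ∈ P, g (f x) = x := by
  induction h with
  | @base R f h =>
    intro P' hP'
    obtain ⟨hf, k, hk, hfk⟩ := h
    have hRP' : R = P' := hf.eq_of_iso hP'
    subst hRP'
    have hk0 : k ≠ 0 := by
      rintro rfl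
      rw [Nat.coprime_zero_left] at hk
      exact (Fact.out : p.Prime).one_lt.ne' hk
    refine ⟨f^[k - 1], (OMor.base ⟨hf, k, hk, hfk⟩).iterate hf _, fun x hx => ?_⟩
    rw [← Function.iterate_succ_apply, Nat.succ_eq_add_one, Nat.sub_add_cancel (Nat.pos_of_ne_zero hk0)]
    exact hfk x hx
  | @restr P Q f hPf hQP ih =>
    intro Q' hQ'
    obtain ⟨g, hg, hgf⟩ := ih _ (Iso.of_mor hPf.mor)
    refine ⟨g, OMor.restr hg ?_, fun x hx => hgf x (hQP hx)⟩
    intro y hy
    obtain ⟨x, hx, rfl⟩ := hQ'.surj hy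
    exact ⟨x, hQP hx, rfl⟩
  | @comp P Q f g hPf hQg hfg ih1 ih2 =>
    intro P' hP'
    obtain ⟨g₁, hg₁, hg₁f⟩ := ih1 _ (Iso.of_mor hPf.mor)
    obtain ⟨g₂, hg₂, hg₂g⟩ := ih2 _ (Iso.of_mor hQg.mor)
    have hP'Q : P' ≤ hQg.mor.image := by
      intro y hy
      obtain ⟨x, hx, rfl⟩ := hP'.surj hy
      exact ⟨f x, hfg x hx, rfl⟩
    refine ⟨fun y => g₁ (g₂ y), OMor.comp (OMor.restr hg₂ hP'Q) hg₁ ?_, fun x hx => ?_⟩
    · intro y hy
      obtain ⟨x, hx, rfl⟩ := hP'.surj hy
      show g₂ (g (f x)) ∈ _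
      rw [hg₂g _ (hfg x hx)]
      exact ⟨x, hx, rfl⟩
    · show g₁ (g₂ (g (f x))) = x
      rw [hg₂g _ (hfg x hx), hg₁f x hx]
  | @congr P f f' _ hff ih =>
    intro P' hP'
    obtain ⟨g, hg, hgf⟩ := ih P' (hP'.congr (fun x hx => (hff x hx).symm))
    exact ⟨g, hg, fun x hx => by rw [← hff x hx]; exact hgf x hx⟩

end Cfsg.Agent.Helper84
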