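import Mathlib
import Cfsg.Prelude.Def_FusionSystem
import Cfsg.Agent.Lib.Helper84.FusO

/-!
# `O^p_*(F)` for a saturated system: every map is an `S`-conjugation followed by a map of
`O^p_*(F)`; stability of subgroups containing the hyperfocal subgroup and `[S, S]`
-/

set_option autoImplicit false

namespace Cfsg.Agent.Helper84

open Cfsg Cfsg.FusionSystem
open Cfsg.Agent.Helper87 (Mor Iso extFun extAut)
open scoped Pointwise

variable {Ω : Type*} [Group Ω] {S : Subgroup Ω}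

/-- `Aut_F(P) = Aut_S(P) O^p(Aut_F(P))` for fully normalized `P` -/
theorem aut_decomp [Finite S] {F : FusionSystem S} {p : ℕ} [Fact p.Prime] (hS : IsPGroup p S)
    (hF : F.IsSaturated p) {P : Subgroup Ω} (hP : F.IsFullyNormalized P) {α : MulAut P}
    (hα : α ∈ F.autGroup P) :
    ∃ n ∈ normalizerIn S P, ∃ b : F.autGroup P, b ∈ pResidual p (F.autGroup P) ∧
      ∀ x : P, ((α x : P) : Ω) = n * (((b : MulAut P) x : P) : Ω) * n⁻¹ := by
  have hPS := hP.1
  have hfinP : Finite P := Helper87.finite_of_le hPS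
  obtain ⟨-, R, hR⟩ := Helper87.fullyAutomized_of_fullyNormalized hS hF hP
  have htop := Helper47.sylow_sup_pResidual_eq_top (p := p) R
  have hmem : (⟨α, hα⟩ : F.autGroup P) ∈
      (R : Subgroup (F.autGroup P)) ⊔ pResidual p (F.autGroup P) := by
    rw [htop]; exact Subgroup.mem_top _
  have hmem' : (⟨α, hα⟩ : F.autGroup P) ∈
      ((R : Subgroup (F.autGroup P)) : Set (F.autGroup P)) *
        (pResidual p (F.autGroup P) : Set (F.autGroup P)) := by
    rw [← Subgroup.mul_normal]; exact hmem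
  obtain ⟨a, ha, b, hb, hab⟩ := Set.mem_mul.mp hmem'
  rw [SetLike.mem_coe, hR, Subgroup.mem_subgroupOf] at ha
  obtain ⟨n, hn, hnN, hnx⟩ := Helper87.mem_autInducedBy_iff'.mp ha
  refine ⟨n, ⟨hn, hnN⟩, b, hb, fun x => ?_⟩
  have h1 : α = (a : MulAut P) * (b : MulAut P) := by
    have := congrArg Subtype.val hab
    simpa using this.symm
  rw [h1, MulAut.mul_apply, hnx]

/-- **Claim A**: every map of a saturated system is a map of `O^p_*(F)` followed by conjugation by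
an element of `S` -/
theorem exists_conj_omor [Finite S] {F : FusionSystem S} {p : ℕ} [Fact p.Prime]
    (hS : IsPGroup p S) (hF : F.IsSaturated p) :
    ∀ (P : Subgroup Ω) (f : Ω → Ω), Mor F P f →
      ∃ s ∈ S, OMor F p P (fun x => s⁻¹ * f x * s) := by
  apply Helper87.alperin hS hF (fun P f => ∃ s ∈ S, OMor F p P (fun x => s⁻¹ * f x * s))
  · constructor
    · rintro P f f' ⟨s, hs, h⟩ hff
      refine ⟨s, hs, h.congr (fun x hx => ?_)⟩
      show s⁻¹ * f x * s = s⁻¹ * f' x * s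
      rw [hff x hx]
    · rintro P Q f _ ⟨s, hs, h⟩ hQP
      exact ⟨s, hs, h.restr hQP⟩
    · rintro P Q f g hf hg hfg ⟨s, hs, h1⟩ ⟨r, hr, h2⟩
      have h2' := h2.conj hs (conjSub s Q) (fun x hx => mem_conjSub.mp hx)
      refine ⟨r * s, S.mul_mem hr hs, (OMor.comp h1 h2' ?_).congr ?_⟩
      · intro x hx
        rw [mem_conjSub, conj_cancel]
        exact hfg x hx
      · intro x hx
        show s⁻¹ * (r⁻¹ * g (s * (s⁻¹ * f x * s) * s⁻¹) * r) * s = (r * s)⁻¹ * g (f x) * (r * s)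
        rw [conj_cancel]; group
  · intro R hfn _ _ α hα
    obtain ⟨n, hn, b, hb, hx⟩ := aut_decomp hS hF hfn hα
    refine ⟨n, hn.1, (omor_of_mem_pResidual hfn.1 hb).congr (fun x hx' => ?_)⟩
    rw [Helper87.extAut_mem α hx', hx ⟨x, hx'⟩, Helper87.extAut_mem _ hx']
    group

/-- the standing hypotheses: a saturated system and a subgroup `T` containing the hyperfocal
subgroup and the commutator subgroup of `S` -/
structure StepHyp (F : FusionSystem S) (p : ℕ) (T : Subgroup Ω) : Prop where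
  pgrp : IsPGroup p S
  sat : F.IsSaturated p
  le : T ≤ S
  comm : ∀ a ∈ S, ∀ b ∈ S, a * b * a⁻¹ * b⁻¹ ∈ T
  hyp : F.hyperfocalSubgroup p ≤ T

theorem StepHyp.conj_mem {F : FusionSystem S} {p : ℕ} {T : Subgroup Ω} (H : StepHyp F p T)
    {s t : Ω} (hs : s ∈ S) (ht : t ∈ T) : s * t * s⁻¹ ∈ T := by
  have h1 := H.comm s hs t (H.le ht)
  have h2 : s * t * s⁻¹ = (s * t * s⁻¹ * t⁻¹) * t := by group
  rw [h2]
  exact T.mul_mem h1 ht

theorem StepHyp.conj_mem' {F : FusionSystem S} {p : ℕ} {T : Subgroup Ω} (H : StepHyp F p T)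
    {s t : Ω} (hs : s ∈ S) (ht : t ∈ T) : s⁻¹ * t * s ∈ T := by
  have := H.conj_mem (S.inv_mem hs) ht
  simpa using this

theorem StepHyp.omor_stable [Finite S] {F : FusionSystem S} {p : ℕ} {T : Subgroup Ω}
    (H : StepHyp F p T) {P : Subgroup Ω} {f : Ω → Ω} (hf : OMor F p P f) {x : Ω} (hx : x ∈ P) :
    x⁻¹ * f x ∈ T := H.hyp (hf.hyp x hx)

/-- every map of the system moves elements only inside their coset of `T` -/
theorem StepHyp.mor_stable [Finite S] {F : FusionSystem S} {p : ℕ} [Fact p.Prime]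
    {T : Subgroup Ω} (H : StepHyp F p T) {P : Subgroup Ω} {f : Ω → Ω} (hf : Mor F P f) {x : Ω}
    (hx : x ∈ P) : x⁻¹ * f x ∈ T := by
  obtain ⟨s, hs, hψ⟩ := exists_conj_omor H.pgrp H.sat P f hf
  have h1 : x⁻¹ * (s⁻¹ * f x * s) ∈ T := H.omor_stable hψ hx
  have hxS : x ∈ S := hf.le hx
  have h2 := H.comm x⁻¹ (S.inv_mem hxS) s hs
  have h3 := H.conj_mem hs h1
  have h4 : x⁻¹ * f x = (x⁻¹ * s * x⁻¹⁻¹ * s⁻¹) * (s * (x⁻¹ * (s⁻¹ * f x * s)) * s⁻¹) := by group
  rw [h4]
  exact T.mul_mem h2 h3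

theorem StepHyp.mor_mem_iff [Finite S] {F : FusionSystem S} {p : ℕ} [Fact p.Prime]
    {T : Subgroup Ω} (H : StepHyp F p T) {P : Subgroup Ω} {f : Ω → Ω} (hf : Mor F P f) {x : Ω}
    (hx : x ∈ P) : f x ∈ T ↔ x ∈ T := by
  have h1 := H.mor_stable hf hx
  constructor
  · intro h
    have h2 : x = f x * (x⁻¹ * f x)⁻¹ := by group
    rw [h2]
    exact T.mul_mem h (T.inv_mem h1)
  · intro h
    have h2 : f x = x * (x⁻¹ * f x) := by group
    rw [h2]
    exact T.mul_mem h h1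

/-! ### Conjugation by elements of `S` -/

theorem iso_conjSub {F : FusionSystem S} {Q : Subgroup Ω} (hQ : Q ≤ S) {v : Ω} (hv : v ∈ S) :
    Iso F Q (conjSub v Q) (fun y => v⁻¹ * y * v) := by
  have m : Mor F Q (fun y => v⁻¹ * y * v) :=
    (Mor.conj (F := F) hQ (S.inv_mem hv)).congr (fun x _ => by simp only [inv_inv])
  refine ⟨m, fun y => ⟨fun hy => ⟨v * y * v⁻¹, mem_conjSub.mp hy, by group⟩, ?_⟩⟩
  rintro ⟨x, hx, rfl⟩
  rw [mem_conjSub, conj_cancel]
  exact hx

theorem fullyNormalized_conjSub [Finite S] {F : FusionSystem S} {Q : Subgroup Ω}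
    (hQ : F.IsFullyNormalized Q) {v : Ω} (hv : v ∈ S) : F.IsFullyNormalized (conjSub v Q) := by
  have hiso := iso_conjSub (F := F) hQ.1 hv
  apply Helper87.IsFullyNormalized.of_conj hQ (Helper87.isConj_iff.2 ⟨_, hiso⟩)
  have m : Mor F (normalizerIn S Q) (fun y => v⁻¹ * y * v) :=
    (Mor.conj (F := F) (inf_le_left : normalizerIn S Q ≤ S) (S.inv_mem hv)).congr
      (fun x _ => by simp only [inv_inv])
  exact Helper87.card_le_of_mor m inf_le_left (fun n hn => Helper87.map_normalizerIn m hiso hn)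

/-- a map of `O^p_*(F)` on `N_S(P)` carrying `P` onto a fully normalized subgroup -/
theorem exists_omor_fn [Finite S] {F : FusionSystem S} {p : ℕ} [Fact p.Prime]
    (hS : IsPGroup p S) (hF : F.IsSaturated p) {P : Subgroup Ω} (hP : P ≤ S) :
    ∃ (Q : Subgroup Ω) (ψ : Ω → Ω), OMor F p (normalizerIn S P) ψ ∧ Iso F P Q ψ ∧
      F.IsFullyNormalized Q := by
  obtain ⟨Q₀, hPQ₀, hQ₀⟩ := Helper87.exists_fullyNormalized_conj F hP
  obtain ⟨χ, hχ, hχP⟩ := Helper87.exists_map_normalizer_to_fullyNormalized hS hF hQ₀ hPQ₀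
  obtain ⟨v, hv, hψ⟩ := exists_conj_omor hS hF _ _ hχ
  exact ⟨conjSub v Q₀, _, hψ, hχP.comp (iso_conjSub hQ₀.1 hv), fullyNormalized_conjSub hQ₀ hv⟩

/-! ### Powers of automorphisms -/

omit [Group Ω] in
theorem iterate_mod {f : Ω → Ω} {k : ℕ} {x : Ω} (h : f^[k] x = x) (n : ℕ) :
    f^[n] x = f^[n % k] x := by
  conv_lhs => rw [← Nat.mod_add_div n k]
  rw [Function.iterate_add_apply, Function.iterate_mul, Function.iterate_fixed h]

/-- an automorphism of `R` in the system which has `p'`-order on a subgroup `Q` has a power which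
is a `p'`-automorphism of `R` and agrees with it on `Q` -/
theorem exists_pgen_pow [Finite S] {F : FusionSystem S} {p : ℕ} [hp : Fact p.Prime]
    {R Q : Subgroup Ω} {f : Ω → Ω} (hf : Iso F R R f) {k : ℕ} (hk : k.Coprime p)
    (hfk : ∀ x ∈ Q, f^[k] x = x) :
    ∃ j : ℕ, PGen F p R (f^[j]) ∧ ∀ x ∈ Q, f^[j] x = f x := by
  have hfinR : Finite R := Helper87.finite_of_le hf.le_left
  set m := orderOf (hf.equiv : MulAut R) with hm
  have hm0 : m ≠ 0 := (orderOf_pos _).ne'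
  obtain ⟨a, b, hb, hab⟩ := Nat.exists_eq_pow_mul_and_not_dvd hm0 p hp.out.ne_one
  have hcop : (p ^ a).Coprime k := (Nat.Coprime.pow_left a hk.symm)
  obtain ⟨j, hj0, hj1⟩ := Nat.chineseRemainder hcop 0 1
  refine ⟨j, ⟨iso_iterate hf j, b, ?_, fun x hx => ?_⟩, fun x hx => ?_⟩
  · exact ((Nat.Prime.coprime_iff_not_dvd hp.out).mpr hb).symm
  · rw [← Function.iterate_mul]
    have hdvd : m ∣ j * b := by
      rw [hab]
      exact Nat.mul_dvd_mul ((Nat.modEq_zero_iff_dvd).mp hj0) dvd_rfl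
    have h1 : (hf.equiv : MulAut R) ^ (j * b) = 1 := orderOf_dvd_iff_pow_eq_one.mp hdvd
    have h2 := equiv_pow_apply hf (j * b) ⟨x, hx⟩
    rw [h1] at h2
    exact h2.symm
  · rw [iterate_mod (hfk x hx) j, hj1]
    have := iterate_mod (hfk x hx) 1
    rw [Function.iterate_one] at this
    exact this.symm

/-! ### Maps of `O^p_*(F)` with source `S` -/

theorem pgen_mem_pResidual {F : FusionSystem S} {p : ℕ} {R : Subgroup Ω} {f : Ω → Ω}
    (h : PGen F p R f) :
    (⟨h.1.equiv, h.1.equiv_mem_autGroup⟩ : F.autGroup R) ∈ pResidual p (F.autGroup R) := by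
  apply Helper47.mem_pResidual_of_coprime
  have := pgen_coprime h
  have h2 : orderOf (⟨h.1.equiv, h.1.equiv_mem_autGroup⟩ : F.autGroup R) =
      orderOf (h.1.equiv : MulAut R) := (Subgroup.orderOf_coe _).symm
  rw [h2]
  exact this

theorem omor_top {F : FusionSystem S} {p : ℕ} {P : Subgroup Ω} {f : Ω → Ω} (h : OMor F p P f) :
    P = S → ∃ b : F.autGroup S, b ∈ pResidual p (F.autGroup S) ∧
      ∀ x ∈ S, f x = extAut (b : MulAut S) x := by
  induction h with
  | @base R f h =>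
    intro hRS
    subst hRS
    refine ⟨_, pgen_mem_pResidual h, fun x hx => ?_⟩
    rw [Helper87.extAut_mem _ hx]
    exact (h.1.equiv_apply ⟨x, hx⟩).symm
  | @restr P Q f hPf hQP ih =>
    intro hQS
    exact ih (le_antisymm hPf.mor.le (hQS ▸ hQP))
  | @comp P Q f g hPf hQg hfg ih1 ih2 =>
    intro hPS
    obtain ⟨b, hb, hbx⟩ := ih1 hPS
    have hQS : Q = S := by
      apply le_antisymm hQg.mor.le
      intro y hy
      have h1 := hbx ((b : MulAut S)⁻¹ ⟨y, hy⟩) ((b : MulAut S)⁻¹ ⟨y, hy⟩).2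
      rw [Helper87.extAut_mem _ ((b : MulAut S)⁻¹ ⟨y, hy⟩).2] at h1
      simp only [Subtype.coe_eta, MulAut.apply_inv_self] at h1
      rw [← h1]
      exact hfg _ (hPS ▸ ((b : MulAut S)⁻¹ ⟨y, hy⟩).2)
    obtain ⟨c, hc, hcx⟩ := ih2 hQS
    refine ⟨c * b, Subgroup.mul_mem _ hc hb, fun x hx => ?_⟩
    show g (f x) = _
    rw [hbx x hx, hcx _ (Helper87.extAut_mem_self _ hx), Subgroup.coe_mul,
      Helper87.extAut_mul _ _ hx]
  | @congr P f f' _ hff ih =>
    intro hPS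
    obtain ⟨b, hb, hbx⟩ := ih hPS
    exact ⟨b, hb, fun x hx => by rw [← hff x (hPS ▸ hx)]; exact hbx x hx⟩

end Cfsg.Agent.Helper84
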