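import Mathlib
import Cfsg.Prelude.Def_FusionSystem
import Cfsg.Agent.Lib.Helper84.FusO2
import Cfsg.Agent.Lib.Helper84.FusNorm
import Cfsg.Agent.Lib.Helper87.FusionNormalizerSys
import Cfsg.Agent.S5096

/-!
# Compatibility: maps of the normalizer system of a fully normalized subgroup `P`, decomposed inside
the (saturated) normalizer system, restrict on `P` to elements of `Aut_S(P) O^p(Aut_F(P))` with the
same conjugating element
-/

set_option autoImplicit false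

namespace Cfsg.Agent.Helper84

open Cfsg Cfsg.FusionSystem
open Cfsg.Agent.Helper87 (Mor Iso extFun extAut)

variable {Ω : Type*} [Group Ω] {S : Subgroup Ω}

theorem mor_map_sup {F : FusionSystem S} {A R P : Subgroup Ω} {f : Ω → Ω}
    (hf : Mor F (R ⊔ P) f) (hR : ∀ x ∈ R, f x ∈ A) (hP : ∀ x ∈ P, f x ∈ A) :
    ∀ x ∈ R ⊔ P, f x ∈ A := by
  have key : ∀ y ∈ Subgroup.closure ((R : Set Ω) ∪ (P : Set Ω)), y ∈ R ⊔ P ∧ f y ∈ A := by
    intro y hy
    induction hy using Subgroup.closure_induction with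
    | mem y hy =>
      rcases hy with hy | hy
      · exact ⟨(le_sup_left : R ≤ R ⊔ P) hy, hR y hy⟩
      · exact ⟨(le_sup_right : P ≤ R ⊔ P) hy, hP y hy⟩
    | one => exact ⟨Subgroup.one_mem _, by rw [hf.map_one]; exact A.one_mem⟩
    | mul a b _ _ iha ihb =>
      exact ⟨Subgroup.mul_mem _ iha.1 ihb.1, by
        rw [hf.map_mul iha.1 ihb.1]; exact A.mul_mem iha.2 ihb.2⟩
    | inv a _ iha =>
      exact ⟨Subgroup.inv_mem _ iha.1, by rw [hf.map_inv iha.1]; exact A.inv_mem iha.2⟩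
  intro x hx
  rw [Subgroup.sup_eq_closure] at hx
  exact (key x hx).2

theorem iterate_congr_on {R : Subgroup Ω} {g β : Ω → Ω} (h : ∀ x ∈ R, g x = β x)
    (hβ : ∀ x ∈ R, β x ∈ R) : ∀ (k : ℕ), ∀ x ∈ R, g^[k] x = β^[k] x := by
  intro k
  induction k with
  | zero => intro x _; rfl
  | succ k ih =>
    intro x hx
    rw [Function.iterate_succ_apply, Function.iterate_succ_apply, h x hx, ih _ (hβ x hx)]

/-- transfer of a map of `O^p_*(N_F(P))` to a map of `O^p_*(F)` defined on the join with `P`,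
restricting on `P` to an element of `O^p(Aut_F(P))` -/
theorem omor_normalizer_transfer [Finite S] {F : FusionSystem S} {p : ℕ} [Fact p.Prime]
    {P : Subgroup Ω} (hPS : P ≤ S) {𝒩 : FusionSystem (normalizerIn S P)}
    (h𝒩 : F.IsNormalizerSystem P 𝒩) {R : Subgroup Ω} {f : Ω → Ω} (h : OMor 𝒩 p R f) :
    ∃ fh, OMor F p (R ⊔ P) fh ∧ (∀ x ∈ R, fh x = f x) ∧ Iso F P P fh ∧
      ∃ b : F.autGroup P, b ∈ pResidual p (F.autGroup P) ∧
        ∀ x ∈ P, fh x = extAut (b : MulAut P) x := by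
  induction h with
  | @base R β h =>
    obtain ⟨hβ, k, hk, hβk⟩ := h
    obtain ⟨hβF, hRN, -, g, hg, hgβ, hgP⟩ := (Helper87.mor_normalizerSystem_iff h𝒩).mp hβ.1
    have hRS : R ≤ S := hRN.trans inf_le_left
    have hRPS : R ⊔ P ≤ S := sup_le hRS hPS
    have hgPiso : Iso F P P g := ⟨hg.restrict le_sup_right, hgP⟩
    have hgmaps : ∀ x ∈ R ⊔ P, g x ∈ R ⊔ P := by
      apply mor_map_sup hg
      · intro x hx
        rw [hgβ x hx]
        exact (le_sup_left : R ≤ R ⊔ P) (hβ.map_mem hx)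
      · intro x hx
        exact (le_sup_right : P ≤ R ⊔ P) (hgPiso.map_mem hx)
    have hgiso : Iso F (R ⊔ P) (R ⊔ P) g := Helper87.iso_of_card_le hg hRPS hgmaps le_rfl
    have hgk : ∀ x ∈ R, g^[k] x = x := by
      intro x hx
      rw [iterate_congr_on hgβ (fun x hx => hβ.map_mem hx) k x hx]
      exact hβk x hx
    obtain ⟨j, hj, hjx⟩ := exists_pgen_pow hgiso hk hgk
    have hjP : Iso F P P (g^[j]) := iso_iterate hgPiso j
    obtain ⟨-, k', hk', hjk'⟩ := hj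
    have hpg : PGen F p P (g^[j]) :=
      ⟨hjP, k', hk', fun x hx => hjk' x ((le_sup_right : P ≤ R ⊔ P) hx)⟩
    refine ⟨g^[j], OMor.base ⟨iso_iterate hgiso j, k', hk', hjk'⟩,
      fun x hx => (hjx x hx).trans (hgβ x hx), hjP, _, pgen_mem_pResidual hpg, fun x hx => ?_⟩
    rw [Helper87.extAut_mem _ hx]
    exact (hjP.equiv_apply ⟨x, hx⟩).symm
  | @restr R Q f _ hQR ih =>
    obtain ⟨fh, h1, h2, h3, h4⟩ := ih
    exact ⟨fh, h1.restr (sup_le_sup_right hQR P), fun x hx => h2 x (hQR hx), h3, h4⟩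
  | @comp R Q f g _ _ hfg ih1 ih2 =>
    obtain ⟨fh, hf1, hf2, hf3, b, hb, hbx⟩ := ih1
    obtain ⟨gh, hg1, hg2, hg3, c, hc, hcx⟩ := ih2
    have hmaps : ∀ x ∈ R ⊔ P, fh x ∈ Q ⊔ P := by
      apply mor_map_sup hf1.mor
      · intro x hx
        rw [hf2 x hx]
        exact (le_sup_left : Q ≤ Q ⊔ P) (hfg x hx)
      · intro x hx
        exact (le_sup_right : P ≤ Q ⊔ P) (hf3.map_mem hx)
    refine ⟨fun x => gh (fh x), OMor.comp hf1 hg1 hmaps, fun x hx => ?_, hf3.comp hg3,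
      c * b, Subgroup.mul_mem _ hc hb, fun x hx => ?_⟩
    · show gh (fh x) = g (f x)
      rw [hf2 x hx, hg2 _ (hfg x hx)]
    · show gh (fh x) = _
      rw [hbx x hx, hcx _ (Helper87.extAut_mem_self _ hx), Subgroup.coe_mul,
        Helper87.extAut_mul _ _ hx]
  | @congr R f f' _ hff ih =>
    obtain ⟨fh, h1, h2, h3, h4⟩ := ih
    exact ⟨fh, h1, fun x hx => (h2 x hx).trans (hff x hx), h3, h4⟩

/-- **Compatibility**: a map of the system defined on `R₁` with `P ≤ R₁ ≤ N_S(P)` (`P` fully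
normalized) which carries `P` onto `P` is conjugation by some `u ∈ N_S(P)` after a map of
`O^p_*(F)`, whose restriction to `P` lies in `O^p(Aut_F(P))` -/
theorem compat [Finite S] {F : FusionSystem S} {p : ℕ} [Fact p.Prime] (hS : IsPGroup p S)
    (hF : F.IsSaturated p) {P : Subgroup Ω} (hP : F.IsFullyNormalized P) {R₁ : Subgroup Ω}
    (hPR : P ≤ R₁) (hRN : R₁ ≤ normalizerIn S P) {ω : Ω → Ω} (hω : Mor F R₁ ω)
    (hωP : Iso F P P ω) :
    ∃ u ∈ normalizerIn S P, OMor F p R₁ (fun x => u⁻¹ * ω x * u) ∧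
      ∃ b : F.autGroup P, b ∈ pResidual p (F.autGroup P) ∧
        ∀ x ∈ P, ω x = u * extAut (b : MulAut P) x * u⁻¹ := by
  obtain ⟨𝒩, h𝒩⟩ := Cfsg.Agent.S5096.result F P hP.1
  have hfinN : Finite (normalizerIn S P) := Helper87.finite_of_le inf_le_left
  have hNp : IsPGroup p (normalizerIn S P) := hS.to_le inf_le_left
  have hsat : 𝒩.IsSaturated p := normalizerSystem_saturated F hS hF hP 𝒩 h𝒩
  have hsup : R₁ ⊔ P = R₁ := sup_eq_left.mpr hPR
  have hmor : Mor 𝒩 R₁ ω := by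
    rw [Helper87.mor_normalizerSystem_iff h𝒩]
    refine ⟨hω, hRN, fun x hx => Subgroup.mem_inf.mpr ⟨hω.mem hx, hω.map_normalizer hPR hωP hx (hRN hx).2⟩, ω, ?_,
      fun x _ => rfl, hωP.2⟩
    rw [hsup]
    exact hω
  obtain ⟨u, hu, hψ⟩ := exists_conj_omor hNp hsat R₁ ω hmor
  obtain ⟨fh, h1, h2, -, b, hb, hbx⟩ := omor_normalizer_transfer hP.1 h𝒩 hψ
  refine ⟨u, hu, (h1.restr le_sup_left).congr h2, b, hb, fun x hx => ?_⟩
  have h3 := h2 x (hPR hx)
  rw [hbx x hx] at h3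
  rw [h3]
  group

end Cfsg.Agent.Helper84
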