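import Cfsg.Agent.Lib.Helper84.GrpFus
import Cfsg.Agent.Lib.Helper84.FusNormal
import Cfsg.Agent.S5092
import Cfsg.Agent.S5124

/-!
# Hyperfocal subgroup theorem for finite groups (Puig)
-/

set_option autoImplicit false

namespace Cfsg.Agent.Helper84

open Cfsg Cfsg.FusionSystem
open scoped commutatorElement

theorem pResidual_map_le' {A B : Type*} [Group A] [Group B] (p : ℕ) (f : A →* B) :
    (pResidual p A).map f ≤ pResidual p B := by
  unfold pResidual
  rw [MonoidHom.map_closure, Subgroup.closure_le]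
  rintro _ ⟨a, ha, rfl⟩
  apply Subgroup.subset_closure
  exact Nat.Coprime.coprime_dvd_left (orderOf_map_dvd f a) ha

theorem conj_pow_of_conj {G : Type*} [Group G] {P : Subgroup G} (β : MulAut P) (g : G)
    (hg : ∀ x : P, ((β x : P) : G) = g * x * g⁻¹) (N : ℕ) :
    ∀ x : P, (((β ^ N) x : P) : G) = g ^ N * x * (g ^ N)⁻¹ := by
  induction N with
  | zero => intro x; simp
  | succ n ih =>
    intro x
    rw [pow_succ, MulAut.mul_apply, ih, hg, pow_succ]
    group

theorem exists_coprime_conj {G : Type*} [Group G] [Finite G] (p : ℕ) [hp : Fact p.Prime]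
    {P : Subgroup G} (β : MulAut P)
    (hβ : (orderOf β).Coprime p) (g : G) (hg : ∀ x : P, ((β x : P) : G) = g * x * g⁻¹) :
    ∃ g' : G, (orderOf g').Coprime p ∧ ∀ x : P, ((β x : P) : G) = g' * x * g'⁻¹ := by
  obtain ⟨e, m, hm, hem⟩ :=
    Nat.exists_eq_pow_mul_and_not_dvd (orderOf_pos g).ne' p hp.out.ne_one
  have hcop : Nat.Coprime (p ^ e) (orderOf β) := Nat.Coprime.pow_left e hβ.symm
  by_cases h1 : orderOf β = 1
  · refine ⟨1, by simp, fun x => ?_⟩
    rw [orderOf_eq_one_iff] at h1
    simp [h1]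
  · have h0 : orderOf β ≠ 0 := by
      intro h0
      rw [h0, Nat.coprime_zero_left] at hβ
      exact hp.out.ne_one hβ
    have hk : 1 < orderOf β := by omega
    obtain ⟨t, -, ht⟩ := Nat.exists_mul_mod_eq_one_of_coprime hcop hk
    refine ⟨g ^ (p ^ e * t), ?_, ?_⟩
    · have h2 : (g ^ (p ^ e * t)) ^ m = 1 := by
        rw [← pow_mul, mul_right_comm, ← hem, pow_mul, pow_orderOf_eq_one, one_pow]
      exact Nat.Coprime.coprime_dvd_left (orderOf_dvd_of_pow_eq_one h2)
        ((hp.out.coprime_iff_not_dvd.mpr hm).symm)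
    · intro x
      rw [← conj_pow_of_conj β g hg (p ^ e * t) x]
      have h3 : β ^ (p ^ e * t) = β := by
        rw [← pow_mod_orderOf, ht, pow_one]
      rw [h3]

theorem hyperfocal_le_pResidual {G : Type*} [Group G] [Finite G] (p : ℕ) [Fact p.Prime]
    (S : Subgroup G) :
    (groupFusionSystem S).hyperfocalSubgroup p ≤ S ⊓ pResidual p G := by
  have hN : (pResidual p G).Normal := Helper86.pResidual_normal p G
  unfold hyperfocalSubgroup
  rw [Subgroup.closure_le]
  rintro _ ⟨P, α, x, hPS, hα, rfl⟩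
  refine Subgroup.mem_inf.mpr ⟨?_, ?_⟩
  · exact S.mul_mem (S.inv_mem (hPS x.2)) (hPS ((α : MulAut P) x).2)
  · revert x
    unfold pResidual at hα
    induction hα using Subgroup.closure_induction with
    | mem β hβ =>
      intro x
      have hβ' : (orderOf (β : MulAut P)).Coprime p := by
        rw [Subgroup.orderOf_coe]; exact hβ
      have hmem : (β : MulAut P) ∈ autInducedBy ⊤ P := by
        rw [← gfs_autGroup_eq S P hPS]; exact β.2
      rw [mem_autInducedBy_iff] at hmem
      obtain ⟨g, -, hg⟩ := hmem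
      obtain ⟨g', hg'c, hg'⟩ := exists_coprime_conj p (β : MulAut P) hβ' g hg
      rw [hg' x]
      have hg'K : g' ∈ pResidual p G := Subgroup.subset_closure hg'c
      have h1 : (x : G)⁻¹ * (g' * x * g'⁻¹) = ((x : G)⁻¹ * g' * ((x : G)⁻¹)⁻¹) * g'⁻¹ := by group
      rw [h1]
      exact (pResidual p G).mul_mem (hN.conj_mem g' hg'K _) ((pResidual p G).inv_mem hg'K)
    | one => intro x; simp
    | mul a b _ _ ha hb =>
      intro x
      have h1 : (x : G)⁻¹ * ((((a * b : (groupFusionSystem S).autGroup P) : MulAut P) x : P) : G) =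
          ((x : G)⁻¹ * (((b : MulAut P) x : P) : G)) *
            ((((b : MulAut P) x : P) : G)⁻¹ * (((a : MulAut P) ((b : MulAut P) x) : P) : G)) := by
        rw [Subgroup.coe_mul, MulAut.mul_apply]; group
      rw [h1]
      exact (pResidual p G).mul_mem (hb x) (ha _)
    | inv a _ ha =>
      intro x
      have h2 := ha ((a : MulAut P)⁻¹ x)
      rw [MulAut.apply_inv_self] at h2
      have h1 : (x : G)⁻¹ * ((((a⁻¹ : (groupFusionSystem S).autGroup P) : MulAut P) x : P) : G) =
          (((((a : MulAut P)⁻¹ x : P) : G))⁻¹ * (x : G))⁻¹ := by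
        rw [Subgroup.coe_inv]; group
      rw [h1]
      exact (pResidual p G).inv_mem h2

theorem pResidual_pResidual (p : ℕ) (G : Type*) [Group G] :
    pResidual p (pResidual p G) = ⊤ := by
  have h : {g : ↥(pResidual p G) | Nat.Coprime (orderOf g) p} =
      ((↑) : pResidual p G → G) ⁻¹' {g : G | Nat.Coprime (orderOf g) p} := by
    ext g
    simp only [Set.mem_ofPred_eq, Set.mem_preimage, Subgroup.orderOf_coe]
  show Subgroup.closure {g : ↥(pResidual p G) | Nat.Coprime (orderOf g) p} = ⊤
  rw [h]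
  exact Subgroup.closure_closure_coe_preimage

theorem le_commutator_of_pResidual_eq_top {K : Type*} [Group K] [Finite K] (p : ℕ)
    [hp : Fact p.Prime] (h : pResidual p K = ⊤) (T : Subgroup K) (hT : IsPGroup p T) :
    T ≤ commutator K := by
  intro x hx
  rw [← Abelianization.ker_of K, MonoidHom.mem_ker]
  obtain ⟨a, m, hm, ham⟩ := Nat.exists_eq_pow_mul_and_not_dvd
    (Nat.card_pos (α := Abelianization K)).ne' p hp.out.ne_one
  have hker : pResidual p (Abelianization K) ≤
      (powMonoidHom m : Abelianization K →* Abelianization K).ker := by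
    unfold pResidual
    rw [Subgroup.closure_le]
    intro y hy
    rw [SetLike.mem_coe, MonoidHom.mem_ker, powMonoidHom_apply]
    apply orderOf_dvd_iff_pow_eq_one.mp
    have h1 : orderOf y ∣ p ^ a * m := ham ▸ orderOf_dvd_natCard y
    exact Nat.Coprime.dvd_of_dvd_mul_left (Nat.Coprime.pow_right a hy) h1
  have htop : pResidual p (Abelianization K) = ⊤ := by
    rw [eq_top_iff]
    have h1 : (⊤ : Subgroup (Abelianization K)) = (⊤ : Subgroup K).map Abelianization.of := by
      rw [← MonoidHom.range_eq_map]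
      have hsurj : Function.Surjective (Abelianization.of : K →* Abelianization K) :=
        QuotientGroup.mk_surjective
      exact (MonoidHom.range_eq_top.mpr hsurj).symm
    rw [h1, ← h]
    exact pResidual_map_le' p _
  have h1 : (Abelianization.of x) ^ m = 1 := by
    have h2 : Abelianization.of x ∈ (powMonoidHom m : Abelianization K →* Abelianization K).ker :=
      hker (htop ▸ Subgroup.mem_top _)
    simpa using h2
  obtain ⟨b, hb⟩ := hT ⟨x, hx⟩
  have h2 : (Abelianization.of x) ^ (p ^ b) = 1 := by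
    rw [← map_pow]
    have h3 := congrArg Subtype.val hb
    simp only [Subgroup.coe_pow, Subgroup.coe_one] at h3
    rw [h3, map_one]
  have hc : Nat.Coprime (p ^ b) m := Nat.Coprime.pow_left b (hp.out.coprime_iff_not_dvd.mpr hm)
  have h3 := Nat.dvd_gcd (orderOf_dvd_of_pow_eq_one h2) (orderOf_dvd_of_pow_eq_one h1)
  rw [hc.gcd_eq_one] at h3
  exact orderOf_eq_one_iff.mp (Nat.dvd_one.mp h3)

theorem focalSubgroup_le_gfs_focal {K : Type*} [Group K] (T : Subgroup K) :
    T.focalSubgroup ≤ (groupFusionSystem T).focalSubgroup := by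
  rw [Subgroup.focalSubgroup_def, Subgroup.closure_le]
  rintro g ⟨hgT, x, hx, u, rfl⟩
  apply Subgroup.subset_closure
  have hux : u * x⁻¹ * u⁻¹ ∈ T := by
    have h1 : u * x⁻¹ * u⁻¹ = x⁻¹ * ⁅x, u⁆ := by
      rw [commutatorElement_def]; group
    rw [h1]
    exact T.mul_mem (T.inv_mem hx) hgT
  let P : Subgroup K := T ⊓ T.comap (MulAut.conj u).toMonoidHom
  have hxP : x⁻¹ ∈ P := by
    refine Subgroup.mem_inf.mpr ⟨T.inv_mem hx, ?_⟩
    rw [Subgroup.mem_comap]
    exact hux
  refine ⟨P, (MulAut.conj u).toMonoidHom.comp P.subtype, ⟨x⁻¹, hxP⟩, ⟨inf_le_left, ?_, u, ?_⟩, ?_⟩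
  · intro y
    exact (Subgroup.mem_inf.mp y.2).2
  · intro y
    rfl
  · show ⁅x, u⁆ = (x⁻¹)⁻¹ * (u * x⁻¹ * u⁻¹)
    rw [commutatorElement_def]; group

theorem eq_of_sup_commutator_eq {K : Type*} [Group K] {p : ℕ} [Fact p.Prime] {T N : Subgroup K}
    [Finite T] (hT : IsPGroup p T) (hNT : N ≤ T) (hnorm : T ≤ Subgroup.normalizer (N : Set K))
    (h : T ≤ N ⊔ ⁅T, T⁆) : N = T := by
  have hNn : (N.subgroupOf T).Normal := (Subgroup.normal_subgroupOf_iff_le_normalizer hNT).mpr hnorm
  by_contra hne
  have hlt : N.subgroupOf T ≠ ⊤ := by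
    intro h1
    rw [Subgroup.subgroupOf_eq_top] at h1
    exact hne (le_antisymm hNT h1)
  have hnt : Nontrivial (T ⧸ N.subgroupOf T) := by
    rw [← not_subsingleton_iff_nontrivial]
    intro hs
    exact hlt (QuotientGroup.subgroup_eq_top_of_subsingleton _ hs)
  have hnil : Group.IsNilpotent T := hT.isNilpotent
  have hsol : Group.IsSolvable (T ⧸ N.subgroupOf T) := inferInstance
  have h1 := Group.IsSolvable.commutator_lt_top_of_nontrivial (T ⧸ N.subgroupOf T)
  apply h1.ne
  have h2 : (⊤ : Subgroup T) = N.subgroupOf T ⊔ commutator T := by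
    rw [eq_comm, eq_top_iff]
    intro y _
    have hy : (y : K) ∈ N ⊔ ⁅T, T⁆ := h y.2
    rw [← Subgroup.map_subtype_commutator T] at hy
    have h3 : N ⊔ (commutator T).map T.subtype =
        (N.subgroupOf T ⊔ commutator T).map T.subtype := by
      rw [Subgroup.map_sup, Subgroup.map_subgroupOf_eq_of_le hNT]
    rw [h3] at hy
    obtain ⟨z, hz, hzy⟩ := hy
    have : z = y := Subtype.ext hzy
    exact this ▸ hz
  have hsurj : (⊤ : Subgroup T).map (QuotientGroup.mk' (N.subgroupOf T)) = ⊤ := by
    rw [← MonoidHom.range_eq_map]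
    exact MonoidHom.range_eq_top.mpr (QuotientGroup.mk'_surjective _)
  have h5 : (commutator T).map (QuotientGroup.mk' (N.subgroupOf T)) =
      commutator (T ⧸ N.subgroupOf T) := by
    rw [commutator_def, Subgroup.map_commutator, hsurj, ← commutator_def]
  calc commutator (T ⧸ N.subgroupOf T)
      = (commutator T).map (QuotientGroup.mk' (N.subgroupOf T)) := h5.symm
    _ = ⊥ ⊔ (commutator T).map (QuotientGroup.mk' (N.subgroupOf T)) := by rw [bot_sup_eq]
    _ = (N.subgroupOf T).map (QuotientGroup.mk' (N.subgroupOf T)) ⊔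
          (commutator T).map (QuotientGroup.mk' (N.subgroupOf T)) := by
        rw [QuotientGroup.map_mk'_self]
    _ = (N.subgroupOf T ⊔ commutator T).map (QuotientGroup.mk' (N.subgroupOf T)) :=
        (Subgroup.map_sup _ _ _).symm
    _ = (⊤ : Subgroup T).map (QuotientGroup.mk' (N.subgroupOf T)) := by rw [← h2]
    _ = ⊤ := hsurj

theorem map_hyperfocal_le {G : Type*} [Group G] (p : ℕ) (K : Subgroup G) (T : Subgroup K)
    (S : Subgroup G) (hTS : T.map K.subtype ≤ S) :
    ((groupFusionSystem T).hyperfocalSubgroup p).map K.subtype ≤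
      (groupFusionSystem S).hyperfocalSubgroup p := by
  rw [hyperfocalSubgroup, MonoidHom.map_closure, Subgroup.closure_le]
  rintro _ ⟨_, ⟨P, α, x, hPT, hα, rfl⟩, rfl⟩
  have hP'S : P.map K.subtype ≤ S := (Subgroup.map_mono hPT).trans hTS
  let e : P ≃* P.map K.subtype := P.equivMapOfInjective K.subtype K.subtype_injective
  have he : ∀ y : P, ((e y : P.map K.subtype) : G) = ((y : K) : G) := fun y => rfl
  let Φ : MulAut P →* MulAut (P.map K.subtype) := (MulAut.congr e).toMonoidHom
  have hΦapp : ∀ (β : MulAut P) (y : P), Φ β (e y) = e (β y) := by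
    intro β y
    show e (β (e.symm (e y))) = e (β y)
    rw [MulEquiv.symm_apply_apply]
  have hΦ : ∀ β ∈ (groupFusionSystem T).autGroup P,
      Φ β ∈ (groupFusionSystem S).autGroup (P.map K.subtype) := by
    intro β hβ
    rw [gfs_autGroup_eq T P hPT, mem_autInducedBy_iff] at hβ
    obtain ⟨u, -, hu⟩ := hβ
    rw [gfs_autGroup_eq S _ hP'S, mem_autInducedBy_iff]
    refine ⟨(u : G), trivial, ?_⟩
    intro y
    obtain ⟨y0, rfl⟩ := e.surjective y
    rw [hΦapp, he, he, hu]
    rfl
  let Ψ : (groupFusionSystem T).autGroup P →* (groupFusionSystem S).autGroup (P.map K.subtype) :=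
    (Φ.comp ((groupFusionSystem T).autGroup P).subtype).codRestrict _ (fun β => hΦ β.1 β.2)
  have hΨ : Ψ α ∈ pResidual p ((groupFusionSystem S).autGroup (P.map K.subtype)) :=
    pResidual_map_le' p Ψ (Subgroup.mem_map_of_mem Ψ hα)
  apply Subgroup.subset_closure
  refine ⟨P.map K.subtype, Ψ α, e x, hP'S, hΨ, ?_⟩
  have h1 : ((Ψ α : MulAut (P.map K.subtype)) (e x)) = e ((α : MulAut P) x) := hΦapp _ _
  rw [h1, he, he]
  rfl

theorem inf_pResidual_le_hyperfocal {G : Type*} [Group G] [Finite G] (p : ℕ) [Fact p.Prime]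
    (S : Sylow p G) :
    (S : Subgroup G) ⊓ pResidual p G ≤
      (groupFusionSystem (S : Subgroup G)).hyperfocalSubgroup p := by
  have hKn : (pResidual p G).Normal := Helper86.pResidual_normal p G
  have hsyl : IsSylIn p ((S : Subgroup G) ⊓ pResidual p G) (pResidual p G) :=
    (sylow_isSylIn_top S).inf_normal le_top (by rw [Subgroup.normalizer_eq_top]; )
  obtain ⟨R, hR⟩ := hsyl.exists_sylow
  rw [Subgroup.inf_subgroupOf_right] at hR
  have hsat : (groupFusionSystem (R : Subgroup (pResidual p G))).IsSaturated p := gfs_saturated R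
  have hRp : IsPGroup p (R : Subgroup (pResidual p G)) := R.isPGroup'
  have h1 : (R : Subgroup (pResidual p G)) ≤ commutator (pResidual p G) :=
    le_commutator_of_pResidual_eq_top p (pResidual_pResidual p G) R hRp
  have h2 : (R : Subgroup (pResidual p G)) = (R : Subgroup (pResidual p G)).focalSubgroup := by
    rw [← Subgroup.commutator_inf_eq_focalSubgroup R]
    exact (inf_eq_right.mpr h1).symm
  have h3 : (R : Subgroup (pResidual p G)) ≤
      (groupFusionSystem (R : Subgroup (pResidual p G))).focalSubgroup := by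
    have := focalSubgroup_le_gfs_focal (R : Subgroup (pResidual p G))
    rwa [← h2] at this
  have h4 := S5092.result p hRp (groupFusionSystem (R : Subgroup (pResidual p G))) hsat
  have h5 := S5124.result p hRp (groupFusionSystem (R : Subgroup (pResidual p G))) hsat
  have h6 : (R : Subgroup (pResidual p G)) ≤ Subgroup.normalizer
      (((groupFusionSystem (R : Subgroup (pResidual p G))).hyperfocalSubgroup p : Subgroup _) : Set _) :=
    stronglyClosed_normal _ h5
  have h7 : (groupFusionSystem (R : Subgroup (pResidual p G))).hyperfocalSubgroup p =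
      (R : Subgroup (pResidual p G)) := by
    apply eq_of_sup_commutator_eq hRp h5.1 h6
    rw [← h4]
    exact h3
  intro x hx
  have hxK : x ∈ pResidual p G := hx.2
  have hxR : (⟨x, hxK⟩ : pResidual p G) ∈ (R : Subgroup (pResidual p G)) := by
    rw [hR, Subgroup.mem_subgroupOf]
    exact hx.1
  rw [← h7] at hxR
  refine map_hyperfocal_le p (pResidual p G) R S ?_ ⟨⟨x, hxK⟩, hxR, rfl⟩
  rw [hR]
  rintro _ ⟨y, hy, rfl⟩
  exact hy

end Cfsg.Agent.Helper84
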