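import Mathlib
import Cfsg.Prelude.Def_FusionSystem
import Cfsg.Agent.Lib.Helper84.FusO3
import Cfsg.Agent.Lib.Helper84.GrpHyp

/-!
# The decomposition `Aut_F(P) = Aut_S(P) O^p(Aut_F(P))` and the degree of an automorphism
(Puig's hyperfocal subgroup theorem applied to `Aut_F(P)`)
-/

set_option autoImplicit false

namespace Cfsg.Agent.Helper84

open Cfsg Cfsg.FusionSystem
open Cfsg.Agent.Helper87 (Mor Iso extFun extAut)

variable {Ω : Type*} [Group Ω] {S : Subgroup Ω}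

/-- the family of centric subgroups whose centralizer lies in `T` -/
def InZ (F : FusionSystem S) (T R : Subgroup Ω) : Prop :=
  F.IsCentric R ∧ centralizerIn S R ≤ T

theorem isCentric_of_le' {F : FusionSystem S} {Q Q₂ : Subgroup Ω} (hQ : F.IsCentric Q)
    (hle : Q ≤ Q₂) (hQ₂ : Q₂ ≤ S) : F.IsCentric Q₂ := by
  refine ⟨hQ₂, fun R hR => ?_⟩
  obtain ⟨χ, hχ⟩ := Helper87.isConj_iff.1 hR
  have hres : Iso F Q (hχ.1.restrict hle).image χ := Iso.of_mor _
  have h1 := hQ.2 _ (Helper87.isConj_iff.2 ⟨χ, hres⟩)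
  have hQ'R : (hχ.1.restrict hle).image ≤ R := by
    rintro _ ⟨x, hx, rfl⟩
    exact hχ.map_mem (hle hx)
  intro c hc
  apply hQ'R
  apply h1
  exact ⟨hc.1, fun y hy => hc.2 y (hQ'R hy)⟩

theorem InZ.le {F : FusionSystem S} {T R : Subgroup Ω} (h : InZ F T R) : R ≤ S := h.1.1

theorem InZ.of_le {F : FusionSystem S} {T R R' : Subgroup Ω} (h : InZ F T R) (hRR' : R ≤ R')
    (hR' : R' ≤ S) : InZ F T R' := by
  refine ⟨isCentric_of_le' h.1 hRR' hR', fun z hz => h.2 ⟨hz.1, fun y hy => hz.2 y (hRR' hy)⟩⟩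

theorem InZ.of_iso [Finite S] {F : FusionSystem S} {p : ℕ} [Fact p.Prime] {T : Subgroup Ω}
    (H : StepHyp F p T) {R R' : Subgroup Ω} {f : Ω → Ω} (h : InZ F T R) (hiso : Iso F R R' f) :
    InZ F T R' := by
  have hconj : F.IsConj R R' := Helper87.isConj_iff.2 ⟨f, hiso⟩
  refine ⟨⟨hiso.le_right, fun Q hQ => h.1.2 Q (Helper87.isConj_trans hconj hQ)⟩, ?_⟩
  intro z hz
  have hzR' : z ∈ R' := h.1.2 R' hconj hz
  obtain ⟨x, hx, rfl⟩ := hiso.surj hzR'
  have hxC : x ∈ centralizerIn S R := by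
    refine ⟨hiso.le_left hx, fun y hy => ?_⟩
    apply hiso.1.inj (R.mul_mem hy hx) (R.mul_mem hx hy)
    rw [hiso.1.map_mul hy hx, hiso.1.map_mul hx hy]
    exact hz.2 _ (hiso.map_mem hy)
  exact (H.mor_mem_iff hiso.1 hx).mpr (h.2 hxC)

theorem mem_centralizerIn_of_conj_eq {P : Subgroup Ω} {g h : Ω} (hg : g ∈ S) (hh : h ∈ S)
    (e : ∀ w ∈ P, g * w * g⁻¹ = h * w * h⁻¹) : h⁻¹ * g ∈ centralizerIn S P := by
  refine ⟨S.mul_mem (S.inv_mem hh) hg, fun w hw => ?_⟩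
  have h1 := e w hw
  calc w * (h⁻¹ * g) = h⁻¹ * (h * w * h⁻¹) * g := by group
    _ = h⁻¹ * (g * w * g⁻¹) * g := by rw [h1]
    _ = h⁻¹ * g * w := by group

/-- **Puig's theorem for `Aut_F(P)`**: an element of `N_S(P)` inducing on the fully normalized subgroup
`P` an element of `O^p(Aut_F(P))` lies in `T`, when `C_S(P) ≤ T` -/
theorem puig_B0 [Finite S] {F : FusionSystem S} {p : ℕ} [Fact p.Prime] {T : Subgroup Ω}
    (H : StepHyp F p T) {P : Subgroup Ω} (hP : F.IsFullyNormalized P)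
    (hC : centralizerIn S P ≤ T) {n : Ω} (hn : n ∈ S) {b : F.autGroup P}
    (hb : b ∈ pResidual p (F.autGroup P))
    (hnb : ∀ x : P, (((b : MulAut P) x : P) : Ω) = n * x * n⁻¹) : n ∈ T := by
  have hPS := hP.1
  have hfinP : Finite P := Helper87.finite_of_le hPS
  obtain ⟨-, R, hR⟩ := Helper87.fullyAutomized_of_fullyNormalized H.pgrp H.sat hP
  have hrec := Helper87.receptive_of_fullyNormalized H.pgrp H.sat hP
  have hb1 : b ∈ (R : Subgroup (F.autGroup P)) := by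
    rw [hR, Subgroup.mem_subgroupOf, Helper87.mem_autInducedBy_iff]
    exact ⟨n, hn, hnb⟩
  have h1 := inf_pResidual_le_hyperfocal p R (Subgroup.mem_inf.mpr ⟨hb1, hb⟩)
  have h2 : (groupFusionSystem (R : Subgroup (F.autGroup P))).hyperfocalSubgroup p ≤
      (autInducedBy T P).subgroupOf (F.autGroup P) := by
    apply Helper87.hyperfocal_le
    intro Q hQ α hα _ x
    rw [gfs_autGroup_eq _ _ hQ, Helper87.mem_autInducedBy_iff] at hα
    obtain ⟨a, -, ha⟩ := hα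
    have hxR : (x : F.autGroup P) ∈ (R : Subgroup (F.autGroup P)) := hQ x.2
    rw [hR, Subgroup.mem_subgroupOf, Helper87.mem_autInducedBy_iff'] at hxR
    obtain ⟨x₀, hx₀S, hx₀N, hx₀⟩ := hxR
    have hyR : ((α x : Q) : F.autGroup P) ∈ (R : Subgroup (F.autGroup P)) := hQ (α x).2
    rw [hR, Subgroup.mem_subgroupOf, Helper87.mem_autInducedBy_iff'] at hyR
    obtain ⟨y₀, hy₀S, hy₀N, hy₀⟩ := hyR
    have hax : ((α x : Q) : F.autGroup P) = a * (x : F.autGroup P) * a⁻¹ := ha x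
    have haiso : Iso F P P (extAut (a : MulAut P)) :=
      Helper87.iso_of_mor_extAut ((Helper87.mem_autGroup_iff hPS).mp a.2)
    -- the key relation
    have hkey : ∀ z (hz : z ∈ P), extAut (a : MulAut P) (x₀ * z * x₀⁻¹) =
        y₀ * extAut (a : MulAut P) z * y₀⁻¹ := by
      intro z hz
      have hz' : x₀ * z * x₀⁻¹ ∈ P := (Subgroup.mem_normalizer_iff.1 hx₀N z).1 hz
      rw [Helper87.extAut_mem _ hz', Helper87.extAut_mem _ hz]
      have h3 := hy₀ ((a : MulAut P) ⟨z, hz⟩)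
      rw [hax] at h3
      simp only [Subgroup.coe_mul, Subgroup.coe_inv, MulAut.mul_apply, MulAut.inv_apply_self] at h3
      rw [← h3]
      congr 2
      exact Subtype.ext (hx₀ ⟨z, hz⟩).symm
    have hx₀ext : x₀ ∈ haiso.ext := ⟨hx₀S, hx₀N, y₀, hy₀S, fun z hz => hkey z hz⟩
    obtain ⟨ab, hab, habx⟩ := (Helper87.isReceptive_iff.1 hrec).2 P _ haiso
    have h4 : (y₀)⁻¹ * ab x₀ ∈ centralizerIn S P := by
      apply mem_centralizerIn_of_conj_eq (hab.mem hx₀ext) hy₀S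
      intro w hw
      obtain ⟨z, hz, rfl⟩ := haiso.surj hw
      have hz' : x₀ * z * x₀⁻¹ ∈ P := (Subgroup.mem_normalizer_iff.1 hx₀N z).1 hz
      rw [← hkey z hz, ← habx z hz, ← habx _ hz', hab.map_conj hx₀ext (haiso.le_ext hz)]
    have h5 : x₀⁻¹ * ab x₀ ∈ T := H.mor_stable hab hx₀ext
    have h6 : x₀⁻¹ * y₀ ∈ T := by
      have : x₀⁻¹ * y₀ = (x₀⁻¹ * ab x₀) * ((y₀)⁻¹ * ab x₀)⁻¹ := by group
      rw [this]
      exact T.mul_mem h5 (T.inv_mem (hC h4))
    rw [Subgroup.mem_subgroupOf, Helper87.mem_autInducedBy_iff]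
    refine ⟨x₀⁻¹ * y₀, h6, fun w => ?_⟩
    simp only [Subgroup.coe_mul, Subgroup.coe_inv, MulAut.mul_apply]
    have h7 := hy₀ w
    have h8 := hx₀ (((x : F.autGroup P) : MulAut P)⁻¹
      ((((α x : Q) : F.autGroup P) : MulAut P) w))
    rw [MulAut.apply_inv_self, h7] at h8
    have h9 : ((((x : F.autGroup P) : MulAut P)⁻¹
        ((((α x : Q) : F.autGroup P) : MulAut P) w) : P) : Ω) = x₀⁻¹ * (y₀ * w * y₀⁻¹) * x₀ := by
      rw [h8]; group
    rw [h9]; group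
  have h3 := h2 h1
  rw [Subgroup.mem_subgroupOf, Helper87.mem_autInducedBy_iff] at h3
  obtain ⟨t, ht, htx⟩ := h3
  have h4 : t⁻¹ * n ∈ centralizerIn S P := by
    apply mem_centralizerIn_of_conj_eq hn (H.le ht)
    intro w hw
    rw [← hnb ⟨w, hw⟩, htx ⟨w, hw⟩]
  have : n = t * (t⁻¹ * n) := by group
  rw [this]
  exact T.mul_mem ht (hC h4)

/-! ### The relation "`α = c_n ∘ β` with `β ∈ O^p(Aut_F(P))`" -/

def NuRel (F : FusionSystem S) (p : ℕ) (P : Subgroup Ω) (α : Ω → Ω) (n : Ω) : Prop :=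
  n ∈ normalizerIn S P ∧ ∃ b : F.autGroup P, b ∈ pResidual p (F.autGroup P) ∧
    ∀ x ∈ P, α x = n * extAut (b : MulAut P) x * n⁻¹

theorem NuRel.congr {F : FusionSystem S} {p : ℕ} {P : Subgroup Ω} {α α' : Ω → Ω} {n : Ω}
    (h : NuRel F p P α n) (hαα' : ∀ x ∈ P, α x = α' x) : NuRel F p P α' n := by
  obtain ⟨hn, b, hb, hbx⟩ := h
  exact ⟨hn, b, hb, fun x hx => (hαα' x hx).symm.trans (hbx x hx)⟩

theorem nuRel_exists [Finite S] {F : FusionSystem S} {p : ℕ} [Fact p.Prime] (hS : IsPGroup p S)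
    (hF : F.IsSaturated p) {P : Subgroup Ω} (hP : F.IsFullyNormalized P) {α : Ω → Ω}
    (hα : Iso F P P α) : ∃ n, NuRel F p P α n := by
  obtain ⟨n, hn, b, hb, hx⟩ := aut_decomp hS hF hP hα.equiv_mem_autGroup
  refine ⟨n, hn, b, hb, fun x hx' => ?_⟩
  rw [Helper87.extAut_mem _ hx', ← hx ⟨x, hx'⟩, hα.equiv_apply]

theorem nuRel_of_mem {F : FusionSystem S} {p : ℕ} {P : Subgroup Ω} {b : F.autGroup P}
    (hb : b ∈ pResidual p (F.autGroup P)) : NuRel F p P (extAut (b : MulAut P)) 1 :=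
  ⟨Subgroup.one_mem _, b, hb, fun x _ => by simp⟩

theorem nuRel_of_pgen {F : FusionSystem S} {p : ℕ} {P : Subgroup Ω} {f : Ω → Ω}
    (h : PGen F p P f) : NuRel F p P f 1 := by
  refine (nuRel_of_mem (pgen_mem_pResidual h)).congr (fun x hx => ?_)
  rw [Helper87.extAut_mem _ hx]
  exact h.1.equiv_apply ⟨x, hx⟩

theorem nuRel_conj {F : FusionSystem S} {p : ℕ} {P : Subgroup Ω} {m : Ω}
    (hm : m ∈ normalizerIn S P) : NuRel F p P (fun x => m * x * m⁻¹) m :=
  ⟨hm, 1, Subgroup.one_mem _, fun x hx => by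
    show m * x * m⁻¹ = m * extAut ((1 : F.autGroup P) : MulAut P) x * m⁻¹
    rw [Subgroup.coe_one, Helper87.extAut_one hx]⟩

theorem NuRel.comp {F : FusionSystem S} {p : ℕ} {P : Subgroup Ω} (hPS : P ≤ S) {α α' : Ω → Ω}
    {n n' : Ω} (h : NuRel F p P α n) (h' : NuRel F p P α' n') :
    NuRel F p P (fun x => α' (α x)) (n' * n) := by
  obtain ⟨hn, b, hb, hbx⟩ := h
  obtain ⟨hn', b', hb', hbx'⟩ := h'
  have hni : n⁻¹ ∈ normalizerIn S P := Subgroup.inv_mem _ hn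
  have hcn : Helper87.conjAut P n hn.2 ∈ F.autGroup P :=
    Helper87.autInducedBy_le_autGroup F hPS (Helper87.conjAut_mem_autInducedBy hn.1 hn.2)
  have hcni : Helper87.conjAut P n⁻¹ hni.2 ∈ F.autGroup P :=
    Helper87.autInducedBy_le_autGroup F hPS (Helper87.conjAut_mem_autInducedBy hni.1 hni.2)
  set cn : F.autGroup P := ⟨Helper87.conjAut P n hn.2, hcn⟩ with hcn_def
  set cni : F.autGroup P := ⟨Helper87.conjAut P n⁻¹ hni.2, hcni⟩ with hcni_def
  have hmul : cni * cn = 1 := by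
    apply Subtype.ext
    ext x
    show n⁻¹ * (n * (x : Ω) * n⁻¹) * n⁻¹⁻¹ = x
    group
  have hcn_eq : cn = cni⁻¹ := eq_inv_of_mul_eq_one_right hmul
  have hnorm : cni * b' * cn ∈ pResidual p (F.autGroup P) := by
    rw [hcn_eq]
    exact (Helper47.pResidual_normal (p := p) (G := F.autGroup P)).conj_mem b' hb' cni
  refine ⟨Subgroup.mul_mem _ hn' hn, cni * b' * cn * b, Subgroup.mul_mem _ hnorm hb,
    fun x hx => ?_⟩
  show α' (α x) = _
  have hbxP : extAut (b : MulAut P) x ∈ P := Helper87.extAut_mem_self _ hx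
  have h1 : α x ∈ P := by
    rw [hbx x hx]
    exact (Subgroup.mem_normalizer_iff.1 hn.2 _).1 hbxP
  have h2 : extAut (cn : MulAut P) (extAut (b : MulAut P) x) =
      n * extAut (b : MulAut P) x * n⁻¹ := by
    rw [Helper87.extAut_mem _ hbxP]
    rfl
  have h2P : extAut (cn : MulAut P) (extAut (b : MulAut P) x) ∈ P :=
    Helper87.extAut_mem_self _ hbxP
  have h3P : extAut (b' : MulAut P) (extAut (cn : MulAut P) (extAut (b : MulAut P) x)) ∈ P :=
    Helper87.extAut_mem_self _ h2P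
  have h3 : extAut (cni : MulAut P)
      (extAut (b' : MulAut P) (extAut (cn : MulAut P) (extAut (b : MulAut P) x))) =
      n⁻¹ * extAut (b' : MulAut P) (extAut (cn : MulAut P) (extAut (b : MulAut P) x)) * n⁻¹⁻¹ := by
    rw [Helper87.extAut_mem _ h3P]
    rfl
  rw [hbx' _ h1, hbx x hx]
  simp only [Subgroup.coe_mul]
  rw [Helper87.extAut_mul _ _ hx, Helper87.extAut_mul _ _ hbxP, Helper87.extAut_mul _ _ h2P, h3, h2]
  group

theorem NuRel.mem {F : FusionSystem S} {p : ℕ} {P : Subgroup Ω} {α : Ω → Ω} {n : Ω}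
    (h : NuRel F p P α n) : n ∈ S := h.1.1

/-- uniqueness of the conjugating element modulo `T` -/
theorem NuRel.unique [Finite S] {F : FusionSystem S} {p : ℕ} [Fact p.Prime] {T : Subgroup Ω}
    (H : StepHyp F p T) {P : Subgroup Ω} (hP : F.IsFullyNormalized P)
    (hC : centralizerIn S P ≤ T) {α : Ω → Ω} {n n' : Ω} (h : NuRel F p P α n)
    (h' : NuRel F p P α n') : n'⁻¹ * n ∈ T := by
  obtain ⟨hn, b, hb, hbx⟩ := h
  obtain ⟨hn', b', hb', hbx'⟩ := h'
  apply puig_B0 H hP hC (S.mul_mem (S.inv_mem hn'.1) hn.1)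
    (Subgroup.mul_mem _ hb' (Subgroup.inv_mem _ hb))
  intro y
  simp only [Subgroup.coe_mul, Subgroup.coe_inv, MulAut.mul_apply]
  have hxP := ((b : MulAut P)⁻¹ y).2
  have h1 := hbx _ hxP
  rw [hbx' _ hxP, Helper87.extAut_mem _ hxP, Helper87.extAut_mem _ hxP] at h1
  simp only [Subtype.coe_eta, MulAut.apply_inv_self] at h1
  have h2 : (((b' : MulAut P) ((b : MulAut P)⁻¹ y) : P) : Ω) = n'⁻¹ * (n * (y : Ω) * n⁻¹) * n' := by
    rw [← h1]; group
  rw [h2]; group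

/-! ### Degree functions -/

/-- a homomorphism-like function from `S` to a commutative group with kernel `T` -/
structure DegFun (S T : Subgroup Ω) {A : Type*} [AddCommGroup A] (deg : Ω → A) : Prop where
  mul : ∀ x ∈ S, ∀ y ∈ S, deg (x * y) = deg x + deg y
  ker : ∀ x ∈ S, deg x = 0 ↔ x ∈ T

theorem DegFun.one {T : Subgroup Ω} {A : Type*} [AddCommGroup A] {deg : Ω → A}
    (h : DegFun S T deg) : deg 1 = 0 := (h.ker 1 S.one_mem).mpr T.one_mem

theorem DegFun.inv {T : Subgroup Ω} {A : Type*} [AddCommGroup A] {deg : Ω → A}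
    (h : DegFun S T deg) {x : Ω} (hx : x ∈ S) : deg x⁻¹ = - deg x := by
  have h1 := h.mul x hx x⁻¹ (S.inv_mem hx)
  rw [mul_inv_cancel, h.one] at h1
  exact (neg_eq_of_add_eq_zero_right h1.symm).symm

theorem DegFun.eq_of_mem {T : Subgroup Ω} {A : Type*} [AddCommGroup A] {deg : Ω → A}
    (h : DegFun S T deg) {x y : Ω} (hx : x ∈ S) (hy : y ∈ S) (hxy : x⁻¹ * y ∈ T) :
    deg x = deg y := by
  have h1 := (h.ker _ (S.mul_mem (S.inv_mem hx) hy)).mpr hxy
  rw [h.mul _ (S.inv_mem hx) _ hy, h.inv hx] at h1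
  have : deg y = deg x := by
    have h2 : deg y = deg x + (-deg x + deg y) := by abel
    rw [h2, h1, add_zero]
  exact this.symm

theorem DegFun.mem_of_eq {T : Subgroup Ω} {A : Type*} [AddCommGroup A] {deg : Ω → A}
    (h : DegFun S T deg) {x y : Ω} (hx : x ∈ S) (hy : y ∈ S) (hxy : deg x = deg y) :
    x⁻¹ * y ∈ T := by
  apply (h.ker _ (S.mul_mem (S.inv_mem hx) hy)).mp
  rw [h.mul _ (S.inv_mem hx) _ hy, h.inv hx, hxy]
  abel

universe u

theorem exists_degFun {Ω : Type u} [Group Ω] {S T : Subgroup Ω}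
    (hcomm : ∀ a ∈ S, ∀ b ∈ S, a * b * a⁻¹ * b⁻¹ ∈ T) :
    ∃ (A : Type u) (_ : AddCommGroup A) (deg : Ω → A), DegFun S T deg := by
  classical
  have hN : (T.subgroupOf S).Normal := by
    constructor
    intro n hn g
    rw [Subgroup.mem_subgroupOf] at hn ⊢
    have h1 := hcomm g g.2 n n.2
    have h2 : ((g * n * g⁻¹ : S) : Ω) = ((g : Ω) * n * (g : Ω)⁻¹ * (n : Ω)⁻¹) * n := by
      simp only [Subgroup.coe_mul, Subgroup.coe_inv]
      group
    rw [h2]
    exact T.mul_mem h1 hn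
  have hc : ∀ a b : S ⧸ T.subgroupOf S, a * b = b * a := by
    intro a b
    induction a using QuotientGroup.induction_on with
    | H a =>
    induction b using QuotientGroup.induction_on with
    | H b =>
    rw [← QuotientGroup.mk_mul, ← QuotientGroup.mk_mul, QuotientGroup.eq, Subgroup.mem_subgroupOf]
    have h1 := hcomm (b : Ω)⁻¹ (S.inv_mem b.2) (a : Ω)⁻¹ (S.inv_mem a.2)
    have h2 : (((a * b)⁻¹ * (b * a) : S) : Ω) =
        (b : Ω)⁻¹ * (a : Ω)⁻¹ * ((b : Ω)⁻¹)⁻¹ * ((a : Ω)⁻¹)⁻¹ := by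
      simp only [Subgroup.coe_mul, Subgroup.coe_inv]
      group
    rw [h2]
    exact h1
  let _ : CommGroup (S ⧸ T.subgroupOf S) :=
    { (inferInstance : Group (S ⧸ T.subgroupOf S)) with mul_comm := hc }
  refine ⟨Additive (S ⧸ T.subgroupOf S), inferInstance,
    fun x => if h : x ∈ S then Additive.ofMul (QuotientGroup.mk ⟨x, h⟩ : S ⧸ T.subgroupOf S) else 0,
    ?_, ?_⟩
  · intro x hx y hy
    simp only [dif_pos hx, dif_pos hy, dif_pos (S.mul_mem hx hy)]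
    rw [← ofMul_mul, ← QuotientGroup.mk_mul]
    rfl
  · intro x hx
    simp only [dif_pos hx]
    rw [ofMul_eq_zero, QuotientGroup.eq_one_iff, Subgroup.mem_subgroupOf]

end Cfsg.Agent.Helper84
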