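import Mathlib
import Cfsg.Prelude.Def_FusionSystem
import Cfsg.Agent.Lib.Helper84.FusO4
import Cfsg.Agent.Lib.Helper84.GrpSE

/-!
# Elements of `S` inducing maps of `O^p_*(F)` on centric subgroups lie in `T`
-/

set_option autoImplicit false

namespace Cfsg.Agent.Helper84

open Cfsg Cfsg.FusionSystem
open Cfsg.Agent.Helper87 (Mor Iso extFun extAut)

variable {Ω : Type*} [Group Ω] {S : Subgroup Ω}

/-- the elements of `S` inducing maps of `O^p_*(F)` on `R` lie in `T` -/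
def BTat (F : FusionSystem S) (p : ℕ) (T R : Subgroup Ω) : Prop :=
  ∀ g ∈ S, OMor F p R (fun x => g * x * g⁻¹) → g ∈ T

/-- a marking of `Q`: a map on `N_S(Q)` carrying `Q` onto `P`, written as conjugation by `u` after a
map of `O^p_*(F)` -/
def Mark (F : FusionSystem S) (p : ℕ) (P Q : Subgroup Ω) (χ : Ω → Ω) (u : Ω) : Prop :=
  Mor F (normalizerIn S Q) χ ∧ Iso F Q P χ ∧ u ∈ S ∧
    OMor F p (normalizerIn S Q) (fun x => u⁻¹ * χ x * u)

theorem exists_mark [Finite S] {F : FusionSystem S} {p : ℕ} [Fact p.Prime] (hS : IsPGroup p S)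
    (hF : F.IsSaturated p) {P Q : Subgroup Ω} (hP : F.IsFullyNormalized P) (hQP : F.IsConj Q P) :
    ∃ χ u, Mark F p P Q χ u := by
  obtain ⟨χ, hχ, hχQ⟩ := Helper87.exists_map_normalizer_to_fullyNormalized hS hF hP hQP
  obtain ⟨u, hu, hψ⟩ := exists_conj_omor hS hF _ _ hχ
  exact ⟨χ, u, hχ, hχQ, hu, hψ⟩

/-- **Lemma M**: change of marking -/
theorem mark_change [Finite S] {F : FusionSystem S} {p : ℕ} [Fact p.Prime]
    {P Q Q' N₁ : Subgroup Ω} {χ χ' fh k : Ω → Ω} {u u' : Ω}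
    (hm : Mark F p P Q χ u) (hm' : Mark F p P Q' χ' u')
    (hQN₁ : Q ≤ N₁) (hN₁ : N₁ ≤ normalizerIn S Q) (hfh : OMor F p N₁ fh) (hfhQ : Iso F Q Q' fh)
    (hfhN : ∀ x ∈ N₁, fh x ∈ normalizerIn S Q') (hkχ : ∀ x ∈ Q, k (χ x) = x) :
    ∃ (R₁ : Subgroup Ω) (ω : Ω → Ω), P ≤ R₁ ∧ R₁ ≤ normalizerIn S P ∧
      Nat.card R₁ = Nat.card N₁ ∧ Mor F R₁ ω ∧ Iso F P P ω ∧
      OMor F p R₁ (fun y => (u' * u⁻¹)⁻¹ * ω y * (u' * u⁻¹)) ∧
      ∀ y ∈ P, ω y = χ' (fh (k y)) := by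
  obtain ⟨hχ, hχQ, hu, hψ⟩ := hm
  obtain ⟨hχ', hχ'Q, hu', hψ'⟩ := hm'
  have hχ₁ : Mor F N₁ χ := hχ.restrict hN₁
  have hR₁ : Iso F N₁ hχ₁.image χ := Iso.of_mor hχ₁
  set R₁ := hχ₁.image with hR₁def
  obtain ⟨κ, hκ, hκl, hκr⟩ := hR₁.symm
  have hPR₁ : P ≤ R₁ := by
    intro y hy
    obtain ⟨x, hx, rfl⟩ := hχQ.surj hy
    exact ⟨x, hQN₁ hx, rfl⟩
  have hκP : Iso F P Q κ := by
    refine ⟨hκ.1.restrict hPR₁, fun z => ⟨fun hz => ⟨χ z, hχQ.map_mem hz, hκl z (hQN₁ hz)⟩, ?_⟩⟩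
    rintro ⟨y, hy, rfl⟩
    obtain ⟨x, hx, rfl⟩ := hχQ.surj hy
    rw [hκl x (hQN₁ hx)]
    exact hx
  have hκk : ∀ y ∈ P, κ y = k y := by
    intro y hy
    obtain ⟨x, hx, rfl⟩ := hχQ.surj hy
    rw [hκl x (hQN₁ hx), hkχ x hx]
  have hωmor : Mor F R₁ (fun y => χ' (fh (κ y))) :=
    (hκ.1.comp hfh.mor (fun y hy => hκ.map_mem hy)).comp hχ'
      (fun y hy => hfhN _ (hκ.map_mem hy))
  have hωP : Iso F P P (fun y => χ' (fh (κ y))) := (hκP.comp hfhQ).comp hχ'Q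
  refine ⟨R₁, fun y => χ' (fh (κ y)), hPR₁, ?_, hR₁.card_eq.symm, hωmor, hωP, ?_, ?_⟩
  · rintro _ ⟨x, hx, rfl⟩
    exact Helper87.map_normalizerIn hχ hχQ (hN₁ hx)
  · -- the map of `O^p_*(F)`
    have hψ₁ : OMor F p N₁ (fun x => u⁻¹ * χ x * u) := hψ.restr hN₁
    have hD : Iso F N₁ hψ₁.mor.image (fun x => u⁻¹ * χ x * u) := Iso.of_mor hψ₁.mor
    obtain ⟨ψi, hψi, hψil⟩ := hψ₁.symm _ hD
    have hψiN : ∀ z ∈ hψ₁.mor.image, ψi z ∈ N₁ := by
      rintro _ ⟨x, hx, rfl⟩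
      rw [hψil x hx]
      exact hx
    have hg₀ : OMor F p hψ₁.mor.image (fun z => u'⁻¹ * χ' (fh (ψi z)) * u') :=
      OMor.comp (OMor.comp hψi hfh hψiN) hψ' (fun z hz => hfhN _ (hψiN z hz))
    have hconj := hg₀.conj (S.inv_mem hu) R₁ (by
      rintro _ ⟨x, hx, rfl⟩
      refine ⟨x, hx, ?_⟩
      simp only [inv_inv])
    refine hconj.congr ?_
    rintro _ ⟨x, hx, rfl⟩
    have h1 : u⁻¹ * χ x * u⁻¹⁻¹ = u⁻¹ * χ x * u := by rw [inv_inv]
    show u⁻¹⁻¹ * (u'⁻¹ * χ' (fh (ψi (u⁻¹ * χ x * u⁻¹⁻¹))) * u') * u⁻¹ =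
      (u' * u⁻¹)⁻¹ * χ' (fh (κ (χ x))) * (u' * u⁻¹)
    rw [h1, hψil x hx, hκl x hx]
    group
  · intro y hy
    show χ' (fh (κ y)) = χ' (fh (k y))
    rw [hκk y hy]

/-- **Lemma R'**: for maps with source strictly bigger than `P`, the two degrees agree -/
theorem lemR [Finite S] {F : FusionSystem S} {p : ℕ} [Fact p.Prime] {T : Subgroup Ω}
    {A : Type*} [AddCommGroup A] {deg : Ω → A} (H : StepHyp F p T) (hd : DegFun S T deg)
    {P : Subgroup Ω} (hP : F.IsFullyNormalized P) (hZ : InZ F T P)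
    (hbig : ∀ R, InZ F T R → Nat.card P < Nat.card R → BTat F p T R)
    {R₁ : Subgroup Ω} (hPR : P ≤ R₁) (hRN : R₁ ≤ normalizerIn S P)
    (hlt : Nat.card P < Nat.card R₁) {ω : Ω → Ω} (hω : Mor F R₁ ω) (hωP : Iso F P P ω)
    {u' n' : Ω} (hu' : u' ∈ S) (hψ' : OMor F p R₁ (fun x => u'⁻¹ * ω x * u'))
    (hn' : NuRel F p P ω n') : deg u' = deg n' := by
  obtain ⟨u, hu, hψ, b, hb, hbx⟩ := compat H.pgrp H.sat hP hPR hRN hω hωP
  have hNu : NuRel F p P ω u := ⟨hu, b, hb, hbx⟩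
  have h1 : deg n' = deg u := hd.eq_of_mem hn'.mem hu.1 (NuRel.unique H hP hZ.2 hNu hn')
  have hR₂ : Iso F R₁ hψ.mor.image (fun x => u⁻¹ * ω x * u) := Iso.of_mor hψ.mor
  obtain ⟨g, hg, hgl⟩ := hψ.symm _ hR₂
  have hgR : ∀ z ∈ hψ.mor.image, g z ∈ R₁ := by
    rintro _ ⟨x, hx, rfl⟩
    rw [hgl x hx]
    exact hx
  have hcomp : OMor F p hψ.mor.image (fun z => (u'⁻¹ * u) * z * (u'⁻¹ * u)⁻¹) := by
    refine (OMor.comp hg hψ' hgR).congr ?_
    rintro _ ⟨x, hx, rfl⟩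
    show u'⁻¹ * ω (g (u⁻¹ * ω x * u)) * u' = _
    rw [hgl x hx]
    group
  have hR₁S : R₁ ≤ S := hω.le
  have hZ₂ : InZ F T hψ.mor.image := (hZ.of_le hPR hR₁S).of_iso H hR₂
  have hmem : u'⁻¹ * u ∈ T :=
    hbig _ hZ₂ (by rw [← hR₂.card_eq]; exact hlt) _ (S.mul_mem (S.inv_mem hu') hu.1) hcomp
  rw [h1]
  exact hd.eq_of_mem hu' hu.1 hmem

/-- the degree condition for a map `f` on `Q` -/
def Phi (F : FusionSystem S) (p : ℕ) {A : Type*} [AddCommGroup A] (deg : Ω → A)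
    (P Q : Subgroup Ω) (f : Ω → Ω) : Prop :=
  ∀ (Q' : Subgroup Ω) (χ χ' k : Ω → Ω) (u u' n : Ω), Iso F Q Q' f → Mark F p P Q χ u →
    Mark F p P Q' χ' u' → Iso F P Q k → (∀ x ∈ Q, k (χ x) = x) →
    NuRel F p P (fun x => χ' (f (k x))) n → deg u' = deg n + deg u

theorem iterate_conj_eq {P Q : Subgroup Ω} {χ β k : Ω → Ω} (hk : ∀ x ∈ P, k x ∈ Q)
    (hχ : ∀ x ∈ Q, χ x ∈ P) (hβ : ∀ x ∈ Q, β x ∈ Q) (hkχ : ∀ x ∈ Q, k (χ x) = x) :
    ∀ (j : ℕ), ∀ x ∈ P, (fun y => χ (β (k y)))^[j + 1] x = χ (β^[j + 1] (k x)) := by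
  intro j
  induction j with
  | zero => intro x _; rfl
  | succ j ih =>
    intro x hx
    rw [Function.iterate_succ_apply, ih _ (hχ _ (hβ _ (hk x hx)))]
    show χ (β^[j + 1] (k (χ (β (k x))))) = _
    rw [hkχ _ (hβ _ (hk x hx)), ← Function.iterate_succ_apply]

theorem psi_of_omor [Finite S] {F : FusionSystem S} {p : ℕ} [Fact p.Prime] {T : Subgroup Ω}
    {A : Type*} [AddCommGroup A] {deg : Ω → A} (H : StepHyp F p T) (hd : DegFun S T deg)
    {P : Subgroup Ω} (hP : F.IsFullyNormalized P) (hZ : InZ F T P) (hPS : P ≠ S)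
    (hbig : ∀ R, InZ F T R → Nat.card P < Nat.card R → BTat F p T R)
    {P' : Subgroup Ω} {f : Ω → Ω} (h : OMor F p P' f) :
    ∀ Q ≤ P', Phi F p deg P Q f := by
  have hPle : P ≤ S := hP.1
  have hcPS : Nat.card P < Nat.card S := by
    obtain ⟨n₀, hn₀, hn₀P⟩ := Helper87.exists_normalizer_not_mem H.pgrp hPle hPS
    exact Helper87.card_lt_of_not_mem hPle le_rfl hn₀.1 hn₀P
  induction h with
  | @base R β hpg =>
    intro Q hQR Q' χ χ' k u u' n hQ' hm hm' hk hkχ hNu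
    have hRS : R ≤ S := hpg.1.le_left
    have hQS : Q ≤ S := hQR.trans hRS
    have hcQ : Nat.card Q = Nat.card P := hm.2.1.card_eq
    have hfinR : Finite R := Helper87.finite_of_le hRS
    have huS : u ∈ S := hm.2.2.1
    have hu'S : u' ∈ S := hm'.2.2.1
    by_cases hQeq : Q = R
    · -- `β` is an automorphism of `Q`
      subst hQeq
      have hQQ' : Q = Q' := hpg.1.eq_of_iso hQ'
      subst hQQ'
      have hQne : Q ≠ S := by
        intro h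
        rw [h] at hcQ
        omega
      obtain ⟨t, ht, htQ⟩ := Helper87.exists_normalizer_not_mem H.pgrp hQS hQne
      have hcN : Nat.card Q < Nat.card (normalizerIn S Q) :=
        Helper87.card_lt_of_not_mem (Helper87.le_normalizerIn hQS) inf_le_left ht htQ
      obtain ⟨R₁, ω, hPR₁, hR₁N, hcR₁, hω, hωP, hωO, hωx⟩ :=
        mark_change hm hm' (Helper87.le_normalizerIn hQS) le_rfl
          (OMor.id F p (inf_le_left : normalizerIn S Q ≤ S)) (Iso.refl hQS)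
          (fun x hx => hx) hkχ
      obtain ⟨n₁, hn₁⟩ := nuRel_exists H.pgrp H.sat hP hωP
      have h1 : deg (u' * u⁻¹) = deg n₁ :=
        lemR H hd hP hZ hbig hPR₁ hR₁N (by rw [hcR₁, ← hcQ]; exact hcN) hω hωP
          (S.mul_mem hu'S (S.inv_mem huS)) hωO hn₁
      -- `χ β k` is a `p'`-automorphism of `P`
      obtain ⟨hβ, k₀, hk₀, hβk₀⟩ := hpg
      have hk₀0 : k₀ ≠ 0 := by
        rintro rfl
        rw [Nat.coprime_zero_left] at hk₀
        exact (Fact.out : p.Prime).one_lt.ne' hk₀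
      have hpg' : PGen F p P (fun y => χ (β (k y))) := by
        refine ⟨(hk.comp hβ).comp hm.2.1, k₀, hk₀, fun x hx => ?_⟩
        obtain ⟨j, rfl⟩ := Nat.exists_eq_succ_of_ne_zero hk₀0
        rw [iterate_conj_eq (fun x hx => hk.map_mem hx) (fun x hx => hm.2.1.map_mem hx)
          (fun x hx => hβ.map_mem hx) hkχ j x hx, hβk₀ _ (hk.map_mem hx)]
        obtain ⟨z, hz, rfl⟩ := hm.2.1.surj hx
        rw [hkχ z hz]
      have h2 : NuRel F p P (fun x => χ' (β (k x))) (n₁ * 1) := by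
        refine ((nuRel_of_pgen hpg').comp hPle hn₁).congr (fun x hx => ?_)
        show ω (χ (β (k x))) = χ' (β (k x))
        rw [hωx _ (hm.2.1.map_mem (hβ.map_mem (hk.map_mem hx))),
          hkχ _ (hβ.map_mem (hk.map_mem hx))]
      have h3 : deg n = deg (n₁ * 1) :=
        hd.eq_of_mem hNu.mem h2.mem (NuRel.unique H hP hZ.2 h2 hNu)
      rw [mul_one] at h3
      rw [hd.mul _ hu'S _ (S.inv_mem huS), hd.inv huS] at h1
      rw [h3, ← h1]
      abel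
    · -- `Q` is a proper subgroup of `R`
      have hlt : Q < R := lt_of_le_of_ne hQR hQeq
      obtain ⟨t, htR, htN, htQ⟩ := exists_mem_normalizer_not_mem (H.pgrp.to_le hRS) hlt
      have hQN₁ : Q ≤ R ⊓ normalizerIn S Q := le_inf hQR (Helper87.le_normalizerIn hQS)
      have hcN : Nat.card Q < Nat.card (R ⊓ normalizerIn S Q : Subgroup Ω) :=
        Helper87.card_lt_of_not_mem hQN₁ (inf_le_left.trans hRS) ⟨htR, hRS htR, htN⟩ htQ
      obtain ⟨R₁, ω, hPR₁, hR₁N, hcR₁, hω, hωP, hωO, hωx⟩ :=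
        mark_change hm hm' hQN₁ inf_le_right ((OMor.base hpg).restr inf_le_left) hQ'
          (fun x hx => ⟨hpg.1.1.mem hx.1, hpg.1.1.map_normalizer hQR hQ' hx.1 hx.2.2⟩) hkχ
      have h1 : deg (u' * u⁻¹) = deg n :=
        lemR H hd hP hZ hbig hPR₁ hR₁N (by rw [hcR₁, ← hcQ]; exact hcN) hω hωP
          (S.mul_mem hu'S (S.inv_mem huS)) hωO (hNu.congr (fun x hx => (hωx x hx).symm))
      rw [hd.mul _ hu'S _ (S.inv_mem huS), hd.inv huS] at h1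
      rw [← h1]
      abel
  | @restr P₁ Q₁ f _ hQP ih =>
    intro Q hQ
    exact ih Q (hQ.trans hQP)
  | @comp P₁ Q₁ f g hf hg hfg ih1 ih2 =>
    intro Q hQP₁ Q'' χ χ'' k u u'' n hQ'' hm hm'' hk hkχ hNu
    have hfQ : Mor F Q f := hf.mor.restrict hQP₁
    have hQ₁iso : Iso F Q hfQ.image f := Iso.of_mor hfQ
    set Q₂ := hfQ.image with hQ₂def
    have hQ₂Q₁ : Q₂ ≤ Q₁ := by
      rintro _ ⟨x, hx, rfl⟩
      exact hfg x (hQP₁ hx)
    have hgQ₂ : Iso F Q₂ Q'' g := by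
      refine ⟨hg.mor.restrict hQ₂Q₁, fun y => ⟨fun hy => ?_, ?_⟩⟩
      · obtain ⟨x, hx, rfl⟩ := hQ''.surj hy
        exact ⟨f x, ⟨x, hx, rfl⟩, rfl⟩
      · rintro ⟨_, ⟨x, hx, rfl⟩, rfl⟩
        exact hQ''.map_mem hx
    have hconj : F.IsConj Q₂ P :=
      Helper87.isConj_trans (Helper87.isConj_symm (Helper87.isConj_iff.2 ⟨f, hQ₁iso⟩))
        (Helper87.isConj_iff.2 ⟨χ, hm.2.1⟩)
    obtain ⟨χ₁, u₁, hm₁⟩ := exists_mark H.pgrp H.sat hP hconj
    obtain ⟨k₁, hk₁, hk₁l, hk₁r⟩ := hm₁.2.1.symm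
    have hiso1 : Iso F P P (fun x => χ₁ (f (k x))) := (hk.comp hQ₁iso).comp hm₁.2.1
    have hiso2 : Iso F P P (fun x => χ'' (g (k₁ x))) := (hk₁.comp hgQ₂).comp hm''.2.1
    obtain ⟨n₁, hn₁⟩ := nuRel_exists H.pgrp H.sat hP hiso1
    obtain ⟨n₂, hn₂⟩ := nuRel_exists H.pgrp H.sat hP hiso2
    have e1 := ih1 Q hQP₁ Q₂ χ χ₁ k u u₁ n₁ hQ₁iso hm hm₁ hk hkχ hn₁
    have e2 := ih2 Q₂ hQ₂Q₁ Q'' χ₁ χ'' k₁ u₁ u'' n₂ hgQ₂ hm₁ hm'' hk₁ hk₁l hn₂
    have h2 : NuRel F p P (fun x => χ'' (g (f (k x)))) (n₂ * n₁) := by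
      refine (hn₁.comp hP.1 hn₂).congr (fun x hx => ?_)
      show χ'' (g (k₁ (χ₁ (f (k x))))) = _
      rw [hk₁l _ (hQ₁iso.map_mem (hk.map_mem hx))]
    have h3 : deg n = deg (n₂ * n₁) :=
      hd.eq_of_mem hNu.mem h2.mem (NuRel.unique H hP hZ.2 h2 hNu)
    rw [hd.mul _ hn₂.mem _ hn₁.mem] at h3
    rw [e2, e1, h3]
    abel
  | @congr P₁ f f' _ hff ih =>
    intro Q hQP₁ Q' χ χ' k u u' n hQ' hm hm' hk hkχ hNu
    refine ih Q hQP₁ Q' χ χ' k u u' n (hQ'.congr (fun x hx => (hff x (hQP₁ hx)).symm)) hm hm' hk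
      hkχ (hNu.congr (fun x hx => ?_))
    show χ' (f' (k x)) = χ' (f (k x))
    rw [hff _ (hQP₁ (hk.map_mem hx))]

/-- the fully normalized case, `P ≠ S` -/
theorem bt_fn_ne [Finite S] {F : FusionSystem S} {p : ℕ} [Fact p.Prime] {T : Subgroup Ω}
    {A : Type*} [AddCommGroup A] {deg : Ω → A} (H : StepHyp F p T) (hd : DegFun S T deg)
    {P : Subgroup Ω} (hP : F.IsFullyNormalized P) (hZ : InZ F T P) (hPS : P ≠ S)
    (hbig : ∀ R, InZ F T R → Nat.card P < Nat.card R → BTat F p T R) : BTat F p T P := by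
  intro g hg hO
  have hPle : P ≤ S := hP.1
  have hgi : g⁻¹ ∈ S := S.inv_mem hg
  have hphi := psi_of_omor H hd hP hZ hPS hbig hO P le_rfl
  have hQ'S : conjSub g⁻¹ P ≤ S := conjSub_le hgi hPle
  have hiso : Iso F P (conjSub g⁻¹ P) (fun x => g * x * g⁻¹) :=
    (iso_conjSub (F := F) hPle hgi).congr (fun x _ => by simp only [inv_inv])
  have hm : Mark F p P P (fun x => x) 1 :=
    ⟨Mor.id inf_le_left, Iso.refl hPle, S.one_mem,
      (OMor.id F p (inf_le_left : normalizerIn S P ≤ S)).congr (fun x _ => by simp)⟩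
  have hχ' : Mor F (normalizerIn S (conjSub g⁻¹ P)) (fun x => g⁻¹ * x * g) :=
    (Mor.conj (F := F) (inf_le_left : normalizerIn S (conjSub g⁻¹ P) ≤ S) hgi).congr
      (fun x _ => by simp only [inv_inv])
  have hχ'Q : Iso F (conjSub g⁻¹ P) P (fun x => g⁻¹ * x * g) := by
    refine ⟨hχ'.restrict (Helper87.le_normalizerIn hQ'S), fun y => ⟨fun hy => ?_, ?_⟩⟩
    · refine ⟨g * y * g⁻¹, mem_conjSub.mpr ?_, by group⟩
      have : g⁻¹ * (g * y * g⁻¹) * g⁻¹⁻¹ = y := by group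
      rw [this]; exact hy
    · rintro ⟨x, hx, rfl⟩
      have := mem_conjSub.mp hx
      rwa [inv_inv] at this
  have hm' : Mark F p P (conjSub g⁻¹ P) (fun x => g⁻¹ * x * g) g⁻¹ :=
    ⟨hχ', hχ'Q, hgi,
      (OMor.id F p (inf_le_left : normalizerIn S (conjSub g⁻¹ P) ≤ S)).congr
        (fun x _ => by group)⟩
  have hNu : NuRel F p P (fun x => g⁻¹ * (g * x * g⁻¹) * g) 1 :=
    (nuRel_conj (F := F) (p := p) (Subgroup.one_mem (normalizerIn S P))).congr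
      (fun x _ => by group)
  have h1 := hphi (conjSub g⁻¹ P) (fun x => x) (fun x => g⁻¹ * x * g) (fun x => x) 1 g⁻¹ 1 hiso hm hm'
    (Iso.refl hPle) (fun x _ => rfl) hNu
  rw [hd.one, add_zero, hd.inv hg, neg_eq_zero] at h1
  exact (hd.ker g hg).mp h1

/-- the case `P = S` -/
theorem bt_top [Finite S] {F : FusionSystem S} {p : ℕ} [Fact p.Prime] {T : Subgroup Ω}
    (H : StepHyp F p T) (hZ : InZ F T S) : BTat F p T S := by
  intro g hg hO
  obtain ⟨b, hb, hbx⟩ := omor_top hO rfl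
  apply puig_B0 H (Helper87.fullyNormalized_self F) hZ.2 hg hb
  intro x
  rw [← Helper87.extAut_mem _ x.2, ← hbx x x.2]

theorem bt_all [Finite S] {F : FusionSystem S} {p : ℕ} [Fact p.Prime] {T : Subgroup Ω}
    {A : Type*} [AddCommGroup A] {deg : Ω → A} (H : StepHyp F p T) (hd : DegFun S T deg) :
    ∀ n : ℕ, ∀ R : Subgroup Ω, InZ F T R → Nat.card S ≤ Nat.card R + n → BTat F p T R := by
  intro n
  induction n using Nat.strong_induction_on with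
  | _ n ih =>
  intro R hZ hn
  have hRS : R ≤ S := hZ.le
  obtain ⟨P, ψ, hψ, hψR, hP⟩ := exists_omor_fn (p := p) H.pgrp H.sat hRS
  have hZP : InZ F T P := hZ.of_iso H hψR
  have hcard : Nat.card R = Nat.card P := hψR.card_eq
  have hbig : ∀ R', InZ F T R' → Nat.card P < Nat.card R' → BTat F p T R' := by
    intro R' hZ' hlt
    have := Subgroup.card_le_of_le hZ'.le
    exact ih (Nat.card S - Nat.card R') (by omega) R' hZ' (by omega)
  have hBTP : BTat F p T P := by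
    by_cases hPS : P = S
    · subst hPS
      exact bt_top H hZP
    · exact bt_fn_ne H hd hP hZP hPS hbig
  intro g hg hO
  apply hBTP g hg
  have hgi : g⁻¹ ∈ S := S.inv_mem hg
  -- `c_g` on `P` as a composite
  have hψ₁ : OMor F p R ψ := hψ.restr (Helper87.le_normalizerIn hRS)
  obtain ⟨κ, hκ, hκl⟩ := hψ₁.symm _ hψR
  have hκR : ∀ y ∈ P, κ y ∈ R := by
    intro y hy
    obtain ⟨x, hx, rfl⟩ := hψR.surj hy
    rw [hκl x hx]; exact hx
  have hconj := hψ.conj hgi (conjSub g⁻¹ R) (by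
    intro x hx
    exact Helper87.le_normalizerIn hRS (mem_conjSub.mp hx))
  have hcomp := OMor.comp (OMor.comp hκ hO hκR) hconj (by
    intro y hy
    show g * κ y * g⁻¹ ∈ conjSub g⁻¹ R
    rw [mem_conjSub]
    have : g⁻¹ * (g * κ y * g⁻¹) * g⁻¹⁻¹ = κ y := by group
    rw [this]
    exact hκR y hy)
  refine hcomp.congr (fun y hy => ?_)
  show g⁻¹⁻¹ * ψ (g⁻¹ * (g * κ y * g⁻¹) * g⁻¹⁻¹) * g⁻¹ = g * y * g⁻¹
  have h1 : g⁻¹ * (g * κ y * g⁻¹) * g⁻¹⁻¹ = κ y := by group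
  obtain ⟨x, hx, rfl⟩ := hψR.surj hy
  rw [h1, hκl x hx, inv_inv]

/-- **Theorem BT**: an element of `S` inducing a map of `O^p_*(F)` on a centric subgroup whose
centralizer lies in `T` belongs to `T` -/
theorem bt [Finite S] {F : FusionSystem S} {p : ℕ} [Fact p.Prime] {T : Subgroup Ω}
    (H : StepHyp F p T) {R : Subgroup Ω} (hZ : InZ F T R) : BTat F p T R := by
  obtain ⟨A, _, deg, hd⟩ := exists_degFun H.comm
  exact bt_all H hd (Nat.card S) R hZ (Nat.le_add_left _ _)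

end Cfsg.Agent.Helper84
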