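import Mathlib
import Cfsg.Prelude.Def_FusionSystem
import Cfsg.Agent.Lib.Helper84.FusO5

/-!
# The subsystem `⟨Inn(T), O^p_*(F)⟩` over `T`
-/

set_option autoImplicit false

namespace Cfsg.Agent.Helper84

open Cfsg Cfsg.FusionSystem
open Cfsg.Agent.Helper87 (Mor Iso extFun extAut)

variable {Ω : Type*} [Group Ω] {S : Subgroup Ω}

/-- the maps of the subsystem over `T`: conjugation by an element of `T` after a map of
`O^p_*(F)` -/
def EMor (F : FusionSystem S) (p : ℕ) (T P : Subgroup Ω) (f : Ω → Ω) : Prop :=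
  P ≤ T ∧ ∃ t ∈ T, OMor F p P (fun x => t⁻¹ * f x * t)

theorem EMor.of_omor {F : FusionSystem S} {p : ℕ} {T P : Subgroup Ω} {f : Ω → Ω}
    (h : OMor F p P f) (hP : P ≤ T) : EMor F p T P f :=
  ⟨hP, 1, T.one_mem, h.congr (fun x _ => by simp)⟩

theorem EMor.congr {F : FusionSystem S} {p : ℕ} {T P : Subgroup Ω} {f f' : Ω → Ω}
    (h : EMor F p T P f) (hff : ∀ x ∈ P, f x = f' x) : EMor F p T P f' := by
  obtain ⟨hP, t, ht, hψ⟩ := h
  refine ⟨hP, t, ht, hψ.congr (fun x hx => ?_)⟩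
  show t⁻¹ * f x * t = t⁻¹ * f' x * t
  rw [hff x hx]

theorem EMor.restrict {F : FusionSystem S} {p : ℕ} {T P Q : Subgroup Ω} {f : Ω → Ω}
    (h : EMor F p T P f) (hQP : Q ≤ P) : EMor F p T Q f := by
  obtain ⟨hP, t, ht, hψ⟩ := h
  exact ⟨hQP.trans hP, t, ht, hψ.restr hQP⟩

theorem EMor.mor {F : FusionSystem S} {p : ℕ} {T P : Subgroup Ω} (hTS : T ≤ S) {f : Ω → Ω}
    (h : EMor F p T P f) : Mor F P f := by
  obtain ⟨hP, t, ht, hψ⟩ := h
  have h1 := hψ.mor.comp (Mor.conj (F := F) hψ.mor.image_le (hTS ht)) (fun x hx => ⟨x, hx, rfl⟩)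
  exact h1.congr (fun x _ => by group)

theorem EMor.mem {F : FusionSystem S} {p : ℕ} {T P : Subgroup Ω}
    (hhyp : F.hyperfocalSubgroup p ≤ T) {f : Ω → Ω} (h : EMor F p T P f) {x : Ω} (hx : x ∈ P) :
    f x ∈ T := by
  obtain ⟨hP, t, ht, hψ⟩ := h
  have h1 : x⁻¹ * (t⁻¹ * f x * t) ∈ T := hhyp (hψ.hyp x hx)
  have h2 : f x = t * (x * (x⁻¹ * (t⁻¹ * f x * t))) * t⁻¹ := by group
  rw [h2]
  exact T.mul_mem (T.mul_mem ht (T.mul_mem (hP hx) h1)) (T.inv_mem ht)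

theorem EMor.conj (F : FusionSystem S) (p : ℕ) {T P : Subgroup Ω} (hTS : T ≤ S) (hP : P ≤ T)
    {g : Ω} (hg : g ∈ T) : EMor F p T P (fun x => g * x * g⁻¹) :=
  ⟨hP, g, hg, (OMor.id F p (hP.trans hTS)).congr (fun x _ => by group)⟩

theorem EMor.comp [Finite S] {F : FusionSystem S} {p : ℕ} {T P Q : Subgroup Ω} (hTS : T ≤ S)
    {f g : Ω → Ω} (h1 : EMor F p T P f) (h2 : EMor F p T Q g) (hfg : ∀ x ∈ P, f x ∈ Q) :
    EMor F p T P (fun x => g (f x)) := by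
  obtain ⟨hP, s, hs, hψ⟩ := h1
  obtain ⟨hQ, r, hr, hψ'⟩ := h2
  have h2' := hψ'.conj (hTS hs) (conjSub s Q) (fun x hx => mem_conjSub.mp hx)
  refine ⟨hP, r * s, T.mul_mem hr hs, (OMor.comp hψ h2' ?_).congr ?_⟩
  · intro x hx
    rw [mem_conjSub, conj_cancel]
    exact hfg x hx
  · intro x hx
    show s⁻¹ * (r⁻¹ * g (s * (s⁻¹ * f x * s) * s⁻¹) * r) * s = (r * s)⁻¹ * g (f x) * (r * s)
    rw [conj_cancel]; group

theorem EMor.symm [Finite S] {F : FusionSystem S} {p : ℕ} [Fact p.Prime] {T P : Subgroup Ω}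
    (hTS : T ≤ S) (hhyp : F.hyperfocalSubgroup p ≤ T) {f : Ω → Ω} (h : EMor F p T P f)
    {Q : Subgroup Ω} (hQ : Iso F P Q f) : ∃ g, EMor F p T Q g ∧ ∀ x ∈ P, g (f x) = x := by
  have hQT : Q ≤ T := by
    intro y hy
    obtain ⟨x, hx, rfl⟩ := hQ.surj hy
    exact h.mem hhyp hx
  obtain ⟨hP, t, ht, hψ⟩ := h
  have hD : Iso F P hψ.mor.image (fun x => t⁻¹ * f x * t) := Iso.of_mor hψ.mor
  obtain ⟨ψi, hψi, hψil⟩ := hψ.symm _ hD
  have hconj := hψi.conj (S.inv_mem (hTS ht)) Q (by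
    intro y hy
    obtain ⟨x, hx, rfl⟩ := hQ.surj hy
    exact ⟨x, hx, by simp only [inv_inv]⟩)
  refine ⟨fun y => ψi (t⁻¹ * y * t), ⟨hQT, t⁻¹, T.inv_mem ht, hconj.congr (fun y _ => ?_)⟩,
    fun x hx => hψil x hx⟩
  show t⁻¹⁻¹ * ψi (t⁻¹ * y * t⁻¹⁻¹) * t⁻¹ = t⁻¹⁻¹ * ψi (t⁻¹ * y * t) * t⁻¹
  rw [inv_inv]

/-- the subsystem over `T` -/
noncomputable def subE (F : FusionSystem S) [Finite S] (p : ℕ) [Fact p.Prime] (T : Subgroup Ω)
    (hTS : T ≤ S) (hhyp : F.hyperfocalSubgroup p ≤ T) : FusionSystem T where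
  Hom P := {φ | EMor F p T P (extFun φ)}
  le_of_mem := by
    intro P φ h
    refine ⟨h.1, fun x => ?_⟩
    have := EMor.mem hhyp h x.2
    rwa [Helper87.extFun_apply] at this
  injective_of_mem := by
    intro P φ h a b hab
    apply Subtype.ext
    apply (EMor.mor hTS h).inj a.2 b.2
    rw [Helper87.extFun_apply, Helper87.extFun_apply]
    exact hab
  conj_mem := by
    intro P g hP hg
    refine (EMor.conj F p hTS hP hg).congr (fun x hx => ?_)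
    rw [Helper87.extFun_mem _ hx]
    rfl
  comp_mem := by
    intro P Q φ ψ hφ hψ h
    have h1 : ∀ x ∈ P, extFun φ x ∈ Q := fun x hx => by
      rw [Helper87.extFun_mem φ hx]; exact h ⟨x, hx⟩
    refine (EMor.comp hTS hφ hψ h1).congr (fun x hx => ?_)
    show extFun ψ (extFun φ x) = extFun (ψ.comp (φ.codRestrict Q h)) x
    rw [Helper87.extFun_mem (ψ.comp (φ.codRestrict Q h)) hx, Helper87.extFun_mem φ hx,
      Helper87.extFun_mem ψ (h ⟨x, hx⟩)]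
    rfl
  inv_mem := by
    intro P φ hφ
    have hmor : Mor F P (extFun φ) := EMor.mor hTS hφ
    have hiso : Iso F P φ.range (extFun φ) := by
      refine ⟨hmor, fun y => ⟨?_, ?_⟩⟩
      · rintro ⟨x, rfl⟩
        exact ⟨x, x.2, Helper87.extFun_apply φ x⟩
      · rintro ⟨x, hx, rfl⟩
        rw [Helper87.extFun_mem φ hx]
        exact ⟨⟨x, hx⟩, rfl⟩
    obtain ⟨g, hg, hgl⟩ := EMor.symm hTS hhyp hφ hiso
    obtain ⟨ψ, hψ, hψg⟩ := EMor.mor hTS hg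
    refine ⟨ψ, hg.congr (fun y hy => ?_), fun x => ?_⟩
    · rw [Helper87.extFun_mem ψ hy, hψg ⟨y, hy⟩]
    · rw [hψg]
      have := hgl x x.2
      rw [Helper87.extFun_apply] at this
      exact this

theorem mor_subE_iff [Finite S] {F : FusionSystem S} {p : ℕ} [Fact p.Prime] {T : Subgroup Ω}
    {hTS : T ≤ S} {hhyp : F.hyperfocalSubgroup p ≤ T} {P : Subgroup Ω} {f : Ω → Ω} :
    Mor (subE F p T hTS hhyp) P f ↔ EMor F p T P f := by
  constructor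
  · rintro ⟨φ, hφ, e⟩
    have hφ' : EMor F p T P (extFun φ) := hφ
    exact hφ'.congr (fun x hx => by rw [Helper87.extFun_mem φ hx, e ⟨x, hx⟩])
  · intro h
    obtain ⟨φ, hφ, e⟩ := EMor.mor hTS h
    refine ⟨φ, ?_, e⟩
    show EMor F p T P (extFun φ)
    exact h.congr (fun x hx => by rw [Helper87.extFun_mem φ hx, e ⟨x, hx⟩])

theorem subE_isSubsystemOf [Finite S] (F : FusionSystem S) (p : ℕ) [Fact p.Prime] {T : Subgroup Ω}
    (hTS : T ≤ S) (hhyp : F.hyperfocalSubgroup p ≤ T) :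
    (subE F p T hTS hhyp).IsSubsystemOf F := by
  intro P φ hφ
  have hφ' : EMor F p T P (extFun φ) := hφ
  obtain ⟨φ', hφ', e⟩ := EMor.mor hTS hφ'
  have : φ' = φ := by
    ext x
    rw [e, Helper87.extFun_apply]
  rw [← this]
  exact hφ'

theorem subE_hasPPowerIndexIn [Finite S] (F : FusionSystem S) (p : ℕ) [Fact p.Prime]
    {T : Subgroup Ω} (hTS : T ≤ S) (hhyp : F.hyperfocalSubgroup p ≤ T) :
    (subE F p T hTS hhyp).HasPPowerIndexIn F p := by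
  refine ⟨subE_isSubsystemOf F p hTS hhyp, hhyp, fun P hP => ?_⟩
  rintro _ ⟨b, hb, rfl⟩
  rw [Helper87.mem_autGroup_iff hP, mor_subE_iff]
  exact EMor.of_omor (omor_of_mem_pResidual (hP.trans hTS) hb) hP

end Cfsg.Agent.Helper84
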