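import Mathlib
import Cfsg.Prelude.Def_FusionSystem
import Cfsg.Agent.Lib.Helper84.FusO6

/-!
# The subsystem over `T` is generated by its maps between centric subgroups
-/

set_option autoImplicit false

namespace Cfsg.Agent.Helper84

open Cfsg Cfsg.FusionSystem
open Cfsg.Agent.Helper87 (Mor Iso extFun extAut)

variable {Ω : Type*} [Group Ω] {S : Subgroup Ω}

/-- the subsystem attached to the standing hypotheses -/
noncomputable def stepE [Finite S] {F : FusionSystem S} {p : ℕ} [Fact p.Prime] {T : Subgroup Ω}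
    (H : StepHyp F p T) : FusionSystem T := subE F p T H.le H.hyp

theorem mor_stepE_iff [Finite S] {F : FusionSystem S} {p : ℕ} [Fact p.Prime] {T : Subgroup Ω}
    {H : StepHyp F p T} {P : Subgroup Ω} {f : Ω → Ω} :
    Mor (stepE H) P f ↔ EMor F p T P f := mor_subE_iff

theorem iso_of_stepE [Finite S] {F : FusionSystem S} {p : ℕ} [Fact p.Prime] {T : Subgroup Ω}
    {H : StepHyp F p T} {P Q : Subgroup Ω} {f : Ω → Ω} (h : Iso (stepE H) P Q f) : Iso F P Q f :=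
  ⟨EMor.mor H.le (mor_stepE_iff.mp h.1), h.2⟩

theorem isCentric_of_isConj {T : Subgroup Ω} {E : FusionSystem T} {P Q : Subgroup Ω}
    (hP : E.IsCentric P) (hPQ : E.IsConj P Q) : E.IsCentric Q :=
  ⟨(Helper87.isConj_le hPQ).2, fun Q' hQ' => hP.2 Q' (Helper87.isConj_trans hPQ hQ')⟩

theorem isCentric_top {T : Subgroup Ω} [Finite T] (E : FusionSystem T) : E.IsCentric T := by
  refine ⟨le_rfl, fun Q hQ => ?_⟩
  obtain ⟨f, hf⟩ := Helper87.isConj_iff.1 hQ
  have hQT : Q ≤ T := hf.le_right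
  have hQeq : Q = T := Subgroup.eq_of_le_of_card_ge hQT (le_of_eq hf.card_eq)
  rw [hQeq]
  exact inf_le_left

theorem pgen_inf [Finite S] {F : FusionSystem S} {p : ℕ} [Fact p.Prime] {T : Subgroup Ω}
    (H : StepHyp F p T) {R : Subgroup Ω} {β : Ω → Ω} (h : PGen F p R β) :
    PGen F p (R ⊓ T) β := by
  obtain ⟨hβ, k, hk, hβk⟩ := h
  have hm : Mor F (R ⊓ T) β := hβ.1.restrict inf_le_left
  refine ⟨Helper87.iso_of_card_le hm (inf_le_left.trans hβ.le_left) (fun x hx => ?_) le_rfl, k, hk,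
    fun x hx => hβk x hx.1⟩
  exact ⟨hβ.map_mem hx.1, (H.mor_mem_iff hβ.1 hx.1).mpr hx.2⟩

/-- a fully normalized subgroup of `T` containing its centralizer in `T` is centric in the
subsystem -/
theorem centric_of_fn [Finite S] {F : FusionSystem S} {p : ℕ} [Fact p.Prime] {T : Subgroup Ω}
    (H : StepHyp F p T) {Q : Subgroup Ω} (hQ : F.IsFullyNormalized Q) (hQT : Q ≤ T)
    (hC : centralizerIn T Q ≤ Q) : (stepE H).IsCentric Q := by
  refine ⟨hQT, fun Q' hQQ' => ?_⟩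
  obtain ⟨f, hf⟩ := Helper87.isConj_iff.1 hQQ'
  obtain ⟨g, hg, -, -⟩ := hf.symm
  have hgF : Iso F Q' Q g := iso_of_stepE hg
  have hrec := Helper87.receptive_of_fullyNormalized H.pgrp H.sat hQ
  obtain ⟨gh, hgh, hghx⟩ := (Helper87.isReceptive_iff.1 hrec).2 Q' _ hgF
  intro z hz
  have hzS : z ∈ centralizerIn S Q' := ⟨H.le hz.1, hz.2⟩
  have hzext : z ∈ hgF.ext := hgF.centralizerIn_le_ext hzS
  have h1 : gh z ∈ centralizerIn T Q := by
    refine ⟨(H.mor_mem_iff hgh hzext).mpr hz.1, fun y hy => ?_⟩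
    obtain ⟨x, hx, rfl⟩ := hgF.surj hy
    have hxext : x ∈ hgF.ext := hgF.le_ext hx
    rw [← hghx x hx, ← hgh.map_mul hxext hzext, ← hgh.map_mul hzext hxext, hz.2 x hx]
  obtain ⟨x, hx, hxz⟩ := hgF.surj (hC h1)
  have : x = z := hgh.inj (hgF.le_ext hx) hzext (by rw [hghx x hx]; exact hxz)
  rw [← this]
  exact hx

/-- maps of `O^p_*(F)` restricted to large enough subgroups of `T` lie in `E'` once the generators
do -/
theorem g_of_gen [Finite S] {F : FusionSystem S} {p : ℕ} [Fact p.Prime] {T : Subgroup Ω}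
    (H : StepHyp F p T) (E' : FusionSystem T) (n : ℕ)
    (hgen : ∀ Q : Subgroup Ω, Q ≤ T → Nat.card T ≤ Nat.card Q + n → ∀ β, PGen F p Q β →
      Mor E' Q β) {P' : Subgroup Ω} {f : Ω → Ω} (h : OMor F p P' f) :
    ∀ P'' : Subgroup Ω, P'' ≤ P' ⊓ T → Nat.card T ≤ Nat.card P'' + n → Mor E' P'' f := by
  have hfinT : Finite T := Helper87.finite_of_le H.le
  induction h with
  | @base R β hpg =>
    intro P'' hP'' hn
    have hfin : Finite (R ⊓ T : Subgroup Ω) := Helper87.finite_of_le (inf_le_right.trans H.le)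
    have := Subgroup.card_le_of_le hP''
    exact (hgen (R ⊓ T) inf_le_right (by omega) β (pgen_inf H hpg)).restrict hP''
  | @restr P₁ Q₁ f _ hQP ih =>
    intro P'' hP'' hn
    exact ih P'' (hP''.trans (inf_le_inf_right T hQP)) hn
  | @comp P₁ Q₁ f g hf hg hfg ih1 ih2 =>
    intro P'' hP'' hn
    have h1 : Mor E' P'' f := ih1 P'' hP'' hn
    have hiso : Iso E' P'' h1.image f := Iso.of_mor h1
    have himg : h1.image ≤ Q₁ ⊓ T := by
      rintro _ ⟨x, hx, rfl⟩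
      exact ⟨hfg x (hP'' hx).1, h1.mem hx⟩
    have h2 : Mor E' h1.image g := ih2 h1.image himg (by rw [← hiso.card_eq]; exact hn)
    exact h1.comp h2 (fun x hx => ⟨x, hx, rfl⟩)
  | @congr P₁ f f' _ hff ih =>
    intro P'' hP'' hn
    exact (ih P'' hP'' hn).congr (fun x hx => hff x (hP'' hx).1)

theorem iterate_conj_eq' {P Q : Subgroup Ω} {χ β k : Ω → Ω} (hk : ∀ x ∈ P, k x ∈ Q)
    (hχ : ∀ x ∈ Q, χ x ∈ P) (hβ : ∀ x ∈ Q, β x ∈ Q) (hkχ : ∀ x ∈ Q, k (χ x) = x) :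
    ∀ (j : ℕ), ∀ x ∈ P, (fun y => χ (β (k y)))^[j + 1] x = χ (β^[j + 1] (k x)) :=
  iterate_conj_eq hk hχ hβ hkχ

/-- transport of a `p'`-automorphism along an isomorphism -/
theorem pgen_transport {F : FusionSystem S} {p : ℕ} [Fact p.Prime] {Q Q' : Subgroup Ω}
    {χ κ β : Ω → Ω} (hχ : Iso F Q Q' χ) (hκ : Iso F Q' Q κ) (hκχ : ∀ x ∈ Q, κ (χ x) = x)
    (hχκ : ∀ y ∈ Q', χ (κ y) = y) (h : PGen F p Q β) : PGen F p Q' (fun y => χ (β (κ y))) := by
  obtain ⟨hβ, k₀, hk₀, hβk₀⟩ := h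
  have hk₀0 : k₀ ≠ 0 := by
    rintro rfl
    rw [Nat.coprime_zero_left] at hk₀
    exact (Fact.out : p.Prime).one_lt.ne' hk₀
  refine ⟨(hκ.comp hβ).comp hχ, k₀, hk₀, fun x hx => ?_⟩
  obtain ⟨j, rfl⟩ := Nat.exists_eq_succ_of_ne_zero hk₀0
  rw [iterate_conj_eq (fun x hx => hκ.map_mem hx) (fun x hx => hχ.map_mem hx)
    (fun x hx => hβ.map_mem hx) hκχ j x hx, hβk₀ _ (hκ.map_mem hx), hχκ x hx]

/-- the generation step for a fully normalized subgroup which is not centric in the subsystem -/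
theorem gen_step_fn [Finite S] {F : FusionSystem S} {p : ℕ} [Fact p.Prime] {T : Subgroup Ω}
    (H : StepHyp F p T) (E' : FusionSystem T) {Q : Subgroup Ω} (hQ : F.IsFullyNormalized Q)
    (hQT : Q ≤ T) (hnc : ¬ (stepE H).IsCentric Q)
    (hbig : ∀ Q₂ : Subgroup Ω, Q₂ ≤ T → Nat.card Q < Nat.card Q₂ → ∀ β, PGen F p Q₂ β →
      Mor E' Q₂ β) {β : Ω → Ω} (hβ : PGen F p Q β) : Mor E' Q β := by
  have hQS : Q ≤ S := hQ.1
  have hC : ¬ centralizerIn T Q ≤ Q := fun h => hnc (centric_of_fn H hQ hQT h)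
  obtain ⟨z, hzC, hzQ⟩ := SetLike.not_le_iff_exists.mp hC
  obtain ⟨hβiso, k, hk, hβk⟩ := hβ
  have hrec := Helper87.receptive_of_fullyNormalized H.pgrp H.sat hQ
  obtain ⟨bh, hbh, hbhx⟩ := (Helper87.isReceptive_iff.1 hrec).2 Q _ hβiso
  have hQh : Q ⊔ centralizerIn S Q ≤ hβiso.ext := sup_le hβiso.le_ext hβiso.centralizerIn_le_ext
  have hQhS : Q ⊔ centralizerIn S Q ≤ S := sup_le hQS inf_le_left
  have hbh' : Mor F (Q ⊔ centralizerIn S Q) bh := hbh.restrict hQh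
  have hmaps : ∀ x ∈ Q ⊔ centralizerIn S Q, bh x ∈ Q ⊔ centralizerIn S Q := by
    apply mor_map_sup hbh'
    · intro x hx
      rw [hbhx x hx]
      exact (le_sup_left : Q ≤ Q ⊔ centralizerIn S Q) (hβiso.map_mem hx)
    · intro c hc
      apply (le_sup_right : centralizerIn S Q ≤ Q ⊔ centralizerIn S Q)
      have hcext : c ∈ hβiso.ext := hβiso.centralizerIn_le_ext hc
      refine ⟨hbh.mem hcext, fun y hy => ?_⟩
      obtain ⟨x, hx, rfl⟩ := hβiso.surj hy
      have hxext : x ∈ hβiso.ext := hβiso.le_ext hx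
      rw [← hbhx x hx, ← hbh.map_mul hxext hcext, ← hbh.map_mul hcext hxext, hc.2 x hx]
  have hiso : Iso F (Q ⊔ centralizerIn S Q) (Q ⊔ centralizerIn S Q) bh :=
    Helper87.iso_of_card_le hbh' hQhS hmaps le_rfl
  have hfk : ∀ x ∈ Q, bh^[k] x = x := by
    intro x hx
    rw [iterate_congr_on hbhx (fun x hx => hβiso.map_mem hx) k x hx]
    exact hβk x hx
  obtain ⟨j, hj, hjx⟩ := exists_pgen_pow hiso hk hfk
  have hj' := pgen_inf H hj
  have hQle : Q ≤ (Q ⊔ centralizerIn S Q) ⊓ T := le_inf le_sup_left hQT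
  have hzmem : z ∈ (Q ⊔ centralizerIn S Q) ⊓ T :=
    ⟨(le_sup_right : centralizerIn S Q ≤ Q ⊔ centralizerIn S Q) ⟨H.le hzC.1, hzC.2⟩, hzC.1⟩
  have hcard : Nat.card Q < Nat.card ((Q ⊔ centralizerIn S Q) ⊓ T : Subgroup Ω) :=
    Helper87.card_lt_of_not_mem hQle (inf_le_right.trans H.le) hzmem hzQ
  have h1 := hbig _ inf_le_right hcard _ hj'
  exact (h1.restrict hQle).congr (fun x hx => (hjx x hx).trans (hbhx x hx))

/-- every `p'`-automorphism of a subgroup of `T` lies in a system over `T` containing the maps of the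
subsystem between centric subgroups -/
theorem gen_claim [Finite S] {F : FusionSystem S} {p : ℕ} [Fact p.Prime] {T : Subgroup Ω}
    (H : StepHyp F p T) (E' : FusionSystem T)
    (hE' : ∀ (P : Subgroup Ω) (f : Ω → Ω), (stepE H).IsCentric P → EMor F p T P f → Mor E' P f) :
    ∀ n : ℕ, ∀ Q : Subgroup Ω, Q ≤ T → Nat.card T ≤ Nat.card Q + n → ∀ β, PGen F p Q β →
      Mor E' Q β := by
  have hfinT : Finite T := Helper87.finite_of_le H.le
  have hTp : IsPGroup p T := H.pgrp.to_le H.le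
  intro n
  induction n using Nat.strong_induction_on with
  | _ n ih =>
  intro Q hQT hn β hβ
  by_cases hc : (stepE H).IsCentric Q
  · exact hE' Q β hc (EMor.of_omor (OMor.base hβ) hQT)
  have hQS : Q ≤ S := hQT.trans H.le
  have hQne : Q ≠ T := by
    rintro rfl
    exact hc (isCentric_top _)
  have hlt : Q < T := lt_of_le_of_ne hQT hQne
  have hcardlt : Nat.card Q < Nat.card T := by
    obtain ⟨t, ht, -, htQ⟩ := exists_mem_normalizer_not_mem hTp hlt
    exact Helper87.card_lt_of_not_mem hQT H.le ht htQ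
  have hgen' := ih (n - 1) (by omega)
  have hbig : ∀ Q₂ : Subgroup Ω, Q₂ ≤ T → Nat.card Q < Nat.card Q₂ → ∀ β, PGen F p Q₂ β →
      Mor E' Q₂ β := fun Q₂ h2 hlt2 β' hβ' => hgen' Q₂ h2 (by omega) β' hβ'
  -- move to a fully normalized conjugate
  obtain ⟨Q₀, ψ, hψ, hψQ, hQ₀⟩ := exists_omor_fn (p := p) H.pgrp H.sat hQS
  obtain ⟨t, ht, htN, htQ⟩ := exists_mem_normalizer_not_mem hTp hlt
  have hQM : Q ≤ T ⊓ normalizerIn S Q := le_inf hQT (Helper87.le_normalizerIn hQS)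
  have hcM : Nat.card Q < Nat.card (T ⊓ normalizerIn S Q : Subgroup Ω) :=
    Helper87.card_lt_of_not_mem hQM (inf_le_left.trans H.le) ⟨ht, H.le ht, htN⟩ htQ
  have hψM : Mor E' (T ⊓ normalizerIn S Q) ψ :=
    g_of_gen H E' (n - 1) hgen' hψ _ (le_inf inf_le_right inf_le_left) (by omega)
  have hψE' : Mor E' Q ψ := hψM.restrict hQM
  have hisoE' : Iso E' Q Q₀ ψ := ⟨hψE', hψQ.2⟩
  have hQ₀T : Q₀ ≤ T := hisoE'.le_right
  obtain ⟨κ, hκ, hκl, hκr⟩ := hψQ.symm
  have hβ₀ : PGen F p Q₀ (fun y => ψ (β (κ y))) := pgen_transport hψQ hκ hκl hκr hβ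
  have hnc₀ : ¬ (stepE H).IsCentric Q₀ := by
    intro h
    apply hc
    have hisoE : Iso (stepE H) Q Q₀ ψ :=
      ⟨mor_stepE_iff.mpr (EMor.of_omor (hψ.restr (Helper87.le_normalizerIn hQS)) hQT), hψQ.2⟩
    exact isCentric_of_isConj h (Helper87.isConj_symm (Helper87.isConj_iff.2 ⟨ψ, hisoE⟩))
  have hcard₀ : Nat.card Q = Nat.card Q₀ := hψQ.card_eq
  have h₀ : Mor E' Q₀ (fun y => ψ (β (κ y))) :=
    gen_step_fn H E' hQ₀ hQ₀T hnc₀ (fun Q₂ h2 hlt2 => hbig Q₂ h2 (by omega)) hβ₀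
  obtain ⟨g, hg, hgl, -⟩ := hisoE'.symm
  have hcomp := (hψE'.comp h₀ (fun x hx => hψQ.map_mem hx)).comp hg.1
    (fun x hx => hβ₀.1.map_mem (hψQ.map_mem hx))
  refine hcomp.congr (fun x hx => ?_)
  show g (ψ (β (κ (ψ x)))) = β x
  rw [hκl x hx, hgl _ (hβ.1.map_mem hx)]

/-- **Generation**: a fusion system over `T` containing the maps of the subsystem with centric
source contains the subsystem -/
theorem stepE_gen [Finite S] {F : FusionSystem S} {p : ℕ} [Fact p.Prime] {T : Subgroup Ω}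
    (H : StepHyp F p T) (E' : FusionSystem T)
    (hE' : ∀ P : Subgroup Ω, (stepE H).IsCentric P → (stepE H).Hom P ⊆ E'.Hom P) :
    stepE H ≤ E' := by
  have hfinT : Finite T := Helper87.finite_of_le H.le
  have hE'' : ∀ (P : Subgroup Ω) (f : Ω → Ω), (stepE H).IsCentric P → EMor F p T P f →
      Mor E' P f := by
    intro P f hP hf
    obtain ⟨φ, hφ, e⟩ := mor_stepE_iff.mpr hf
    exact ⟨φ, hE' P hP hφ, e⟩
  have hgen := gen_claim H E' hE'' (Nat.card T)
  intro P φ hφ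
  have hφ' : EMor F p T P (extFun φ) := hφ
  obtain ⟨hPT, t, ht, hψ⟩ := hφ'
  have h1 : Mor E' P (fun x => t⁻¹ * extFun φ x * t) :=
    g_of_gen H E' (Nat.card T) hgen hψ P (le_inf le_rfl hPT) (Nat.le_add_left _ _)
  have h2 := h1.comp (Mor.conj (F := E') h1.image_le ht) (fun x hx => ⟨x, hx, rfl⟩)
  obtain ⟨φ', hφ', e⟩ := h2
  have : φ' = φ := by
    ext x
    rw [e]
    show t * (t⁻¹ * extFun φ x * t) * t⁻¹ = φ x
    rw [Helper87.extFun_apply]
    group
  rw [← this]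
  exact hφ'

end Cfsg.Agent.Helper84
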