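import Mathlib
import Cfsg.Prelude.Def_FusionSystem
import Cfsg.Agent.Lib.Helper87.FusionAlperin
import Cfsg.Agent.Lib.Helper87.FusionRadical

/-!
# Subsystems of index prime to `p` (BCGLO2, Lemma 3.4)
-/

set_option autoImplicit false

namespace Cfsg.Agent.Helper84

open Cfsg Cfsg.FusionSystem Cfsg.Agent.Helper87

variable {Ω : Type*} [Group Ω] {S : Subgroup Ω}

/-- Image of `P` under an automorphism `β` of `S`. -/
def imgAut (β : MulAut S) (P : Subgroup Ω) : Subgroup Ω :=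
  (P.subgroupOf S).map (S.subtype.comp β.toMonoidHom)

theorem mem_imgAut {β : MulAut S} {P : Subgroup Ω} (hP : P ≤ S) {y : Ω} :
    y ∈ imgAut β P ↔ ∃ x ∈ P, extAut β x = y := by
  constructor
  · rintro ⟨x, hx, rfl⟩
    exact ⟨x, Subgroup.mem_subgroupOf.mp hx, extAut_apply β x⟩
  · rintro ⟨x, hx, rfl⟩
    exact ⟨⟨x, hP hx⟩, Subgroup.mem_subgroupOf.mpr hx, (extAut_mem β (hP hx)).symm⟩

theorem imgAut_le (β : MulAut S) (P : Subgroup Ω) : imgAut β P ≤ S := by
  rintro _ ⟨x, -, rfl⟩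
  exact (β x).2

theorem imgAut_mono (β : MulAut S) {P Q : Subgroup Ω} (h : Q ≤ P) : imgAut β Q ≤ imgAut β P :=
  Subgroup.map_mono (Subgroup.subgroupOf_mono S h)

theorem iso_imgAut (F : FusionSystem S) {β : MulAut S} (hβ : β ∈ F.autGroup S) {P : Subgroup Ω}
    (hP : P ≤ S) : Iso F P (imgAut β P) (extAut β) :=
  ⟨((mem_autGroup_iff le_rfl).mp hβ).restrict hP, fun _ => mem_imgAut hP⟩

theorem extAut_inv_mem_of_mem_imgAut {β : MulAut S} {P : Subgroup Ω} (hP : P ≤ S) {y : Ω}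
    (hy : y ∈ imgAut β P) : extAut β⁻¹ y ∈ P := by
  obtain ⟨x, hx, rfl⟩ := (mem_imgAut hP).mp hy
  rw [extAut_inv_left β (hP hx)]
  exact hx

/-- `f₀` and all its conjugates under `Aut_F(S)` are maps of `E`. -/
def InvE (E F : FusionSystem S) (P : Subgroup Ω) (f₀ : Ω → Ω) : Prop :=
  ∀ β ∈ F.autGroup S, Mor E (imgAut β P) (fun y => extAut β (f₀ (extAut β⁻¹ y)))

/-- `f = α ∘ f₀` with `α ∈ Aut_F(S)` and `f₀` invariantly in `E`. -/
def FactorsE (E F : FusionSystem S) (P : Subgroup Ω) (f : Ω → Ω) : Prop :=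
  P ≤ S ∧ ∃ α ∈ F.autGroup S, InvE E F P (fun x => extAut α⁻¹ (f x))

theorem factorsE_alperinClosed (E F : FusionSystem S) : AlperinClosed F (FactorsE E F) where
  congr := by
    rintro P f f' ⟨hPS, α, hα, h⟩ hff
    refine ⟨hPS, α, hα, fun β hβ => (h β hβ).congr (fun y hy => ?_)⟩
    simp only
    rw [hff _ (extAut_inv_mem_of_mem_imgAut hPS hy)]
  restrict := by
    rintro P Q f - ⟨hPS, α, hα, h⟩ hQP
    exact ⟨hQP.trans hPS, α, hα, fun β hβ => (h β hβ).restrict (imgAut_mono β hQP)⟩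
  comp := by
    rintro P Q f g hf hg hPQ ⟨hPS, α, hα, h1⟩ ⟨hQS, α', hα', h2⟩
    refine ⟨hPS, α' * α, (F.autGroup S).mul_mem hα' hα, fun β hβ => ?_⟩
    have k1 := h1 β hβ
    have hβα : β * α⁻¹ ∈ F.autGroup S := (F.autGroup S).mul_mem hβ ((F.autGroup S).inv_mem hα)
    have k2 := h2 (β * α⁻¹) hβα
    have hmaps : ∀ y ∈ imgAut β P,
        (fun y => extAut β (extAut α⁻¹ (f (extAut β⁻¹ y)))) y ∈ imgAut (β * α⁻¹) Q := by
      intro y hy
      have hx := extAut_inv_mem_of_mem_imgAut hPS hy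
      rw [mem_imgAut hQS]
      refine ⟨f (extAut β⁻¹ y), hPQ _ hx, ?_⟩
      rw [extAut_mul _ _ (hQS (hPQ _ hx))]
    refine (k1.comp k2 hmaps).congr (fun y hy => ?_)
    have hx := extAut_inv_mem_of_mem_imgAut hPS hy
    set x := extAut β⁻¹ y with hxdef
    have hfx : f x ∈ S := hQS (hPQ x hx)
    have hgfx : g (f x) ∈ S := hg.mem (hPQ x hx)
    simp only
    have e1 : extAut (β * α⁻¹)⁻¹ (extAut β (extAut α⁻¹ (f x))) = f x := by
      rw [← extAut_mul _ _ hfx, extAut_inv_left _ hfx]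
    rw [e1]
    have e2 : (α' * α)⁻¹ = α⁻¹ * α'⁻¹ := mul_inv_rev _ _
    rw [e2, extAut_mul _ _ hgfx, extAut_mul _ _ (extAut_mem_self _ hgfx)]

/-- The subgroup generated by the elements of `p`-power order. -/
def opp (p : ℕ) (A : Type*) [Group A] : Subgroup A :=
  Subgroup.closure {a : A | ∃ k : ℕ, orderOf a = p ^ k}

theorem opp_map_le {A B : Type*} [Group A] [Group B] (p : ℕ) [hp : Fact p.Prime] (Ψ : A →* B) :
    (opp p A).map Ψ ≤ opp p B := by
  unfold opp
  rw [MonoidHom.map_closure, Subgroup.closure_le]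
  rintro _ ⟨a, ⟨k, hk⟩, rfl⟩
  apply Subgroup.subset_closure
  have h1 : orderOf (Ψ a) ∣ p ^ k := hk ▸ orderOf_map_dvd Ψ a
  obtain ⟨j, -, hj⟩ := (Nat.dvd_prime_pow hp.out).mp h1
  exact ⟨j, hj⟩

instance opp_normal (p : ℕ) (A : Type*) [Group A] : (opp p A).Normal := by
  constructor
  intro n hn g
  unfold opp at *
  induction hn using Subgroup.closure_induction with
  | mem x hx =>
    apply Subgroup.subset_closure
    obtain ⟨k, hk⟩ := hx
    refine ⟨k, ?_⟩
    have : g * x * g⁻¹ = MulAut.conj g x := rfl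
    rw [this, MulEquiv.orderOf_eq]
    exact hk
  | one => simp
  | mul x y _ _ hx hy =>
    have : g * (x * y) * g⁻¹ = (g * x * g⁻¹) * (g * y * g⁻¹) := by group
    rw [this]
    exact Subgroup.mul_mem _ hx hy
  | inv x _ hx =>
    have : g * x⁻¹ * g⁻¹ = (g * x * g⁻¹)⁻¹ := by group
    rw [this]
    exact Subgroup.inv_mem _ hx

theorem le_opp_of_isPGroup {A : Type*} [Group A] {p : ℕ} [Fact p.Prime] {T : Subgroup A}
    (hT : IsPGroup p T) : T ≤ opp p A := by
  intro τ hτ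
  apply Subgroup.subset_closure
  obtain ⟨k, hk⟩ := IsPGroup.iff_orderOf.mp hT ⟨τ, hτ⟩
  exact ⟨k, by rw [← hk]; exact (Subgroup.orderOf_mk τ hτ).symm⟩

/-- Elements of `O^{p'}(Aut_F(R))`, `R` centric, factor (trivially). -/
theorem factorsE_of_mem_opp (E F : FusionSystem S) (p : ℕ) [Fact p.Prime]
    (h : ∀ P : Subgroup Ω, F.IsCentric P →
      (opp p (F.autGroup P)).map (F.autGroup P).subtype ≤ E.autGroup P)
    {R : Subgroup Ω} (hcen : F.IsCentric R) (n : F.autGroup R) (hn : n ∈ opp p (F.autGroup R)) :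
    FactorsE E F R (extAut (n : MulAut R)) := by
  have hRS : R ≤ S := hcen.1
  refine ⟨hRS, 1, (F.autGroup S).one_mem, fun β hβ => ?_⟩
  have hiso := iso_imgAut F hβ hRS
  have hcen' : F.IsCentric (imgAut β R) := isCentric_of_conj hcen (isConj_iff.2 ⟨_, hiso⟩)
  let Ψ : F.autGroup R →* F.autGroup (imgAut β R) :=
    ((MulAut.congr hiso.equiv).toMonoidHom.comp (F.autGroup R).subtype).codRestrict _
      (fun a => congr_mem_autGroup hiso a.2)
  have hΨn : Ψ n ∈ opp p (F.autGroup (imgAut β R)) := opp_map_le p Ψ ⟨n, hn, rfl⟩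
  have hE' : ((Ψ n : F.autGroup (imgAut β R)) : MulAut (imgAut β R)) ∈ E.autGroup (imgAut β R) :=
    h _ hcen' ⟨Ψ n, hΨn, rfl⟩
  rw [mem_autGroup_iff (imgAut_le β R)] at hE'
  refine hE'.congr (fun y hy => ?_)
  have hx := extAut_inv_mem_of_mem_imgAut hRS hy
  rw [extAut_mem _ hy]
  show ((hiso.equiv ((n : MulAut R) (hiso.equiv.symm ⟨y, hy⟩)) : imgAut β R) : Ω) = _
  rw [hiso.equiv_apply]
  have h1 : ((hiso.equiv.symm ⟨y, hy⟩ : R) : Ω) = extAut β⁻¹ y :=
    hiso.equiv_symm_apply (fun x hx => extAut_inv_left β (hRS hx)) ⟨y, hy⟩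
  have h2 : extAut (n : MulAut R) (extAut β⁻¹ y) ∈ S := hRS (extAut_mem_self _ hx)
  simp only [inv_one]
  rw [extAut_one h2, extAut_mem _ hx]
  congr 3
  exact Subtype.ext h1

/-- Automorphisms normalizing `Aut_S(R)` factor, using the induction hypothesis. -/
theorem factorsE_of_normalizes (E F : FusionSystem S) [Finite S] {p : ℕ} [Fact p.Prime]
    (hS : IsPGroup p S) (hF : F.IsSaturated p) {R : Subgroup Ω} (hfn : F.IsFullyNormalized R)
    (IH : ∀ (P' : Subgroup Ω) (f' : Ω → Ω), Mor F P' f' → Nat.card R < Nat.card P' →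
      FactorsE E F P' f')
    (m : MulAut R) (hm : m ∈ F.autGroup R)
    (hnorm : ∀ τ ∈ autInducedBy S R, m * τ * m⁻¹ ∈ autInducedBy S R) :
    FactorsE E F R (extAut m) := by
  have hRS : R ≤ S := hfn.1
  have hiso : Iso F R R (extAut m) := iso_of_mor_extAut ((mem_autGroup_iff hRS).mp hm)
  have hrec := receptive_of_fullyNormalized hS hF hfn
  obtain ⟨g, hg, eg⟩ := (isReceptive_iff.1 hrec).2 R _ hiso
  have hN : normalizerIn S R ≤ hiso.ext := by
    intro n hn
    refine ⟨hn.1, hn.2, ?_⟩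
    have hτ := hnorm _ (conjAut_mem_autInducedBy hn.1 hn.2)
    obtain ⟨k, hk, ek⟩ := Helper87.mem_autInducedBy_iff.1 hτ
    refine ⟨k, hk, fun x hx => ?_⟩
    have hx' : n * x * n⁻¹ ∈ R := (Subgroup.mem_normalizer_iff.1 hn.2 x).1 hx
    have h1 := ek (m ⟨x, hx⟩)
    rw [extAut_mem m hx', extAut_mem m hx, ← h1]
    show _ = ((m (conjAut R n hn.2 (m⁻¹ (m ⟨x, hx⟩))) : R) : Ω)
    rw [MulAut.inv_apply_self]
    rfl
  by_cases hRS' : R = S
  · subst hRS'
    refine ⟨le_rfl, m, hm, fun β hβ => ?_⟩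
    refine (Mor.id (F := E) (imgAut_le β R)).congr (fun y hy => ?_)
    have hyS : y ∈ R := imgAut_le β R hy
    have h1 : extAut β⁻¹ y ∈ R := extAut_mem_self _ hyS
    simp only
    rw [extAut_inv_left m h1, extAut_inv_right β hyS]
  · obtain ⟨n, hn, hnR⟩ := exists_normalizer_not_mem hS hRS hRS'
    have hlt : Nat.card R < Nat.card (normalizerIn S R) :=
      card_lt_of_not_mem (le_normalizerIn hRS) inf_le_left hn hnR
    have h1 := IH _ g (hg.restrict hN) hlt
    have h2 := (factorsE_alperinClosed E F).restrict (hg.restrict hN) h1 (le_normalizerIn hRS)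
    exact (factorsE_alperinClosed E F).congr h2 eg

open scoped Pointwise in
/-- All automorphisms of a fully normalized centric subgroup factor (Frattini argument). -/
theorem factorsE_aut (E F : FusionSystem S) [Finite S] {p : ℕ} [Fact p.Prime]
    (hS : IsPGroup p S) (hF : F.IsSaturated p)
    (h : ∀ P : Subgroup Ω, F.IsCentric P →
      (opp p (F.autGroup P)).map (F.autGroup P).subtype ≤ E.autGroup P)
    {R : Subgroup Ω} (hfn : F.IsFullyNormalized R) (hcen : F.IsCentric R)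
    (IH : ∀ (P' : Subgroup Ω) (f' : Ω → Ω), Mor F P' f' → Nat.card R < Nat.card P' →
      FactorsE E F P' f')
    (α : MulAut R) (hα : α ∈ F.autGroup R) : FactorsE E F R (extAut α) := by
  have hRS : R ≤ S := hfn.1
  have hfinR : Finite R := Helper87.finite_of_le hRS
  obtain ⟨-, Rsyl, hR⟩ := fullyAutomized_of_fullyNormalized hS hF hfn
  have hRN : (Rsyl : Subgroup (F.autGroup R)) ≤ opp p (F.autGroup R) :=
    le_opp_of_isPGroup Rsyl.isPGroup'
  have htop := Sylow.normalizer_sup_eq_top' Rsyl hRN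
  have hmem : (⟨α, hα⟩ : F.autGroup R) ∈
      (Subgroup.normalizer (Rsyl : Set (F.autGroup R)) ⊔ opp p (F.autGroup R)) := by
    rw [htop]; trivial
  rw [← SetLike.mem_coe, Subgroup.mul_normal] at hmem
  obtain ⟨m, hm, n, hn, hmn⟩ := Set.mem_mul.mp hmem
  have C1 := factorsE_of_mem_opp E F p h hcen n hn
  have hnorm : ∀ τ ∈ autInducedBy S R,
      (m : MulAut R) * τ * (m : MulAut R)⁻¹ ∈ autInducedBy S R := by
    intro τ hτ
    have hτA : τ ∈ F.autGroup R := Helper87.autInducedBy_le_autGroup F hRS hτ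
    have h1 : (⟨τ, hτA⟩ : F.autGroup R) ∈ (Rsyl : Subgroup (F.autGroup R)) := by
      rw [hR, Subgroup.mem_subgroupOf]; exact hτ
    have h2 := (Subgroup.mem_normalizer_iff.mp hm ⟨τ, hτA⟩).mp h1
    rw [hR, Subgroup.mem_subgroupOf] at h2
    exact h2
  have C2 := factorsE_of_normalizes E F hS hF hfn IH (m : MulAut R) m.2 hnorm
  have hMn : Mor F R (extAut (n : MulAut R)) := (mem_autGroup_iff hRS).mp n.2
  have hMm : Mor F R (extAut (m : MulAut R)) := (mem_autGroup_iff hRS).mp m.2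
  have C3 := (factorsE_alperinClosed E F).comp hMn hMm (fun x hx => extAut_mem_self _ hx) C1 C2
  refine (factorsE_alperinClosed E F).congr C3 (fun x hx => ?_)
  have : α = (m : MulAut R) * (n : MulAut R) := by
    have := congrArg Subtype.val hmn
    exact this.symm
  rw [this, extAut_mul _ _ hx]

/-- Every map of `F` factors as a map of `E` followed by an automorphism of `S`. -/
theorem factorsE_all (E F : FusionSystem S) [Finite S] {p : ℕ} [Fact p.Prime]
    (hS : IsPGroup p S) (hF : F.IsSaturated p)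
    (h : ∀ P : Subgroup Ω, F.IsCentric P →
      (opp p (F.autGroup P)).map (F.autGroup P).subtype ≤ E.autGroup P) :
    ∀ (P : Subgroup Ω) (f : Ω → Ω), Mor F P f → FactorsE E F P f :=
  alperin_strong hS hF _ (factorsE_alperinClosed E F)
    (fun _ hfn hcen _ IH α hα => factorsE_aut E F hS hF h hfn hcen IH α hα)

theorem imgAut_one {P : Subgroup Ω} (hP : P ≤ S) : imgAut (1 : MulAut S) P = P := by
  ext y
  rw [mem_imgAut hP]
  constructor
  · rintro ⟨x, hx, rfl⟩
    rw [extAut_one (hP hx)]; exact hx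
  · intro hy
    exact ⟨y, hy, extAut_one (hP hy)⟩

/-- The factorization, in usable form. -/
theorem exists_factor (E F : FusionSystem S) [Finite S] {p : ℕ} [Fact p.Prime]
    (hS : IsPGroup p S) (hF : F.IsSaturated p)
    (h : ∀ P : Subgroup Ω, F.IsCentric P →
      (opp p (F.autGroup P)).map (F.autGroup P).subtype ≤ E.autGroup P)
    {P : Subgroup Ω} {f : Ω → Ω} (hf : Mor F P f) :
    ∃ α ∈ F.autGroup S, Mor E P (fun x => extAut α⁻¹ (f x)) := by
  obtain ⟨hPS, α, hα, hinv⟩ := factorsE_all E F hS hF h P f hf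
  refine ⟨α, hα, ?_⟩
  have h1 := hinv 1 (F.autGroup S).one_mem
  rw [imgAut_one hPS] at h1
  refine h1.congr (fun x hx => ?_)
  have hfx : f x ∈ S := hf.mem hx
  simp only [inv_one]
  rw [extAut_one (hPS hx), extAut_one (extAut_mem_self _ hfx)]

theorem mor_of_subsystem {E F : FusionSystem S} (hEF : E.IsSubsystemOf F) {P : Subgroup Ω}
    {f : Ω → Ω} (hf : Mor E P f) : Mor F P f := by
  obtain ⟨φ, hφ, e⟩ := hf
  exact ⟨φ, hEF P hφ, e⟩

/-- An element of `p`-power order of `Aut_F(P)` becomes conjugation by an element of `S` after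
moving `P` by a suitable isomorphism of `F`. -/
theorem exists_iso_conj_of_pPower (F : FusionSystem S) [Finite S] {p : ℕ} [hp : Fact p.Prime]
    (hS : IsPGroup p S) (hF : F.IsSaturated p) {P : Subgroup Ω} (hPS : P ≤ S)
    (a : F.autGroup P) {k : ℕ} (hk : orderOf a = p ^ k) :
    ∃ (P' : Subgroup Ω) (ψ : Ω → Ω) (s : Ω), Iso F P P' ψ ∧ s ∈ S ∧
      ∀ x ∈ P, ψ (extAut (a : MulAut P) x) = s * ψ x * s⁻¹ := by
  obtain ⟨P', hconj, hfn⟩ := Helper87.exists_fullyNormalized_conj F hPS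
  obtain ⟨f, hf⟩ := isConj_iff.1 hconj
  have hP'S : P' ≤ S := hf.le_right
  have hfinP' : Finite P' := Helper87.finite_of_le hP'S
  obtain ⟨-, Rsyl, hR⟩ := fullyAutomized_of_fullyNormalized hS hF hfn
  set a' : F.autGroup P' := ⟨MulAut.congr hf.equiv (a : MulAut P), congr_mem_autGroup hf a.2⟩
    with ha'
  have hord : orderOf a' = p ^ k := by
    rw [← hk, ha', Subgroup.orderOf_mk, ← Subgroup.orderOf_coe a]
    exact MulEquiv.orderOf_eq (MulAut.congr hf.equiv) _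
  have hpz : IsPGroup p (Subgroup.zpowers a') := by
    apply IsPGroup.of_card (n := k)
    rw [Nat.card_zpowers, hord]
  obtain ⟨Q, hQ⟩ := hpz.exists_le_sylow
  obtain ⟨g, rfl⟩ := MulAction.exists_smul_eq (F.autGroup P') Rsyl Q
  have h1 : a' ∈ ((g • Rsyl : Sylow p (F.autGroup P')) : Subgroup (F.autGroup P')) :=
    hQ (Subgroup.mem_zpowers a')
  rw [Sylow.coe_subgroup_smul, Subgroup.mem_pointwise_smul_iff_inv_smul_mem, hR,
    Subgroup.mem_subgroupOf] at h1
  obtain ⟨s, hs, es⟩ := Helper87.mem_autInducedBy_iff.1 h1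
  have hg' : ((g⁻¹ : F.autGroup P') : MulAut P') ∈ F.autGroup P' := (g⁻¹).2
  have hgi : Iso F P' P' (extAut ((g⁻¹ : F.autGroup P') : MulAut P')) :=
    iso_of_mor_extAut ((mem_autGroup_iff hP'S).mp hg')
  refine ⟨P', fun x => extAut ((g⁻¹ : F.autGroup P') : MulAut P') (f x), s, hf.comp hgi, hs, ?_⟩
  intro x hx
  have hax : extAut (a : MulAut P) x ∈ P := extAut_mem_self _ hx
  have hfx : f x ∈ P' := hf.map_mem hx
  have e1 := es (((g⁻¹ : F.autGroup P') : MulAut P') ⟨f x, hfx⟩)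
  simp only
  rw [extAut_mem _ hfx, ← e1, extAut_mem _ (hf.map_mem hax)]
  congr 1
  show _ = ((MulAut.conj g⁻¹ a' : F.autGroup P') : MulAut P')
    (((g⁻¹ : F.autGroup P') : MulAut P') ⟨f x, hfx⟩)
  have h2 : ((MulAut.conj g⁻¹ a' : F.autGroup P') : MulAut P') =
      ((g⁻¹ : F.autGroup P') : MulAut P') * (a' : MulAut P') *
        ((g⁻¹ : F.autGroup P') : MulAut P')⁻¹ := by
    simp
  rw [h2, MulAut.mul_apply, MulAut.mul_apply, MulAut.inv_apply_self]
  congr 1
  show _ = hf.equiv ((a : MulAut P) (hf.equiv.symm ⟨f x, hfx⟩))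
  apply Subtype.ext
  rw [hf.equiv_apply]
  have h3 : hf.equiv.symm ⟨f x, hfx⟩ = ⟨x, hx⟩ := by
    rw [MulEquiv.symm_apply_eq]
    exact Subtype.ext (hf.equiv_apply ⟨x, hx⟩).symm
  rw [h3]
  show f (extAut (a : MulAut P) x) = f ((a : MulAut P) ⟨x, hx⟩ : P)
  rw [extAut_mem _ hx]

/-- `Aut_E(P)` contains the elements of `p`-power order of `Aut_F(P)`, for every `P ≤ S`. -/
theorem pPower_mem_autGroup (E F : FusionSystem S) [Finite S] {p : ℕ} [Fact p.Prime]
    (hS : IsPGroup p S) (hF : F.IsSaturated p)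
    (h : ∀ P : Subgroup Ω, F.IsCentric P →
      (opp p (F.autGroup P)).map (F.autGroup P).subtype ≤ E.autGroup P)
    {P : Subgroup Ω} (hPS : P ≤ S) (a : F.autGroup P) {k : ℕ} (hk : orderOf a = p ^ k) :
    (a : MulAut P) ∈ E.autGroup P := by
  obtain ⟨P', ψ, s, hψ, hs, eψ⟩ := exists_iso_conj_of_pPower F hS hF hPS a hk
  obtain ⟨α, hα, hψ₀⟩ := exists_factor E F hS hF h hψ.1
  have hMα : Mor F S (extAut α⁻¹) := (mem_autGroup_iff le_rfl).mp ((F.autGroup S).inv_mem hα)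
  -- ψ₀ is an isomorphism of E onto its image
  have hiso₀ := Iso.of_mor hψ₀
  set P₀ := hψ₀.image with hP₀
  obtain ⟨ψ₀', hψ₀', e1, e2⟩ := hiso₀.symm
  set t := extAut α⁻¹ s with ht
  have htS : t ∈ S := extAut_mem_self _ hs
  have hP₀S : P₀ ≤ S := hψ₀.image_le
  have hct : Mor E P₀ (fun y => t * y * t⁻¹) := Mor.conj hP₀S htS
  have hkey : ∀ x ∈ P, t * extAut α⁻¹ (ψ x) * t⁻¹ = extAut α⁻¹ (ψ (extAut (a : MulAut P) x)) := by
    intro x hx
    have hψx : ψ x ∈ S := hψ.1.mem hx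
    rw [eψ x hx, ht, hMα.map_mul (S.mul_mem hs hψx) (S.inv_mem hs), hMα.map_mul hs hψx,
      hMα.map_inv hs]
  have hmaps : ∀ y ∈ P₀, (fun y => t * y * t⁻¹) y ∈ P₀ := by
    rintro _ ⟨x, hx, rfl⟩
    simp only
    rw [hkey x hx]
    exact ⟨_, extAut_mem_self _ hx, rfl⟩
  have hcomp := (hψ₀.comp hct (fun x hx => hiso₀.map_mem hx)).comp hψ₀'.1
    (fun x hx => hmaps _ (hiso₀.map_mem hx))
  rw [mem_autGroup_iff hPS]
  refine hcomp.congr (fun x hx => ?_)
  show ψ₀' (t * extAut α⁻¹ (ψ x) * t⁻¹) = extAut (a : MulAut P) x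
  rw [hkey x hx]
  exact e1 _ (extAut_mem_self _ hx)

theorem isConj_of_subsystem {E F : FusionSystem S} (hEF : E.IsSubsystemOf F) {P Q : Subgroup Ω}
    (h : E.IsConj P Q) : F.IsConj P Q := by
  obtain ⟨φ, hφ, hr⟩ := h
  exact ⟨φ, hEF P hφ, hr⟩

theorem centric_iff (E F : FusionSystem S) [Finite S] {p : ℕ} [Fact p.Prime]
    (hS : IsPGroup p S) (hF : F.IsSaturated p) (hEF : E.IsSubsystemOf F)
    (h : ∀ P : Subgroup Ω, F.IsCentric P →
      (opp p (F.autGroup P)).map (F.autGroup P).subtype ≤ E.autGroup P)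
    (P : Subgroup Ω) : E.IsCentric P ↔ F.IsCentric P := by
  constructor
  · rintro ⟨hPS, hc⟩
    refine ⟨hPS, fun Q hQ => ?_⟩
    obtain ⟨f, hf⟩ := isConj_iff.1 hQ
    obtain ⟨α, hα, hf₀⟩ := exists_factor E F hS hF h hf.1
    have hMα : Mor F S (extAut α⁻¹) := (mem_autGroup_iff le_rfl).mp ((F.autGroup S).inv_mem hα)
    have hc₀ := hc hf₀.image (isConj_iff.2 ⟨_, Iso.of_mor hf₀⟩)
    intro c hc'
    have hcS : c ∈ S := hc'.1
    have hcc : c ∈ Subgroup.centralizer (Q : Set Ω) := hc'.2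
    have h1 : extAut α⁻¹ c ∈ centralizerIn S hf₀.image := by
      refine Subgroup.mem_inf.mpr ⟨extAut_mem_self _ hcS, ?_⟩
      rw [Subgroup.mem_centralizer_iff]
      rintro _ ⟨x, hx, rfl⟩
      simp only
      have hfx : f x ∈ S := hf.1.mem hx
      rw [← hMα.map_mul hfx hcS, ← hMα.map_mul hcS hfx, hcc _ (hf.map_mem hx)]
    obtain ⟨x, hx, ex⟩ := hc₀ h1
    simp only at ex
    have h2 : f x = c := hMα.inj (hf.1.mem hx) hcS ex
    rw [← h2]
    exact hf.map_mem hx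
  · rintro ⟨hPS, hc⟩
    exact ⟨hPS, fun Q hQ => hc Q (isConj_of_subsystem hEF hQ)⟩

end Cfsg.Agent.Helper84
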