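import Mathlib
import Cfsg.Prelude.Def_FusionSystem
import Cfsg.Agent.Lib.Helper84.FusO
import Cfsg.Agent.Lib.Helper84.FusPrime

/-!
# The category `O^{p'}_*(F)` generated by the automorphisms of `p`-power order
(Broto–Castellana–Grodal–Levi–Oliver, "Extensions of p-local finite groups", Section 5)
-/

set_option autoImplicit false

namespace Cfsg.Agent.Helper84

open Cfsg Cfsg.FusionSystem
open Cfsg.Agent.Helper87 (Mor Iso extFun extAut)

variable {Ω : Type*} [Group Ω] {S : Subgroup Ω}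

/-- an automorphism of `R` of `p`-power order in the system, as a function -/
def PPGen (F : FusionSystem S) (p : ℕ) (R : Subgroup Ω) (f : Ω → Ω) : Prop :=
  Iso F R R f ∧ ∃ k : ℕ, ∀ x ∈ R, f^[p ^ k] x = x

/-- the maps of `O^{p'}_*(F)` -/
inductive PMor (F : FusionSystem S) (p : ℕ) : Subgroup Ω → (Ω → Ω) → Prop
  | base {R : Subgroup Ω} {f : Ω → Ω} : PPGen F p R f → PMor F p R f
  | restr {P Q : Subgroup Ω} {f : Ω → Ω} : PMor F p P f → Q ≤ P → PMor F p Q f
  | comp {P Q : Subgroup Ω} {f g : Ω → Ω} : PMor F p P f → PMor F p Q g → (∀ x ∈ P, f x ∈ Q) →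
      PMor F p P (fun x => g (f x))
  | congr {P : Subgroup Ω} {f f' : Ω → Ω} : PMor F p P f → (∀ x ∈ P, f x = f' x) → PMor F p P f'

theorem ppgen_id (F : FusionSystem S) (p : ℕ) {R : Subgroup Ω} (hR : R ≤ S) :
    PPGen F p R (fun x => x) :=
  ⟨Iso.refl hR, 0, fun _ _ => rfl⟩

theorem PMor.mor {F : FusionSystem S} {p : ℕ} {P : Subgroup Ω} {f : Ω → Ω} (h : PMor F p P f) :
    Mor F P f := by
  induction h with
  | base h => exact h.1.1
  | restr _ hQP ih => exact ih.restrict hQP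
  | comp _ _ hfg ih1 ih2 => exact ih1.comp ih2 hfg
  | congr _ hff ih => exact ih.congr hff

theorem PMor.id (F : FusionSystem S) (p : ℕ) {R : Subgroup Ω} (hR : R ≤ S) :
    PMor F p R (fun x => x) := PMor.base (ppgen_id F p hR)

theorem PMor.iterate {F : FusionSystem S} {p : ℕ} {R : Subgroup Ω} {f : Ω → Ω}
    (h : PMor F p R f) (hf : Iso F R R f) (k : ℕ) : PMor F p R (f^[k]) := by
  induction k with
  | zero => exact PMor.id F p hf.le_left
  | succ k ih =>
    refine (PMor.comp h ih (fun x hx => hf.map_mem hx)).congr (fun x _ => ?_)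
    rw [Function.iterate_succ_apply]

/-- conjugation by an element of `S` on a subgroup of `S` is a map of `O^{p'}_*(F)` -/
theorem PMor.conj [Finite S] (F : FusionSystem S) {p : ℕ} [Fact p.Prime] (hS : IsPGroup p S)
    {P : Subgroup Ω} (hP : P ≤ S) {g : Ω} (hg : g ∈ S) : PMor F p P (fun x => g * x * g⁻¹) := by
  have hiso : Iso F S S (fun x => g * x * g⁻¹) := by
    apply Helper87.iso_of_card_le (Mor.conj le_rfl hg) le_rfl _ le_rfl
    intro x hx
    exact S.mul_mem (S.mul_mem hg hx) (S.inv_mem hg)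
  obtain ⟨k, hk⟩ := hS ⟨g, hg⟩
  have hgk : g ^ (p ^ k) = 1 := by
    have := congrArg Subtype.val hk
    simpa using this
  have hiter : ∀ (j : ℕ) (x : Ω), (fun x => g * x * g⁻¹)^[j] x = g ^ j * x * (g ^ j)⁻¹ := by
    intro j
    induction j with
    | zero => intro x; simp
    | succ j ih =>
      intro x
      rw [Function.iterate_succ_apply, ih, pow_succ]
      group
  refine (PMor.base ⟨hiso, k, fun x _ => ?_⟩).restr hP
  rw [hiter, hgk]
  simp

/-! ### Inverses -/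

theorem PMor.symm {F : FusionSystem S} {p : ℕ} [Fact p.Prime] {P : Subgroup Ω} {f : Ω → Ω}
    (h : PMor F p P f) :
    ∀ P' : Subgroup Ω, Iso F P P' f → ∃ g, PMor F p P' g ∧ ∀ x ∈ P, g (f x) = x := by
  induction h with
  | @base R f h =>
    intro P' hP'
    obtain ⟨hf, k, hfk⟩ := h
    have hRP' : R = P' := hf.eq_of_iso hP'
    subst hRP'
    have hk0 : 0 < p ^ k := pow_pos (Fact.out : p.Prime).pos k
    refine ⟨f^[p ^ k - 1], (PMor.base ⟨hf, k, hfk⟩).iterate hf _, fun x hx => ?_⟩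
    rw [← Function.iterate_succ_apply, Nat.succ_eq_add_one, Nat.sub_add_cancel hk0]
    exact hfk x hx
  | @restr P Q f hPf hQP ih =>
    intro Q' hQ'
    obtain ⟨g, hg, hgf⟩ := ih _ (Iso.of_mor hPf.mor)
    refine ⟨g, PMor.restr hg ?_, fun x hx => hgf x (hQP hx)⟩
    intro y hy
    obtain ⟨x, hx, rfl⟩ := hQ'.surj hy
    exact ⟨x, hQP hx, rfl⟩
  | @comp P Q f g hPf hQg hfg ih1 ih2 =>
    intro P' hP'
    obtain ⟨g₁, hg₁, hg₁f⟩ := ih1 _ (Iso.of_mor hPf.mor)
    obtain ⟨g₂, hg₂, hg₂g⟩ := ih2 _ (Iso.of_mor hQg.mor)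
    have hP'Q : P' ≤ hQg.mor.image := by
      intro y hy
      obtain ⟨x, hx, rfl⟩ := hP'.surj hy
      exact ⟨f x, hfg x hx, rfl⟩
    refine ⟨fun y => g₁ (g₂ y), PMor.comp (PMor.restr hg₂ hP'Q) hg₁ ?_, fun x hx => ?_⟩
    · intro y hy
      obtain ⟨x, hx, rfl⟩ := hP'.surj hy
      show g₂ (g (f x)) ∈ _
      rw [hg₂g _ (hfg x hx)]
      exact ⟨x, hx, rfl⟩
    · show g₁ (g₂ (g (f x))) = x
      rw [hg₂g _ (hfg x hx), hg₁f x hx]
  | @congr P f f' _ hff ih =>
    intro P' hP'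
    obtain ⟨g, hg, hgf⟩ := ih P' (hP'.congr (fun x hx => (hff x hx).symm))
    exact ⟨g, hg, fun x hx => by rw [← hff x hx]; exact hgf x hx⟩

/-! ### Invariance under the automorphisms of `S` in the system -/

theorem mem_imgAut_inv {α : MulAut S} {R : Subgroup Ω} (hR : R ≤ S) {x : Ω} :
    x ∈ imgAut α⁻¹ R ↔ x ∈ S ∧ extAut α x ∈ R := by
  rw [mem_imgAut hR]
  constructor
  · rintro ⟨y, hy, rfl⟩
    refine ⟨Helper87.extAut_mem_self _ (hR hy), ?_⟩
    rw [Helper87.extAut_inv_right α (hR hy)]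
    exact hy
  · rintro ⟨hx, hαx⟩
    exact ⟨extAut α x, hαx, Helper87.extAut_inv_left α hx⟩

theorem ppgen_conjAut [Finite S] {F : FusionSystem S} {p : ℕ} {R : Subgroup Ω} {f : Ω → Ω}
    (h : PPGen F p R f) {α : MulAut S} (hα : α ∈ F.autGroup S) :
    PPGen F p (imgAut α⁻¹ R) (fun x => extAut α⁻¹ (f (extAut α x))) := by
  obtain ⟨hf, k, hfk⟩ := h
  have hR : R ≤ S := hf.le_left
  have hαi : α⁻¹ ∈ F.autGroup S := Subgroup.inv_mem _ hα
  have h1 : Iso F R (imgAut α⁻¹ R) (extAut α⁻¹) := iso_imgAut F hαi hR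
  have hR' : imgAut α⁻¹ R ≤ S := imgAut_le _ _
  have hmα : Mor F (imgAut α⁻¹ R) (extAut α) :=
    ((Helper87.mem_autGroup_iff le_rfl).mp hα).restrict hR'
  have h0 : Iso F (imgAut α⁻¹ R) R (extAut α) := by
    refine ⟨hmα, fun y => ⟨fun hy => ?_, ?_⟩⟩
    · exact ⟨extAut α⁻¹ y, h1.map_mem hy, Helper87.extAut_inv_right α (hR hy)⟩
    · rintro ⟨x, hx, rfl⟩
      exact ((mem_imgAut_inv hR).mp hx).2
  refine ⟨(h0.comp hf).comp h1, k, fun x hx => ?_⟩
  have key : ∀ j : ℕ, ∀ x ∈ imgAut α⁻¹ R, (fun x => extAut α⁻¹ (f (extAut α x)))^[j] x =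
      extAut α⁻¹ (f^[j] (extAut α x)) := by
    intro j
    induction j with
    | zero =>
      intro x hx
      exact (Helper87.extAut_inv_left α (hR' hx)).symm
    | succ j ih =>
      intro x hx
      have hx' : extAut α⁻¹ (f (extAut α x)) ∈ imgAut α⁻¹ R :=
        h1.map_mem (hf.map_mem (h0.map_mem hx))
      rw [Function.iterate_succ_apply, ih _ hx',
        Helper87.extAut_inv_right α (hR (hf.map_mem (h0.map_mem hx))),
        Function.iterate_succ_apply]
  rw [key _ x hx, hfk _ (h0.map_mem hx), Helper87.extAut_inv_left α (hR' hx)]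

/-- pull-back of a map of `O^{p'}_*(F)` along an automorphism of `S` in the system -/
theorem PMor.conjAut [Finite S] {F : FusionSystem S} {p : ℕ} {Q : Subgroup Ω} {f : Ω → Ω}
    (h : PMor F p Q f) {α : MulAut S} (hα : α ∈ F.autGroup S) :
    ∀ P₁ : Subgroup Ω, P₁ ≤ S → (∀ x ∈ P₁, extAut α x ∈ Q) →
      PMor F p P₁ (fun x => extAut α⁻¹ (f (extAut α x))) := by
  induction h with
  | @base R f h =>
    intro P₁ hP₁S hP₁
    exact PMor.restr (PMor.base (ppgen_conjAut h hα))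
      (fun x hx => (mem_imgAut_inv h.1.le_left).mpr ⟨hP₁S hx, hP₁ x hx⟩)
  | restr _ hQP ih =>
    intro P₁ hP₁S hP₁
    exact ih P₁ hP₁S (fun x hx => hQP (hP₁ x hx))
  | @comp P Q f g hPf hQg hfg ih1 ih2 =>
    intro P₁ hP₁S hP₁
    have hQS : Q ≤ S := hQg.mor.le
    have h1 := ih1 P₁ hP₁S hP₁
    have h2 := ih2 (imgAut α⁻¹ Q) (imgAut_le _ _) (fun x hx => ((mem_imgAut_inv hQS).mp hx).2)
    refine (PMor.comp h1 h2 (fun x hx => ?_)).congr (fun x hx => ?_)
    · rw [mem_imgAut_inv hQS]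
      have hfx : f (extAut α x) ∈ Q := hfg _ (hP₁ x hx)
      refine ⟨Helper87.extAut_mem_self _ (hQS hfx), ?_⟩
      rw [Helper87.extAut_inv_right α (hQS hfx)]
      exact hfx
    · show extAut α⁻¹ (g (extAut α (extAut α⁻¹ (f (extAut α x))))) = _
      rw [Helper87.extAut_inv_right α (hQS (hfg _ (hP₁ x hx)))]
  | congr _ hff ih =>
    intro P₁ hP₁S hP₁
    exact (ih P₁ hP₁S hP₁).congr (fun x hx => by
      show extAut α⁻¹ _ = extAut α⁻¹ _
      rw [hff _ (hP₁ x hx)])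

/-! ### Elements of `O^{p'}(Aut_F(R))` -/

theorem ppgen_of_pPower {F : FusionSystem S} {p : ℕ} {R : Subgroup Ω} (hR : R ≤ S)
    {α : MulAut R} (hα : α ∈ F.autGroup R) {k : ℕ} (hk : orderOf α = p ^ k) :
    PPGen F p R (extAut α) := by
  refine ⟨Helper87.iso_of_mor_extAut ((Helper87.mem_autGroup_iff hR).mp hα), k, fun x hx => ?_⟩
  rw [extAut_iterate α _ hx, ← hk, pow_orderOf_eq_one]
  rfl

theorem pmor_of_mem_opp {F : FusionSystem S} {p : ℕ} {R : Subgroup Ω} (hR : R ≤ S)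
    {b : F.autGroup R} (hb : b ∈ opp p (F.autGroup R)) :
    PMor F p R (extAut (b : MulAut R)) := by
  suffices h : PMor F p R (extAut (b : MulAut R)) ∧
      PMor F p R (extAut ((b⁻¹ : F.autGroup R) : MulAut R)) from h.1
  unfold opp at hb
  induction hb using Subgroup.closure_induction with
  | mem c hc =>
    obtain ⟨k, hk⟩ := hc
    have hc' : orderOf (c : MulAut R) = p ^ k := by
      rw [Subgroup.orderOf_coe]; exact hk
    refine ⟨PMor.base (ppgen_of_pPower hR c.2 hc'), PMor.base (ppgen_of_pPower hR (c⁻¹).2 (k := k) ?_)⟩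
    rw [Subgroup.orderOf_coe, orderOf_inv]
    exact hk
  | one =>
    have h1 : PMor F p R (extAut ((1 : F.autGroup R) : MulAut R)) :=
      (PMor.id F p hR).congr (fun x hx => (Helper87.extAut_one hx).symm)
    refine ⟨h1, ?_⟩
    rw [inv_one]
    exact h1
  | mul a c _ _ iha ihc =>
    have hmem : ∀ (γ : MulAut R), ∀ x ∈ R, extAut γ x ∈ R := fun γ x hx =>
      Helper87.extAut_mem_self γ hx
    constructor
    · refine (PMor.comp ihc.1 iha.1 (hmem _)).congr (fun x hx => ?_)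
      show extAut (a : MulAut R) (extAut (c : MulAut R) x) =
        extAut ((a * c : F.autGroup R) : MulAut R) x
      rw [Subgroup.coe_mul, Helper87.extAut_mul _ _ hx]
    · refine (PMor.comp iha.2 ihc.2 (hmem _)).congr (fun x hx => ?_)
      show extAut ((c⁻¹ : F.autGroup R) : MulAut R) (extAut ((a⁻¹ : F.autGroup R) : MulAut R) x) =
        extAut (((a * c)⁻¹ : F.autGroup R) : MulAut R) x
      rw [mul_inv_rev, Subgroup.coe_mul, Helper87.extAut_mul _ _ hx]
  | inv a _ iha =>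
    refine ⟨iha.2, ?_⟩
    rw [inv_inv]
    exact iha.1

end Cfsg.Agent.Helper84
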