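import Mathlib
import Cfsg.Prelude.Def_FusionSystem
import Cfsg.Agent.Lib.Helper84.FusP1

/-!
# The subsystem `⟨O^{p'}_*(F), Aut⁰_F(S)⟩`
-/

set_option autoImplicit false

namespace Cfsg.Agent.Helper84

open Cfsg Cfsg.FusionSystem
open Cfsg.Agent.Helper87 (Mor Iso extFun extAut)

variable {Ω : Type*} [Group Ω] {S : Subgroup Ω}

/-- `O^{p'}_*(F)` as a fusion system over `S` -/
noncomputable def pSys (F : FusionSystem S) [Finite S] (p : ℕ) [Fact p.Prime]
    (hS : IsPGroup p S) : FusionSystem S where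
  Hom P := {φ | PMor F p P (extFun φ)}
  le_of_mem := by
    intro P φ h
    have h' : PMor F p P (extFun φ) := h
    refine ⟨h'.mor.le, fun x => ?_⟩
    have := h'.mor.mem x.2
    rwa [Helper87.extFun_apply] at this
  injective_of_mem := by
    intro P φ h a b hab
    have h' : PMor F p P (extFun φ) := h
    apply Subtype.ext
    apply h'.mor.inj a.2 b.2
    rw [Helper87.extFun_apply, Helper87.extFun_apply]
    exact hab
  conj_mem := by
    intro P g hP hg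
    refine (PMor.conj F hS hP hg).congr (fun x hx => ?_)
    rw [Helper87.extFun_mem _ hx]
    rfl
  comp_mem := by
    intro P Q φ ψ hφ hψ h
    have h1 : ∀ x ∈ P, extFun φ x ∈ Q := fun x hx => by
      rw [Helper87.extFun_mem φ hx]; exact h ⟨x, hx⟩
    refine (PMor.comp hφ hψ h1).congr (fun x hx => ?_)
    show extFun ψ (extFun φ x) = extFun (ψ.comp (φ.codRestrict Q h)) x
    rw [Helper87.extFun_mem (ψ.comp (φ.codRestrict Q h)) hx, Helper87.extFun_mem φ hx,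
      Helper87.extFun_mem ψ (h ⟨x, hx⟩)]
    rfl
  inv_mem := by
    intro P φ hφ
    have hφ' : PMor F p P (extFun φ) := hφ
    have hmor : Mor F P (extFun φ) := hφ'.mor
    have hiso : Iso F P φ.range (extFun φ) := by
      refine ⟨hmor, fun y => ⟨?_, ?_⟩⟩
      · rintro ⟨x, rfl⟩
        exact ⟨x, x.2, Helper87.extFun_apply φ x⟩
      · rintro ⟨x, hx, rfl⟩
        rw [Helper87.extFun_mem φ hx]
        exact ⟨⟨x, hx⟩, rfl⟩
    obtain ⟨g, hg, hgl⟩ := hφ'.symm _ hiso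
    obtain ⟨ψ, hψ, hψg⟩ := hg.mor
    refine ⟨ψ, hg.congr (fun y hy => ?_), fun x => ?_⟩
    · rw [Helper87.extFun_mem ψ hy, hψg ⟨y, hy⟩]
    · rw [hψg]
      have := hgl x x.2
      rw [Helper87.extFun_apply] at this
      exact this

theorem mor_pSys_iff [Finite S] {F : FusionSystem S} {p : ℕ} [Fact p.Prime] {hS : IsPGroup p S}
    {P : Subgroup Ω} {f : Ω → Ω} : Mor (pSys F p hS) P f ↔ PMor F p P f := by
  constructor
  · rintro ⟨φ, hφ, e⟩
    have hφ' : PMor F p P (extFun φ) := hφ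
    exact hφ'.congr (fun x hx => by rw [Helper87.extFun_mem φ hx, e ⟨x, hx⟩])
  · intro h
    obtain ⟨φ, hφ, e⟩ := h.mor
    refine ⟨φ, ?_, e⟩
    show PMor F p P (extFun φ)
    exact h.congr (fun x hx => by rw [Helper87.extFun_mem φ hx, e ⟨x, hx⟩])

theorem pSys_contains [Finite S] (F : FusionSystem S) (p : ℕ) [Fact p.Prime] (hS : IsPGroup p S)
    {P : Subgroup Ω} (hP : P ≤ S) :
    (opp p (F.autGroup P)).map (F.autGroup P).subtype ≤ (pSys F p hS).autGroup P := by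
  rintro _ ⟨b, hb, rfl⟩
  rw [Helper87.mem_autGroup_iff hP, mor_pSys_iff]
  exact pmor_of_mem_opp hP hb

/-- **Frattini factorization**: every map of a saturated system is a map of `O^{p'}_*(F)` followed
by an automorphism of `S` -/
theorem exists_pmor_factor [Finite S] {F : FusionSystem S} {p : ℕ} [Fact p.Prime]
    (hS : IsPGroup p S) (hF : F.IsSaturated p) {P : Subgroup Ω} {f : Ω → Ω} (hf : Mor F P f) :
    ∃ α ∈ F.autGroup S, ∃ f₀, PMor F p P f₀ ∧ ∀ x ∈ P, f x = extAut α (f₀ x) := by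
  obtain ⟨α, hα, h⟩ := exists_factor (pSys F p hS) F hS hF
    (fun P hP => pSys_contains F p hS hP.1) hf
  refine ⟨α, hα, _, mor_pSys_iff.mp h, fun x hx => ?_⟩
  exact (Helper87.extAut_inv_right α (hf.mem hx)).symm

/-- `Aut⁰_F(S)`: generated by the automorphisms of `S` restricting to a map of `O^{p'}_*(F)` on
some centric subgroup -/
def Aut0 (F : FusionSystem S) (p : ℕ) : Subgroup (MulAut S) :=
  Subgroup.closure {α | α ∈ F.autGroup S ∧ ∃ P, F.IsCentric P ∧ PMor F p P (extAut α)}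

theorem Aut0_le (F : FusionSystem S) (p : ℕ) : Aut0 F p ≤ F.autGroup S := by
  unfold Aut0
  rw [Subgroup.closure_le]
  rintro α ⟨hα, -⟩
  exact hα

theorem mem_Aut0 {F : FusionSystem S} {p : ℕ} {α : MulAut S} (hα : α ∈ F.autGroup S)
    {P : Subgroup Ω} (hP : F.IsCentric P) (h : PMor F p P (extAut α)) : α ∈ Aut0 F p :=
  Subgroup.subset_closure ⟨hα, P, hP, h⟩

/-- the maps of the subsystem: a map of `O^{p'}_*(F)` followed by an element of `Aut⁰_F(S)` -/
def E1Mor (F : FusionSystem S) (p : ℕ) (P : Subgroup Ω) (f : Ω → Ω) : Prop :=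
  ∃ α ∈ Aut0 F p, ∃ f₀, PMor F p P f₀ ∧ ∀ x ∈ P, f x = extAut α (f₀ x)

theorem E1Mor.of_pmor {F : FusionSystem S} {p : ℕ} {P : Subgroup Ω} {f : Ω → Ω}
    (h : PMor F p P f) : E1Mor F p P f :=
  ⟨1, Subgroup.one_mem _, f, h, fun _ hx => (Helper87.extAut_one (h.mor.mem hx)).symm⟩

theorem E1Mor.congr {F : FusionSystem S} {p : ℕ} {P : Subgroup Ω} {f f' : Ω → Ω}
    (h : E1Mor F p P f) (hff : ∀ x ∈ P, f x = f' x) : E1Mor F p P f' := by
  obtain ⟨α, hα, f₀, hf₀, e⟩ := h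
  exact ⟨α, hα, f₀, hf₀, fun x hx => (hff x hx).symm.trans (e x hx)⟩

theorem E1Mor.restrict {F : FusionSystem S} {p : ℕ} {P Q : Subgroup Ω} {f : Ω → Ω}
    (h : E1Mor F p P f) (hQP : Q ≤ P) : E1Mor F p Q f := by
  obtain ⟨α, hα, f₀, hf₀, e⟩ := h
  exact ⟨α, hα, f₀, hf₀.restr hQP, fun x hx => e x (hQP hx)⟩

theorem E1Mor.mor {F : FusionSystem S} {p : ℕ} {P : Subgroup Ω} {f : Ω → Ω}
    (h : E1Mor F p P f) : Mor F P f := by
  obtain ⟨α, hα, f₀, hf₀, e⟩ := h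
  have hα' : Mor F S (extAut α) := (Helper87.mem_autGroup_iff le_rfl).mp (Aut0_le F p hα)
  exact (hf₀.mor.comp hα' (fun x hx => hf₀.mor.mem hx)).congr (fun x hx => (e x hx).symm)

theorem E1Mor.of_aut {F : FusionSystem S} {p : ℕ} {α : MulAut S} (hα : α ∈ Aut0 F p)
    {P : Subgroup Ω} (hP : P ≤ S) : E1Mor F p P (extAut α) :=
  ⟨α, hα, fun x => x, PMor.id F p hP, fun _ _ => rfl⟩

theorem E1Mor.comp [Finite S] {F : FusionSystem S} {p : ℕ} {P Q : Subgroup Ω} {f g : Ω → Ω}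
    (h1 : E1Mor F p P f) (h2 : E1Mor F p Q g) (hfg : ∀ x ∈ P, f x ∈ Q) :
    E1Mor F p P (fun x => g (f x)) := by
  obtain ⟨α, hα, f₀, hf₀, e⟩ := h1
  obtain ⟨β, hβ, g₀, hg₀, e'⟩ := h2
  have hαF := Aut0_le F p hα
  have hconj := hg₀.conjAut hαF hf₀.mor.image hf₀.mor.image_le (by
    rintro _ ⟨x, hx, rfl⟩
    rw [← e x hx]
    exact hfg x hx)
  refine ⟨β * α, Subgroup.mul_mem _ hβ hα, _, PMor.comp hf₀ hconj (fun x hx => ⟨x, hx, rfl⟩),
    fun x hx => ?_⟩
  show g (f x) = extAut (β * α) (extAut α⁻¹ (g₀ (extAut α (f₀ x))))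
  have h1 : extAut α (f₀ x) ∈ Q := by rw [← e x hx]; exact hfg x hx
  have h2 : g₀ (extAut α (f₀ x)) ∈ S := hg₀.mor.mem h1
  rw [Helper87.extAut_mul _ _ (Helper87.extAut_mem_self _ h2), Helper87.extAut_inv_right α h2,
    ← e x hx, e' _ (hfg x hx)]

theorem E1Mor.symm [Finite S] {F : FusionSystem S} {p : ℕ} [Fact p.Prime] {P : Subgroup Ω}
    {f : Ω → Ω} (h : E1Mor F p P f) {Q : Subgroup Ω} (hQ : Iso F P Q f) :
    ∃ g, E1Mor F p Q g ∧ ∀ x ∈ P, g (f x) = x := by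
  obtain ⟨α, hα, f₀, hf₀, e⟩ := h
  have hαF := Aut0_le F p hα
  have hαiF : α⁻¹ ∈ F.autGroup S := Subgroup.inv_mem _ hαF
  obtain ⟨fi, hfi, hfil⟩ := hf₀.symm _ (Iso.of_mor hf₀.mor)
  have hQS : Q ≤ S := hQ.le_right
  have hconj := hfi.conjAut hαiF Q hQS (by
    intro y hy
    obtain ⟨x, hx, rfl⟩ := hQ.surj hy
    rw [e x hx, Helper87.extAut_inv_left α (hf₀.mor.mem hx)]
    exact ⟨x, hx, rfl⟩)
  rw [inv_inv] at hconj
  refine ⟨fun y => extAut α⁻¹ (extAut α (fi (extAut α⁻¹ y))),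
    ⟨α⁻¹, Subgroup.inv_mem _ hα, _, hconj, fun _ _ => rfl⟩, fun x hx => ?_⟩
  show extAut α⁻¹ (extAut α (fi (extAut α⁻¹ (f x)))) = x
  rw [e x hx, Helper87.extAut_inv_left α (hf₀.mor.mem hx), hfil x hx,
    Helper87.extAut_inv_left α (hQ.le_left hx)]

/-- the subsystem `O^{p'}(F)` -/
noncomputable def pSys1 (F : FusionSystem S) [Finite S] (p : ℕ) [Fact p.Prime]
    (hS : IsPGroup p S) : FusionSystem S where
  Hom P := {φ | E1Mor F p P (extFun φ)}
  le_of_mem := by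
    intro P φ h
    have h' : E1Mor F p P (extFun φ) := h
    refine ⟨h'.mor.le, fun x => ?_⟩
    have := h'.mor.mem x.2
    rwa [Helper87.extFun_apply] at this
  injective_of_mem := by
    intro P φ h a b hab
    have h' : E1Mor F p P (extFun φ) := h
    apply Subtype.ext
    apply h'.mor.inj a.2 b.2
    rw [Helper87.extFun_apply, Helper87.extFun_apply]
    exact hab
  conj_mem := by
    intro P g hP hg
    refine (E1Mor.of_pmor (PMor.conj F hS hP hg)).congr (fun x hx => ?_)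
    rw [Helper87.extFun_mem _ hx]
    rfl
  comp_mem := by
    intro P Q φ ψ hφ hψ h
    have h1 : ∀ x ∈ P, extFun φ x ∈ Q := fun x hx => by
      rw [Helper87.extFun_mem φ hx]; exact h ⟨x, hx⟩
    refine (E1Mor.comp hφ hψ h1).congr (fun x hx => ?_)
    show extFun ψ (extFun φ x) = extFun (ψ.comp (φ.codRestrict Q h)) x
    rw [Helper87.extFun_mem (ψ.comp (φ.codRestrict Q h)) hx, Helper87.extFun_mem φ hx,
      Helper87.extFun_mem ψ (h ⟨x, hx⟩)]
    rfl
  inv_mem := by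
    intro P φ hφ
    have hφ' : E1Mor F p P (extFun φ) := hφ
    have hmor : Mor F P (extFun φ) := hφ'.mor
    have hiso : Iso F P φ.range (extFun φ) := by
      refine ⟨hmor, fun y => ⟨?_, ?_⟩⟩
      · rintro ⟨x, rfl⟩
        exact ⟨x, x.2, Helper87.extFun_apply φ x⟩
      · rintro ⟨x, hx, rfl⟩
        rw [Helper87.extFun_mem φ hx]
        exact ⟨⟨x, hx⟩, rfl⟩
    obtain ⟨g, hg, hgl⟩ := hφ'.symm hiso
    obtain ⟨ψ, hψ, hψg⟩ := hg.mor
    refine ⟨ψ, hg.congr (fun y hy => ?_), fun x => ?_⟩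
    · rw [Helper87.extFun_mem ψ hy, hψg ⟨y, hy⟩]
    · rw [hψg]
      have := hgl x x.2
      rw [Helper87.extFun_apply] at this
      exact this

theorem mor_pSys1_iff [Finite S] {F : FusionSystem S} {p : ℕ} [Fact p.Prime] {hS : IsPGroup p S}
    {P : Subgroup Ω} {f : Ω → Ω} : Mor (pSys1 F p hS) P f ↔ E1Mor F p P f := by
  constructor
  · rintro ⟨φ, hφ, e⟩
    have hφ' : E1Mor F p P (extFun φ) := hφ
    exact hφ'.congr (fun x hx => by rw [Helper87.extFun_mem φ hx, e ⟨x, hx⟩])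
  · intro h
    obtain ⟨φ, hφ, e⟩ := h.mor
    refine ⟨φ, ?_, e⟩
    show E1Mor F p P (extFun φ)
    exact h.congr (fun x hx => by rw [Helper87.extFun_mem φ hx, e ⟨x, hx⟩])

theorem pSys1_isSubsystemOf [Finite S] (F : FusionSystem S) (p : ℕ) [Fact p.Prime]
    (hS : IsPGroup p S) : (pSys1 F p hS).IsSubsystemOf F := by
  intro P φ hφ
  have hφ' : E1Mor F p P (extFun φ) := hφ
  obtain ⟨φ', hφ'', e⟩ := hφ'.mor
  have : φ' = φ := by
    ext x
    rw [e, Helper87.extFun_apply]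
  rw [← this]
  exact hφ''

theorem pSys1_hasPrimeToPIndexIn [Finite S] (F : FusionSystem S) (p : ℕ) [Fact p.Prime]
    (hS : IsPGroup p S) : (pSys1 F p hS).HasPrimeToPIndexIn F p := by
  refine ⟨pSys1_isSubsystemOf F p hS, fun P hP => ?_⟩
  rintro _ ⟨b, hb, rfl⟩
  rw [Helper87.mem_autGroup_iff hP, mor_pSys1_iff]
  exact E1Mor.of_pmor (pmor_of_mem_opp hP hb)

end Cfsg.Agent.Helper84
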