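import Mathlib
import Cfsg.Prelude.Def_FusionSystem
import Cfsg.Agent.Lib.Helper84.FusP2
import Cfsg.Agent.Lib.Helper84.FusO7
import Cfsg.Agent.Lib.Helper84.FusCrit2
import Cfsg.Agent.Lib.Helper87.FusionEssential
import Cfsg.Agent.Lib.Helper87.FusionRadical

/-!
# `O^{p'}(F)`: generation by maps between centric subgroups
-/

set_option autoImplicit false

namespace Cfsg.Agent.Helper84

open Cfsg Cfsg.FusionSystem
open Cfsg.Agent.Helper87 (Mor Iso extFun extAut)

variable {Ω : Type*} [Group Ω] {S : Subgroup Ω}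

theorem pSys1_contains [Finite S] (F : FusionSystem S) (p : ℕ) [Fact p.Prime]
    (hS : IsPGroup p S) {P : Subgroup Ω} (hP : P ≤ S) :
    (opp p (F.autGroup P)).map (F.autGroup P).subtype ≤ (pSys1 F p hS).autGroup P :=
  (pSys1_hasPrimeToPIndexIn F p hS).2 P hP

theorem pSys1_centric_iff [Finite S] {F : FusionSystem S} {p : ℕ} [Fact p.Prime]
    (hS : IsPGroup p S) (hF : F.IsSaturated p) (P : Subgroup Ω) :
    (pSys1 F p hS).IsCentric P ↔ F.IsCentric P :=
  centric_iff (pSys1 F p hS) F hS hF (pSys1_isSubsystemOf F p hS)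
    (fun _ hP => pSys1_contains F p hS hP.1) P

/-- the image of a fully normalized subgroup under an automorphism of `S` in the system is fully
normalized -/
theorem fullyNormalized_imgAut [Finite S] {F : FusionSystem S} {Q : Subgroup Ω}
    (hQ : F.IsFullyNormalized Q) {α : MulAut S} (hα : α ∈ F.autGroup S) :
    F.IsFullyNormalized (imgAut α Q) := by
  have hiso := iso_imgAut F hα hQ.1
  apply Helper87.IsFullyNormalized.of_conj hQ (Helper87.isConj_iff.2 ⟨_, hiso⟩)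
  have m : Mor F (normalizerIn S Q) (extAut α) :=
    ((Helper87.mem_autGroup_iff le_rfl).mp hα).restrict inf_le_left
  exact Helper87.card_le_of_mor m inf_le_left (fun n hn => Helper87.map_normalizerIn m hiso hn)

/-- a map of `O^{p'}_*(F)` on `N_S(P)` carrying `P` onto a fully normalized subgroup -/
theorem exists_pmor_fn [Finite S] {F : FusionSystem S} {p : ℕ} [Fact p.Prime]
    (hS : IsPGroup p S) (hF : F.IsSaturated p) {P : Subgroup Ω} (hP : P ≤ S) :
    ∃ (Q : Subgroup Ω) (ψ : Ω → Ω), PMor F p (normalizerIn S P) ψ ∧ Iso F P Q ψ ∧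
      F.IsFullyNormalized Q := by
  obtain ⟨Q₀, hPQ₀, hQ₀⟩ := Helper87.exists_fullyNormalized_conj F hP
  obtain ⟨χ, hχ, hχP⟩ := Helper87.exists_map_normalizer_to_fullyNormalized hS hF hQ₀ hPQ₀
  obtain ⟨α, hα, χ₀, hχ₀, e⟩ := exists_pmor_factor hS hF hχ
  have hαi : α⁻¹ ∈ F.autGroup S := Subgroup.inv_mem _ hα
  have hiso := iso_imgAut F hαi hQ₀.1
  refine ⟨imgAut α⁻¹ Q₀, χ₀, hχ₀, ?_, fullyNormalized_imgAut hQ₀ hαi⟩
  refine (hχP.comp hiso).congr (fun x hx => ?_)
  have hxN : x ∈ normalizerIn S P := Helper87.le_normalizerIn hP hx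
  show extAut α⁻¹ (χ x) = χ₀ x
  rw [e x hxN, Helper87.extAut_inv_left α (hχ₀.mor.mem hxN)]

/-- transport of a `p`-power automorphism along an isomorphism -/
theorem ppgen_transport {F : FusionSystem S} {p : ℕ} [Fact p.Prime] {Q Q' : Subgroup Ω}
    {χ κ β : Ω → Ω} (hχ : Iso F Q Q' χ) (hκ : Iso F Q' Q κ) (hκχ : ∀ x ∈ Q, κ (χ x) = x)
    (hχκ : ∀ y ∈ Q', χ (κ y) = y) (h : PPGen F p Q β) : PPGen F p Q' (fun y => χ (β (κ y))) := by
  obtain ⟨hβ, k, hβk⟩ := h
  have hk0 : p ^ k ≠ 0 := (pow_pos (Fact.out : p.Prime).pos k).ne'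
  refine ⟨(hκ.comp hβ).comp hχ, k, fun x hx => ?_⟩
  obtain ⟨j, hj⟩ := Nat.exists_eq_succ_of_ne_zero hk0
  rw [hj, Nat.succ_eq_add_one, iterate_conj_eq (fun x hx => hκ.map_mem hx)
    (fun x hx => hχ.map_mem hx) (fun x hx => hβ.map_mem hx) hκχ j x hx, ← Nat.succ_eq_add_one,
    ← hj, hβk _ (hκ.map_mem hx), hχκ x hx]

/-- an automorphism of `R` in the system which has `p`-power order on a subgroup `Q` has a power
which is a `p`-power automorphism of `R` and agrees with it on `Q` -/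
theorem exists_ppgen_pow [Finite S] {F : FusionSystem S} {p : ℕ} [hp : Fact p.Prime]
    {R Q : Subgroup Ω} {f : Ω → Ω} (hf : Iso F R R f) {k : ℕ}
    (hfk : ∀ x ∈ Q, f^[p ^ k] x = x) :
    ∃ j : ℕ, PPGen F p R (f^[j]) ∧ ∀ x ∈ Q, f^[j] x = f x := by
  have hfinR : Finite R := Helper87.finite_of_le hf.le_left
  set m := orderOf (hf.equiv : MulAut R) with hm
  have hm0 : m ≠ 0 := (orderOf_pos _).ne'
  obtain ⟨a, b, hb, hab⟩ := Nat.exists_eq_pow_mul_and_not_dvd hm0 p hp.out.ne_one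
  have hcop : b.Coprime (p ^ k) :=
    Nat.Coprime.pow_right k ((Nat.Prime.coprime_iff_not_dvd hp.out).mpr hb).symm
  obtain ⟨j, hj0, hj1⟩ := Nat.chineseRemainder hcop 0 1
  refine ⟨j, ⟨iso_iterate hf j, a, fun x hx => ?_⟩, fun x hx => ?_⟩
  · rw [← Function.iterate_mul]
    have hdvd : m ∣ j * p ^ a := by
      rw [hab, mul_comm]
      exact Nat.mul_dvd_mul ((Nat.modEq_zero_iff_dvd).mp hj0) dvd_rfl
    have h1 : (hf.equiv : MulAut R) ^ (j * p ^ a) = 1 := orderOf_dvd_iff_pow_eq_one.mp hdvd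
    have h2 := equiv_pow_apply hf (j * p ^ a) ⟨x, hx⟩
    rw [h1] at h2
    exact h2.symm
  · rw [iterate_mod (hfk x hx) j, hj1]
    have := iterate_mod (hfk x hx) 1
    rw [Function.iterate_one] at this
    exact this.symm

/-- maps of `O^{p'}_*(F)` restricted to large enough subgroups lie in `E'` once the generators
do -/
theorem p_of_gen [Finite S] {F : FusionSystem S} {p : ℕ} (E' : FusionSystem S) (n : ℕ)
    (hgen : ∀ Q : Subgroup Ω, Q ≤ S → Nat.card S ≤ Nat.card Q + n → ∀ β, PPGen F p Q β →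
      Mor E' Q β) {P' : Subgroup Ω} {f : Ω → Ω} (h : PMor F p P' f) :
    ∀ P'' : Subgroup Ω, P'' ≤ P' → Nat.card S ≤ Nat.card P'' + n → Mor E' P'' f := by
  induction h with
  | @base R β hpg =>
    intro P'' hP'' hn
    have hRS : R ≤ S := hpg.1.le_left
    have hfin : Finite R := Helper87.finite_of_le hRS
    have := Subgroup.card_le_of_le hP''
    exact (hgen R hRS (by omega) β hpg).restrict hP''
  | @restr P₁ Q₁ f _ hQP ih =>
    intro P'' hP'' hn
    exact ih P'' (hP''.trans hQP) hn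
  | @comp P₁ Q₁ f g hf hg hfg ih1 ih2 =>
    intro P'' hP'' hn
    have h1 : Mor E' P'' f := ih1 P'' hP'' hn
    have hiso : Iso E' P'' h1.image f := Iso.of_mor h1
    have himg : h1.image ≤ Q₁ := by
      rintro _ ⟨x, hx, rfl⟩
      exact hfg x (hP'' hx)
    have h2 : Mor E' h1.image g := ih2 h1.image himg (by rw [← hiso.card_eq]; exact hn)
    exact h1.comp h2 (fun x hx => ⟨x, hx, rfl⟩)
  | @congr P₁ f f' _ hff ih =>
    intro P'' hP'' hn
    exact (ih P'' hP'' hn).congr (fun x hx => hff x (hP'' hx))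

/-- the generation step for a fully normalized subgroup which is not centric -/
theorem ppgen_step_fn [Finite S] {F : FusionSystem S} {p : ℕ} [Fact p.Prime]
    (hS : IsPGroup p S) (hF : F.IsSaturated p) (E' : FusionSystem S) {Q : Subgroup Ω}
    (hQ : F.IsFullyNormalized Q) (hnc : ¬ F.IsCentric Q)
    (hbig : ∀ Q₂ : Subgroup Ω, Q₂ ≤ S → Nat.card Q < Nat.card Q₂ → ∀ β, PPGen F p Q₂ β →
      Mor E' Q₂ β) {β : Ω → Ω} (hβ : PPGen F p Q β) : Mor E' Q β := by
  have hQS : Q ≤ S := hQ.1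
  have hfc := Helper87.fullyCentralized_of_fullyNormalized hS hF hQ
  have hC : ¬ centralizerIn S Q ≤ Q := fun h => hnc (Helper87.isCentric_of_fullyCentralized hfc h)
  obtain ⟨z, hzC, hzQ⟩ := SetLike.not_le_iff_exists.mp hC
  obtain ⟨hβiso, k, hβk⟩ := hβ
  have hrec := Helper87.receptive_of_fullyNormalized hS hF hQ
  obtain ⟨bh, hbh, hbhx⟩ := (Helper87.isReceptive_iff.1 hrec).2 Q _ hβiso
  have hQh : Q ⊔ centralizerIn S Q ≤ hβiso.ext := sup_le hβiso.le_ext hβiso.centralizerIn_le_ext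
  have hQhS : Q ⊔ centralizerIn S Q ≤ S := sup_le hQS inf_le_left
  have hbh' : Mor F (Q ⊔ centralizerIn S Q) bh := hbh.restrict hQh
  have hmaps : ∀ x ∈ Q ⊔ centralizerIn S Q, bh x ∈ Q ⊔ centralizerIn S Q := by
    apply mor_map_sup hbh'
    · intro x hx
      rw [hbhx x hx]
      exact (le_sup_left : Q ≤ Q ⊔ centralizerIn S Q) (hβiso.map_mem hx)
    · intro c hc
      apply (le_sup_right : centralizerIn S Q ≤ Q ⊔ centralizerIn S Q)
      have hcext : c ∈ hβiso.ext := hβiso.centralizerIn_le_ext hc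
      refine ⟨hbh.mem hcext, fun y hy => ?_⟩
      obtain ⟨x, hx, rfl⟩ := hβiso.surj hy
      have hxext : x ∈ hβiso.ext := hβiso.le_ext hx
      rw [← hbhx x hx, ← hbh.map_mul hxext hcext, ← hbh.map_mul hcext hxext, hc.2 x hx]
  have hiso : Iso F (Q ⊔ centralizerIn S Q) (Q ⊔ centralizerIn S Q) bh :=
    Helper87.iso_of_card_le hbh' hQhS hmaps le_rfl
  have hfk : ∀ x ∈ Q, bh^[p ^ k] x = x := by
    intro x hx
    rw [iterate_congr_on hbhx (fun x hx => hβiso.map_mem hx) (p ^ k) x hx]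
    exact hβk x hx
  obtain ⟨j, hj, hjx⟩ := exists_ppgen_pow hiso hfk
  have hzmem : z ∈ Q ⊔ centralizerIn S Q :=
    (le_sup_right : centralizerIn S Q ≤ Q ⊔ centralizerIn S Q) hzC
  have hcard : Nat.card Q < Nat.card (Q ⊔ centralizerIn S Q : Subgroup Ω) :=
    Helper87.card_lt_of_not_mem le_sup_left hQhS hzmem hzQ
  have h1 := hbig _ hQhS hcard _ hj
  exact (h1.restrict le_sup_left).congr (fun x hx => (hjx x hx).trans (hbhx x hx))

/-- every `p`-power automorphism of a subgroup of `S` lies in a system over `S` containing the maps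
of `O^{p'}(F)` between centric subgroups -/
theorem ppgen_claim [Finite S] {F : FusionSystem S} {p : ℕ} [Fact p.Prime]
    (hS : IsPGroup p S) (hF : F.IsSaturated p) (E' : FusionSystem S)
    (hE' : ∀ (P : Subgroup Ω) (f : Ω → Ω), F.IsCentric P → E1Mor F p P f → Mor E' P f) :
    ∀ n : ℕ, ∀ Q : Subgroup Ω, Q ≤ S → Nat.card S ≤ Nat.card Q + n → ∀ β, PPGen F p Q β →
      Mor E' Q β := by
  intro n
  induction n using Nat.strong_induction_on with
  | _ n ih =>
  intro Q hQS hn β hβ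
  by_cases hc : F.IsCentric Q
  · exact hE' Q β hc (E1Mor.of_pmor (PMor.base hβ))
  have hQne : Q ≠ S := by
    rintro rfl
    exact hc (isCentric_top F)
  have hlt : Q < S := lt_of_le_of_ne hQS hQne
  obtain ⟨t, ht, htN, htQ⟩ := exists_mem_normalizer_not_mem hS hlt
  have hcardlt : Nat.card Q < Nat.card S := Helper87.card_lt_of_not_mem hQS le_rfl ht htQ
  have hgen' := ih (n - 1) (by omega)
  have hbig : ∀ Q₂ : Subgroup Ω, Q₂ ≤ S → Nat.card Q < Nat.card Q₂ → ∀ β, PPGen F p Q₂ β →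
      Mor E' Q₂ β := fun Q₂ h2 hlt2 β' hβ' => hgen' Q₂ h2 (by omega) β' hβ'
  -- move to a fully normalized conjugate
  obtain ⟨Q₀, ψ, hψ, hψQ, hQ₀⟩ := exists_pmor_fn (p := p) hS hF hQS
  have hQM : Q ≤ normalizerIn S Q := Helper87.le_normalizerIn hQS
  have hcM : Nat.card Q < Nat.card (normalizerIn S Q : Subgroup Ω) :=
    Helper87.card_lt_of_not_mem hQM inf_le_left ⟨ht, htN⟩ htQ
  have hψM : Mor E' (normalizerIn S Q) ψ :=
    p_of_gen E' (n - 1) hgen' hψ _ le_rfl (by omega)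
  have hψE' : Mor E' Q ψ := hψM.restrict hQM
  have hisoE' : Iso E' Q Q₀ ψ := ⟨hψE', hψQ.2⟩
  obtain ⟨κ, hκ, hκl, hκr⟩ := hψQ.symm
  have hβ₀ : PPGen F p Q₀ (fun y => ψ (β (κ y))) := ppgen_transport hψQ hκ hκl hκr hβ
  have hnc₀ : ¬ F.IsCentric Q₀ := by
    intro h
    apply hc
    exact Helper87.isCentric_of_conj h (Helper87.isConj_symm (Helper87.isConj_iff.2 ⟨ψ, hψQ⟩))
  have hcard₀ : Nat.card Q = Nat.card Q₀ := hψQ.card_eq
  have h₀ : Mor E' Q₀ (fun y => ψ (β (κ y))) :=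
    ppgen_step_fn hS hF E' hQ₀ hnc₀ (fun Q₂ h2 hlt2 => hbig Q₂ h2 (by omega)) hβ₀
  obtain ⟨g, hg, hgl, -⟩ := hisoE'.symm
  have hcomp := (hψE'.comp h₀ (fun x hx => hψQ.map_mem hx)).comp hg.1
    (fun x hx => hβ₀.1.map_mem (hψQ.map_mem hx))
  refine hcomp.congr (fun x hx => ?_)
  show g (ψ (β (κ (ψ x)))) = β x
  rw [hκl x hx, hgl _ (hβ.1.map_mem hx)]

/-- **Generation**: a fusion system over `S` containing the maps of `O^{p'}(F)` with centric source
contains `O^{p'}(F)` -/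
theorem pSys1_gen [Finite S] {F : FusionSystem S} {p : ℕ} [Fact p.Prime]
    (hS : IsPGroup p S) (hF : F.IsSaturated p) (E' : FusionSystem S)
    (hE' : ∀ P : Subgroup Ω, (pSys1 F p hS).IsCentric P → (pSys1 F p hS).Hom P ⊆ E'.Hom P) :
    pSys1 F p hS ≤ E' := by
  have hE'' : ∀ (P : Subgroup Ω) (f : Ω → Ω), F.IsCentric P → E1Mor F p P f → Mor E' P f := by
    intro P f hP hf
    obtain ⟨φ, hφ, e⟩ := (mor_pSys1_iff (hS := hS)).mpr hf
    exact ⟨φ, hE' P ((pSys1_centric_iff hS hF P).mpr hP) hφ, e⟩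
  have hgen := ppgen_claim hS hF E' hE'' (Nat.card S)
  intro P φ hφ
  have hφ' : E1Mor F p P (extFun φ) := hφ
  obtain ⟨α, hα, f₀, hf₀, e⟩ := hφ'
  have h1 : Mor E' P f₀ := p_of_gen E' (Nat.card S) hgen hf₀ P le_rfl (Nat.le_add_left _ _)
  have h2 : Mor E' S (extAut α) := hE'' S _ (isCentric_top F) (E1Mor.of_aut hα le_rfl)
  have h3 := h1.comp h2 (fun x hx => hf₀.mor.mem hx)
  rw [Helper87.mem_hom_iff_mor]
  exact h3.congr (fun x hx => (e x hx).symm)

end Cfsg.Agent.Helper84
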