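import Mathlib
import Cfsg.Prelude.Def_FusionSystem
import Cfsg.Agent.Lib.Helper84.FusP3
import Cfsg.Agent.Lib.Helper84.FusSat
import Cfsg.Agent.Lib.Helper87.FusionNormalizerSys
import Cfsg.Agent.Lib.Helper88.FusionCentricUnique

/-!
# `O^{p'}(F)` is saturated, and is the smallest saturated subsystem of index prime to `p`
-/

set_option autoImplicit false

namespace Cfsg.Agent.Helper84

open Cfsg Cfsg.FusionSystem
open Cfsg.Agent.Helper87 (Mor Iso extFun extAut)

variable {Ω : Type*} [Group Ω] {S : Subgroup Ω}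

/-- a fully normalized centric subgroup is fully automized and receptive in `O^{p'}(F)` -/
theorem pSys1_good [Finite S] {F : FusionSystem S} {p : ℕ} [Fact p.Prime]
    (hS : IsPGroup p S) (hF : F.IsSaturated p) {Q : Subgroup Ω} (hQ : F.IsFullyNormalized Q)
    (hcen : F.IsCentric Q) :
    (pSys1 F p hS).IsFullyAutomized p Q ∧ (pSys1 F p hS).IsReceptive Q := by
  have hQS : Q ≤ S := hQ.1
  have hEF := pSys1_isSubsystemOf F p hS
  constructor
  · rw [fullyAutomized_iff]
    refine ⟨hQS, ?_⟩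
    have hFA := ((fullyAutomized_iff F Q).mp
      (Helper87.fullyAutomized_of_fullyNormalized hS hF hQ)).2
    exact hFA.of_le (Helper87.autInducedBy_le_autGroup (pSys1 F p hS) hQS)
      (Helper87.autGroup_le_of_subsystem hEF hQS hQS)
  · rw [Helper87.isReceptive_iff]
    refine ⟨hQS, fun P' f h => ?_⟩
    have hF' : Iso F P' Q f := ⟨mor_of_subsystem hEF h.1, h.2⟩
    have hle : h.ext ≤ hF'.ext := fun g hg => hg
    have hrec := Helper87.receptive_of_fullyNormalized hS hF hQ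
    obtain ⟨gh, hgh, hghx⟩ := (Helper87.isReceptive_iff.1 hrec).2 P' _ hF'
    have hgh' : Mor F h.ext gh := hgh.restrict hle
    obtain ⟨β, hβ, g₀, hg₀, eg⟩ := exists_pmor_factor hS hF hgh'
    obtain ⟨α, hα, f₀, hf₀, ef⟩ := (mor_pSys1_iff (hS := hS)).mp h.1
    have hαF := Aut0_le F p hα
    have hP'ext : P' ≤ h.ext := h.le_ext
    have hg₀P : PMor F p P' g₀ := hg₀.restr hP'ext
    have hisoP₀ : Iso F P' hg₀P.mor.image g₀ := Iso.of_mor hg₀P.mor
    -- the image of `P'` under `g₀` is centric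
    have hP'cen : F.IsCentric P' :=
      Helper87.isCentric_of_conj hcen (Helper87.isConj_symm (Helper87.isConj_iff.2 ⟨f, hF'⟩))
    have hP₀cen : F.IsCentric hg₀P.mor.image :=
      Helper87.isCentric_of_conj hP'cen (Helper87.isConj_iff.2 ⟨g₀, hisoP₀⟩)
    obtain ⟨gi, hgi, hgil⟩ := hg₀P.symm _ hisoP₀
    have hγF : α⁻¹ * β ∈ F.autGroup S := Subgroup.mul_mem _ (Subgroup.inv_mem _ hαF) hβ
    have hγ : PMor F p hg₀P.mor.image (extAut (α⁻¹ * β)) := by
      refine (PMor.comp hgi hf₀ ?_).congr ?_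
      · intro y hy
        obtain ⟨x, hx, rfl⟩ := hisoP₀.surj hy
        rw [hgil x hx]
        exact hx
      · intro y hy
        obtain ⟨x, hx, rfl⟩ := hisoP₀.surj hy
        show f₀ (gi (g₀ x)) = extAut (α⁻¹ * β) (g₀ x)
        have hg₀x : g₀ x ∈ S := hg₀P.mor.mem hx
        rw [hgil x hx, Helper87.extAut_mul _ _ hg₀x, ← eg x (hP'ext hx), hghx x hx, ef x hx,
          Helper87.extAut_inv_left α (hf₀.mor.mem hx)]
    have hγ0 : α⁻¹ * β ∈ Aut0 F p := mem_Aut0 hγF hP₀cen hγ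
    have hβ0 : β ∈ Aut0 F p := by
      have := Subgroup.mul_mem _ hα hγ0
      rwa [mul_inv_cancel_left] at this
    exact ⟨gh, (mor_pSys1_iff (hS := hS)).mpr ⟨β, hβ0, g₀, hg₀, eg⟩, hghx⟩

/-- **`O^{p'}(F)` is saturated** -/
theorem pSys1_saturated [Finite S] {F : FusionSystem S} {p : ℕ} [Fact p.Prime]
    (hS : IsPGroup p S) (hF : F.IsSaturated p) : (pSys1 F p hS).IsSaturated p := by
  apply saturated_of_criterion (pSys1 F p hS) p hS {P | (pSys1 F p hS).IsCentric P}
  · intro P hP Q hPQ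
    exact isCentric_of_isConj hP hPQ
  · intro P hP
    have hPc : F.IsCentric P := (pSys1_centric_iff hS hF P).mp hP
    have hPS : P ≤ S := hPc.1
    obtain ⟨Q, ψ, hψ, hψP, hQ⟩ := exists_pmor_fn (p := p) hS hF hPS
    have hisoE : Iso (pSys1 F p hS) P Q ψ :=
      ⟨(mor_pSys1_iff (hS := hS)).mpr
        (E1Mor.of_pmor (hψ.restr (Helper87.le_normalizerIn hPS))), hψP.2⟩
    have hconj : (pSys1 F p hS).IsConj P Q := Helper87.isConj_iff.2 ⟨ψ, hisoE⟩
    have hQc : F.IsCentric Q := Helper87.isCentric_of_conj hPc (Helper87.isConj_iff.2 ⟨ψ, hψP⟩)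
    obtain ⟨h1, h2⟩ := pSys1_good hS hF hQ hQc
    exact ⟨Q, hconj, h1, h2⟩
  · intro E' hE'
    exact pSys1_gen hS hF E' hE'
  · intro P hP hP'
    exact absurd hP hP'

/-! ### Minimality -/

theorem pmor_sub_of_primeToP [Finite S] {F D : FusionSystem S} {p : ℕ} [hp : Fact p.Prime]
    (hD : D.HasPrimeToPIndexIn F p) {P : Subgroup Ω} {f : Ω → Ω} (h : PMor F p P f) :
    Mor D P f := by
  induction h with
  | @base R f hpg =>
    obtain ⟨hf, k, hfk⟩ := hpg
    have hRS : R ≤ S := hf.le_left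
    have hfinR : Finite R := Helper87.finite_of_le hRS
    have h1 : (hf.equiv : MulAut R) ^ (p ^ k) = 1 := by
      ext x
      rw [equiv_pow_apply hf (p ^ k) x, hfk x x.2]
      rfl
    set a : F.autGroup R := ⟨hf.equiv, hf.equiv_mem_autGroup⟩ with ha
    have h2 : a ^ (p ^ k) = 1 := by
      apply Subtype.ext
      rw [Subgroup.coe_pow]
      exact h1
    obtain ⟨j, -, hj⟩ := (Nat.dvd_prime_pow hp.out).mp (orderOf_dvd_of_pow_eq_one h2)
    have hmem : (a : MulAut R) ∈ D.autGroup R := by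
      apply hD.2 R hRS
      exact ⟨a, Subgroup.subset_closure ⟨j, hj⟩, rfl⟩
    refine ((Helper87.mem_autGroup_iff hRS).mp hmem).congr (fun x hx => ?_)
    rw [Helper87.extAut_mem _ hx]
    exact hf.equiv_apply ⟨x, hx⟩
  | restr _ hQP ih => exact ih.restrict hQP
  | comp _ _ hfg ih1 ih2 => exact ih1.comp ih2 hfg
  | congr _ hff ih => exact ih.congr hff

theorem Aut0_le_of_primeToP [Finite S] {F D : FusionSystem S} {p : ℕ} [Fact p.Prime]
    (hS : IsPGroup p S) (hF : F.IsSaturated p) (hDs : D.IsSaturated p)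
    (hD : D.HasPrimeToPIndexIn F p) : Aut0 F p ≤ D.autGroup S := by
  unfold Aut0
  rw [Subgroup.closure_le]
  rintro α ⟨hα, P, hP, hPα⟩
  have hψ : Mor F S (extAut α) := (Helper87.mem_autGroup_iff le_rfl).mp hα
  have hDP : Mor D P (extAut α) := pmor_sub_of_primeToP hD hPα
  have hle : D ≤ F := hD.1
  have := Helper88.mor_sub_of_centric hS hF hDs hle hψ P hP.1 hP hDP
  exact (Helper87.mem_autGroup_iff le_rfl).mpr this

/-- **Minimality of `O^{p'}(F)`** -/
theorem pSys1_le_of_primeToP [Finite S] {F D : FusionSystem S} {p : ℕ} [Fact p.Prime]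
    (hS : IsPGroup p S) (hF : F.IsSaturated p) (hDs : D.IsSaturated p)
    (hD : D.HasPrimeToPIndexIn F p) : (pSys1 F p hS).IsSubsystemOf D := by
  intro P φ hφ
  have hφ' : E1Mor F p P (extFun φ) := hφ
  obtain ⟨α, hα, f₀, hf₀, e⟩ := hφ'
  have h1 : Mor D P f₀ := pmor_sub_of_primeToP hD hf₀
  have h2 : Mor D S (extAut α) :=
    (Helper87.mem_autGroup_iff le_rfl).mp (Aut0_le_of_primeToP hS hF hDs hD hα)
  have h3 := h1.comp h2 (fun x hx => hf₀.mor.mem hx)
  rw [Helper87.mem_hom_iff_mor]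
  exact h3.congr (fun x hx => (e x hx).symm)

/-- **Existence of `O^{p'}(F)`** -/
theorem exists_pPrimeResidual [Finite S] (F : FusionSystem S) {p : ℕ} [Fact p.Prime]
    (hS : IsPGroup p S) (hF : F.IsSaturated p) :
    ∃ E : FusionSystem S, F.IsPPrimeResidual p E :=
  ⟨pSys1 F p hS, pSys1_saturated hS hF, pSys1_hasPrimeToPIndexIn F p hS,
    fun _ hDs hD => pSys1_le_of_primeToP hS hF hDs hD⟩

end Cfsg.Agent.Helper84
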