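import Mathlib
import Cfsg.Prelude.Def_FusionSystem
import Cfsg.Agent.Lib.Helper84.FusP2

/-!
# Extension of a fusion system by a group of automorphisms of `S` normalizing it
-/

set_option autoImplicit false

namespace Cfsg.Agent.Helper84

open Cfsg Cfsg.FusionSystem
open Cfsg.Agent.Helper87 (Mor Iso extFun extAut)

variable {Ω : Type*} [Group Ω] {S : Subgroup Ω}

/-- the universal fusion system over `S`: all injective homomorphisms between subgroups of `S` -/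
def univSys (S : Subgroup Ω) : FusionSystem S where
  Hom P := {φ | P ≤ S ∧ (∀ x : P, φ x ∈ S) ∧ Function.Injective φ}
  le_of_mem := fun h => ⟨h.1, h.2.1⟩
  injective_of_mem := fun h => h.2.2
  conj_mem := by
    intro P g hP hg
    refine ⟨hP, fun x => ?_, ?_⟩
    · show g * x * g⁻¹ ∈ S
      exact S.mul_mem (S.mul_mem hg (hP x.2)) (S.inv_mem hg)
    · intro a b hab
      have h1 : g * (a : Ω) * g⁻¹ = g * (b : Ω) * g⁻¹ := hab
      apply Subtype.ext
      simpa using h1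
  comp_mem := by
    intro P Q φ ψ hφ hψ h
    refine ⟨hφ.1, fun x => hψ.2.1 _, ?_⟩
    intro a b hab
    have h1 : ψ ⟨φ a, h a⟩ = ψ ⟨φ b, h b⟩ := hab
    have h2 := hψ.2.2 h1
    exact hφ.2.2 (congrArg Subtype.val h2)
  inv_mem := by
    intro P φ hφ
    refine ⟨P.subtype.comp (MonoidHom.ofInjective hφ.2.2).symm.toMonoidHom, ⟨?_, ?_, ?_⟩, ?_⟩
    · rintro _ ⟨x, rfl⟩
      exact hφ.2.1 x
    · intro y
      exact hφ.1 ((MonoidHom.ofInjective hφ.2.2).symm y).2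
    · intro a b hab
      have h1 : (((MonoidHom.ofInjective hφ.2.2).symm a : P) : Ω) =
          (((MonoidHom.ofInjective hφ.2.2).symm b : P) : Ω) := hab
      exact (MonoidHom.ofInjective hφ.2.2).symm.injective (Subtype.ext h1)
    · intro x
      show (((MonoidHom.ofInjective hφ.2.2).symm ⟨φ x, ⟨x, rfl⟩⟩ : P) : Ω) = x
      have : (⟨φ x, ⟨x, rfl⟩⟩ : φ.range) = MonoidHom.ofInjective hφ.2.2 x := rfl
      rw [this, MulEquiv.symm_apply_apply]

theorem mor_univSys_of_mor {F : FusionSystem S} {P : Subgroup Ω} {f : Ω → Ω} (h : Mor F P f) :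
    Mor (univSys S) P f := by
  obtain ⟨φ, hφ, e⟩ := h
  exact ⟨φ, ⟨(F.le_of_mem hφ).1, (F.le_of_mem hφ).2, F.injective_of_mem hφ⟩, e⟩

theorem mor_univSys_extAut (α : MulAut S) : Mor (univSys S) S (extAut α) := by
  refine ⟨S.subtype.comp α.toMonoidHom, ⟨le_rfl, fun x => (α x).2, ?_⟩, fun x => ?_⟩
  · intro a b hab
    have h1 : ((α a : S) : Ω) = ((α b : S) : Ω) := hab
    exact α.injective (Subtype.ext h1)
  · exact (Helper87.extAut_apply α x).symm

/-- `α` normalizes the system `F₀` (pull-back form) -/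
def NormalizesSys (F₀ : FusionSystem S) (α : MulAut S) : Prop :=
  ∀ (Q : Subgroup Ω) (f : Ω → Ω), Mor F₀ Q f → ∀ P₁ : Subgroup Ω, P₁ ≤ S →
    (∀ x ∈ P₁, extAut α x ∈ Q) → Mor F₀ P₁ (fun x => extAut α⁻¹ (f (extAut α x)))

theorem normalizesSys_of_mem {F₀ : FusionSystem S} {α : MulAut S} (hα : α ∈ F₀.autGroup S) :
    NormalizesSys F₀ α := by
  intro Q f hf P₁ hP₁ hmap
  have h1 : Mor F₀ P₁ (extAut α) := ((Helper87.mem_autGroup_iff le_rfl).mp hα).restrict hP₁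
  have h2 : Mor F₀ S (extAut α⁻¹) :=
    (Helper87.mem_autGroup_iff le_rfl).mp (Subgroup.inv_mem _ hα)
  exact (h1.comp hf hmap).comp h2 (fun x hx => hf.mem (hmap x hx))

/-- the maps of the extension: a map of `F₀` followed by an element of `A` -/
def XMor (F₀ : FusionSystem S) (A : Subgroup (MulAut S)) (P : Subgroup Ω) (f : Ω → Ω) : Prop :=
  ∃ α ∈ A, ∃ f₀, Mor F₀ P f₀ ∧ ∀ x ∈ P, f x = extAut α (f₀ x)

theorem XMor.of_mor {F₀ : FusionSystem S} {A : Subgroup (MulAut S)} {P : Subgroup Ω} {f : Ω → Ω}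
    (h : Mor F₀ P f) : XMor F₀ A P f :=
  ⟨1, Subgroup.one_mem _, f, h, fun _ hx => (Helper87.extAut_one (h.mem hx)).symm⟩

theorem XMor.congr {F₀ : FusionSystem S} {A : Subgroup (MulAut S)} {P : Subgroup Ω}
    {f f' : Ω → Ω} (h : XMor F₀ A P f) (hff : ∀ x ∈ P, f x = f' x) : XMor F₀ A P f' := by
  obtain ⟨α, hα, f₀, hf₀, e⟩ := h
  exact ⟨α, hα, f₀, hf₀, fun x hx => (hff x hx).symm.trans (e x hx)⟩

theorem XMor.restrict {F₀ : FusionSystem S} {A : Subgroup (MulAut S)} {P Q : Subgroup Ω}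
    {f : Ω → Ω} (h : XMor F₀ A P f) (hQP : Q ≤ P) : XMor F₀ A Q f := by
  obtain ⟨α, hα, f₀, hf₀, e⟩ := h
  exact ⟨α, hα, f₀, hf₀.restrict hQP, fun x hx => e x (hQP hx)⟩

theorem XMor.mor {F₀ : FusionSystem S} {A : Subgroup (MulAut S)} {P : Subgroup Ω} {f : Ω → Ω}
    (h : XMor F₀ A P f) : Mor (univSys S) P f := by
  obtain ⟨α, hα, f₀, hf₀, e⟩ := h
  exact ((mor_univSys_of_mor hf₀).comp (mor_univSys_extAut α) (fun x hx => hf₀.mem hx)).congr
    (fun x hx => (e x hx).symm)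

theorem XMor.of_aut {F₀ : FusionSystem S} {A : Subgroup (MulAut S)} {α : MulAut S} (hα : α ∈ A)
    {P : Subgroup Ω} (hP : P ≤ S) : XMor F₀ A P (extAut α) :=
  ⟨α, hα, fun x => x, Mor.id hP, fun _ _ => rfl⟩

theorem XMor.comp {F₀ : FusionSystem S} {A : Subgroup (MulAut S)}
    (hA : ∀ α ∈ A, NormalizesSys F₀ α) {P Q : Subgroup Ω} {f g : Ω → Ω}
    (h1 : XMor F₀ A P f) (h2 : XMor F₀ A Q g) (hfg : ∀ x ∈ P, f x ∈ Q) :
    XMor F₀ A P (fun x => g (f x)) := by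
  obtain ⟨α, hα, f₀, hf₀, e⟩ := h1
  obtain ⟨β, hβ, g₀, hg₀, e'⟩ := h2
  have hconj := hA α hα Q g₀ hg₀ hf₀.image hf₀.image_le (by
    rintro _ ⟨x, hx, rfl⟩
    rw [← e x hx]
    exact hfg x hx)
  refine ⟨β * α, Subgroup.mul_mem _ hβ hα, _, hf₀.comp hconj (fun x hx => ⟨x, hx, rfl⟩),
    fun x hx => ?_⟩
  show g (f x) = extAut (β * α) (extAut α⁻¹ (g₀ (extAut α (f₀ x))))
  have h1 : extAut α (f₀ x) ∈ Q := by rw [← e x hx]; exact hfg x hx
  have h2 : g₀ (extAut α (f₀ x)) ∈ S := hg₀.mem h1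
  rw [Helper87.extAut_mul _ _ (Helper87.extAut_mem_self _ h2), Helper87.extAut_inv_right α h2,
    ← e x hx, e' _ (hfg x hx)]

theorem XMor.symm {F₀ : FusionSystem S} {A : Subgroup (MulAut S)}
    (hA : ∀ α ∈ A, NormalizesSys F₀ α) {P : Subgroup Ω}
    {f : Ω → Ω} (h : XMor F₀ A P f) {Q : Subgroup Ω} (hQ : Iso (univSys S) P Q f) :
    ∃ g, XMor F₀ A Q g ∧ ∀ x ∈ P, g (f x) = x := by
  obtain ⟨α, hα, f₀, hf₀, e⟩ := h
  have hαi : α⁻¹ ∈ A := Subgroup.inv_mem _ hα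
  obtain ⟨fi, hfi, hfil, -⟩ := (Iso.of_mor hf₀).symm
  have hQS : Q ≤ S := hQ.le_right
  have hconj := hA α⁻¹ hαi _ fi hfi.1 Q hQS (by
    intro y hy
    obtain ⟨x, hx, rfl⟩ := hQ.surj hy
    rw [e x hx, Helper87.extAut_inv_left α (hf₀.mem hx)]
    exact ⟨x, hx, rfl⟩)
  rw [inv_inv] at hconj
  refine ⟨fun y => extAut α⁻¹ (extAut α (fi (extAut α⁻¹ y))),
    ⟨α⁻¹, hαi, _, hconj, fun _ _ => rfl⟩, fun x hx => ?_⟩
  show extAut α⁻¹ (extAut α (fi (extAut α⁻¹ (f x)))) = x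
  rw [e x hx, Helper87.extAut_inv_left α (hf₀.mem hx), hfil x hx,
    Helper87.extAut_inv_left α (hQ.le_left hx)]

/-- the extension of `F₀` by `A` -/
noncomputable def extSys (F₀ : FusionSystem S) (A : Subgroup (MulAut S))
    (hA : ∀ α ∈ A, NormalizesSys F₀ α) : FusionSystem S where
  Hom P := {φ | XMor F₀ A P (extFun φ)}
  le_of_mem := by
    intro P φ h
    have h' : XMor F₀ A P (extFun φ) := h
    refine ⟨h'.mor.le, fun x => ?_⟩
    have := h'.mor.mem x.2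
    rwa [Helper87.extFun_apply] at this
  injective_of_mem := by
    intro P φ h a b hab
    have h' : XMor F₀ A P (extFun φ) := h
    apply Subtype.ext
    apply h'.mor.inj a.2 b.2
    rw [Helper87.extFun_apply, Helper87.extFun_apply]
    exact hab
  conj_mem := by
    intro P g hP hg
    refine (XMor.of_mor (Mor.conj (F := F₀) hP hg)).congr (fun x hx => ?_)
    rw [Helper87.extFun_mem _ hx]
    rfl
  comp_mem := by
    intro P Q φ ψ hφ hψ h
    have h1 : ∀ x ∈ P, extFun φ x ∈ Q := fun x hx => by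
      rw [Helper87.extFun_mem φ hx]; exact h ⟨x, hx⟩
    refine (XMor.comp hA hφ hψ h1).congr (fun x hx => ?_)
    show extFun ψ (extFun φ x) = extFun (ψ.comp (φ.codRestrict Q h)) x
    rw [Helper87.extFun_mem (ψ.comp (φ.codRestrict Q h)) hx, Helper87.extFun_mem φ hx,
      Helper87.extFun_mem ψ (h ⟨x, hx⟩)]
    rfl
  inv_mem := by
    intro P φ hφ
    have hφ' : XMor F₀ A P (extFun φ) := hφ
    have hmor : Mor (univSys S) P (extFun φ) := hφ'.mor
    have hiso : Iso (univSys S) P φ.range (extFun φ) := by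
      refine ⟨hmor, fun y => ⟨?_, ?_⟩⟩
      · rintro ⟨x, rfl⟩
        exact ⟨x, x.2, Helper87.extFun_apply φ x⟩
      · rintro ⟨x, hx, rfl⟩
        rw [Helper87.extFun_mem φ hx]
        exact ⟨⟨x, hx⟩, rfl⟩
    obtain ⟨g, hg, hgl⟩ := hφ'.symm hA hiso
    obtain ⟨ψ, hψ, hψg⟩ := hg.mor
    refine ⟨ψ, hg.congr (fun y hy => ?_), fun x => ?_⟩
    · rw [Helper87.extFun_mem ψ hy, hψg ⟨y, hy⟩]
    · rw [hψg]
      have := hgl x x.2
      rw [Helper87.extFun_apply] at this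
      exact this

theorem mor_extSys_iff {F₀ : FusionSystem S} {A : Subgroup (MulAut S)}
    {hA : ∀ α ∈ A, NormalizesSys F₀ α} {P : Subgroup Ω} {f : Ω → Ω} :
    Mor (extSys F₀ A hA) P f ↔ XMor F₀ A P f := by
  constructor
  · rintro ⟨φ, hφ, e⟩
    have hφ' : XMor F₀ A P (extFun φ) := hφ
    exact hφ'.congr (fun x hx => by rw [Helper87.extFun_mem φ hx, e ⟨x, hx⟩])
  · intro h
    obtain ⟨φ, hφ, e⟩ := h.mor
    refine ⟨φ, ?_, e⟩
    show XMor F₀ A P (extFun φ)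
    exact h.congr (fun x hx => by rw [Helper87.extFun_mem φ hx, e ⟨x, hx⟩])

theorem le_extSys (F₀ : FusionSystem S) (A : Subgroup (MulAut S))
    (hA : ∀ α ∈ A, NormalizesSys F₀ α) : F₀ ≤ extSys F₀ A hA := by
  intro P φ hφ
  show XMor F₀ A P (extFun φ)
  exact XMor.of_mor (Helper87.mor_of_mem hφ)

theorem mem_autGroup_extSys {F₀ : FusionSystem S} {A : Subgroup (MulAut S)}
    {hA : ∀ α ∈ A, NormalizesSys F₀ α} {α : MulAut S} (hα : α ∈ A) :
    α ∈ (extSys F₀ A hA).autGroup S := by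
  rw [Helper87.mem_autGroup_iff le_rfl, mor_extSys_iff]
  exact XMor.of_aut hα le_rfl

end Cfsg.Agent.Helper84
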