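import Mathlib
import Cfsg.Prelude.Def_FusionSystem
import Cfsg.Agent.Lib.Helper84.FusX1
import Cfsg.Agent.Lib.Helper84.FusP3

/-!
# The extension of a saturated system by a group of automorphisms of index prime to `p` is
saturated
-/

set_option autoImplicit false

namespace Cfsg.Agent.Helper84

open Cfsg Cfsg.FusionSystem
open Cfsg.Agent.Helper87 (Mor Iso extFun extAut)

variable {Ω : Type*} [Group Ω] {S : Subgroup Ω}

/-- a Sylow subgroup of `H` is a Sylow subgroup of `G ≥ H` when some power prime to `p` carries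
`G` into `H` -/
theorem IsSylIn.of_pow_mem {X : Type*} [Group X] {p : ℕ} [Fact p.Prime] {T H G : Subgroup X}
    [Finite G] (h : IsSylIn p T H) (hHG : H ≤ G) {m : ℕ} (hm : m.Coprime p)
    (hpow : ∀ g ∈ G, g ^ m ∈ H) : IsSylIn p T G := by
  have hfinH : Finite H := Finite.of_injective (Subgroup.inclusion hHG) (Subgroup.inclusion_injective _)
  obtain ⟨T', hTT', hT'⟩ := exists_isSylIn_ge (h.1.trans hHG) h.2.1
  have hT'H : T' ≤ H := by
    intro x hx
    have hxm : x ^ m ∈ H := hpow x (hT'.1 hx)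
    obtain ⟨k, hk⟩ := hT'.2.1 ⟨x, hx⟩
    have hk' : x ^ (p ^ k) = 1 := by
      have := congrArg Subtype.val hk
      simpa using this
    have hcop : (m).Coprime (p ^ k) := Nat.Coprime.pow_right k hm
    -- x = (x^m)^u * (x^(p^k))^v
    have hx1 : x = (x ^ m) ^ (Nat.gcdA m (p ^ k)) * (x ^ (p ^ k)) ^ (Nat.gcdB m (p ^ k)) := by
      rw [← zpow_natCast x m, ← zpow_natCast x (p ^ k), ← zpow_mul, ← zpow_mul, ← zpow_add,
        ← Nat.gcd_eq_gcd_ab, hcop.gcd_eq_one]
      simp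
    rw [hx1, hk', one_zpow, mul_one]
    exact H.zpow_mem hxm _
  have hcard : Nat.card T' ≤ Nat.card T := h.card_le hT'H hT'.2.1
  have hfinT' : Finite T' :=
    Finite.of_injective (Subgroup.inclusion hT'.1) (Subgroup.inclusion_injective _)
  have heq : T = T' := Subgroup.eq_of_le_of_card_ge hTT' hcard
  rw [heq]
  exact hT'

theorem mem_autGroup_univSys (α : MulAut S) : α ∈ (univSys S).autGroup S :=
  (Helper87.mem_autGroup_iff le_rfl).mpr (mor_univSys_extAut α)

theorem card_normalizerIn_le_imgAut [Finite S] (a : MulAut S) {R : Subgroup Ω} (hR : R ≤ S) :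
    Nat.card (normalizerIn S R) ≤ Nat.card (normalizerIn S (imgAut a R)) := by
  have hiso := iso_imgAut (univSys S) (mem_autGroup_univSys a) hR
  have m : Mor (univSys S) (normalizerIn S R) (extAut a) :=
    (mor_univSys_extAut a).restrict inf_le_left
  exact Helper87.card_le_of_mor m inf_le_left (fun n hn => Helper87.map_normalizerIn m hiso hn)

theorem extAut_map_mul (a : MulAut S) {x y : Ω} (hx : x ∈ S) (hy : y ∈ S) :
    extAut a (x * y) = extAut a x * extAut a y :=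
  (mor_univSys_extAut a).map_mul hx hy

theorem extAut_map_inv (a : MulAut S) {x : Ω} (hx : x ∈ S) :
    extAut a x⁻¹ = (extAut a x)⁻¹ :=
  (mor_univSys_extAut a).map_inv hx

/-- pull-back of an isomorphism of `F₀` along a normalizing automorphism -/
theorem NormalizesSys.iso {F₀ : FusionSystem S} {a : MulAut S} (ha : NormalizesSys F₀ a)
    {Q R : Subgroup Ω} {f : Ω → Ω} (hf : Iso F₀ Q R f) :
    Iso F₀ (imgAut a⁻¹ Q) (imgAut a⁻¹ R) (fun x => extAut a⁻¹ (f (extAut a x))) := by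
  have hQS : Q ≤ S := hf.le_left
  have hRS : R ≤ S := hf.le_right
  have hm := ha Q f hf.1 (imgAut a⁻¹ Q) (imgAut_le _ _)
    (fun x hx => ((mem_imgAut_inv hQS).mp hx).2)
  refine ⟨hm, fun y => ⟨fun hy => ?_, ?_⟩⟩
  · obtain ⟨hyS, hay⟩ := (mem_imgAut_inv hRS).mp hy
    obtain ⟨x, hx, hxy⟩ := hf.surj hay
    refine ⟨extAut a⁻¹ x, (mem_imgAut hQS).mpr ⟨x, hx, rfl⟩, ?_⟩
    show extAut a⁻¹ (f (extAut a (extAut a⁻¹ x))) = y
    rw [Helper87.extAut_inv_right a (hQS hx), hxy, Helper87.extAut_inv_left a hyS]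
  · rintro ⟨x, hx, rfl⟩
    obtain ⟨hxS, hax⟩ := (mem_imgAut_inv hQS).mp hx
    exact (mem_imgAut hRS).mpr ⟨_, hf.map_mem hax, rfl⟩

theorem imgAut_inv_imgAut' (a : MulAut S) {R : Subgroup Ω} (hR : R ≤ S) :
    imgAut a⁻¹ (imgAut a R) = R := by
  ext y
  rw [mem_imgAut_inv (imgAut_le _ _)]
  constructor
  · rintro ⟨hyS, hy⟩
    obtain ⟨x, hx, hxy⟩ := (mem_imgAut hR).mp hy
    have : x = y := (mor_univSys_extAut a).inj (hR hx) hyS hxy
    rw [← this]; exact hx
  · intro hy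
    exact ⟨hR hy, (mem_imgAut hR).mpr ⟨y, hy, rfl⟩⟩

/-- the image of a fully normalized subgroup under a normalizing automorphism is fully
normalized -/
theorem fullyNormalized_imgAut_inv [Finite S] {F₀ : FusionSystem S} {a : MulAut S}
    (hai : NormalizesSys F₀ a⁻¹) {Q : Subgroup Ω}
    (hQ : F₀.IsFullyNormalized Q) : F₀.IsFullyNormalized (imgAut a⁻¹ Q) := by
  refine ⟨imgAut_le _ _, fun R' hR' => ?_⟩
  obtain ⟨f, hf⟩ := Helper87.isConj_iff.1 hR'
  have hR'S : R' ≤ S := hf.le_right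
  have h1 := hai.iso hf
  rw [inv_inv] at h1
  have hQ' : imgAut a (imgAut a⁻¹ Q) = Q := by
    have := imgAut_inv_imgAut' a⁻¹ hQ.1
    rwa [inv_inv] at this
  rw [hQ'] at h1
  have h2 : Nat.card (normalizerIn S (imgAut a R')) ≤ Nat.card (normalizerIn S Q) :=
    hQ.2 _ (Helper87.isConj_iff.2 ⟨_, h1⟩)
  calc Nat.card (normalizerIn S R') ≤ Nat.card (normalizerIn S (imgAut a R')) :=
        card_normalizerIn_le_imgAut a hR'S
    _ ≤ Nat.card (normalizerIn S Q) := h2
    _ ≤ Nat.card (normalizerIn S (imgAut a⁻¹ Q)) := card_normalizerIn_le_imgAut a⁻¹ hQ.1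

theorem extSys_pow_mem {F₀ : FusionSystem S} {A : Subgroup (MulAut S)}
    (hA : ∀ α ∈ A, NormalizesSys F₀ α) {Q : Subgroup Ω} (hQS : Q ≤ S) {g : MulAut Q}
    (hg : g ∈ (extSys F₀ A hA).autGroup Q) {m : ℕ} (hAm : ∀ α ∈ A, α ^ m ∈ F₀.autGroup S) :
    g ^ m ∈ F₀.autGroup Q := by
  have hg' : XMor F₀ A Q (extAut g) := mor_extSys_iff.mp ((Helper87.mem_autGroup_iff hQS).mp hg)
  obtain ⟨a, ha, f₀, hf₀, e⟩ := hg'
  have key : ∀ k : ℕ, ∃ fk, Mor F₀ Q fk ∧ ∀ x ∈ Q, (extAut g)^[k] x = extAut (a ^ k) (fk x) := by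
    intro k
    induction k with
    | zero =>
      refine ⟨fun x => x, Mor.id hQS, fun x hx => ?_⟩
      rw [pow_zero, Helper87.extAut_one (hQS hx)]
      rfl
    | succ k ih =>
      obtain ⟨fk, hfk, ek⟩ := ih
      have hmem : ∀ x ∈ Q, (extAut g)^[k] x ∈ Q := by
        intro x hx
        rw [extAut_iterate g k hx]
        exact ((g ^ k) ⟨x, hx⟩).2
      have hpull := hA (a ^ k) (Subgroup.pow_mem _ ha k) Q f₀ hf₀ hfk.image hfk.image_le (by
        rintro _ ⟨x, hx, rfl⟩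
        rw [← ek x hx]
        exact hmem x hx)
      refine ⟨_, hfk.comp hpull (fun x hx => ⟨x, hx, rfl⟩), fun x hx => ?_⟩
      show (extAut g)^[k + 1] x =
        extAut (a ^ (k + 1)) (extAut (a ^ k)⁻¹ (f₀ (extAut (a ^ k) (fk x))))
      have h1 : extAut (a ^ k) (fk x) ∈ Q := by rw [← ek x hx]; exact hmem x hx
      have h2 : f₀ (extAut (a ^ k) (fk x)) ∈ S := hf₀.mem h1
      rw [Function.iterate_succ_apply', ek x hx, e _ h1, pow_succ',
        Helper87.extAut_mul _ _ (Helper87.extAut_mem_self _ h2),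
        Helper87.extAut_inv_right (a ^ k) h2]
  obtain ⟨fm, hfm, em⟩ := key m
  rw [Helper87.mem_autGroup_iff hQS]
  have ham : Mor F₀ S (extAut (a ^ m)) := (Helper87.mem_autGroup_iff le_rfl).mp (hAm a ha)
  refine (hfm.comp ham (fun x hx => hfm.mem hx)).congr (fun x hx => ?_)
  show extAut (a ^ m) (fm x) = extAut (g ^ m) x
  rw [← em x hx, extAut_iterate g m hx, Helper87.extAut_mem _ hx]

/-- **Extensions of index prime to `p`**: the extension of a saturated system by a group of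
automorphisms normalizing it, some power prime to `p` of which lies in the system, is saturated -/
theorem extSys_saturated [Finite S] {p : ℕ} [Fact p.Prime] (hS : IsPGroup p S)
    {F₀ : FusionSystem S} (hF₀ : F₀.IsSaturated p) (A : Subgroup (MulAut S))
    (hA : ∀ α ∈ A, NormalizesSys F₀ α) {m : ℕ} (hm : m.Coprime p)
    (hAm : ∀ α ∈ A, α ^ m ∈ F₀.autGroup S) : (extSys F₀ A hA).IsSaturated p := by
  intro P hP
  obtain ⟨Q, hPQ, hQ⟩ := Helper87.exists_fullyNormalized_conj F₀ hP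
  have hQS : Q ≤ S := hQ.1
  have hfinQ : Finite Q := Helper87.finite_of_le hQS
  have hsub : F₀.IsSubsystemOf (extSys F₀ A hA) := le_extSys F₀ A hA
  refine ⟨Q, isConj_of_subsystem hsub hPQ, ?_, ?_⟩
  · rw [fullyAutomized_iff]
    refine ⟨hQS, ?_⟩
    have hFA := ((fullyAutomized_iff F₀ Q).mp
      (Helper87.fullyAutomized_of_fullyNormalized hS hF₀ hQ)).2
    exact hFA.of_pow_mem (Helper87.autGroup_le_of_subsystem hsub hQS hQS) hm
      (fun g hg => extSys_pow_mem hA hQS hg hAm)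
  · rw [Helper87.isReceptive_iff]
    refine ⟨hQS, fun P' f h => ?_⟩
    obtain ⟨a, ha, f₀, hf₀, e⟩ := mor_extSys_iff.mp h.1
    have hP'S : P' ≤ S := h.le_left
    have hnai := hA a⁻¹ (Subgroup.inv_mem _ ha)
    -- `f₀` is an isomorphism onto the image of `Q` under `a⁻¹`
    have hiso₀ : Iso F₀ P' (imgAut a⁻¹ Q) f₀ := by
      refine ⟨hf₀, fun y => ⟨fun hy => ?_, ?_⟩⟩
      · obtain ⟨hyS, hay⟩ := (mem_imgAut_inv hQS).mp hy
        obtain ⟨x, hx, hxy⟩ := h.surj hay
        refine ⟨x, hx, ?_⟩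
        have := e x hx
        rw [hxy] at this
        exact (mor_univSys_extAut a).inj (hf₀.mem hx) hyS this.symm
      · rintro ⟨x, hx, rfl⟩
        rw [mem_imgAut_inv hQS]
        refine ⟨hf₀.mem hx, ?_⟩
        rw [← e x hx]
        exact h.map_mem hx
    have hfn₀ : F₀.IsFullyNormalized (imgAut a⁻¹ Q) := fullyNormalized_imgAut_inv hnai hQ
    have hrec := Helper87.receptive_of_fullyNormalized hS hF₀ hfn₀
    obtain ⟨gh, hgh, hghx⟩ := (Helper87.isReceptive_iff.1 hrec).2 P' _ hiso₀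
    have hle : h.ext ≤ hiso₀.ext := by
      rintro g ⟨hgS, hgN, k, hk, ek⟩
      refine ⟨hgS, hgN, extAut a⁻¹ k, Helper87.extAut_mem_self _ hk, fun x hx => ?_⟩
      have hgx : g * x * g⁻¹ ∈ P' := (Subgroup.mem_normalizer_iff.1 hgN x).1 hx
      have h1 := ek x hx
      rw [e _ hgx, e x hx] at h1
      have h2 : f₀ (g * x * g⁻¹) = extAut a⁻¹ (extAut a (f₀ (g * x * g⁻¹))) :=
        (Helper87.extAut_inv_left a (hf₀.mem hgx)).symm
      rw [h2, h1, extAut_map_mul a⁻¹ (S.mul_mem hk (Helper87.extAut_mem_self _ (hf₀.mem hx)))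
        (S.inv_mem hk), extAut_map_mul a⁻¹ hk (Helper87.extAut_mem_self _ (hf₀.mem hx)),
        extAut_map_inv a⁻¹ hk, Helper87.extAut_inv_left a (hf₀.mem hx)]
    refine ⟨fun x => extAut a (gh x),
      mor_extSys_iff.mpr ⟨a, ha, gh, hgh.restrict hle, fun _ _ => rfl⟩, fun x hx => ?_⟩
    show extAut a (gh x) = f x
    rw [hghx x hx, e x hx]

end Cfsg.Agent.Helper84
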