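import Mathlib
import Cfsg.Prelude.Def_FusionSystem
import Cfsg.Agent.Lib.Helper84.FusX2
import Cfsg.Agent.Lib.Helper84.FusP4
import Cfsg.Agent.Lib.Helper87.FusionInvariant

/-!
# Weakly normal subsystems and `O^{p'}`: the `p'`-residual subsystem of a weakly normal subsystem
over `T` is contained in every weakly normal subsystem over `T`
-/

set_option autoImplicit false

namespace Cfsg.Agent.Helper84

open Cfsg Cfsg.FusionSystem
open Cfsg.Agent.Helper87 (Mor Iso extFun extAut)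

variable {Ω : Type*} [Group Ω] {S T : Subgroup Ω}

theorem isConj_of_subsystem' {E : FusionSystem T} {F : FusionSystem S} (hEF : E.IsSubsystemOf F)
    {P Q : Subgroup Ω} (h : E.IsConj P Q) : F.IsConj P Q := by
  obtain ⟨φ, hφ, hr⟩ := h
  exact ⟨φ, hEF P hφ, hr⟩

/-- the strong invariance condition, at function level -/
def SInv (E : FusionSystem T) (F : FusionSystem S) : Prop :=
  ∀ (P Q R : Subgroup Ω) (f g g' : Ω → Ω), P ≤ Q → Q ≤ T → Mor E P f → (∀ x ∈ P, f x ∈ Q) →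
    Mor F Q g → (∀ y, y ∈ R ↔ ∃ x ∈ P, g x = y) → (∀ x ∈ P, g' (g x) = x) →
    Mor E R (fun y => g (f (g' y)))

theorem sInv_of_invariant {E : FusionSystem T} {F : FusionSystem S} (hinv : E.IsInvariantIn F) :
    SInv E F := by
  intro P Q R f g g' hPQ hQT hf hfQ hg hR hg'
  obtain ⟨α, hα, g₀, hg₀, eg⟩ := Helper87.frattini_fun hinv hQT hg
  have hiso₀ : Iso E P (hg₀.restrict hPQ).image g₀ := Iso.of_mor _
  obtain ⟨g₀', hg₀', e1, e2⟩ := hiso₀.symm
  have hR₀T : (hg₀.restrict hPQ).image ≤ T := hiso₀.le_right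
  have hk₀ : Mor E (hg₀.restrict hPQ).image (fun y => g₀ (f (g₀' y))) :=
    (hg₀'.1.comp hf (fun y hy => hg₀'.map_mem hy)).comp hg₀
      (fun y hy => hfQ _ (hg₀'.map_mem hy))
  have h1 := Helper87.invariance_fun hinv hR₀T hk₀ hα
  have hRe : Helper87.imgAut α (hg₀.restrict hPQ).image = R := by
    ext y
    rw [Helper87.mem_imgAut hR₀T, hR]
    constructor
    · rintro ⟨z, ⟨x, hx, rfl⟩, rfl⟩
      exact ⟨x, hx, eg x (hPQ hx)⟩
    · rintro ⟨x, hx, rfl⟩
      exact ⟨g₀ x, ⟨x, hx, rfl⟩, (eg x (hPQ hx)).symm⟩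
  rw [hRe] at h1
  refine h1.congr (fun y hy => ?_)
  obtain ⟨x, hx, rfl⟩ := (hR y).1 hy
  show extAut α (g₀ (f (g₀' (extAut α⁻¹ (g x))))) = g (f (g' (g x)))
  have hg₀xT : g₀ x ∈ T := hR₀T ⟨x, hx, rfl⟩
  rw [hg' x hx, eg x (hPQ hx), Helper87.extAut_inv_left α hg₀xT, e1 x hx, eg (f x) (hfQ x hx)]

/-- conjugates in `F` of a centric subgroup of an invariant subsystem over `T` contain their
centralizers in `T` -/
theorem tcen_of_centric {E : FusionSystem T} {F : FusionSystem S} (hinv : E.IsInvariantIn F)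
    {P : Subgroup Ω} (hP : E.IsCentric P) {P' : Subgroup Ω} (hPP' : F.IsConj P P') :
    centralizerIn T P' ≤ P' := by
  have hTS : T ≤ S := hinv.2.1.1
  have hPT : P ≤ T := hP.1
  obtain ⟨f, hf⟩ := Helper87.isConj_iff.1 hPP'
  obtain ⟨α, hα, f₀, hf₀, e⟩ := Helper87.frattini_fun hinv hPT hf.1
  have hαiF : Mor F T (extAut α⁻¹) :=
    (Helper87.mem_autGroup_iff hTS).mp (Subgroup.inv_mem _ hα)
  have hc₀ := hP.2 hf₀.image (Helper87.isConj_iff.2 ⟨f₀, Iso.of_mor hf₀⟩)
  intro c hc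
  have hcT : c ∈ T := hc.1
  have hcc : c ∈ Subgroup.centralizer (P' : Set Ω) := hc.2
  have hfT : ∀ x ∈ P, f x ∈ T := by
    intro x hx
    rw [e x hx]
    exact Helper87.extAut_mem_self _ (hf₀.mem hx)
  have h1 : extAut α⁻¹ c ∈ centralizerIn T hf₀.image := by
    refine Subgroup.mem_inf.mpr ⟨Helper87.extAut_mem_self _ hcT, ?_⟩
    rw [Subgroup.mem_centralizer_iff]
    rintro _ ⟨x, hx, rfl⟩
    have hf₀x : f₀ x ∈ T := hf₀.mem hx
    have h2 : f₀ x = extAut α⁻¹ (f x) := by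
      rw [e x hx, Helper87.extAut_inv_left α hf₀x]
    rw [h2, ← hαiF.map_mul (hfT x hx) hcT, ← hαiF.map_mul hcT (hfT x hx),
      hcc _ (hf.map_mem hx)]
  obtain ⟨x, hx, hxc⟩ := hc₀ h1
  have h3 : f x = c := by
    rw [e x hx]
    show extAut α (f₀ x) = c
    rw [hxc, Helper87.extAut_inv_right α hcT]
  rw [← h3]
  exact hf.map_mem hx

theorem normalizesSys_of_invariant {E : FusionSystem T} {F : FusionSystem S}
    (hinv : E.IsInvariantIn F) {α : MulAut T} (hα : α ∈ F.autGroup T) : NormalizesSys E α := by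
  intro Q f hf P₁ hP₁ hmap
  have hQT : Q ≤ T := hf.le
  have hαi : α⁻¹ ∈ F.autGroup T := Subgroup.inv_mem _ hα
  have h1 := Helper87.invariance_fun hinv hQT hf hαi
  rw [inv_inv] at h1
  refine h1.restrict ?_
  intro x hx
  rw [Helper87.mem_imgAut hQT]
  exact ⟨extAut α x, hmap x hx, Helper87.extAut_inv_left α (hP₁ hx)⟩

/-- splitting an element of a finite group into its `p`-part and its `p'`-part -/
theorem exists_pow_decomp {G : Type*} [Group G] [Finite G] (p : ℕ) [hp : Fact p.Prime] (g : G) :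
    ∃ (i j a b : ℕ), b.Coprime p ∧ g = g ^ i * g ^ j ∧ (g ^ i) ^ (p ^ a) = 1 ∧
      (g ^ j) ^ b = 1 := by
  have hn0 : orderOf g ≠ 0 := (orderOf_pos g).ne'
  obtain ⟨a, b, hb, hab⟩ := Nat.exists_eq_pow_mul_and_not_dvd hn0 p hp.out.ne_one
  have hbp : p.Coprime b := (Nat.Prime.coprime_iff_not_dvd hp.out).mpr hb
  have hcop : (p ^ a).Coprime b := Nat.Coprime.pow_left a hbp
  obtain ⟨i, hi1, hi0⟩ := Nat.chineseRemainder hcop 1 0
  obtain ⟨j, hj0, hj1⟩ := Nat.chineseRemainder hcop 0 1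
  refine ⟨i, j, a, b, hbp.symm, ?_, ?_, ?_⟩
  · rw [← pow_add]
    have h1 : i + j ≡ 1 [MOD orderOf g] := by
      rw [hab]
      apply (Nat.modEq_and_modEq_iff_modEq_mul hcop).mp
      constructor
      · have := Nat.ModEq.add hi1 hj0
        simpa using this
      · have := Nat.ModEq.add hi0 hj1
        simpa using this
    have h2 : g ^ (i + j) = g ^ 1 := pow_eq_pow_iff_modEq.mpr h1
    rw [h2, pow_one]
  · rw [← pow_mul]
    apply orderOf_dvd_iff_pow_eq_one.mp
    rw [hab, mul_comm i]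
    exact Nat.mul_dvd_mul dvd_rfl ((Nat.modEq_zero_iff_dvd).mp hi0)
  · rw [← pow_mul]
    apply orderOf_dvd_iff_pow_eq_one.mp
    rw [hab]
    exact Nat.mul_dvd_mul ((Nat.modEq_zero_iff_dvd).mp hj0) dvd_rfl

/-- a `p`-power automorphism in a saturated system over `T` lies in every system over `T`
invariant in `F` -/
theorem ppgen_sub_of_invariant [Finite T] {p : ℕ} [hp : Fact p.Prime] (hT : IsPGroup p T)
    {E D' : FusionSystem T} {F : FusionSystem S} (hEs : E.IsSaturated p)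
    (hD' : D'.IsInvariantIn F) (hEF : E.IsSubsystemOf F) {R : Subgroup Ω} {β : Ω → Ω}
    (hβ : PPGen E p R β) : Mor D' R β := by
  obtain ⟨hiso, k, hβk⟩ := hβ
  have hRT : R ≤ T := hiso.le_left
  have hfinR : Finite R := Helper87.finite_of_le hRT
  have h1 : (hiso.equiv : MulAut R) ^ (p ^ k) = 1 := by
    ext x
    rw [equiv_pow_apply hiso (p ^ k) x, hβk x x.2]
    rfl
  set a : E.autGroup R := ⟨hiso.equiv, hiso.equiv_mem_autGroup⟩ with ha
  have h2 : a ^ (p ^ k) = 1 := by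
    apply Subtype.ext
    rw [Subgroup.coe_pow]
    exact h1
  obtain ⟨j, -, hj⟩ := (Nat.dvd_prime_pow hp.out).mp (orderOf_dvd_of_pow_eq_one h2)
  obtain ⟨P', ψ, s, hψ, hs, eψ⟩ := exists_iso_conj_of_pPower E hT hEs hRT a hj
  have hP'T : P' ≤ T := hψ.le_right
  have hψF : Iso F R P' ψ := hψ.of_subsystem hEF
  obtain ⟨ψ', hψ', hl, hr⟩ := hψF.symm
  have hcs : Mor D' P' (fun y => s * y * s⁻¹) := Mor.conj hP'T hs
  have hax : ∀ x ∈ R, extAut (a : MulAut R) x = β x := by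
    intro x hx
    rw [Helper87.extAut_mem _ hx]
    exact hiso.equiv_apply ⟨x, hx⟩
  have hmaps : ∀ y ∈ P', s * y * s⁻¹ ∈ P' := by
    intro y hy
    obtain ⟨x, hx, rfl⟩ := hψ.surj hy
    rw [← eψ x hx]
    exact hψ.map_mem (Helper87.extAut_mem_self _ hx)
  have h3 := sInv_of_invariant hD' P' P' R (fun y => s * y * s⁻¹) ψ' ψ le_rfl hP'T hcs hmaps
    hψ'.1 (fun y => hψ'.2 y) hr
  refine h3.congr (fun x hx => ?_)
  show ψ' (s * ψ x * s⁻¹) = β x
  rw [← eψ x hx, hl _ (Helper87.extAut_mem_self _ hx), hax x hx]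

theorem pmor_sub_of_invariant [Finite T] {p : ℕ} [Fact p.Prime] (hT : IsPGroup p T)
    {E D' : FusionSystem T} {F : FusionSystem S} (hEs : E.IsSaturated p)
    (hD' : D'.IsInvariantIn F) (hEF : E.IsSubsystemOf F) {P : Subgroup Ω} {f : Ω → Ω}
    (h : PMor E p P f) : Mor D' P f := by
  induction h with
  | base hpg => exact ppgen_sub_of_invariant hT hEs hD' hEF hpg
  | restr _ hQP ih => exact ih.restrict hQP
  | comp _ _ hfg ih1 ih2 => exact ih1.comp ih2 hfg
  | congr _ hff ih => exact ih.congr hff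

theorem xmor_mor_of_le {D' : FusionSystem T} {F : FusionSystem S} (hTS : T ≤ S)
    (hD'F : D'.IsSubsystemOf F) {A : Subgroup (MulAut T)} (hAF : A ≤ F.autGroup T)
    {P : Subgroup Ω} {f : Ω → Ω} (h : XMor D' A P f) : Mor F P f := by
  obtain ⟨γ, hγ, f₀, hf₀, e⟩ := h
  have hγF : Mor F T (extAut γ) := (Helper87.mem_autGroup_iff hTS).mp (hAF hγ)
  exact ((hf₀.of_subsystem hD'F).comp hγF (fun x hx => hf₀.mem hx)).congr
    (fun x hx => (e x hx).symm)

/-- an automorphism of `T` in `E` restricting to a map of `O^{p'}_*(E)` on a centric subgroup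
lies in every saturated system over `T` invariant in `F` -/
theorem aut0_gen_mem_of_invariant [Finite T] {p : ℕ} [Fact p.Prime] (hT : IsPGroup p T)
    {E D' : FusionSystem T} {F : FusionSystem S} (hEs : E.IsSaturated p)
    (hEinv : E.IsInvariantIn F) (hD's : D'.IsSaturated p) (hD' : D'.IsInvariantIn F)
    {α : MulAut T} (hα : α ∈ E.autGroup T) {P : Subgroup Ω} (hPc : E.IsCentric P)
    (hPα : PMor E p P (extAut α)) : α ∈ D'.autGroup T := by
  have hTS : T ≤ S := hEinv.2.1.1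
  have hEF : E.IsSubsystemOf F := hEinv.1
  have hD'F : D'.IsSubsystemOf F := hD'.1
  have hPT : P ≤ T := hPc.1
  obtain ⟨i, j, a, b, hb, hdec, hτ, hl⟩ := exists_pow_decomp p α
  have hτE : α ^ i ∈ E.autGroup T := Subgroup.pow_mem _ hα i
  have hτD : α ^ i ∈ D'.autGroup T := by
    rw [Helper87.mem_autGroup_iff le_rfl]
    have hpp : PPGen E p T (extAut (α ^ i)) := by
      refine ⟨Helper87.iso_of_mor_extAut ((Helper87.mem_autGroup_iff le_rfl).mp hτE), a,
        fun x hx => ?_⟩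
      rw [extAut_iterate (α ^ i) _ hx, hτ]
      rfl
    exact ppgen_sub_of_invariant hT hEs hD' hEF hpp
  have hlE : α ^ j ∈ E.autGroup T := Subgroup.pow_mem _ hα j
  have hlF : α ^ j ∈ F.autGroup T := Helper87.autGroup_le_of_subsystem hEF le_rfl hTS hlE
  have hαP : Mor D' P (extAut α) := pmor_sub_of_invariant hT hEs hD' hEF hPα
  have hl_eq : α ^ j = (α ^ i)⁻¹ * α := by
    have : (α ^ i)⁻¹ * α = (α ^ i)⁻¹ * (α ^ i * α ^ j) := by rw [← hdec]
    rw [this, inv_mul_cancel_left]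
  have hlP : Mor D' P (extAut (α ^ j)) := by
    have hτi : Mor D' T (extAut (α ^ i)⁻¹) :=
      (Helper87.mem_autGroup_iff le_rfl).mp (Subgroup.inv_mem _ hτD)
    refine (hαP.comp hτi (fun x hx => hαP.mem hx)).congr (fun x hx => ?_)
    show extAut (α ^ i)⁻¹ (extAut α x) = extAut (α ^ j) x
    rw [hl_eq, Helper87.extAut_mul _ _ (hPT hx)]
  -- the extension of `D'` by the `p'`-part
  have hAF : Subgroup.zpowers (α ^ j) ≤ F.autGroup T := by
    rw [Subgroup.zpowers_le]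
    exact hlF
  have hA : ∀ γ ∈ Subgroup.zpowers (α ^ j), NormalizesSys D' γ :=
    fun γ hγ => normalizesSys_of_invariant hD' (hAF hγ)
  have hAm : ∀ γ ∈ Subgroup.zpowers (α ^ j), γ ^ b ∈ D'.autGroup T := by
    rintro γ ⟨z, rfl⟩
    have : ((α ^ j) ^ z) ^ b = 1 := by
      rw [← zpow_natCast, ← zpow_mul, mul_comm, zpow_mul, zpow_natCast, hl, one_zpow]
    rw [this]
    exact Subgroup.one_mem _
  have hX := extSys_saturated hT hD's (Subgroup.zpowers (α ^ j)) hA hb hAm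
  have hle : D' ≤ extSys D' (Subgroup.zpowers (α ^ j)) hA := le_extSys D' _ hA
  have hψ : Mor (extSys D' (Subgroup.zpowers (α ^ j)) hA) T (extAut (α ^ j)) :=
    (Helper87.mem_autGroup_iff le_rfl).mp (mem_autGroup_extSys (Subgroup.mem_zpowers (α ^ j)))
  have hXF : (extSys D' (Subgroup.zpowers (α ^ j)) hA).IsSubsystemOf F := by
    intro Q φ hφ
    rw [Helper87.mem_hom_iff_mor]
    exact xmor_mor_of_le hTS hD'F hAF hφ
  have hPcen : (extSys D' (Subgroup.zpowers (α ^ j)) hA).IsCentric P :=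
    ⟨hPT, fun Q hQ => tcen_of_centric hEinv hPc (isConj_of_subsystem' hXF hQ)⟩
  have h5 := Helper88.mor_sub_of_centric hT hX hD's hle hψ P hPT hPcen hlP
  have hlD : α ^ j ∈ D'.autGroup T := (Helper87.mem_autGroup_iff le_rfl).mpr h5
  rw [hdec]
  exact Subgroup.mul_mem _ hτD hlD

theorem aut0_le_of_invariant [Finite T] {p : ℕ} [Fact p.Prime] (hT : IsPGroup p T)
    {E D' : FusionSystem T} {F : FusionSystem S} (hEs : E.IsSaturated p)
    (hEinv : E.IsInvariantIn F) (hD's : D'.IsSaturated p) (hD' : D'.IsInvariantIn F) :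
    Aut0 E p ≤ D'.autGroup T := by
  unfold Aut0
  rw [Subgroup.closure_le]
  rintro α ⟨hα, P, hP, hPα⟩
  exact aut0_gen_mem_of_invariant hT hEs hEinv hD's hD' hα hP hPα

/-- **`O^{p'}(E)` lies in every weakly normal subsystem over `T`** -/
theorem pSys1_le_of_invariant [Finite T] {p : ℕ} [Fact p.Prime] (hT : IsPGroup p T)
    {E D' : FusionSystem T} {F : FusionSystem S} (hEs : E.IsSaturated p)
    (hEinv : E.IsInvariantIn F) (hD's : D'.IsSaturated p) (hD' : D'.IsInvariantIn F) :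
    (pSys1 E p hT).IsSubsystemOf D' := by
  intro P φ hφ
  have hφ' : E1Mor E p P (extFun φ) := hφ
  obtain ⟨α, hα, f₀, hf₀, e⟩ := hφ'
  have h1 : Mor D' P f₀ := pmor_sub_of_invariant hT hEs hD' hEinv.1 hf₀
  have h2 : Mor D' T (extAut α) :=
    (Helper87.mem_autGroup_iff le_rfl).mp (aut0_le_of_invariant hT hEs hEinv hD's hD' hα)
  have h3 := h1.comp h2 (fun x hx => hf₀.mor.mem hx)
  rw [Helper87.mem_hom_iff_mor]
  exact h3.congr (fun x hx => (e x hx).symm)

end Cfsg.Agent.Helper84
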