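import Mathlib
import Cfsg.Prelude.Def_FusionSystem
import Cfsg.Agent.Lib.Helper84.FusW1
import Cfsg.Agent.Lib.Helper84.FusNormal
import Cfsg.Agent.Lib.Helper87.FusionNormalCrit

/-!
# Maps of `O^{p'}_*(E)` between centric subgroups extend over `C_S(T)` trivially modulo `T`
-/

set_option autoImplicit false

namespace Cfsg.Agent.Helper84

open Cfsg Cfsg.FusionSystem
open Cfsg.Agent.Helper87 (Mor Iso extFun extAut)

variable {Ω : Type*} [Group Ω] {S T : Subgroup Ω}

/-- all conjugates of `P ≤ T` in the system contain their centralizer in `T` -/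
def TCen (F : FusionSystem S) (T P : Subgroup Ω) : Prop :=
  P ≤ T ∧ ∀ P' : Subgroup Ω, F.IsConj P P' → centralizerIn T P' ≤ P'

theorem sc_mem {F : FusionSystem S} (hsc : F.StronglyClosed T) {U : Subgroup Ω} {f : Ω → Ω}
    (hf : Mor F U f) {x : Ω} (hxU : x ∈ U) (hxT : x ∈ T) : f x ∈ T :=
  (Helper87.stronglyClosed_iff.1 hsc).2 (U ⊓ T) f inf_le_right (hf.restrict inf_le_left) x
    ⟨hxU, hxT⟩

theorem sc_conj_mem {F : FusionSystem S} (hsc : F.StronglyClosed T) {s t : Ω} (hs : s ∈ S)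
    (ht : t ∈ T) : s * t * s⁻¹ ∈ T :=
  (Subgroup.mem_normalizer_iff.mp (stronglyClosed_normal F hsc hs) t).mp ht

theorem TCen.of_conj {F : FusionSystem S} (hsc : F.StronglyClosed T) {P P' : Subgroup Ω}
    (h : TCen F T P) (hPP' : F.IsConj P P') : TCen F T P' := by
  refine ⟨?_, fun P'' hP'' => h.2 P'' (Helper87.isConj_trans hPP' hP'')⟩
  obtain ⟨f, hf⟩ := Helper87.isConj_iff.1 hPP'
  intro y hy
  obtain ⟨x, hx, rfl⟩ := hf.surj hy
  exact sc_mem hsc hf.1 hx (h.1 hx)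

theorem TCen.of_le {F : FusionSystem S} {P R : Subgroup Ω} (h : TCen F T P) (hPR : P ≤ R)
    (hRT : R ≤ T) : TCen F T R := by
  refine ⟨hRT, fun R' hR' => ?_⟩
  obtain ⟨f, hf⟩ := Helper87.isConj_iff.1 hR'
  have hiso : Iso F P (hf.1.restrict hPR).image f := Iso.of_mor _
  have hc := h.2 _ (Helper87.isConj_iff.2 ⟨f, hiso⟩)
  intro c hc'
  have h1 : c ∈ centralizerIn T (hf.1.restrict hPR).image := by
    refine Subgroup.mem_inf.mpr ⟨hc'.1, ?_⟩
    have hcc : c ∈ Subgroup.centralizer (R' : Set Ω) := hc'.2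
    rw [Subgroup.mem_centralizer_iff]
    rintro _ ⟨x, hx, rfl⟩
    exact hcc _ (hf.map_mem (hPR hx))
  obtain ⟨x, hx, rfl⟩ := hc h1
  exact hf.map_mem (hPR hx)

theorem tcen_of_centric' {E : FusionSystem T} {F : FusionSystem S} (hinv : E.IsInvariantIn F)
    {P : Subgroup Ω} (hP : E.IsCentric P) : TCen F T P :=
  ⟨hP.1, fun _ hPP' => tcen_of_centric hinv hP hPP'⟩

/-- `f` on `P ≤ T` extends to a map of `F` on `P C_S(T)` which is trivial on `C_S(T)`
modulo `T` -/
def CExt (F : FusionSystem S) (T P : Subgroup Ω) (f : Ω → Ω) : Prop :=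
  ∃ fh, Mor F (P ⊔ centralizerIn S T) fh ∧ (∀ x ∈ P, fh x = f x) ∧
    ∀ c ∈ centralizerIn S T, c⁻¹ * fh c ∈ T

theorem CExt.restrict {F : FusionSystem S} {P Q : Subgroup Ω} {f : Ω → Ω} (h : CExt F T P f)
    (hQP : Q ≤ P) : CExt F T Q f := by
  obtain ⟨fh, hfh, e, hc⟩ := h
  exact ⟨fh, hfh.restrict (sup_le_sup_right hQP _), fun x hx => e x (hQP hx), hc⟩

theorem CExt.congr {F : FusionSystem S} {P : Subgroup Ω} {f f' : Ω → Ω} (h : CExt F T P f)
    (hff : ∀ x ∈ P, f x = f' x) : CExt F T P f' := by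
  obtain ⟨fh, hfh, e, hc⟩ := h
  exact ⟨fh, hfh, fun x hx => (e x hx).trans (hff x hx), hc⟩

theorem CExt.comp {F : FusionSystem S} (hsc : F.StronglyClosed T) {P Q : Subgroup Ω}
    {f g : Ω → Ω} (hP : TCen F T P) (hQT : Q ≤ T) (h1 : CExt F T P f) (h2 : CExt F T Q g)
    (hfg : ∀ x ∈ P, f x ∈ Q) : CExt F T P (fun x => g (f x)) := by
  obtain ⟨fh, hfh, ef, hcf⟩ := h1
  obtain ⟨gh, hgh, eg, hcg⟩ := h2
  have hPT : P ≤ T := hP.1
  have hPle : P ≤ P ⊔ centralizerIn S T := le_sup_left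
  have hCle : centralizerIn S T ≤ P ⊔ centralizerIn S T := le_sup_right
  -- the image of `P`
  have hfP : Mor F P fh := hfh.restrict hPle
  have hisoP : Iso F P hfP.image fh := Iso.of_mor hfP
  have hcenP := hP.2 _ (Helper87.isConj_iff.2 ⟨fh, hisoP⟩)
  -- `c⁻¹ fh(c)` lies in `f(P)`
  have hτ : ∀ c ∈ centralizerIn S T, ∃ x ∈ P, fh x = c⁻¹ * fh c := by
    intro c hc
    have hcS : c ∈ S := hc.1
    have hcc : c ∈ Subgroup.centralizer (T : Set Ω) := hc.2
    have h3 : c⁻¹ * fh c ∈ centralizerIn T hfP.image := by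
      refine Subgroup.mem_inf.mpr ⟨hcf c hc, ?_⟩
      rw [Subgroup.mem_centralizer_iff]
      rintro _ ⟨x, hx, rfl⟩
      have hfxT : fh x ∈ T := sc_mem hsc hfh (hPle hx) (hPT hx)
      have e1 : fh x * c⁻¹ = c⁻¹ * fh x := by
        have := hcc (fh x) hfxT
        calc fh x * c⁻¹ = c⁻¹ * (c * fh x) * c⁻¹ := by group
          _ = c⁻¹ * (fh x * c) * c⁻¹ := by rw [this]
          _ = c⁻¹ * fh x := by group
      have e2 : fh x * fh c = fh c * fh x := by
        rw [← hfh.map_mul (hPle hx) (hCle hc), ← hfh.map_mul (hCle hc) (hPle hx),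
          hcc x (hPT hx)]
      calc fh x * (c⁻¹ * fh c) = (fh x * c⁻¹) * fh c := by group
        _ = c⁻¹ * (fh x * fh c) := by rw [e1]; group
        _ = c⁻¹ * fh c * fh x := by rw [e2]; group
    obtain ⟨x, hx, hxe⟩ := hcenP h3
    exact ⟨x, hx, hxe⟩
  have hmaps : ∀ u ∈ P ⊔ centralizerIn S T, fh u ∈ Q ⊔ centralizerIn S T := by
    apply mor_map_sup hfh
    · intro x hx
      rw [ef x hx]
      exact (le_sup_left : Q ≤ Q ⊔ centralizerIn S T) (hfg x hx)
    · intro c hc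
      obtain ⟨x, hx, hxe⟩ := hτ c hc
      have : fh c = c * fh x := by rw [hxe]; group
      rw [this]
      refine Subgroup.mul_mem _ ((le_sup_right : centralizerIn S T ≤ Q ⊔ centralizerIn S T) hc) ?_
      rw [ef x hx]
      exact (le_sup_left : Q ≤ Q ⊔ centralizerIn S T) (hfg x hx)
  refine ⟨fun u => gh (fh u), hfh.comp hgh hmaps, fun x hx => ?_, fun c hc => ?_⟩
  · show gh (fh x) = g (f x)
    rw [ef x hx, eg _ (hfg x hx)]
  · obtain ⟨x, hx, hxe⟩ := hτ c hc
    have hfx : fh x ∈ Q := by rw [ef x hx]; exact hfg x hx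
    have h4 : fh c = c * fh x := by rw [hxe]; group
    show c⁻¹ * gh (fh c) ∈ T
    rw [h4, hgh.map_mul ((le_sup_right : centralizerIn S T ≤ Q ⊔ centralizerIn S T) hc)
      ((le_sup_left : Q ≤ Q ⊔ centralizerIn S T) hfx), ← mul_assoc]
    refine T.mul_mem (hcg c hc) ?_
    exact sc_mem hsc hgh ((le_sup_left : Q ≤ Q ⊔ centralizerIn S T) hfx) (hQT hfx)

/-- a subgroup of `T` fully normalized in `F` is fully normalized in an invariant subsystem
over `T` -/
theorem fn_of_fn [Finite S] {p : ℕ} [Fact p.Prime] (hS : IsPGroup p S) {E : FusionSystem T}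
    {F : FusionSystem S} (hF : F.IsSaturated p) (hinv : E.IsInvariantIn F) {R : Subgroup Ω}
    (hRT : R ≤ T) (hR : F.IsFullyNormalized R) : E.IsFullyNormalized R := by
  have hsc := hinv.2.1
  refine ⟨hRT, fun R₃ hR₃ => ?_⟩
  have hconj : F.IsConj R₃ R := Helper87.isConj_symm (isConj_of_subsystem' hinv.1 hR₃)
  obtain ⟨ψ, hψ, hψR⟩ := Helper87.exists_map_normalizer_to_fullyNormalized hS hF hR hconj
  have hle : normalizerIn T R₃ ≤ normalizerIn S R₃ :=
    inf_le_inf_right _ hsc.1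
  have hfinT : Finite T := Helper87.finite_of_le hsc.1
  have hfin : Finite (normalizerIn T R : Subgroup Ω) :=
    Helper87.finite_of_le (inf_le_left.trans hsc.1)
  apply Nat.card_le_card_of_injective
    (fun n : normalizerIn T R₃ => (⟨ψ n, ?_⟩ : normalizerIn T R))
  · intro a b hab
    exact Subtype.ext (hψ.inj (hle a.2) (hle b.2) (congrArg Subtype.val hab))
  · have h1 := Helper87.map_normalizerIn hψ hψR (hle n.2)
    exact ⟨sc_mem hsc hψ (hle n.2) n.2.1, h1.2⟩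

/-- in a fully automized subgroup, an automorphism of `p`-power order is conjugate in the
automorphism group to conjugation by an element of the Sylow group -/
theorem exists_aut_conj_of_pPower {E : FusionSystem T} {p : ℕ} [hp : Fact p.Prime]
    {R : Subgroup Ω} [Finite R] (hFA : E.IsFullyAutomized p R) (a : E.autGroup R) {k : ℕ}
    (hk : orderOf a = p ^ k) :
    ∃ g : MulAut R, g ∈ E.autGroup R ∧ ∃ t ∈ T, t ∈ Subgroup.normalizer (R : Set Ω) ∧
      ∀ x ∈ R, extAut (a : MulAut R) (extAut g x) = extAut g (t * x * t⁻¹) := by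
  obtain ⟨-, Rsyl, hRs⟩ := hFA
  have hpz : IsPGroup p (Subgroup.zpowers a) := by
    apply IsPGroup.of_card (n := k)
    rw [Nat.card_zpowers, hk]
  obtain ⟨Q, hQ⟩ := hpz.exists_le_sylow
  obtain ⟨g, rfl⟩ := MulAction.exists_smul_eq (E.autGroup R) Rsyl Q
  have h1 : a ∈ ((g • Rsyl : Sylow p (E.autGroup R)) : Subgroup (E.autGroup R)) :=
    hQ (Subgroup.mem_zpowers a)
  rw [Sylow.coe_subgroup_smul, Subgroup.mem_pointwise_smul_iff_inv_smul_mem, hRs,
    Subgroup.mem_subgroupOf] at h1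
  obtain ⟨t, ht, htN, et⟩ := Helper87.mem_autInducedBy_iff'.1 h1
  refine ⟨(g : MulAut R), g.2, t, ht, htN, fun x hx => ?_⟩
  have htx : t * x * t⁻¹ ∈ R := (Subgroup.mem_normalizer_iff.mp htN x).mp hx
  have e1 := et ⟨x, hx⟩
  have h2 : (((MulAut.conj g)⁻¹ • a : E.autGroup R) : MulAut R) =
      ((g : MulAut R))⁻¹ * (a : MulAut R) * (g : MulAut R) := by
    simp [MulAut.smul_def]
  rw [h2, MulAut.mul_apply, MulAut.mul_apply] at e1
  rw [Helper87.extAut_mem (g : MulAut R) hx,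
    Helper87.extAut_mem _ ((g : MulAut R) ⟨x, hx⟩).2, Helper87.extAut_mem (g : MulAut R) htx]
  have e3 : ((a : MulAut R) ((g : MulAut R) ⟨x, hx⟩)) = (g : MulAut R) ⟨t * x * t⁻¹, htx⟩ := by
    have e4 : ((g : MulAut R))⁻¹ ((a : MulAut R) ((g : MulAut R) ⟨x, hx⟩)) =
        ⟨t * x * t⁻¹, htx⟩ := Subtype.ext e1
    rw [← e4, MulAut.apply_inv_self]
  exact congrArg Subtype.val e3

end Cfsg.Agent.Helper84
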