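import Mathlib
import Cfsg.Prelude.Def_FusionSystem
import Cfsg.Agent.Lib.Helper84.FusW2

/-!
# `p`-power automorphisms of centric subgroups of a weakly normal subsystem extend over `C_S(T)`
-/

set_option autoImplicit false

namespace Cfsg.Agent.Helper84

open Cfsg Cfsg.FusionSystem
open Cfsg.Agent.Helper87 (Mor Iso extFun extAut)

variable {Ω : Type*} [Group Ω] {S T : Subgroup Ω}

theorem centralizerIn_mono_right (S : Subgroup Ω) {R T : Subgroup Ω} (h : R ≤ T) :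
    centralizerIn S T ≤ centralizerIn S R :=
  inf_le_inf_left _ (Subgroup.centralizer_le h)

/-- **Claim A**: a `p`-power automorphism in `E` of a subgroup of `T` all of whose conjugates
contain their centralizers in `T` extends over `C_S(T)` trivially modulo `T` -/
theorem claimA [Finite S] {p : ℕ} [hp : Fact p.Prime] (hS : IsPGroup p S) {E : FusionSystem T}
    {F : FusionSystem S} (hF : F.IsSaturated p) (hEs : E.IsSaturated p)
    (hinv : E.IsInvariantIn F) {R : Subgroup Ω} (hR : TCen F T R) {β : Ω → Ω}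
    (hβ : PPGen E p R β) : CExt F T R β := by
  have hsc := hinv.2.1
  have hTS : T ≤ S := hsc.1
  have hfinT : Finite T := Helper87.finite_of_le hTS
  have hT : IsPGroup p T := hS.to_le hTS
  have hEF := hinv.1
  obtain ⟨hβiso, k, hβk⟩ := hβ
  have hRT : R ≤ T := hR.1
  have hRS : R ≤ S := hRT.trans hTS
  -- step 1: a fully normalized conjugate
  obtain ⟨R₂, hRR₂, hR₂⟩ := Helper87.exists_fullyNormalized_conj F hRS
  obtain ⟨φ, hφ, hφR⟩ := Helper87.exists_map_normalizer_to_fullyNormalized hS hF hR₂ hRR₂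
  have hR₂cen : TCen F T R₂ := hR.of_conj hsc hRR₂
  have hR₂T : R₂ ≤ T := hR₂cen.1
  have hR₂S : R₂ ≤ S := hR₂.1
  have hfinR₂ : Finite R₂ := Helper87.finite_of_le hR₂S
  obtain ⟨φ', hφ', hl, hr⟩ := hφR.symm
  -- step 2: transport `β`
  have hβ₂m : Mor E R₂ (fun y => φ (β (φ' y))) :=
    sInv_of_invariant hinv R R R₂ β φ φ' le_rfl hRT hβiso.1 (fun x hx => hβiso.map_mem hx)
      hφR.1 hφR.2 hl
  have hβ₂maps : ∀ y ∈ R₂, φ (β (φ' y)) ∈ R₂ :=
    fun y hy => hφR.map_mem (hβiso.map_mem (hφ'.map_mem hy))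
  have hβ₂iso : Iso E R₂ R₂ (fun y => φ (β (φ' y))) :=
    Helper87.iso_of_card_le hβ₂m hR₂T hβ₂maps le_rfl
  have hβ₂k : ∀ y ∈ R₂, (fun y => φ (β (φ' y)))^[p ^ k] y = y := by
    intro y hy
    have hk0 : p ^ k ≠ 0 := (pow_pos hp.out.pos k).ne'
    obtain ⟨j, hj⟩ := Nat.exists_eq_succ_of_ne_zero hk0
    rw [hj, Nat.succ_eq_add_one, iterate_conj_eq (fun x hx => hφ'.map_mem hx)
      (fun x hx => hφR.map_mem hx) (fun x hx => hβiso.map_mem hx) hl j y hy,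
      ← Nat.succ_eq_add_one, ← hj, hβk _ (hφ'.map_mem hy), hr y hy]
  -- step 3: the order of the transported automorphism
  have h1 : (hβ₂iso.equiv : MulAut R₂) ^ (p ^ k) = 1 := by
    ext x
    rw [equiv_pow_apply hβ₂iso (p ^ k) x, hβ₂k x x.2]
    rfl
  set a₂ : E.autGroup R₂ := ⟨hβ₂iso.equiv, hβ₂iso.equiv_mem_autGroup⟩ with ha₂
  have h2 : a₂ ^ (p ^ k) = 1 := by
    apply Subtype.ext
    rw [Subgroup.coe_pow]
    exact h1
  obtain ⟨j, -, hj⟩ := (Nat.dvd_prime_pow hp.out).mp (orderOf_dvd_of_pow_eq_one h2)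
  have hfnE : E.IsFullyNormalized R₂ := fn_of_fn hS hF hinv hR₂T hR₂
  have hFA : E.IsFullyAutomized p R₂ := Helper87.fullyAutomized_of_fullyNormalized hT hEs hfnE
  obtain ⟨g, hgE, t, ht, htN, eg⟩ := exists_aut_conj_of_pPower hFA a₂ hj
  have ha₂x : ∀ y ∈ R₂, extAut (a₂ : MulAut R₂) y = φ (β (φ' y)) := by
    intro y hy
    rw [Helper87.extAut_mem _ hy]
    exact hβ₂iso.equiv_apply ⟨y, hy⟩
  -- step 4: extend `g` over the centralizer
  have hgF : g ∈ F.autGroup R₂ := Helper87.autGroup_le_of_subsystem hEF hR₂T hR₂S hgE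
  have hγ : Iso F R₂ R₂ (extAut g) :=
    Helper87.iso_of_mor_extAut ((Helper87.mem_autGroup_iff hR₂S).mp hgF)
  have hrec := Helper87.receptive_of_fullyNormalized hS hF hR₂
  obtain ⟨γh, hγh, hγhx⟩ := (Helper87.isReceptive_iff.1 hrec).2 R₂ _ hγ
  have hR₂W : R₂ ≤ R₂ ⊔ centralizerIn S R₂ := le_sup_left
  have hCW : centralizerIn S R₂ ≤ R₂ ⊔ centralizerIn S R₂ := le_sup_right
  have hWext : R₂ ⊔ centralizerIn S R₂ ≤ hγ.ext := sup_le hγ.le_ext hγ.centralizerIn_le_ext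
  have hWS : R₂ ⊔ centralizerIn S R₂ ≤ S := sup_le hR₂S inf_le_left
  have hγW : Mor F (R₂ ⊔ centralizerIn S R₂) γh := hγh.restrict hWext
  have hγR : Iso F R₂ R₂ γh := hγ.congr (fun x hx => (hγhx x hx).symm)
  have hγcen : ∀ c ∈ centralizerIn S R₂, γh c ∈ centralizerIn S R₂ :=
    fun c hc => Helper87.map_centralizerIn hγW hR₂W hγR (hCW hc) hc
  have hγmaps : ∀ w ∈ R₂ ⊔ centralizerIn S R₂, γh w ∈ R₂ ⊔ centralizerIn S R₂ :=
    mor_map_sup hγW (fun x hx => hR₂W (hγR.map_mem hx)) (fun c hc => hCW (hγcen c hc))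
  have hγiso : Iso F (R₂ ⊔ centralizerIn S R₂) (R₂ ⊔ centralizerIn S R₂) γh :=
    Helper87.iso_of_card_le hγW hWS hγmaps le_rfl
  obtain ⟨γ', hγ', hγl, hγr⟩ := hγiso.symm
  have hγ'R : ∀ y ∈ R₂, γ' y ∈ R₂ := by
    intro y hy
    obtain ⟨x, hx, rfl⟩ := hγR.surj hy
    rw [hγl x (hR₂W hx)]
    exact hx
  have hγ'Riso : Iso F R₂ R₂ γ' :=
    Helper87.iso_of_card_le (hγ'.1.restrict hR₂W) hR₂S hγ'R le_rfl
  have hγ'cen : ∀ c ∈ centralizerIn S R₂, γ' c ∈ centralizerIn S R₂ :=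
    fun c hc => Helper87.map_centralizerIn hγ'.1 hR₂W hγ'Riso (hCW hc) hc
  -- step 5: conjugation by `t`
  have htS : t ∈ S := hTS ht
  have hct : Mor F (R₂ ⊔ centralizerIn S R₂) (fun w => t * w * t⁻¹) := Mor.conj hWS htS
  have hctR : ∀ x ∈ R₂, t * x * t⁻¹ ∈ R₂ :=
    fun x hx => (Subgroup.mem_normalizer_iff.mp htN x).mp hx
  have hctRiso : Iso F R₂ R₂ (fun w => t * w * t⁻¹) :=
    Helper87.iso_of_card_le (hct.restrict hR₂W) hR₂S hctR le_rfl
  have hctC : ∀ c ∈ centralizerIn S R₂, t * c * t⁻¹ ∈ centralizerIn S R₂ :=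
    fun c hc => Helper87.map_centralizerIn hct hR₂W hctRiso (hCW hc) hc
  have hctW : ∀ w ∈ R₂ ⊔ centralizerIn S R₂, t * w * t⁻¹ ∈ R₂ ⊔ centralizerIn S R₂ :=
    mor_map_sup hct (fun x hx => hR₂W (hctR x hx)) (fun c hc => hCW (hctC c hc))
  -- step 6: the extension of the transported automorphism
  have hβh₂ : Mor F (R₂ ⊔ centralizerIn S R₂) (fun w => γh (t * γ' w * t⁻¹)) :=
    (hγ'.1.comp hct (fun w hw => hγ'.map_mem hw)).comp hγW
      (fun w hw => hctW _ (hγ'.map_mem hw))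
  have hβh₂R : ∀ y ∈ R₂, γh (t * γ' y * t⁻¹) = φ (β (φ' y)) := by
    intro y hy
    have hx := hγ'R y hy
    have hyx : extAut g (γ' y) = y := by
      rw [← hγhx _ hx, hγr y (hR₂W hy)]
    rw [hγhx _ (hctR _ hx), ← eg _ hx, hyx, ha₂x y hy]
  have hβh₂C : ∀ c ∈ centralizerIn S R₂, ∃ τ ∈ R₂, γh (t * γ' c * t⁻¹) = τ * c := by
    intro c hc
    have hcW : c ∈ R₂ ⊔ centralizerIn S R₂ := hCW hc
    have hyC : γ' c ∈ centralizerIn S R₂ := hγ'cen c hc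
    have hyW : γ' c ∈ R₂ ⊔ centralizerIn S R₂ := hCW hyC
    have hyS : γ' c ∈ S := hyC.1
    have hτ₀T : t * γ' c * t⁻¹ * (γ' c)⁻¹ ∈ T := by
      have h3 : γ' c * t⁻¹ * (γ' c)⁻¹ ∈ T := sc_conj_mem hsc hyS (T.inv_mem ht)
      have h4 := T.mul_mem ht h3
      have h5 : t * (γ' c * t⁻¹ * (γ' c)⁻¹) = t * γ' c * t⁻¹ * (γ' c)⁻¹ := by group
      rwa [h5] at h4
    have hτ₀W : t * γ' c * t⁻¹ * (γ' c)⁻¹ ∈ R₂ ⊔ centralizerIn S R₂ :=
      Subgroup.mul_mem _ (hctW _ hyW) (Subgroup.inv_mem _ hyW)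
    have hτ₀C : t * γ' c * t⁻¹ * (γ' c)⁻¹ ∈ centralizerIn S R₂ :=
      Subgroup.mul_mem _ (hctC _ hyC) (Subgroup.inv_mem _ hyC)
    refine ⟨γh (t * γ' c * t⁻¹ * (γ' c)⁻¹), ?_, ?_⟩
    · have h6 : γh (t * γ' c * t⁻¹ * (γ' c)⁻¹) ∈ T := sc_mem hsc hγW hτ₀W hτ₀T
      have h7 : γh (t * γ' c * t⁻¹ * (γ' c)⁻¹) ∈ centralizerIn S R₂ := hγcen _ hτ₀C
      exact hR₂cen.2 R₂ (Helper87.isConj_refl hR₂S) (Subgroup.mem_inf.mpr ⟨h6, h7.2⟩)
    · have h8 : t * γ' c * t⁻¹ = (t * γ' c * t⁻¹ * (γ' c)⁻¹) * γ' c := by group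
      calc γh (t * γ' c * t⁻¹) = γh ((t * γ' c * t⁻¹ * (γ' c)⁻¹) * γ' c) := congrArg γh h8
        _ = γh (t * γ' c * t⁻¹ * (γ' c)⁻¹) * γh (γ' c) := hγW.map_mul hτ₀W hyW
        _ = γh (t * γ' c * t⁻¹ * (γ' c)⁻¹) * c := by rw [hγr c hcW]
  -- step 7: pull back along `φ`
  have hCR : centralizerIn S T ≤ centralizerIn S R := centralizerIn_mono_right S hRT
  have hUN : R ⊔ centralizerIn S T ≤ normalizerIn S R :=
    sup_le (Helper87.le_normalizerIn hRS)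
      (hCR.trans (Helper87.centralizerIn_le_normalizerIn S R))
  have hRU : R ≤ R ⊔ centralizerIn S T := le_sup_left
  have hCU : centralizerIn S T ≤ R ⊔ centralizerIn S T := le_sup_right
  have hφU : Mor F (R ⊔ centralizerIn S T) φ := hφ.restrict hUN
  have hφC : ∀ c ∈ centralizerIn S T, φ c ∈ centralizerIn S R₂ :=
    fun c hc => Helper87.map_centralizerIn hφ (Helper87.le_normalizerIn hRS) hφR
      (hUN (hCU hc)) (hCR hc)
  have hφW : ∀ u ∈ R ⊔ centralizerIn S T, φ u ∈ R₂ ⊔ centralizerIn S R₂ :=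
    mor_map_sup hφU (fun x hx => hR₂W (hφR.map_mem hx)) (fun c hc => hCW (hφC c hc))
  have hisoU : Iso F (R ⊔ centralizerIn S T) hφU.image φ := Iso.of_mor hφU
  obtain ⟨φ'', hφ'', hl'', hr''⟩ := hisoU.symm
  have hcomp1 : Mor F (R ⊔ centralizerIn S T) (fun u => γh (t * γ' (φ u) * t⁻¹)) :=
    hφU.comp hβh₂ hφW
  have hmapsU : ∀ u ∈ R ⊔ centralizerIn S T, γh (t * γ' (φ u) * t⁻¹) ∈ hφU.image := by
    apply mor_map_sup hcomp1
    · intro x hx
      rw [hβh₂R _ (hφR.map_mem hx), hl x hx]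
      exact ⟨β x, hRU (hβiso.map_mem hx), rfl⟩
    · intro c hc
      obtain ⟨τ, hτ, e⟩ := hβh₂C _ (hφC c hc)
      rw [e]
      obtain ⟨r, hr', rfl⟩ := hφR.surj hτ
      exact Subgroup.mul_mem _ ⟨r, hRU hr', rfl⟩ ⟨c, hCU hc, rfl⟩
  refine ⟨fun u => φ'' (γh (t * γ' (φ u) * t⁻¹)), hcomp1.comp hφ''.1 hmapsU, fun x hx => ?_,
    fun c hc => ?_⟩
  · show φ'' (γh (t * γ' (φ x) * t⁻¹)) = β x
    rw [hβh₂R _ (hφR.map_mem hx), hl x hx, hl'' _ (hRU (hβiso.map_mem hx))]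
  · show c⁻¹ * φ'' (γh (t * γ' (φ c) * t⁻¹)) ∈ T
    obtain ⟨τ, hτ, e⟩ := hβh₂C _ (hφC c hc)
    obtain ⟨r, hr', rfl⟩ := hφR.surj hτ
    have h9 : φ r * φ c = φ (r * c) := (hφU.map_mul (hRU hr') (hCU hc)).symm
    rw [e, h9, hl'' _ (Subgroup.mul_mem _ (hRU hr') (hCU hc))]
    have hcc : c ∈ Subgroup.centralizer (T : Set Ω) := hc.2
    have h10 : c⁻¹ * (r * c) = r := by
      rw [hcc r (hRT hr')]
      group
    rw [h10]
    exact hRT hr'

/-- maps of `O^{p'}_*(E)` restricted to subgroups all of whose conjugates contain their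
centralizers in `T` extend over `C_S(T)` trivially modulo `T` -/
theorem pmor_cext [Finite S] {p : ℕ} [Fact p.Prime] (hS : IsPGroup p S) {E : FusionSystem T}
    {F : FusionSystem S} (hF : F.IsSaturated p) (hEs : E.IsSaturated p)
    (hinv : E.IsInvariantIn F) {P' : Subgroup Ω} {f : Ω → Ω} (h : PMor E p P' f) :
    ∀ P'' : Subgroup Ω, P'' ≤ P' → TCen F T P'' → CExt F T P'' f := by
  have hsc := hinv.2.1
  induction h with
  | @base R β hpg =>
    intro P'' hP'' hcen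
    have hRT : R ≤ T := hpg.1.le_left
    exact (claimA hS hF hEs hinv (hcen.of_le hP'' hRT) hpg).restrict hP''
  | @restr P₁ Q₁ f _ hQP ih =>
    intro P'' hP'' hcen
    exact ih P'' (hP''.trans hQP) hcen
  | @comp P₁ Q₁ f g hf hg hfg ih1 ih2 =>
    intro P'' hP'' hcen
    have h1 := ih1 P'' hP'' hcen
    have hm : Mor E P'' f := hf.mor.restrict hP''
    have hmF : Mor F P'' f := hm.of_subsystem hinv.1
    have hiso : Iso F P'' hmF.image f := Iso.of_mor hmF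
    have hcen' : TCen F T hmF.image := hcen.of_conj hsc (Helper87.isConj_iff.2 ⟨f, hiso⟩)
    have himg : hmF.image ≤ Q₁ := by
      rintro _ ⟨x, hx, rfl⟩
      exact hfg x (hP'' hx)
    have h2 := ih2 hmF.image himg hcen'
    exact CExt.comp hsc hcen hcen'.1 h1 h2 (fun x hx => ⟨x, hx, rfl⟩)
  | @congr P₁ f f' _ hff ih =>
    intro P'' hP'' hcen
    exact (ih P'' hP'' hcen).congr (fun x hx => hff x (hP'' hx))

end Cfsg.Agent.Helper84
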