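import Mathlib
import Cfsg.Prelude.Def_FusionSystem
import Cfsg.Agent.Lib.Helper84.FusW3
import Cfsg.Agent.Lib.Helper84.FusKP

/-!
# Extending automorphisms which commute with a `p`-group of conjugations up to unipotent
automorphisms
-/

set_option autoImplicit false

namespace Cfsg.Agent.Helper84

open Cfsg Cfsg.FusionSystem
open Cfsg.Agent.Helper87 (Mor Iso extFun extAut)

variable {Ω : Type*} [Group Ω] {S : Subgroup Ω}

/-- a `p`-subgroup normalized by `K` lies in every Sylow `p`-subgroup of `K` -/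
theorem IsSylIn.normal_le {G : Type*} [Group G] {p : ℕ} [Fact p.Prime] {T N K : Subgroup G}
    [Finite K] (h : IsSylIn p T K) (hNK : N ≤ K) (hN : IsPGroup p N)
    (hn : K ≤ Subgroup.normalizer (N : Set G)) : N ≤ T := by
  obtain ⟨k, hk, hle⟩ := h.exists_conj_ge hNK hN
  intro x hx
  have hx' : k * x * k⁻¹ ∈ N := (Subgroup.mem_normalizer_iff.mp (hn hk) x).mp hx
  obtain ⟨y, hy, hyx⟩ := hle hx'
  have h1 : k * y * k⁻¹ = k * x * k⁻¹ := by simpa [MulAut.conj_apply] using hyx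
  have h2 : y = x := mul_left_cancel (mul_right_cancel h1)
  rw [← h2]; exact hy

/-- automorphisms of `V` fixing `P` pointwise and moving every element inside its coset of `P` -/
def unipIn (V P : Subgroup Ω) : Subgroup (MulAut V) where
  carrier := {ξ | (∀ x : V, (x : Ω) ∈ P → ξ x = x) ∧
    ∀ v : V, (v : Ω)⁻¹ * ((ξ v : V) : Ω) ∈ P}
  one_mem' := ⟨fun _ _ => rfl, fun v => by simp [P.one_mem]⟩
  mul_mem' := by
    rintro a b ⟨ha1, ha2⟩ ⟨hb1, hb2⟩
    refine ⟨fun x hx => by rw [MulAut.mul_apply, hb1 x hx, ha1 x hx], fun v => ?_⟩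
    have hz : ((v⁻¹ * b v : V) : Ω) ∈ P := by simpa using hb2 v
    have h2 : a (b v) = a v * (v⁻¹ * b v) := by
      calc a (b v) = a (v * (v⁻¹ * b v)) := by rw [mul_inv_cancel_left]
        _ = a v * (v⁻¹ * b v) := by rw [map_mul, ha1 _ hz]
    rw [MulAut.mul_apply, h2]
    have h3 : (v : Ω)⁻¹ * ((a v * (v⁻¹ * b v) : V) : Ω) =
        ((v : Ω)⁻¹ * ((a v : V) : Ω)) * ((v⁻¹ * b v : V) : Ω) := by
      rw [Subgroup.coe_mul, mul_assoc]
    rw [h3]
    exact P.mul_mem (ha2 v) hz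
  inv_mem' := by
    rintro a ⟨ha1, ha2⟩
    have hfix : ∀ x : V, (x : Ω) ∈ P → a⁻¹ x = x := fun x hx => by
      calc a⁻¹ x = a⁻¹ (a x) := by rw [ha1 x hx]
        _ = x := MulAut.inv_apply_self _ _ _
    refine ⟨hfix, fun v => ?_⟩
    have h := ha2 (a⁻¹ v)
    rw [MulAut.apply_inv_self] at h
    have h' := P.inv_mem h
    rw [mul_inv_rev, inv_inv] at h'
    exact h'

theorem mem_unipIn_iff {V P : Subgroup Ω} {ξ : MulAut V} :
    ξ ∈ unipIn V P ↔ (∀ x : V, (x : Ω) ∈ P → ξ x = x) ∧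
      ∀ v : V, (v : Ω)⁻¹ * ((ξ v : V) : Ω) ∈ P := Iff.rfl

theorem unipIn_le_fixIn (V P : Subgroup Ω) : unipIn V P ≤ fixIn V P := fun _ h => h.1

theorem unipIn_pow_apply {V P : Subgroup Ω} {ξ : MulAut V} (hξ : ξ ∈ unipIn V P) (k : ℕ) (v : V) :
    (ξ ^ k) v = v * (v⁻¹ * ξ v) ^ k := by
  induction k with
  | zero => simp
  | succ k ih =>
    have hz : ((v⁻¹ * ξ v : V) : Ω) ∈ P := by simpa using hξ.2 v
    have hzk : (((v⁻¹ * ξ v) ^ k : V) : Ω) ∈ P := by
      rw [Subgroup.coe_pow]; exact P.pow_mem hz k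
    rw [pow_succ', MulAut.mul_apply, ih, map_mul, hξ.1 _ hzk]
    rw [pow_succ' (v⁻¹ * ξ v) k, ← mul_assoc v, mul_inv_cancel_left]

theorem unipIn_isPGroup {p : ℕ} [Fact p.Prime] {V P : Subgroup Ω} [Finite P]
    (hP : IsPGroup p P) : IsPGroup p (unipIn V P) := by
  obtain ⟨n, hn⟩ := hP.exists_card_eq
  intro ξ
  refine ⟨n, Subtype.ext ?_⟩
  rw [Subgroup.coe_pow, Subgroup.coe_one]
  ext v
  rw [unipIn_pow_apply ξ.2]
  have hz : ((v⁻¹ * (ξ : MulAut V) v : V) : Ω) ∈ P := by simpa using ξ.2.2 v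
  have h1 : (v⁻¹ * (ξ : MulAut V) v) ^ (p ^ n) = 1 := by
    apply Subtype.ext
    rw [Subgroup.coe_pow, Subgroup.coe_one]
    have h2 := pow_card_eq_one' (G := P) (x := ⟨_, hz⟩)
    rw [hn] at h2
    have h3 := congrArg Subtype.val h2
    rw [Subgroup.coe_pow, Subgroup.coe_one] at h3
    exact h3
  rw [h1, mul_one]
  rfl

theorem stabIn_le_normalizer_unipIn (V P : Subgroup Ω) :
    stabIn V P ≤ Subgroup.normalizer (unipIn V P : Set (MulAut V)) := by
  have key : ∀ t ∈ stabIn V P, ∀ a ∈ unipIn V P, t * a * t⁻¹ ∈ unipIn V P := by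
    intro t ht a ha
    refine ⟨conj_mem_fixIn ht (unipIn_le_fixIn V P ha), fun v => ?_⟩
    rw [MulAut.mul_apply, MulAut.mul_apply]
    set w := t⁻¹ v with hw
    have hv : v = t w := by rw [hw, MulAut.apply_inv_self]
    have hz : ((w⁻¹ * a w : V) : Ω) ∈ P := by simpa using ha.2 w
    have h1 : a w = w * (w⁻¹ * a w) := by rw [mul_inv_cancel_left]
    have h2 : t (a w) = v * t (w⁻¹ * a w) := by
      calc t (a w) = t (w * (w⁻¹ * a w)) := by rw [mul_inv_cancel_left]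
        _ = v * t (w⁻¹ * a w) := by rw [map_mul, ← hv]
    rw [h2, Subgroup.coe_mul, inv_mul_cancel_left]
    exact (ht _).mp hz
  intro t ht
  apply mem_normalizer_of_forall_conj_mem (key t ht)
  intro a ha
  have := key t⁻¹ ((stabIn V P).inv_mem ht) a ha
  rwa [inv_inv] at this

/-- in a good pair `(V, P₂)`, an automorphism in the system fixing `P₂` pointwise and moving the
elements of `V` inside their cosets of `P₂` is induced by an element of `S` -/
theorem unip_inner (F : FusionSystem S) [Finite S] {p : ℕ} [Fact p.Prime] (hS : IsPGroup p S)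
    {V P₂ : Subgroup Ω} (hg : GoodP F p (fun Q => (⊤ : Subgroup (MulAut Q))) V P₂)
    {η : Ω → Ω} (hη : Iso F V V η) (hfix : ∀ x ∈ P₂, η x = x)
    (hun : ∀ v ∈ V, v⁻¹ * η v ∈ P₂) :
    ∃ t ∈ S, t ∈ Subgroup.normalizer (V : Set Ω) ∧ ∀ v ∈ V, η v = t * v * t⁻¹ := by
  obtain ⟨hPV, hRec, hsyl⟩ := hg
  have hVS : V ≤ S := hRec.1
  have hfinV : Finite V := finite_of_le hVS
  have hfinP : Finite P₂ := finite_of_le (hPV.trans hVS)
  set K' := pairKN hPV (⊤ : Subgroup (MulAut P₂)) with hK'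
  set Δ := F.autGroup V ⊓ unipIn V P₂ with hΔ
  have hΔH : Δ ≤ F.autGroup V ⊓ K' :=
    inf_le_inf_left _ ((unipIn_le_fixIn V P₂).trans (fixIn_le_pairKN_top hPV))
  have hΔp : IsPGroup p Δ :=
    (unipIn_isPGroup (V := V) (hS.to_le (hPV.trans hVS))).to_le inf_le_right
  have hΔn : F.autGroup V ⊓ K' ≤ Subgroup.normalizer (Δ : Set (MulAut V)) := by
    intro t ht
    have htF := ht.1
    have htst : t ∈ stabIn V P₂ := mem_pairKN_top.mp ht.2
    have hn := stabIn_le_normalizer_unipIn V P₂ htst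
    apply mem_normalizer_of_forall_conj_mem
    · intro a ha
      exact Subgroup.mem_inf.mpr ⟨(F.autGroup V).mul_mem ((F.autGroup V).mul_mem htF ha.1)
        ((F.autGroup V).inv_mem htF), (Subgroup.mem_normalizer_iff.mp hn a).mp ha.2⟩
    · intro a ha
      refine Subgroup.mem_inf.mpr ⟨(F.autGroup V).mul_mem ((F.autGroup V).mul_mem
        ((F.autGroup V).inv_mem htF) ha.1) htF, ?_⟩
      have hn' := Subgroup.inv_mem _ hn
      have := (Subgroup.mem_normalizer_iff.mp hn' a).mp ha.2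
      rwa [inv_inv] at this
  have hle := hsyl.normal_le hΔH hΔp hΔn
  have hmem : hη.equiv ∈ Δ := by
    refine Subgroup.mem_inf.mpr ⟨hη.equiv_mem_autGroup, ?_, ?_⟩
    · intro x hx
      apply Subtype.ext
      rw [hη.equiv_apply]
      exact hfix x hx
    · intro v
      rw [hη.equiv_apply]
      exact hun v v.2
  obtain ⟨t, ht, htN, et⟩ := Helper87.mem_autInducedBy_iff'.1 (hle hmem).1
  exact ⟨t, ht, htN, fun v hv => by rw [← et ⟨v, hv⟩, hη.equiv_apply]⟩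

theorem iso_conj_normalizer [Finite S] {F : FusionSystem S} {V : Subgroup Ω} (hVS : V ≤ S) {g : Ω}
    (hg : g ∈ normalizerIn S V) : Iso F V V (fun v => g * v * g⁻¹) :=
  Helper87.iso_of_card_le (Mor.conj hVS hg.1) hVS
    (fun v hv => (Subgroup.mem_normalizer_iff.mp hg.2 v).mp hv) le_rfl

/-- **extension lemma**: an automorphism `δ` of `U` in a saturated system which is the identity on
`P ≤ U` and commutes with the conjugations by the elements of `N ≤ N_S(U) ∩ N_S(P)` up to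
automorphisms moving the elements of `U` inside their cosets of `P` extends over `N`, after moving
`N U` by a map of the system -/
theorem ext_unip (F : FusionSystem S) [Finite S] {p : ℕ} [Fact p.Prime] (hS : IsPGroup p S)
    (hF : F.IsSaturated p) {U P N : Subgroup Ω} (hU : U ≤ S) (hPU : P ≤ U)
    (hNU : N ≤ normalizerIn S U) (hNP : N ≤ normalizerIn S P)
    {δ : Ω → Ω} (hδ : Iso F U U δ) (hδP : ∀ x ∈ P, δ x = x)
    (hcomm : ∀ n ∈ N, ∀ u ∈ U, (δ u)⁻¹ * (n⁻¹ * δ (n * u * n⁻¹) * n) ∈ P) :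
    ∃ θ δh : Ω → Ω, ∃ hθ : Mor F (N ⊔ U) θ, Mor F hθ.image δh ∧
      ∀ u ∈ U, δh (θ u) = θ (δ u) := by
  have h𝒩 : Equivariant F (fun Q => (⊤ : Subgroup (MulAut Q))) := equivariant_top F
  obtain ⟨V, P₂, f, hfU, hfP, hgood⟩ := exists_goodP F h𝒩 (hF U hU) hPU
  obtain ⟨fb, χ, hfb, hfbnk, hχV, hχP, -, hfbe⟩ := goodP_extend F hS h𝒩 hgood hfU hfP hPU
  have hNnk : N ≤ nk (fun Q => (⊤ : Subgroup (MulAut Q))) S U P :=
    fun n hn => mem_nk_top.mpr ⟨hNU hn, hNP hn⟩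
  have hθ : Mor F (N ⊔ U) fb := hfb.restrict (sup_le_sup_right hNnk U)
  have hθU : Iso F U V fb := (hfU.comp hχV).congr (fun x hx => (hfbe x hx).symm)
  have hθP : Iso F P P₂ fb := (hfP.comp hχP).congr (fun x hx => (hfbe x (hPU hx)).symm)
  obtain ⟨θ', hθ', hl, hr⟩ := hθU.symm
  obtain ⟨hPV, hRec, -⟩ := id hgood
  have hVS : V ≤ S := hθU.le_right
  have hNle : N ≤ N ⊔ U := le_sup_left
  have hUle : U ≤ N ⊔ U := le_sup_right
  obtain ⟨δ₁, hδ₁, hδ₁e⟩ : ∃ δ₁, Iso F V V δ₁ ∧ ∀ v, δ₁ v = fb (δ (θ' v)) :=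
    ⟨_, (hθ'.comp hδ).comp hθU, fun _ => rfl⟩
  have hδ₁fb : ∀ u ∈ U, δ₁ (fb u) = fb (δ u) := fun u hu => by rw [hδ₁e, hl u hu]
  have hδ₁P : ∀ y ∈ P₂, δ₁ y = y := by
    intro y hy
    obtain ⟨x, hx, rfl⟩ := hθP.surj hy
    rw [hδ₁fb x (hPU hx), hδP x hx]
  obtain ⟨δ₁', hδ₁', hl₁, hr₁⟩ := hδ₁.symm
  obtain ⟨δh, hδh, eδh⟩ := (Helper87.isReceptive_iff.1 hRec).2 V _ hδ₁
  have himg : hθ.image ≤ hδ₁.ext := by
    rintro _ ⟨w, hw, rfl⟩
    revert w
    apply mor_map_sup hθ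
    · intro n hn
      have hgnk := hfbnk n (hNnk hn)
      obtain ⟨hgV, hgP⟩ := mem_nk_top.mp hgnk
      have hgS : fb n ∈ S := hgV.1
      set g := fb n with hgdef
      have hcg : Iso F V V (fun v => g * v * g⁻¹) := iso_conj_normalizer hVS hgV
      have hcg' : Iso F V V (fun v => g⁻¹ * v * g) := by
        have h1 : g⁻¹ ∈ normalizerIn S V := Subgroup.inv_mem _ hgV
        exact (iso_conj_normalizer hVS h1).congr (fun x _ => by rw [inv_inv])
      have hη : Iso F V V (fun w => g⁻¹ * δ₁ (g * δ₁' w * g⁻¹) * g) :=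
        ((hδ₁'.comp hcg).comp hδ₁).comp hcg'
      have hfix : ∀ y ∈ P₂, g⁻¹ * δ₁ (g * δ₁' y * g⁻¹) * g = y := by
        intro y hy
        have h1 : δ₁' y = y := by
          have := hl₁ y (hPV hy)
          rwa [hδ₁P y hy] at this
        have h2 : g * y * g⁻¹ ∈ P₂ := (Subgroup.mem_normalizer_iff.mp hgP.2 y).mp hy
        rw [h1, hδ₁P _ h2]
        group
      have hun : ∀ w ∈ V, w⁻¹ * (g⁻¹ * δ₁ (g * δ₁' w * g⁻¹) * g) ∈ P₂ := by
        intro w hw
        have hvV : δ₁' w ∈ V := hδ₁'.map_mem hw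
        obtain ⟨u, hu, huv⟩ := hθU.surj hvV
        have hnu : n * u * n⁻¹ ∈ U := (Subgroup.mem_normalizer_iff.mp (hNU hn).2 u).mp hu
        have hδnu : δ (n * u * n⁻¹) ∈ U := hδ.map_mem hnu
        have hδu : δ u ∈ U := hδ.map_mem hu
        have hnW : n ∈ N ⊔ U := hNle hn
        have hniW : n⁻¹ ∈ N ⊔ U := Subgroup.inv_mem _ hnW
        have e1 : g * δ₁' w * g⁻¹ = fb (n * u * n⁻¹) := by
          rw [← huv, hgdef, hθ.map_mul (Subgroup.mul_mem _ hnW (hUle hu)) hniW,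
            hθ.map_mul hnW (hUle hu), hθ.map_inv hnW]
        have e2 : w = fb (δ u) := by
          rw [← hδ₁fb u hu, huv, hr₁ w hw]
        have e3 : g⁻¹ * δ₁ (g * δ₁' w * g⁻¹) * g = fb (n⁻¹ * δ (n * u * n⁻¹) * n) := by
          rw [e1, hδ₁fb _ hnu, hgdef, hθ.map_mul (Subgroup.mul_mem _ hniW (hUle hδnu)) hnW,
            hθ.map_mul hniW (hUle hδnu), hθ.map_inv hnW]
        have h4 : n⁻¹ * δ (n * u * n⁻¹) * n ∈ N ⊔ U :=
          Subgroup.mul_mem _ (Subgroup.mul_mem _ hniW (hUle hδnu)) hnW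
        rw [e3, e2, ← hθ.map_inv (hUle hδu), ← hθ.map_mul (Subgroup.inv_mem _ (hUle hδu)) h4]
        exact hθP.map_mem (hcomm n hn u hu)
      obtain ⟨t, ht, htN, et⟩ := unip_inner F hS hgood hη hfix hun
      rw [Iso.mem_ext]
      refine ⟨hgS, hgV.2, g * t, S.mul_mem hgS ht, fun v hv => ?_⟩
      have h5 := et (δ₁ v) (hδ₁.map_mem hv)
      rw [hl₁ v hv] at h5
      have h6 : δ₁ (g * v * g⁻¹) = g * (g⁻¹ * δ₁ (g * v * g⁻¹) * g) * g⁻¹ := by group
      rw [h6, h5]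
      group
    · intro u hu
      exact hδ₁.le_ext (hθU.map_mem hu)
  refine ⟨fb, δh, hθ, hδh.restrict himg, fun u hu => ?_⟩
  rw [eδh _ (hθU.map_mem hu), hδ₁fb u hu]

end Cfsg.Agent.Helper84
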