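import Mathlib
import Cfsg.Prelude.Def_FusionSystem
import Cfsg.Agent.Lib.Helper84.FusW4

/-!
# Climbing: an automorphism of `T C_S(T)` of `p'`-order whose restriction to a subgroup `P`
extends over `C_S(T)` trivially modulo `T` can be corrected on `N_T(P) C_S(T)`
-/

set_option autoImplicit false

namespace Cfsg.Agent.Helper84

open Cfsg Cfsg.FusionSystem
open Cfsg.Agent.Helper87 (Mor Iso extFun extAut)

variable {Ω : Type*} [Group Ω] {S T : Subgroup Ω}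

theorem mem_sup_cen {P : Subgroup Ω} (hPT : P ≤ T) {u : Ω} (hu : u ∈ P ⊔ centralizerIn S T) :
    ∃ x ∈ P, ∃ c ∈ centralizerIn S T, u = x * c := by
  have hLE : P ≤ Subgroup.normalizer ((centralizerIn S T : Subgroup Ω) : Set Ω) := by
    intro x hx
    apply Subgroup.centralizer_le_normalizer
    rw [Subgroup.mem_centralizer_iff]
    intro c hc
    exact (hc.2 x (hPT hx)).symm
  have h1 : u ∈ ((P ⊔ centralizerIn S T : Subgroup Ω) : Set Ω) := hu
  rw [Subgroup.coe_mul_of_left_le_normalizer_right P _ hLE] at h1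
  obtain ⟨x, hx, c, hc, rfl⟩ := h1
  exact ⟨x, hx, c, hc, rfl⟩

/-- the deviation on `C_S(T)` of a map extending trivially modulo `T` lies in the image of `P` -/
theorem cext_tau {F : FusionSystem S} (hsc : F.StronglyClosed T) {P : Subgroup Ω}
    (hP : TCen F T P) {fh : Ω → Ω} (hfh : Mor F (P ⊔ centralizerIn S T) fh)
    (hcf : ∀ c ∈ centralizerIn S T, c⁻¹ * fh c ∈ T) :
    ∀ c ∈ centralizerIn S T, ∃ x ∈ P, fh x = c⁻¹ * fh c := by
  have hPT : P ≤ T := hP.1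
  have hPle : P ≤ P ⊔ centralizerIn S T := le_sup_left
  have hCle : centralizerIn S T ≤ P ⊔ centralizerIn S T := le_sup_right
  have hfP : Mor F P fh := hfh.restrict hPle
  have hisoP : Iso F P hfP.image fh := Iso.of_mor hfP
  have hcenP := hP.2 _ (Helper87.isConj_iff.2 ⟨fh, hisoP⟩)
  intro c hc
  have hcc : c ∈ Subgroup.centralizer (T : Set Ω) := hc.2
  have h3 : c⁻¹ * fh c ∈ centralizerIn T hfP.image := by
    refine Subgroup.mem_inf.mpr ⟨hcf c hc, ?_⟩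
    rw [Subgroup.mem_centralizer_iff]
    rintro _ ⟨x, hx, rfl⟩
    have hfxT : fh x ∈ T := sc_mem hsc hfh (hPle hx) (hPT hx)
    have e1 : fh x * c⁻¹ = c⁻¹ * fh x := by
      have := hcc (fh x) hfxT
      calc fh x * c⁻¹ = c⁻¹ * (c * fh x) * c⁻¹ := by group
        _ = c⁻¹ * (fh x * c) * c⁻¹ := by rw [this]
        _ = c⁻¹ * fh x := by group
    have e2 : fh x * fh c = fh c * fh x := by
      rw [← hfh.map_mul (hPle hx) (hCle hc), ← hfh.map_mul (hCle hc) (hPle hx),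
        hcc x (hPT hx)]
    calc fh x * (c⁻¹ * fh c) = (fh x * c⁻¹) * fh c := by group
      _ = c⁻¹ * (fh x * fh c) := by rw [e1]; group
      _ = c⁻¹ * fh c * fh x := by rw [e2]; group
  obtain ⟨x, hx, hxe⟩ := hcenP h3
  exact ⟨x, hx, hxe⟩

/-- the `p'`-part of an automorphism, as an iterate with prescribed residues -/
theorem exists_pprime_iterate [Finite S] {F : FusionSystem S} {p : ℕ} [hp : Fact p.Prime]
    {R : Subgroup Ω} {f : Ω → Ω} (hf : Iso F R R f) {k : ℕ} (hk : k.Coprime p) (e : ℕ) :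
    ∃ j b : ℕ, b.Coprime p ∧ j ≡ 1 [MOD k] ∧ p ^ e ∣ j ∧ ∀ x ∈ R, (f^[j])^[b] x = x := by
  have hfinR : Finite R := Helper87.finite_of_le hf.le_left
  set m := orderOf (hf.equiv : MulAut R) with hm
  have hm0 : m ≠ 0 := (orderOf_pos _).ne'
  obtain ⟨a, b, hb, hab⟩ := Nat.exists_eq_pow_mul_and_not_dvd hm0 p hp.out.ne_one
  have hcop : (p ^ (a + e)).Coprime k := (Nat.Coprime.pow_left (a + e) hk.symm)
  obtain ⟨j, hj0, hj1⟩ := Nat.chineseRemainder hcop 0 1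
  have hdj : p ^ (a + e) ∣ j := (Nat.modEq_zero_iff_dvd).mp hj0
  refine ⟨j, b, ((Nat.Prime.coprime_iff_not_dvd hp.out).mpr hb).symm, hj1,
    (pow_dvd_pow p (Nat.le_add_left e a)).trans hdj, fun x hx => ?_⟩
  rw [← Function.iterate_mul]
  have hdvd : m ∣ j * b := by
    rw [hab]
    exact Nat.mul_dvd_mul ((pow_dvd_pow p (Nat.le_add_right a e)).trans hdj) dvd_rfl
  have h1 : (hf.equiv : MulAut R) ^ (j * b) = 1 := orderOf_dvd_iff_pow_eq_one.mp hdvd
  have h2 := equiv_pow_apply hf (j * b) ⟨x, hx⟩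
  rw [h1] at h2
  exact h2.symm

/-- the inductive datum of the climbing argument: an automorphism of `P C_S(T)` in the system,
trivial on `P` and equal to `μ` on `C_S(T)` modulo `P` -/
def ClimbGood (F : FusionSystem S) (T : Subgroup Ω) (μ : Ω → Ω) (P : Subgroup Ω) : Prop :=
  ∃ δ, Iso F (P ⊔ centralizerIn S T) (P ⊔ centralizerIn S T) δ ∧ (∀ x ∈ P, δ x = x) ∧
    ∀ c ∈ centralizerIn S T, ∃ r ∈ P, δ c = μ c * r

theorem mu_facts [Finite S] {F : FusionSystem S} (hsc : F.StronglyClosed T) {μ : Ω → Ω}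
    (hμ : Iso F (T ⊔ centralizerIn S T) (T ⊔ centralizerIn S T) μ) :
    (∀ t ∈ T, μ t ∈ T) ∧ ∀ c ∈ centralizerIn S T, μ c ∈ centralizerIn S T := by
  have hTS : T ≤ S := hsc.1
  have hTle : T ≤ T ⊔ centralizerIn S T := le_sup_left
  have hCle : centralizerIn S T ≤ T ⊔ centralizerIn S T := le_sup_right
  have hμT : ∀ t ∈ T, μ t ∈ T := fun t ht => sc_mem hsc hμ.1 (hTle ht) ht
  refine ⟨hμT, fun c hc => ?_⟩
  have hiso : Iso F T T μ := Helper87.iso_of_card_le (hμ.1.restrict hTle) hTS hμT le_rfl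
  refine Subgroup.mem_inf.mpr ⟨hμ.1.mem (hCle hc), ?_⟩
  rw [Subgroup.mem_centralizer_iff]
  intro t ht
  obtain ⟨t', ht', rfl⟩ := hiso.surj ht
  rw [← hμ.1.map_mul (hTle ht') (hCle hc), ← hμ.1.map_mul (hCle hc) (hTle ht'), hc.2 t' ht']

/-- the start of the climb: a map on `P C_S(T)` agreeing with `μ` on `P` and trivial on `C_S(T)`
modulo `T` gives the inductive datum -/
theorem climbGood_of_cext [Finite S] {F : FusionSystem S} (hsc : F.StronglyClosed T) {μ : Ω → Ω}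
    (hμ : Iso F (T ⊔ centralizerIn S T) (T ⊔ centralizerIn S T) μ) {P : Subgroup Ω}
    (hP : TCen F T P) {ψ : Ω → Ω} (hψ : Mor F (P ⊔ centralizerIn S T) ψ)
    (hψP : ∀ x ∈ P, ψ x = μ x) (hψC : ∀ c ∈ centralizerIn S T, c⁻¹ * ψ c ∈ T) :
    ClimbGood F T μ P := by
  have hτ := cext_tau hsc hP hψ hψC
  obtain ⟨hμT, hμC⟩ := mu_facts hsc hμ
  have hPle : P ≤ P ⊔ centralizerIn S T := le_sup_left
  have hCle : centralizerIn S T ≤ P ⊔ centralizerIn S T := le_sup_right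
  have hUle : P ⊔ centralizerIn S T ≤ T ⊔ centralizerIn S T := sup_le_sup_right hP.1 _
  have hUS : P ⊔ centralizerIn S T ≤ S := hψ.le
  have hψiso : Iso F (P ⊔ centralizerIn S T) hψ.image ψ := Iso.of_mor hψ
  obtain ⟨ψ', hψ', hlψ, hrψ⟩ := hψiso.symm
  have key : ∀ c ∈ centralizerIn S T, ∃ r ∈ P, μ c = ψ (μ c * r) := by
    intro c hc
    obtain ⟨x, hx, hxe⟩ := hτ (μ c) (hμC c hc)
    refine ⟨x⁻¹, P.inv_mem hx, ?_⟩
    rw [hψ.map_mul (hCle (hμC c hc)) (hPle (P.inv_mem hx)), hψ.map_inv (hPle hx), hxe]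
    group
  have hmaps : ∀ u ∈ P ⊔ centralizerIn S T, μ u ∈ hψ.image := by
    apply mor_map_sup (hμ.1.restrict hUle)
    · intro x hx
      exact ⟨x, hPle hx, hψP x hx⟩
    · intro c hc
      obtain ⟨r, hr, e⟩ := key c hc
      exact ⟨μ c * r, Subgroup.mul_mem _ (hCle (hμC c hc)) (hPle hr), e.symm⟩
  have hδm : Mor F (P ⊔ centralizerIn S T) (fun u => ψ' (μ u)) :=
    (hμ.1.restrict hUle).comp hψ'.1 hmaps
  have hδ : Iso F (P ⊔ centralizerIn S T) (P ⊔ centralizerIn S T) (fun u => ψ' (μ u)) :=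
    Helper87.iso_of_card_le hδm hUS (fun u hu => hψ'.map_mem (hmaps u hu)) le_rfl
  refine ⟨_, hδ, fun x hx => ?_, fun c hc => ?_⟩
  · show ψ' (μ x) = x
    rw [← hψP x hx, hlψ x (hPle hx)]
  · obtain ⟨r, hr, e⟩ := key c hc
    refine ⟨r, hr, ?_⟩
    show ψ' (μ c) = μ c * r
    rw [e, hlψ _ (Subgroup.mul_mem _ (hCle (hμC c hc)) (hPle hr)), ← e]

theorem inv_mul_comm_of_comm {G : Type*} [Group G] {n c : G} (h : n * c = c * n) :
    n⁻¹ * c = c * n⁻¹ := by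
  calc n⁻¹ * c = n⁻¹ * (c * n) * n⁻¹ := by group
    _ = n⁻¹ * (n * c) * n⁻¹ := by rw [h]
    _ = c * n⁻¹ := by group

/-- **the climbing step** -/
theorem climb [Finite S] {p : ℕ} [Fact p.Prime] (hS : IsPGroup p S) {F : FusionSystem S}
    (hF : F.IsSaturated p) (hsc : F.StronglyClosed T) {μ : Ω → Ω}
    (hμ : Iso F (T ⊔ centralizerIn S T) (T ⊔ centralizerIn S T) μ) {m : ℕ} (hm : m.Coprime p)
    (hμm : ∀ x ∈ T ⊔ centralizerIn S T, μ^[m] x = x) {P : Subgroup Ω} (hP : TCen F T P)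
    (h : ClimbGood F T μ P) : ClimbGood F T μ (normalizerIn T P) := by
  obtain ⟨δ, hδ, hδP, hδC⟩ := h
  have hTS : T ≤ S := hsc.1
  have hPT : P ≤ T := hP.1
  obtain ⟨hμT, hμC⟩ := mu_facts hsc hμ
  have hPle : P ≤ P ⊔ centralizerIn S T := le_sup_left
  have hCle : centralizerIn S T ≤ P ⊔ centralizerIn S T := le_sup_right
  have hCle' : centralizerIn S T ≤ T ⊔ centralizerIn S T := le_sup_right
  have hUS : P ⊔ centralizerIn S T ≤ S := hδ.le_left
  -- iterates of `δ` on `C_S(T)`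
  have hiter : ∀ j : ℕ, ∀ c ∈ centralizerIn S T, ∃ r ∈ P, δ^[j] c = μ^[j] c * r := by
    intro j
    induction j with
    | zero => intro c _; exact ⟨1, P.one_mem, by simp⟩
    | succ j ih =>
      intro c hc
      obtain ⟨r, hr, e1⟩ := hδC c hc
      obtain ⟨r', hr', e2⟩ := ih (μ c) (hμC c hc)
      refine ⟨r' * r, P.mul_mem hr' hr, ?_⟩
      rw [Function.iterate_succ_apply, Function.iterate_succ_apply, e1,
        (iso_iterate hδ j).1.map_mul (hCle (hμC c hc)) (hPle hr), e2,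
        Function.iterate_fixed (hδP r hr) j, mul_assoc]
  -- the `p'`-part of `δ`
  obtain ⟨j, b, hb, hj1, -, hjb⟩ := exists_pprime_iterate hδ hm 0
  have hj1' : j % m = 1 % m := hj1
  obtain ⟨δ', hδ'def⟩ : ∃ δ' : Ω → Ω, δ' = δ^[j] := ⟨_, rfl⟩
  rw [← hδ'def] at hjb
  have hδ' : Iso F (P ⊔ centralizerIn S T) (P ⊔ centralizerIn S T) δ' := by
    rw [hδ'def]; exact iso_iterate hδ j
  have hδ'P : ∀ x ∈ P, δ' x = x := fun x hx => by
    rw [hδ'def]; exact Function.iterate_fixed (hδP x hx) j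
  have hδ'C : ∀ c ∈ centralizerIn S T, ∃ r ∈ P, δ' c = μ c * r := by
    intro c hc
    obtain ⟨r, hr, e⟩ := hiter j c hc
    refine ⟨r, hr, ?_⟩
    rw [hδ'def, e, iterate_mod (hμm c (hCle' hc)) j, hj1', ← iterate_mod (hμm c (hCle' hc)) 1,
      Function.iterate_one]
  -- the normalizer
  have hPN : P ≤ normalizerIn T P := fun x hx => ⟨hPT hx, Subgroup.le_normalizer hx⟩
  have hNT : normalizerIn T P ≤ T := inf_le_left
  have hNU : normalizerIn T P ≤ normalizerIn S (P ⊔ centralizerIn S T) := by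
    intro n hn
    refine ⟨hTS hn.1, mem_normalizer_sup hn.2 ?_⟩
    apply Subgroup.centralizer_le_normalizer
    rw [Subgroup.mem_centralizer_iff]
    intro c hc
    exact (hc.2 n hn.1).symm
  have hNP : normalizerIn T P ≤ normalizerIn S P := fun n hn => ⟨hTS hn.1, hn.2⟩
  have hcomm : ∀ n ∈ normalizerIn T P, ∀ u ∈ P ⊔ centralizerIn S T,
      (δ' u)⁻¹ * (n⁻¹ * δ' (n * u * n⁻¹) * n) ∈ P := by
    intro n hn u hu
    obtain ⟨x, hx, c, hc, rfl⟩ := mem_sup_cen hPT hu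
    obtain ⟨r, hr, e⟩ := hδ'C c hc
    have hnx : n * x * n⁻¹ ∈ P := (Subgroup.mem_normalizer_iff.mp hn.2 x).mp hx
    have hnc : n * c = c * n := hc.2 n hn.1
    have hnμ : n * μ c = μ c * n := (hμC c hc).2 n hn.1
    have e1 : n * (x * c) * n⁻¹ = (n * x * n⁻¹) * c := by
      calc n * (x * c) * n⁻¹ = n * x * n⁻¹ * (n * c) * n⁻¹ := by group
        _ = n * x * n⁻¹ * (c * n) * n⁻¹ := by rw [hnc]
        _ = (n * x * n⁻¹) * c := by group
    have e2 : δ' (x * c) = x * (μ c * r) := by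
      rw [hδ'.1.map_mul (hPle hx) (hCle hc), hδ'P x hx, e]
    have e3 : δ' (n * x * n⁻¹ * c) = n * x * n⁻¹ * (μ c * r) := by
      rw [hδ'.1.map_mul (hPle hnx) (hCle hc), hδ'P _ hnx, e]
    have h1 : n⁻¹ * μ c = μ c * n⁻¹ := inv_mul_comm_of_comm hnμ
    have key : (x * (μ c * r))⁻¹ * (n⁻¹ * (n * x * n⁻¹ * (μ c * r)) * n) =
        r⁻¹ * (n⁻¹ * r * n) := by
      calc (x * (μ c * r))⁻¹ * (n⁻¹ * (n * x * n⁻¹ * (μ c * r)) * n)
          = r⁻¹ * (μ c)⁻¹ * (n⁻¹ * μ c) * r * n := by group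
        _ = r⁻¹ * (μ c)⁻¹ * (μ c * n⁻¹) * r * n := by rw [h1]
        _ = r⁻¹ * (n⁻¹ * r * n) := by group
    rw [e1, e2, e3, key]
    have h2 := (Subgroup.mem_normalizer_iff.mp (Subgroup.inv_mem _ hn.2) r).mp hr
    rw [inv_inv] at h2
    exact P.mul_mem (P.inv_mem hr) h2
  obtain ⟨θ, δh, hθ, hδh, hδhθ⟩ := ext_unip F hS hF hUS hPle hNU hNP hδ' hδ'P hcomm
  have hNW : normalizerIn T P ≤ normalizerIn T P ⊔ (P ⊔ centralizerIn S T) := le_sup_left
  have hUW : P ⊔ centralizerIn S T ≤ normalizerIn T P ⊔ (P ⊔ centralizerIn S T) := le_sup_right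
  have hPW : P ≤ normalizerIn T P ⊔ (P ⊔ centralizerIn S T) := hPle.trans hUW
  have hθiso : Iso F (normalizerIn T P ⊔ (P ⊔ centralizerIn S T)) hθ.image θ := Iso.of_mor hθ
  have hθP : Mor F P θ := hθ.restrict hPW
  have hP₂ : TCen F T hθP.image :=
    hP.of_conj hsc (Helper87.isConj_iff.2 ⟨θ, Iso.of_mor hθP⟩)
  have hkey : ∀ n ∈ normalizerIn T P, ∃ z ∈ P, δh (θ n) = θ (n * z) := by
    intro n hn
    have hnT : n ∈ T := hn.1
    have hgW' : θ n ∈ hθ.image := ⟨n, hNW hn, rfl⟩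
    have hgT : θ n ∈ T := sc_mem hsc hθ (hNW hn) hnT
    have hdT : δh (θ n) ∈ T := sc_mem hsc hδh hgW' hgT
    have hcen : (θ n)⁻¹ * δh (θ n) ∈ centralizerIn T hθP.image := by
      refine Subgroup.mem_inf.mpr ⟨T.mul_mem (T.inv_mem hgT) hdT, ?_⟩
      rw [Subgroup.mem_centralizer_iff]
      rintro _ ⟨x, hx, rfl⟩
      have hyW' : θ x ∈ hθ.image := ⟨x, hPW hx, rfl⟩
      have hδy : δh (θ x) = θ x := by rw [hδhθ x (hPle hx), hδ'P x hx]
      have hnx : n * x * n⁻¹ ∈ P := (Subgroup.mem_normalizer_iff.mp hn.2 x).mp hx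
      have e1 : θ n * θ x * (θ n)⁻¹ = θ (n * x * n⁻¹) := by
        rw [hθ.map_mul (Subgroup.mul_mem _ (hNW hn) (hPW hx)) (Subgroup.inv_mem _ (hNW hn)),
          hθ.map_mul (hNW hn) (hPW hx), hθ.map_inv (hNW hn)]
      have e2 : δh (θ n * θ x * (θ n)⁻¹) = θ n * θ x * (θ n)⁻¹ := by
        rw [e1, hδhθ _ (hPle hnx), hδ'P _ hnx]
      have e3 : δh (θ n * θ x * (θ n)⁻¹) = δh (θ n) * θ x * (δh (θ n))⁻¹ := by
        rw [hδh.map_mul (Subgroup.mul_mem _ hgW' hyW') (Subgroup.inv_mem _ hgW'),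
          hδh.map_mul hgW' hyW', hδh.map_inv hgW', hδy]
      have e4 : θ n * θ x * (θ n)⁻¹ = δh (θ n) * θ x * (δh (θ n))⁻¹ := e2.symm.trans e3
      calc θ x * ((θ n)⁻¹ * δh (θ n)) = (θ n)⁻¹ * (θ n * θ x * (θ n)⁻¹) * δh (θ n) := by group
        _ = (θ n)⁻¹ * (δh (θ n) * θ x * (δh (θ n))⁻¹) * δh (θ n) := by rw [e4]
        _ = (θ n)⁻¹ * δh (θ n) * θ x := by group
    obtain ⟨z, hz, hze⟩ := hP₂.2 _ (Helper87.isConj_refl hθP.image_le) hcen
    refine ⟨z, hz, ?_⟩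
    rw [hθ.map_mul (hNW hn) (hPW hz), hze]
    group
  have hcompm : Mor F (normalizerIn T P ⊔ (P ⊔ centralizerIn S T)) (fun w => δh (θ w)) :=
    hθ.comp hδh (fun w hw => ⟨w, hw, rfl⟩)
  have hmapsW : ∀ w ∈ normalizerIn T P ⊔ (P ⊔ centralizerIn S T), δh (θ w) ∈ hθ.image := by
    apply mor_map_sup hcompm
    · intro n hn
      obtain ⟨z, hz, e⟩ := hkey n hn
      show δh (θ n) ∈ hθ.image
      rw [e]
      exact ⟨n * z, Subgroup.mul_mem _ (hNW hn) (hPW hz), rfl⟩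
    · intro u hu
      show δh (θ u) ∈ hθ.image
      rw [hδhθ u hu]
      exact ⟨δ' u, hUW (hδ'.map_mem hu), rfl⟩
  obtain ⟨θ', hθ', hlθ, hrθ⟩ := hθiso.symm
  have hWS : normalizerIn T P ⊔ (P ⊔ centralizerIn S T) ≤ S := hθ.le
  obtain ⟨δ'', hδ''def⟩ : ∃ δ'' : Ω → Ω, δ'' = fun w => θ' (δh (θ w)) := ⟨_, rfl⟩
  have hδ''m : Mor F (normalizerIn T P ⊔ (P ⊔ centralizerIn S T)) δ'' := by
    rw [hδ''def]; exact hcompm.comp hθ'.1 hmapsW
  have hδ'' : Iso F (normalizerIn T P ⊔ (P ⊔ centralizerIn S T))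
      (normalizerIn T P ⊔ (P ⊔ centralizerIn S T)) δ'' :=
    Helper87.iso_of_card_le hδ''m hWS
      (fun w hw => by rw [hδ''def]; exact hθ'.map_mem (hmapsW w hw)) le_rfl
  have hδ''U : ∀ u ∈ P ⊔ centralizerIn S T, δ'' u = δ' u := fun u hu => by
    rw [hδ''def]
    show θ' (δh (θ u)) = δ' u
    rw [hδhθ u hu, hlθ _ (hUW (hδ'.map_mem hu))]
  have hδ''N : ∀ n ∈ normalizerIn T P, ∃ z ∈ P, δ'' n = n * z := fun n hn => by
    obtain ⟨z, hz, e⟩ := hkey n hn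
    refine ⟨z, hz, ?_⟩
    rw [hδ''def]
    show θ' (δh (θ n)) = n * z
    rw [e, hlθ _ (Subgroup.mul_mem _ (hNW hn) (hPW hz))]
  -- kill the deviation on the normalizer
  obtain ⟨e, he⟩ := hS.exists_card_eq
  obtain ⟨j₂, -, -, hj₂1, hj₂e, -⟩ := exists_pprime_iterate hδ'' hb e
  have hj₂1' : j₂ % b = 1 % b := hj₂1
  have h3iso := iso_iterate hδ'' j₂
  have h3U : ∀ u ∈ P ⊔ centralizerIn S T, δ''^[j₂] u = δ' u := by
    intro u hu
    rw [iterate_congr_on hδ''U (fun x hx => hδ'.map_mem hx) j₂ u hu,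
      iterate_mod (hjb u hu) j₂, hj₂1', ← iterate_mod (hjb u hu) 1, Function.iterate_one]
  have h3N : ∀ n ∈ normalizerIn T P, δ''^[j₂] n = n := by
    intro n hn
    obtain ⟨z, hz, e1⟩ := hδ''N n hn
    have hzfix : δ'' z = z := by rw [hδ''U z (hPle hz), hδ'P z hz]
    have hpow : ∀ k : ℕ, δ''^[k] n = n * z ^ k := by
      intro k
      induction k with
      | zero => simp
      | succ k ih =>
        rw [Function.iterate_succ_apply, e1,
          (iso_iterate hδ'' k).1.map_mul (hNW hn) (hPW hz), ih,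
          Function.iterate_fixed hzfix k, pow_succ, mul_assoc]
    rw [hpow]
    have hzS : z ∈ S := hTS (hPT hz)
    have hz1 : z ^ j₂ = 1 := by
      obtain ⟨q, rfl⟩ := hj₂e
      rw [pow_mul]
      have h1 : (⟨z, hzS⟩ : S) ^ (Nat.card S) = 1 := pow_card_eq_one'
      have h2 := congrArg Subtype.val h1
      rw [Subgroup.coe_pow, Subgroup.coe_one, he] at h2
      have h3 : z ^ p ^ e = 1 := h2
      rw [h3, one_pow]
    rw [hz1, mul_one]
  have hW : normalizerIn T P ⊔ (P ⊔ centralizerIn S T) = normalizerIn T P ⊔ centralizerIn S T := by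
    rw [← sup_assoc, sup_eq_left.mpr hPN]
  rw [hW] at h3iso
  refine ⟨δ''^[j₂], h3iso, h3N, fun c hc => ?_⟩
  obtain ⟨r, hr, e⟩ := hδ'C c hc
  exact ⟨r, hPN hr, by rw [h3U c (hCle hc), e]⟩

end Cfsg.Agent.Helper84
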