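import Mathlib
import Cfsg.Prelude.Def_FusionSystem
import Cfsg.Agent.Lib.Helper84.FusW5

/-!
# The automorphisms of `T` in `O^{p'}(E)` satisfy the extension condition of normality
-/

set_option autoImplicit false

namespace Cfsg.Agent.Helper84

open Cfsg Cfsg.FusionSystem
open Cfsg.Agent.Helper87 (Mor Iso extFun extAut)

variable {Ω : Type*} [Group Ω] {S T : Subgroup Ω}

theorem conj_eq_of_stronglyClosed [Finite S] {F : FusionSystem S} (hsc : F.StronglyClosed T)
    {T' : Subgroup Ω} (hTT' : F.IsConj T T') : T' = T := by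
  obtain ⟨f, hf⟩ := Helper87.isConj_iff.1 hTT'
  have hle : T' ≤ T := by
    intro y hy
    obtain ⟨x, hx, rfl⟩ := hf.surj hy
    exact sc_mem hsc hf.1 hx hx
  have hfinT : Finite T := Helper87.finite_of_le hsc.1
  exact Subgroup.eq_of_le_of_card_ge hle (by rw [hf.card_eq])

theorem fullyNormalized_of_stronglyClosed [Finite S] {F : FusionSystem S}
    (hsc : F.StronglyClosed T) : F.IsFullyNormalized T := by
  refine ⟨hsc.1, fun T' hTT' => ?_⟩
  rw [conj_eq_of_stronglyClosed hsc hTT']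

theorem tcen_top [Finite S] {F : FusionSystem S} (hsc : F.StronglyClosed T) : TCen F T T := by
  refine ⟨le_rfl, fun T' hTT' => ?_⟩
  rw [conj_eq_of_stronglyClosed hsc hTT']
  exact inf_le_left

/-- climbing to the top -/
theorem climb_top [Finite S] {p : ℕ} [Fact p.Prime] (hS : IsPGroup p S) {F : FusionSystem S}
    (hF : F.IsSaturated p) (hsc : F.StronglyClosed T) {μ : Ω → Ω}
    (hμ : Iso F (T ⊔ centralizerIn S T) (T ⊔ centralizerIn S T) μ) {m : ℕ} (hm : m.Coprime p)
    (hμm : ∀ x ∈ T ⊔ centralizerIn S T, μ^[m] x = x) :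
    ∀ (n : ℕ) (P : Subgroup Ω), Nat.card T - Nat.card P = n → TCen F T P →
      ClimbGood F T μ P → ClimbGood F T μ T := by
  have hTS := hsc.1
  have hfinT : Finite T := Helper87.finite_of_le hTS
  intro n
  induction n using Nat.strong_induction_on with
  | _ n ih =>
    intro P hn hP hg
    by_cases hPT : P = T
    · rw [hPT] at hg; exact hg
    · have hlt : P < T := lt_of_le_of_ne hP.1 hPT
      obtain ⟨t, htT, htN, htP⟩ := exists_mem_normalizer_not_mem (hS.to_le hTS) hlt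
      have hN := climb hS hF hsc hμ hm hμm hP hg
      have hPN : P ≤ normalizerIn T P := fun x hx => ⟨hP.1 hx, Subgroup.le_normalizer hx⟩
      have hNT : normalizerIn T P ≤ T := inf_le_left
      have hNcen : TCen F T (normalizerIn T P) := hP.of_le hPN hNT
      have hcard : Nat.card P < Nat.card (normalizerIn T P) :=
        Helper87.card_lt_of_not_mem hPN (hNT.trans hTS) ⟨htT, htN⟩ htP
      have hle : Nat.card (normalizerIn T P) ≤ Nat.card T := Subgroup.card_le_of_le hNT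
      exact ih (Nat.card T - Nat.card (normalizerIn T P)) (by omega) _ rfl hNcen hN

theorem cext_of_climbGood_top [Finite S] {F : FusionSystem S} (hsc : F.StronglyClosed T)
    {μ : Ω → Ω} (hμ : Iso F (T ⊔ centralizerIn S T) (T ⊔ centralizerIn S T) μ)
    (h : ClimbGood F T μ T) : CExt F T T μ := by
  obtain ⟨δ, hδ, hδT, hδC⟩ := h
  obtain ⟨hμT, hμC⟩ := mu_facts hsc hμ
  obtain ⟨μ', hμ', hlμ, hrμ⟩ := hμ.symm
  obtain ⟨-, hμ'C⟩ := mu_facts hsc hμ'
  obtain ⟨ε, hε, hlε, hrε⟩ := hδ.symm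
  have hTle : T ≤ T ⊔ centralizerIn S T := le_sup_left
  have hCle : centralizerIn S T ≤ T ⊔ centralizerIn S T := le_sup_right
  have hεT : ∀ x ∈ T, ε x = x := fun x hx => by
    have := hlε x (hTle hx)
    rwa [hδT x hx] at this
  refine ⟨fun w => μ (ε w), hε.1.comp hμ.1 (fun w hw => hε.map_mem hw), fun x hx => ?_,
    fun c hc => ?_⟩
  · show μ (ε x) = μ x
    rw [hεT x hx]
  · show c⁻¹ * μ (ε c) ∈ T
    have hc' : μ' c ∈ centralizerIn S T := hμ'C c hc
    obtain ⟨r, hr, e⟩ := hδC (μ' c) hc'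
    rw [hrμ c (hCle hc)] at e
    have h1 : ε (c * r) = μ' c := by rw [← e, hlε _ (hCle hc')]
    have h2 : ε c = μ' c * r⁻¹ := by
      have h3 : ε (c * r) = ε c * r := by rw [hε.1.map_mul (hCle hc) (hTle hr), hεT r hr]
      rw [h3] at h1
      rw [← h1]; group
    rw [h2, hμ.1.map_mul (hCle hc') (hTle (T.inv_mem hr)), hrμ c (hCle hc),
      hμ.1.map_inv (hTle hr), inv_mul_cancel_left]
    exact T.inv_mem (hμT r hr)

/-- an automorphism of `T` in the system of `p'`-order extends to an automorphism of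
`T C_S(T)` of `p'`-order -/
theorem exists_mu [Finite S] {p : ℕ} [Fact p.Prime] (hS : IsPGroup p S) {F : FusionSystem S}
    (hF : F.IsSaturated p) (hsc : F.StronglyClosed T) {lam : Ω → Ω} (hlam : Iso F T T lam)
    {m : ℕ} (hm : m.Coprime p) (hlamm : ∀ x ∈ T, lam^[m] x = x) :
    ∃ (μ : Ω → Ω) (m' : ℕ), Iso F (T ⊔ centralizerIn S T) (T ⊔ centralizerIn S T) μ ∧
      m'.Coprime p ∧ (∀ x ∈ T ⊔ centralizerIn S T, μ^[m'] x = x) ∧ ∀ x ∈ T, μ x = lam x := by
  have hTS := hsc.1
  have hrec := Helper87.receptive_of_fullyNormalized hS hF (fullyNormalized_of_stronglyClosed hsc)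
  obtain ⟨g, hg, eg⟩ := (Helper87.isReceptive_iff.1 hrec).2 T lam hlam
  have hle : T ⊔ centralizerIn S T ≤ hlam.ext := sup_le hlam.le_ext hlam.centralizerIn_le_ext
  have hg' : Mor F (T ⊔ centralizerIn S T) g := hg.restrict hle
  have hTle : T ≤ T ⊔ centralizerIn S T := le_sup_left
  have hCle : centralizerIn S T ≤ T ⊔ centralizerIn S T := le_sup_right
  have hgT : ∀ t ∈ T, g t ∈ T := fun t ht => by rw [eg t ht]; exact hlam.map_mem ht
  have hgC : ∀ c ∈ centralizerIn S T, g c ∈ centralizerIn S T := by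
    intro c hc
    refine Subgroup.mem_inf.mpr ⟨hg'.mem (hCle hc), ?_⟩
    rw [Subgroup.mem_centralizer_iff]
    intro t ht
    obtain ⟨t', ht', rfl⟩ := hlam.surj ht
    rw [← eg t' ht', ← hg'.map_mul (hTle ht') (hCle hc), ← hg'.map_mul (hCle hc) (hTle ht'),
      hc.2 t' ht']
  have hmaps : ∀ u ∈ T ⊔ centralizerIn S T, g u ∈ T ⊔ centralizerIn S T := by
    apply mor_map_sup hg'
    · intro t ht; exact hTle (hgT t ht)
    · intro c hc; exact hCle (hgC c hc)
  have hgiso : Iso F (T ⊔ centralizerIn S T) (T ⊔ centralizerIn S T) g :=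
    Helper87.iso_of_card_le hg' hg'.le hmaps le_rfl
  have hgm : ∀ x ∈ T, g^[m] x = x := by
    intro x hx
    rw [iterate_congr_on eg (fun x hx => hlam.map_mem hx) m x hx, hlamm x hx]
  obtain ⟨j, ⟨hiso, k, hk, hjk⟩, hjT⟩ := exists_pgen_pow hgiso hm hgm
  exact ⟨g^[j], k, hiso, hk, hjk, fun x hx => by rw [hjT x hx, eg x hx]⟩

/-- the generators of `Aut⁰_E(T)` satisfy the extension condition -/
theorem cext_of_gen [Finite S] {p : ℕ} [Fact p.Prime] (hS : IsPGroup p S) {E : FusionSystem T}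
    {F : FusionSystem S} (hF : F.IsSaturated p) (hEs : E.IsSaturated p)
    (hinv : E.IsInvariantIn F) {α : MulAut T} (hα : α ∈ E.autGroup T) {P : Subgroup Ω}
    (hPc : E.IsCentric P) (hPα : PMor E p P (extAut α)) : CExt F T T (extAut α) := by
  have hsc := hinv.2.1
  have hTS : T ≤ S := hsc.1
  have hfinT : Finite T := Helper87.finite_of_le hTS
  have hEF := hinv.1
  have hPT : P ≤ T := hPc.1
  have hPcen : TCen F T P := tcen_of_centric' hinv hPc
  have hTcen : TCen F T T := tcen_top hsc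
  obtain ⟨i, j, a, b, hb, hdec, hτ, hl⟩ := exists_pow_decomp p α
  have hτE : α ^ i ∈ E.autGroup T := Subgroup.pow_mem _ hα i
  have hpp : ∀ β : MulAut T, β ∈ E.autGroup T → β ^ (p ^ a) = 1 → PPGen E p T (extAut β) := by
    intro β hβ hβa
    refine ⟨Helper87.iso_of_mor_extAut ((Helper87.mem_autGroup_iff le_rfl).mp hβ), a,
      fun x hx => ?_⟩
    rw [extAut_iterate β _ hx, hβa]
    rfl
  have hpp1 := hpp _ hτE hτ
  have hpp2 := hpp _ (Subgroup.inv_mem _ hτE) (by rw [inv_pow, hτ, inv_one])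
  have hc1 : CExt F T T (extAut (α ^ i)) := claimA hS hF hEs hinv hTcen hpp1
  have hlE : α ^ j ∈ E.autGroup T := Subgroup.pow_mem _ hα j
  have hl_eq : α ^ j = (α ^ i)⁻¹ * α := by
    have : (α ^ i)⁻¹ * α = (α ^ i)⁻¹ * (α ^ i * α ^ j) := by rw [← hdec]
    rw [this, inv_mul_cancel_left]
  have hlP : PMor E p P (extAut (α ^ j)) := by
    refine (PMor.comp hPα (PMor.base hpp2) (fun x hx => hPα.mor.mem hx)).congr (fun x hx => ?_)
    show extAut (α ^ i)⁻¹ (extAut α x) = extAut (α ^ j) x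
    rw [hl_eq, Helper87.extAut_mul _ _ (hPT hx)]
  have hc2P : CExt F T P (extAut (α ^ j)) := pmor_cext hS hF hEs hinv hlP P le_rfl hPcen
  have hlamE : Iso E T T (extAut (α ^ j)) :=
    Helper87.iso_of_mor_extAut ((Helper87.mem_autGroup_iff le_rfl).mp hlE)
  have hlam : Iso F T T (extAut (α ^ j)) := hlamE.of_subsystem hEF
  have hlamm : ∀ x ∈ T, (extAut (α ^ j))^[b] x = x := by
    intro x hx
    rw [extAut_iterate (α ^ j) _ hx, hl]
    rfl
  obtain ⟨μ, m', hμ, hm', hμm', hμlam⟩ := exists_mu hS hF hsc hlam hb hlamm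
  obtain ⟨ψ, hψ, hψP, hψC⟩ := hc2P
  have hg0 : ClimbGood F T μ P := climbGood_of_cext hsc hμ hPcen hψ
    (fun x hx => by rw [hψP x hx, hμlam x (hPT hx)]) hψC
  have hgT := climb_top hS hF hsc hμ hm' hμm' _ P rfl hPcen hg0
  have hc2 : CExt F T T (extAut (α ^ j)) := (cext_of_climbGood_top hsc hμ hgT).congr hμlam
  refine (CExt.comp hsc hTcen le_rfl hc2 hc1
    (fun x hx => Helper87.extAut_mem_self _ hx)).congr (fun x hx => ?_)
  show extAut (α ^ i) (extAut (α ^ j) x) = extAut α x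
  conv_rhs => rw [hdec]
  rw [Helper87.extAut_mul _ _ hx]

theorem cext_iso [Finite S] {F : FusionSystem S} (hsc : F.StronglyClosed T) {fh : Ω → Ω}
    (hfh : Mor F (T ⊔ centralizerIn S T) fh) (hcf : ∀ c ∈ centralizerIn S T, c⁻¹ * fh c ∈ T) :
    Iso F (T ⊔ centralizerIn S T) (T ⊔ centralizerIn S T) fh := by
  have hTle : T ≤ T ⊔ centralizerIn S T := le_sup_left
  have hCle : centralizerIn S T ≤ T ⊔ centralizerIn S T := le_sup_right
  have hmaps : ∀ u ∈ T ⊔ centralizerIn S T, fh u ∈ T ⊔ centralizerIn S T := by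
    apply mor_map_sup hfh
    · intro t ht; exact hTle (sc_mem hsc hfh (hTle ht) ht)
    · intro c hc
      have : fh c = c * (c⁻¹ * fh c) := by group
      rw [this]
      exact Subgroup.mul_mem _ (hCle hc) (hTle (hcf c hc))
  exact Helper87.iso_of_card_le hfh hfh.le hmaps le_rfl

theorem CExt.symm_top [Finite S] {F : FusionSystem S} (hsc : F.StronglyClosed T) {f : Ω → Ω}
    (h : CExt F T T f) : ∃ g, CExt F T T g ∧ ∀ x ∈ T, g (f x) = x := by
  obtain ⟨fh, hfh, ef, hcf⟩ := h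
  have hTle : T ≤ T ⊔ centralizerIn S T := le_sup_left
  have hCle : centralizerIn S T ≤ T ⊔ centralizerIn S T := le_sup_right
  have hiso := cext_iso hsc hfh hcf
  obtain ⟨g, hg, hlg, hrg⟩ := hiso.symm
  refine ⟨g, ⟨g, hg.1, fun _ _ => rfl, fun c hc => ?_⟩, fun x hx => ?_⟩
  · have ht : c⁻¹ * fh c ∈ T := hcf c hc
    have h1 : g (fh c) = c := hlg c (hCle hc)
    have h3 : c = fh c * (c⁻¹ * fh c)⁻¹ := by group
    have h4 : g c = c * (g (c⁻¹ * fh c))⁻¹ := by
      calc g c = g (fh c * (c⁻¹ * fh c)⁻¹) := by rw [← h3]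
        _ = c * (g (c⁻¹ * fh c))⁻¹ := by
          rw [hg.1.map_mul (hiso.map_mem (hCle hc)) (hTle (T.inv_mem ht)), h1,
            hg.1.map_inv (hTle ht)]
    rw [h4, inv_mul_cancel_left]
    exact T.inv_mem (sc_mem hsc hg.1 (hTle ht) ht)
  · rw [← ef x hx]; exact hlg x (hTle hx)

theorem cext_of_mem_Aut0 [Finite S] {p : ℕ} [Fact p.Prime] (hS : IsPGroup p S)
    {E : FusionSystem T} {F : FusionSystem S} (hF : F.IsSaturated p) (hEs : E.IsSaturated p)
    (hinv : E.IsInvariantIn F) {α : MulAut T} (hα : α ∈ Aut0 E p) : CExt F T T (extAut α) := by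
  have hsc := hinv.2.1
  have hTcen : TCen F T T := tcen_top hsc
  unfold Aut0 at hα
  induction hα using Subgroup.closure_induction with
  | mem β hβ =>
    obtain ⟨hβE, P, hP, hPβ⟩ := hβ
    exact cext_of_gen hS hF hEs hinv hβE hP hPβ
  | one =>
    refine ⟨fun x => x, Mor.id (sup_le hsc.1 inf_le_left),
      fun x hx => (Helper87.extAut_one hx).symm, fun c _ => ?_⟩
    rw [inv_mul_cancel]
    exact T.one_mem
  | mul a b _ _ iha ihb =>
    refine (CExt.comp hsc hTcen le_rfl ihb iha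
      (fun x hx => Helper87.extAut_mem_self _ hx)).congr (fun x hx => ?_)
    show extAut a (extAut b x) = extAut (a * b) x
    rw [Helper87.extAut_mul _ _ hx]
  | inv a _ iha =>
    obtain ⟨g, hg, hgl⟩ := iha.symm_top hsc
    refine hg.congr (fun x hx => ?_)
    have := hgl (extAut a⁻¹ x) (Helper87.extAut_mem_self _ hx)
    rw [Helper87.extAut_inv_right a hx] at this
    exact this

/-- **the automorphisms of `T` in `O^{p'}(E)` satisfy the extension condition** -/
theorem cext_of_mem_pSys1 [Finite S] [Finite T] {p : ℕ} [Fact p.Prime] (hS : IsPGroup p S)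
    (hT : IsPGroup p T) {E : FusionSystem T} {F : FusionSystem S} (hF : F.IsSaturated p)
    (hEs : E.IsSaturated p) (hinv : E.IsInvariantIn F) {α : MulAut T}
    (hα : α ∈ (pSys1 E p hT).autGroup T) : CExt F T T (extAut α) := by
  have hsc := hinv.2.1
  have hTcen : TCen F T T := tcen_top hsc
  have h1 := (Helper87.mem_autGroup_iff le_rfl).mp hα
  obtain ⟨α₀, hα₀, f₀, hf₀, e⟩ := mor_pSys1_iff.mp h1
  have hc0 : CExt F T T f₀ := pmor_cext hS hF hEs hinv hf₀ T le_rfl hTcen
  have hc1 := cext_of_mem_Aut0 hS hF hEs hinv hα₀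
  exact (CExt.comp hsc hTcen le_rfl hc0 hc1 (fun x hx => hf₀.mor.mem hx)).congr
    (fun x hx => (e x hx).symm)

/-- the extension condition in the form of the definition of normality -/
theorem exists_beta_of_cext [Finite S] {F : FusionSystem S} (hsc : F.StronglyClosed T)
    {α : MulAut T} (h : CExt F T T (extAut α)) :
    ∃ β ∈ F.autGroup (T ⊔ centralizerIn S T),
      (∀ x : T, ((β (Subgroup.inclusion le_sup_left x) : ↥(T ⊔ centralizerIn S T)) : Ω) =
        ((α x : T) : Ω)) ∧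
      ∀ c : ↥(T ⊔ centralizerIn S T), (c : Ω) ∈ centralizerIn S T →
        (c : Ω)⁻¹ * ((β c : ↥(T ⊔ centralizerIn S T)) : Ω) ∈
          T ⊓ Subgroup.centralizer (T : Set Ω) := by
  obtain ⟨fh, hfh, ef, hcf⟩ := h
  have hTle : T ≤ T ⊔ centralizerIn S T := le_sup_left
  have hCle : centralizerIn S T ≤ T ⊔ centralizerIn S T := le_sup_right
  have hiso := cext_iso hsc hfh hcf
  refine ⟨hiso.equiv, hiso.equiv_mem_autGroup, fun x => ?_, fun c hc => ?_⟩
  · rw [hiso.equiv_apply]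
    show fh x = α x
    rw [ef x x.2, Helper87.extAut_mem α x.2]
  · rw [hiso.equiv_apply]
    refine Subgroup.mem_inf.mpr ⟨hcf c hc, ?_⟩
    rw [Subgroup.mem_centralizer_iff]
    intro t ht
    have hcc : (c : Ω) ∈ Subgroup.centralizer (T : Set Ω) := hc.2
    -- `t = fh t'`
    have htα : extAut α (extAut α⁻¹ t) = t := Helper87.extAut_inv_right α ht
    have ht' : extAut α⁻¹ t ∈ T := Helper87.extAut_mem_self _ ht
    have e1 : fh (extAut α⁻¹ t) = t := by rw [ef _ ht', htα]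
    have e2 : t * fh c = fh c * t := by
      conv_lhs => rw [← e1]
      conv_rhs => rw [← e1]
      rw [← hfh.map_mul (hTle ht') (hCle hc), ← hfh.map_mul (hCle hc) (hTle ht'), hcc _ ht']
    have e3 : t * (c : Ω)⁻¹ = (c : Ω)⁻¹ * t := by
      have := hcc t ht
      calc t * (c : Ω)⁻¹ = (c : Ω)⁻¹ * ((c : Ω) * t) * (c : Ω)⁻¹ := by group
        _ = (c : Ω)⁻¹ * (t * (c : Ω)) * (c : Ω)⁻¹ := by rw [this]
        _ = (c : Ω)⁻¹ * t := by group
    calc t * ((c : Ω)⁻¹ * fh c) = (t * (c : Ω)⁻¹) * fh c := by group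
      _ = (c : Ω)⁻¹ * (t * fh c) := by rw [e3]; group
      _ = (c : Ω)⁻¹ * fh c * t := by rw [e2]; group

end Cfsg.Agent.Helper84
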