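import Mathlib
import Cfsg.Prelude.Def_FusionSystem
import Cfsg.Agent.Lib.Helper84.FusW6
import Cfsg.Agent.Lib.Helper84.FusAlp3
import Cfsg.Agent.S5119

/-!
# `O^{p'}(E)` is normal in `F` for `E` weakly normal in `F`
-/

set_option autoImplicit false

namespace Cfsg.Agent.Helper84

open Cfsg Cfsg.FusionSystem
open Cfsg.Agent.Helper87 (Mor Iso extFun extAut)

variable {Ω : Type*} [Group Ω] {S T : Subgroup Ω}

/-- pull-back of a `p`-power automorphism along a normalizing automorphism -/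
theorem ppgen_conjNorm {F : FusionSystem S} {p : ℕ} {R : Subgroup Ω} {f : Ω → Ω}
    (h : PPGen F p R f) {α : MulAut S} (hα : NormalizesSys F α) :
    PPGen F p (imgAut α⁻¹ R) (fun x => extAut α⁻¹ (f (extAut α x))) := by
  obtain ⟨hf, k, hfk⟩ := h
  have hR : R ≤ S := hf.le_left
  have hR' : imgAut α⁻¹ R ≤ S := imgAut_le _ _
  refine ⟨hα.iso hf, k, fun x hx => ?_⟩
  have hmem : ∀ x ∈ imgAut α⁻¹ R, extAut α x ∈ R := fun x hx => ((mem_imgAut_inv hR).mp hx).2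
  have key : ∀ j : ℕ, ∀ x ∈ imgAut α⁻¹ R, (fun x => extAut α⁻¹ (f (extAut α x)))^[j] x =
      extAut α⁻¹ (f^[j] (extAut α x)) := by
    intro j
    induction j with
    | zero =>
      intro x hx
      exact (Helper87.extAut_inv_left α (hR' hx)).symm
    | succ j ih =>
      intro x hx
      have hfx : f (extAut α x) ∈ R := hf.map_mem (hmem x hx)
      have hx' : extAut α⁻¹ (f (extAut α x)) ∈ imgAut α⁻¹ R := (mem_imgAut hR).mpr ⟨_, hfx, rfl⟩
      rw [Function.iterate_succ_apply, ih _ hx', Helper87.extAut_inv_right α (hR hfx),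
        Function.iterate_succ_apply]
  rw [key _ x hx, hfk _ (hmem x hx), Helper87.extAut_inv_left α (hR' hx)]

/-- pull-back of a map of `O^{p'}_*(F)` along a normalizing automorphism -/
theorem PMor.conjNorm {F : FusionSystem S} {p : ℕ} {Q : Subgroup Ω} {f : Ω → Ω}
    (h : PMor F p Q f) {α : MulAut S} (hα : NormalizesSys F α) :
    ∀ P₁ : Subgroup Ω, P₁ ≤ S → (∀ x ∈ P₁, extAut α x ∈ Q) →
      PMor F p P₁ (fun x => extAut α⁻¹ (f (extAut α x))) := by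
  induction h with
  | @base R f h =>
    intro P₁ hP₁S hP₁
    exact PMor.restr (PMor.base (ppgen_conjNorm h hα))
      (fun x hx => (mem_imgAut_inv h.1.le_left).mpr ⟨hP₁S hx, hP₁ x hx⟩)
  | restr _ hQP ih =>
    intro P₁ hP₁S hP₁
    exact ih P₁ hP₁S (fun x hx => hQP (hP₁ x hx))
  | @comp P Q f g hPf hQg hfg ih1 ih2 =>
    intro P₁ hP₁S hP₁
    have hQS : Q ≤ S := hQg.mor.le
    have h1 := ih1 P₁ hP₁S hP₁
    have h2 := ih2 (imgAut α⁻¹ Q) (imgAut_le _ _) (fun x hx => ((mem_imgAut_inv hQS).mp hx).2)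
    refine (PMor.comp h1 h2 (fun x hx => ?_)).congr (fun x hx => ?_)
    · rw [mem_imgAut_inv hQS]
      have hfx : f (extAut α x) ∈ Q := hfg _ (hP₁ x hx)
      refine ⟨Helper87.extAut_mem_self _ (hQS hfx), ?_⟩
      rw [Helper87.extAut_inv_right α (hQS hfx)]
      exact hfx
    · show extAut α⁻¹ (g (extAut α (extAut α⁻¹ (f (extAut α x))))) = _
      rw [Helper87.extAut_inv_right α (hQS (hfg _ (hP₁ x hx)))]
  | congr _ hff ih =>
    intro P₁ hP₁S hP₁
    exact (ih P₁ hP₁S hP₁).congr (fun x hx => by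
      show extAut α⁻¹ _ = extAut α⁻¹ _
      rw [hff _ (hP₁ x hx)])

/-- the preimage of a centric subgroup under a normalizing automorphism is centric -/
theorem isCentric_imgAut_inv {E : FusionSystem S} {κ : MulAut S} (hκi : NormalizesSys E κ⁻¹)
    {P : Subgroup Ω} (hP : E.IsCentric P) : E.IsCentric (imgAut κ⁻¹ P) := by
  refine ⟨imgAut_le _ _, fun Q hQ => ?_⟩
  obtain ⟨f, hf⟩ := Helper87.isConj_iff.1 hQ
  have hQS : Q ≤ S := hf.le_right
  have h1 := hκi.iso hf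
  rw [imgAut_inv_imgAut' κ⁻¹ hP.1, inv_inv] at h1
  have h2 := hP.2 _ (Helper87.isConj_iff.2 ⟨_, h1⟩)
  intro c hc
  have hcS : c ∈ S := hc.1
  have hκc : extAut κ c ∈ centralizerIn S (imgAut κ Q) := by
    refine Subgroup.mem_inf.mpr ⟨Helper87.extAut_mem_self _ hcS, ?_⟩
    rw [Subgroup.mem_centralizer_iff]
    intro y hy
    obtain ⟨x, hx, rfl⟩ := (mem_imgAut hQS).mp hy
    rw [← extAut_map_mul κ (hQS hx) hcS, ← extAut_map_mul κ hcS (hQS hx), hc.2 x hx]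
  obtain ⟨x, hx, hxe⟩ := (mem_imgAut hQS).mp (h2 hκc)
  have : x = c := (mor_univSys_extAut κ).inj (hQS hx) hcS hxe
  rw [← this]; exact hx

/-- `Aut⁰_E(S)` is normalized by the normalizing automorphisms -/
theorem aut0_conj_mem {E : FusionSystem S} {p : ℕ} {κ : MulAut S} (hκ : NormalizesSys E κ)
    (hκi : NormalizesSys E κ⁻¹) {α₀ : MulAut S} (h : α₀ ∈ Aut0 E p) :
    κ⁻¹ * α₀ * κ ∈ Aut0 E p := by
  unfold Aut0 at h ⊢
  induction h using Subgroup.closure_induction with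
  | mem α hα =>
    obtain ⟨hαE, P, hP, hPα⟩ := hα
    apply Subgroup.subset_closure
    have hm : Mor E S (fun x => extAut κ⁻¹ (extAut α (extAut κ x))) :=
      hκ S (extAut α) ((Helper87.mem_autGroup_iff le_rfl).mp hαE) S le_rfl
        (fun x hx => Helper87.extAut_mem_self _ hx)
    have hcongr : ∀ x ∈ S, extAut κ⁻¹ (extAut α (extAut κ x)) = extAut (κ⁻¹ * α * κ) x :=
      fun x hx => by
        rw [Helper87.extAut_mul _ _ hx, Helper87.extAut_mul _ _ (Helper87.extAut_mem_self _ hx)]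
    refine ⟨(Helper87.mem_autGroup_iff le_rfl).mpr (hm.congr hcongr), imgAut κ⁻¹ P,
      isCentric_imgAut_inv hκi hP, ?_⟩
    have h3 := hPα.conjNorm hκ (imgAut κ⁻¹ P) (imgAut_le _ _)
      (fun x hx => ((mem_imgAut_inv hP.1).mp hx).2)
    exact h3.congr (fun x hx => hcongr x (imgAut_le _ _ hx))
  | one =>
    have : κ⁻¹ * 1 * κ = 1 := by group
    rw [this]; exact Subgroup.one_mem _
  | mul a b _ _ iha ihb =>
    have : κ⁻¹ * (a * b) * κ = (κ⁻¹ * a * κ) * (κ⁻¹ * b * κ) := by group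
    rw [this]; exact Subgroup.mul_mem _ iha ihb
  | inv a _ iha =>
    have : κ⁻¹ * a⁻¹ * κ = (κ⁻¹ * a * κ)⁻¹ := by group
    rw [this]; exact Subgroup.inv_mem _ iha

/-- an automorphism normalizing `E` normalizes `O^{p'}(E)` -/
theorem normalizesSys_pSys1 [Finite S] {p : ℕ} [Fact p.Prime] (hS : IsPGroup p S)
    {E : FusionSystem S} {κ : MulAut S} (hκ : NormalizesSys E κ) (hκi : NormalizesSys E κ⁻¹) :
    NormalizesSys (pSys1 E p hS) κ := by
  intro Q f hf P₁ hP₁ hmap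
  rw [mor_pSys1_iff] at hf ⊢
  obtain ⟨α₀, hα₀, f₀, hf₀, e⟩ := hf
  refine ⟨κ⁻¹ * α₀ * κ, aut0_conj_mem hκ hκi hα₀, _, hf₀.conjNorm hκ P₁ hP₁ hmap,
    fun x hx => ?_⟩
  show extAut κ⁻¹ (f (extAut κ x)) = extAut (κ⁻¹ * α₀ * κ) (extAut κ⁻¹ (f₀ (extAut κ x)))
  have h1 : f₀ (extAut κ x) ∈ S := hf₀.mor.mem (hmap x hx)
  rw [e _ (hmap x hx), Helper87.extAut_mul _ _ (Helper87.extAut_mem_self _ h1),
    Helper87.extAut_inv_right κ h1, Helper87.extAut_mul _ _ h1]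

/-- `O^{p'}(E)` is strongly invariant in `F` -/
theorem siFun_pSys1 [Finite S] [Finite T] {p : ℕ} [Fact p.Prime] (hT : IsPGroup p T)
    {E : FusionSystem T} {F : FusionSystem S} (hEs : E.IsSaturated p)
    (hinv : E.IsInvariantIn F) : Cfsg.Agent.S5119.SIfun (pSys1 E p hT) F := by
  intro P Q R f g g' hPQ hQT hf hfQ hg hR hg'
  have hTS : T ≤ S := hinv.2.1.1
  obtain ⟨γ, hγ, g₀, hg₀, eg⟩ := Helper87.frattini_fun hinv hQT hg
  obtain ⟨α, hα, ε₀, hε₀, eε⟩ := exists_pmor_factor hT hEs hg₀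
  have hαF : α ∈ F.autGroup T := Helper87.autGroup_le_of_subsystem hinv.1 le_rfl hTS hα
  obtain ⟨κ, hκdef⟩ : ∃ κ : MulAut T, κ = γ * α := ⟨_, rfl⟩
  have hκF : κ ∈ F.autGroup T := by rw [hκdef]; exact Subgroup.mul_mem _ hγ hαF
  have hκiF : κ⁻¹ ∈ F.autGroup T := Subgroup.inv_mem _ hκF
  have hgκ : ∀ x ∈ Q, g x = extAut κ (ε₀ x) := by
    intro x hx
    rw [eg x hx, eε x hx, hκdef, Helper87.extAut_mul _ _ (hε₀.mor.mem hx)]
  have hε₀D : Mor (pSys1 E p hT) Q ε₀ := mor_pSys1_iff.mpr (E1Mor.of_pmor hε₀)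
  have hisoP : Iso (pSys1 E p hT) P (hε₀D.restrict hPQ).image ε₀ := Iso.of_mor _
  obtain ⟨ε₀', hε₀', e1, e2⟩ := hisoP.symm
  have hf₁ : Mor (pSys1 E p hT) (hε₀D.restrict hPQ).image (fun y => ε₀ (f (ε₀' y))) :=
    (hε₀'.1.comp hf (fun y hy => hε₀'.map_mem hy)).comp hε₀D
      (fun y hy => hfQ _ (hε₀'.map_mem hy))
  have hnorm : NormalizesSys (pSys1 E p hT) κ⁻¹ := by
    have h1 := normalizesSys_of_invariant hinv hκiF
    have h2 := normalizesSys_of_invariant hinv hκF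
    apply normalizesSys_pSys1 hT h1
    rw [inv_inv]; exact h2
  have hRT : R ≤ T := by
    intro y hy
    obtain ⟨x, hx, rfl⟩ := (hR y).1 hy
    rw [hgκ x (hPQ hx)]
    exact Helper87.extAut_mem_self _ (hε₀.mor.mem (hPQ hx))
  have h3 := hnorm _ _ hf₁ R hRT (fun y hy => by
    obtain ⟨x, hx, rfl⟩ := (hR y).1 hy
    rw [hgκ x (hPQ hx), Helper87.extAut_inv_left κ (hε₀.mor.mem (hPQ hx))]
    exact ⟨x, hx, rfl⟩)
  rw [inv_inv] at h3
  refine h3.congr (fun y hy => ?_)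
  obtain ⟨x, hx, rfl⟩ := (hR y).1 hy
  show extAut κ (ε₀ (f (ε₀' (extAut κ⁻¹ (g x))))) = g (f (g' (g x)))
  rw [hg' x hx, hgκ x (hPQ hx), Helper87.extAut_inv_left κ (hε₀.mor.mem (hPQ hx)), e1 x hx,
    hgκ (f x) (hfQ x hx)]

/-- **Craven's theorem**: `O^{p'}(E)` is normal in `F` for `E` weakly normal in `F` -/
theorem pSys1_isNormalIn [Finite S] [Finite T] {p : ℕ} [Fact p.Prime] (hS : IsPGroup p S)
    (hT : IsPGroup p T) {E : FusionSystem T} {F : FusionSystem S}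
    (hE : E.IsWeaklyNormalIn F p) : (pSys1 E p hT).IsNormalIn F p := by
  obtain ⟨hEs, hF, hinv⟩ := hE
  have hsc := hinv.2.1
  have hsub : (pSys1 E p hT).IsSubsystemOf F :=
    fun P φ hφ => hinv.1 P (pSys1_isSubsystemOf E p hT P hφ)
  refine ⟨⟨pSys1_saturated hT hEs, hF,
    Cfsg.Agent.S5119.invariant_of_siFun hS hF hsub hsc (siFun_pSys1 hT hEs hinv)⟩,
    fun α hα => ?_⟩
  exact exists_beta_of_cext hsc (cext_of_mem_pSys1 hS hT hF hEs hinv hα)

end Cfsg.Agent.Helper84
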