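import Mathlib
import Cfsg.Prelude.Def_FusionSystem
import Cfsg.Agent.Lib.Helper84.FusO7
import Cfsg.Agent.Lib.Helper84.FusCrit2
import Cfsg.Agent.Lib.Helper87.FusionEssential
import Cfsg.Agent.Lib.Helper87.FusionMore

/-!
# Saturation of the subsystem over a subgroup `T` of index `p` containing the hyperfocal subgroup
-/

set_option autoImplicit false

namespace Cfsg.Agent.Helper84

open Cfsg Cfsg.FusionSystem
open Cfsg.Agent.Helper87 (Mor Iso extFun extAut)
open scoped Pointwise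

variable {Ω : Type*} [Group Ω] {S : Subgroup Ω}

theorem mem_autGroup_stepE_iff [Finite S] {F : FusionSystem S} {p : ℕ} [Fact p.Prime]
    {T : Subgroup Ω} {H : StepHyp F p T} {Q : Subgroup Ω} (hQT : Q ≤ T) {α : MulAut Q} :
    α ∈ (stepE H).autGroup Q ↔ EMor F p T Q (extAut α) := by
  rw [Helper87.mem_autGroup_iff hQT, mor_stepE_iff]

theorem conjAut_inv_eq {P : Subgroup Ω} {n : Ω} (hn : n ∈ Subgroup.normalizer (P : Set Ω)) :
    (Helper87.conjAut P n hn)⁻¹ = Helper87.conjAut P n⁻¹ (Subgroup.inv_mem _ hn) := by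
  apply inv_eq_of_mul_eq_one_left
  ext x
  show n⁻¹ * (n * (x : Ω) * n⁻¹) * n⁻¹⁻¹ = x
  group

/-- `Aut_S(Q)` normalizes the automorphism group of the subsystem -/
theorem conj_mem_autGroup_stepE [Finite S] {F : FusionSystem S} {p : ℕ} [Fact p.Prime]
    {T : Subgroup Ω} (H : StepHyp F p T) {Q : Subgroup Ω} (hQT : Q ≤ T) {n : Ω}
    (hn : n ∈ normalizerIn S Q) {γ : MulAut Q} (hγ : γ ∈ (stepE H).autGroup Q) :
    Helper87.conjAut Q n hn.2 * γ * (Helper87.conjAut Q n hn.2)⁻¹ ∈ (stepE H).autGroup Q := by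
  rw [mem_autGroup_stepE_iff hQT] at hγ ⊢
  obtain ⟨-, t, ht, hψ⟩ := hγ
  have hni : n⁻¹ ∈ normalizerIn S Q := Subgroup.inv_mem _ hn
  have hconj := hψ.conj hni.1 Q (fun x hx => (Subgroup.mem_normalizer_iff.1 hni.2 x).1 hx)
  refine ⟨hQT, n * t * n⁻¹, H.conj_mem hn.1 ht, hconj.congr (fun x hx => ?_)⟩
  have hx' : n⁻¹ * x * n⁻¹⁻¹ ∈ Q := (Subgroup.mem_normalizer_iff.1 hni.2 x).1 hx
  rw [conjAut_inv_eq hn.2, Helper87.extAut_mem _ hx]
  simp only [MulAut.mul_apply]
  have h1 : Helper87.conjAut Q n⁻¹ hni.2 ⟨x, hx⟩ = ⟨n⁻¹ * x * n⁻¹⁻¹, hx'⟩ := rfl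
  rw [h1, Helper87.conjAut_apply, Helper87.extAut_mem _ hx']
  group

theorem stepE_aut_normal [Finite S] {F : FusionSystem S} {p : ℕ} [Fact p.Prime]
    {T : Subgroup Ω} (H : StepHyp F p T) {Q : Subgroup Ω} (hQ : F.IsFullyNormalized Q)
    (hQT : Q ≤ T) :
    F.autGroup Q ≤ Subgroup.normalizer (((stepE H).autGroup Q : Subgroup (MulAut Q)) : Set (MulAut Q)) := by
  have key : ∀ α ∈ F.autGroup Q, ∀ γ ∈ (stepE H).autGroup Q,
      α * γ * α⁻¹ ∈ (stepE H).autGroup Q := by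
    intro α hα γ hγ
    obtain ⟨n, hn, b, hb, hx⟩ := aut_decomp H.pgrp H.sat hQ hα
    have hα_eq : α = Helper87.conjAut Q n hn.2 * (b : MulAut Q) := by
      ext x
      rw [hx x]
      rfl
    have hbE : (b : MulAut Q) ∈ (stepE H).autGroup Q :=
      (subE_hasPPowerIndexIn F p H.le H.hyp).2.2 Q hQT ⟨b, hb, rfl⟩
    have h1 : (b : MulAut Q) * γ * (b : MulAut Q)⁻¹ ∈ (stepE H).autGroup Q :=
      Subgroup.mul_mem _ (Subgroup.mul_mem _ hbE hγ) (Subgroup.inv_mem _ hbE)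
    have h2 := conj_mem_autGroup_stepE H hQT hn h1
    have h3 : α * γ * α⁻¹ = Helper87.conjAut Q n hn.2 * ((b : MulAut Q) * γ * (b : MulAut Q)⁻¹) *
        (Helper87.conjAut Q n hn.2)⁻¹ := by
      rw [hα_eq]; group
    rw [h3]
    exact h2
  intro α hα
  apply mem_normalizer_of_forall_conj_mem (key α hα)
  intro γ hγ
  have := key α⁻¹ (Subgroup.inv_mem _ hα) γ hγ
  rwa [inv_inv] at this

/-- `Aut_S(Q) ∩ Aut_E(Q) = Aut_T(Q)` for `Q` in the family -/
theorem autInducedBy_inf_stepE [Finite S] {F : FusionSystem S} {p : ℕ} [Fact p.Prime]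
    {T : Subgroup Ω} (H : StepHyp F p T) {Q : Subgroup Ω} (hZ : InZ F T Q) (hQT : Q ≤ T) :
    autInducedBy S Q ⊓ (stepE H).autGroup Q = autInducedBy T Q := by
  apply le_antisymm
  · rintro α ⟨hαS, hαE⟩
    obtain ⟨s, hs, hsx⟩ := Helper87.mem_autInducedBy_iff.mp hαS
    obtain ⟨-, t, ht, hψ⟩ := (mem_autGroup_stepE_iff hQT).mp hαE
    have hO : OMor F p Q (fun x => (t⁻¹ * s) * x * (t⁻¹ * s)⁻¹) := by
      refine hψ.congr (fun x hx => ?_)
      show t⁻¹ * extAut α x * t = _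
      rw [Helper87.extAut_mem _ hx, hsx ⟨x, hx⟩]
      group
    have h1 : t⁻¹ * s ∈ T := bt H hZ _ (S.mul_mem (S.inv_mem (H.le ht)) hs) hO
    have hsT : s ∈ T := by
      have : s = t * (t⁻¹ * s) := by group
      rw [this]
      exact T.mul_mem ht h1
    exact Helper87.mem_autInducedBy_iff.mpr ⟨s, hsT, hsx⟩
  · intro α hα
    obtain ⟨t, ht, htx⟩ := Helper87.mem_autInducedBy_iff.mp hα
    exact ⟨Helper87.mem_autInducedBy_iff.mpr ⟨t, H.le ht, htx⟩,
      Helper87.autInducedBy_le_autGroup (stepE H) hQT hα⟩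

/-- preparation for receptivity: the extension in `F` and its decomposition -/
theorem recept_prep [Finite S] {F : FusionSystem S} {p : ℕ} [Fact p.Prime] {T : Subgroup Ω}
    (H : StepHyp F p T) {Q : Subgroup Ω} (hQ : F.IsFullyNormalized Q) {P' : Subgroup Ω}
    {f : Ω → Ω} (h : Iso (stepE H) P' Q f) :
    ∃ (gh : Ω → Ω) (s : Ω), Mor F h.ext gh ∧ (∀ x ∈ P', gh x = f x) ∧ s ∈ S ∧
      OMor F p h.ext (fun x => s⁻¹ * gh x * s) ∧ h.ext ≤ T := by
  have hF : Iso F P' Q f := iso_of_stepE h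
  have hle : h.ext ≤ hF.ext := by
    rintro g ⟨hgT, hgN, k, hk, e⟩
    exact ⟨H.le hgT, hgN, k, H.le hk, e⟩
  have hrec := Helper87.receptive_of_fullyNormalized H.pgrp H.sat hQ
  obtain ⟨gh, hgh, hghx⟩ := (Helper87.isReceptive_iff.1 hrec).2 P' _ hF
  obtain ⟨s, hs, hψ⟩ := exists_conj_omor H.pgrp H.sat _ _ (hgh.restrict hle)
  exact ⟨gh, s, hgh.restrict hle, hghx, hs, hψ, fun g hg => hg.1⟩

/-- the good conjugate of a centric subgroup: case `C_S(Q) ≤ T` -/
theorem stepE_good_of_le [Finite S] {F : FusionSystem S} {p : ℕ} [Fact p.Prime] {T : Subgroup Ω}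
    (H : StepHyp F p T) {Q : Subgroup Ω} (hQ : F.IsFullyNormalized Q) (hQT : Q ≤ T)
    (hcen : (stepE H).IsCentric Q) (hC : centralizerIn S Q ≤ T) :
    (stepE H).IsFullyAutomized p Q ∧ (stepE H).IsReceptive Q := by
  have hfinT : Finite T := Helper87.finite_of_le H.le
  have hQS : Q ≤ S := hQ.1
  have hfinQ : Finite Q := Helper87.finite_of_le hQS
  have hCT : centralizerIn T Q ≤ Q := hcen.2 Q (Helper87.isConj_refl hQT)
  have hCQ : centralizerIn S Q ≤ Q := fun z hz => hCT ⟨hC hz, hz.2⟩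
  have hZ : InZ F T Q :=
    ⟨Helper87.isCentric_of_fullyCentralized
      (Helper87.fullyCentralized_of_fullyNormalized H.pgrp H.sat hQ) hCQ, hC⟩
  constructor
  · rw [fullyAutomized_iff]
    refine ⟨hQT, ?_⟩
    have hFA := ((fullyAutomized_iff F Q).mp
      (Helper87.fullyAutomized_of_fullyNormalized H.pgrp H.sat hQ)).2
    have hle : (stepE H).autGroup Q ≤ F.autGroup Q :=
      Helper87.autGroup_le_of_subsystem (subE_isSubsystemOf F p H.le H.hyp) hQT hQS
    have := hFA.inf_normal hle (stepE_aut_normal H hQ hQT)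
    rwa [autInducedBy_inf_stepE H hZ hQT] at this
  · rw [Helper87.isReceptive_iff]
    refine ⟨hQT, fun P' f h => ?_⟩
    obtain ⟨gh, s, hgh, hghx, hs, hψ, hextT⟩ := recept_prep H hQ h
    have hF : Iso F P' Q f := iso_of_stepE h
    obtain ⟨hP'T, t, ht, hψ₀⟩ := mor_stepE_iff.mp h.1
    -- `s ∈ T`
    have hψP : OMor F p P' (fun x => s⁻¹ * gh x * s) := hψ.restr h.le_ext
    have hisoP : Iso F P' (conjSub s Q) (fun x => s⁻¹ * gh x * s) :=
      ((hF.congr (fun x hx => (hghx x hx).symm)).comp (iso_conjSub hQS hs))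
    obtain ⟨ψi, hψi, hψil⟩ := hψP.symm _ hisoP
    have hO : OMor F p (conjSub s Q) (fun y => (t⁻¹ * s) * y * (t⁻¹ * s)⁻¹) := by
      refine (OMor.comp hψi hψ₀ ?_).congr ?_
      · intro y hy
        obtain ⟨x, hx, rfl⟩ := hisoP.surj hy
        rw [hψil x hx]; exact hx
      · intro y hy
        obtain ⟨x, hx, rfl⟩ := hisoP.surj hy
        show t⁻¹ * f (ψi (s⁻¹ * gh x * s)) * t = _
        rw [hψil x hx, hghx x hx]
        group
    have hZs : InZ F T (conjSub s Q) := hZ.of_iso H (iso_conjSub hQS hs)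
    have h1 : t⁻¹ * s ∈ T := bt H hZs _ (S.mul_mem (S.inv_mem (H.le ht)) hs) hO
    have hsT : s ∈ T := by
      have : s = t * (t⁻¹ * s) := by group
      rw [this]
      exact T.mul_mem ht h1
    exact ⟨gh, mor_stepE_iff.mpr ⟨hextT, s, hsT, hψ⟩, hghx⟩

/-- the good conjugate of a centric subgroup: case `C_S(Q) ≰ T` -/
theorem stepE_good_of_not_le [Finite S] {F : FusionSystem S} {p : ℕ} [Fact p.Prime]
    {T : Subgroup Ω} (H : StepHyp F p T)
    (hmax : ∀ K : Subgroup Ω, T ≤ K → K ≤ S → K = T ∨ K = S) {Q : Subgroup Ω}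
    (hQ : F.IsFullyNormalized Q) (hQT : Q ≤ T) (hC : ¬ centralizerIn S Q ≤ T) :
    (stepE H).IsFullyAutomized p Q ∧ (stepE H).IsReceptive Q := by
  have hfinT : Finite T := Helper87.finite_of_le H.le
  have hQS : Q ≤ S := hQ.1
  have hfinQ : Finite Q := Helper87.finite_of_le hQS
  -- `S = T C_S(Q)`
  have hnorm : centralizerIn S Q ≤ Subgroup.normalizer (T : Set Ω) := by
    intro c hc
    apply mem_normalizer_of_forall_conj_mem
    · intro a ha; exact H.conj_mem hc.1 ha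
    · intro a ha; exact H.conj_mem' hc.1 ha
  have hsup : T ⊔ centralizerIn S Q = S := by
    rcases hmax (T ⊔ centralizerIn S Q) le_sup_left (sup_le H.le inf_le_left) with h | h
    · exact absurd (h ▸ (le_sup_right : centralizerIn S Q ≤ T ⊔ centralizerIn S Q)) hC
    · exact h
  have hdecTC : ∀ s ∈ S, ∃ t ∈ T, ∃ c ∈ centralizerIn S Q, s = t * c := by
    intro s hs
    have h1 : s ∈ ((T ⊔ centralizerIn S Q : Subgroup Ω) : Set Ω) := by rw [hsup]; exact hs
    rw [Subgroup.coe_mul_of_right_le_normalizer_left T _ hnorm] at h1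
    obtain ⟨t, ht, c, hc, rfl⟩ := Set.mem_mul.mp h1
    exact ⟨t, ht, c, hc, rfl⟩
  have hdecCT : ∀ s ∈ S, ∃ c ∈ centralizerIn S Q, ∃ t ∈ T, s = c * t := by
    intro s hs
    obtain ⟨t, ht, c, hc, rfl⟩ := hdecTC s hs
    refine ⟨c, hc, c⁻¹ * t * c, H.conj_mem' hc.1 ht, by group⟩
  have hcomm : ∀ c ∈ centralizerIn S Q, ∀ x ∈ Q, c * x * c⁻¹ = x := by
    intro c hc x hx
    have := hc.2 x hx
    calc c * x * c⁻¹ = (x * c) * c⁻¹ := by rw [this]
      _ = x := by group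
  constructor
  · rw [fullyAutomized_iff]
    refine ⟨hQT, ?_⟩
    have hFA := ((fullyAutomized_iff F Q).mp
      (Helper87.fullyAutomized_of_fullyNormalized H.pgrp H.sat hQ)).2
    have hle : (stepE H).autGroup Q ≤ F.autGroup Q :=
      Helper87.autGroup_le_of_subsystem (subE_isSubsystemOf F p H.le H.hyp) hQT hQS
    have heq : autInducedBy S Q = autInducedBy T Q := by
      apply le_antisymm
      · intro α hα
        obtain ⟨s, hs, hsx⟩ := Helper87.mem_autInducedBy_iff.mp hα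
        obtain ⟨t, ht, c, hc, rfl⟩ := hdecTC s hs
        refine Helper87.mem_autInducedBy_iff.mpr ⟨t, ht, fun x => ?_⟩
        rw [hsx x]
        calc t * c * (x : Ω) * (t * c)⁻¹ = t * (c * x * c⁻¹) * t⁻¹ := by group
          _ = t * x * t⁻¹ := by rw [hcomm c hc x x.2]
      · intro α hα
        obtain ⟨t, ht, htx⟩ := Helper87.mem_autInducedBy_iff.mp hα
        exact Helper87.mem_autInducedBy_iff.mpr ⟨t, H.le ht, htx⟩
    rw [← heq]
    exact hFA.of_le (heq ▸ Helper87.autInducedBy_le_autGroup (stepE H) hQT) hle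
  · rw [Helper87.isReceptive_iff]
    refine ⟨hQT, fun P' f h => ?_⟩
    obtain ⟨gh, s, hgh, hghx, hs, hψ, hextT⟩ := recept_prep H hQ h
    have hF : Iso F P' Q f := iso_of_stepE h
    obtain ⟨c, hc, t, ht, rfl⟩ := hdecCT s hs
    refine ⟨fun x => c⁻¹ * gh x * c, mor_stepE_iff.mpr ⟨hextT, t, ht, hψ.congr (fun x _ => ?_)⟩,
      fun x hx => ?_⟩
    · group
    · show c⁻¹ * gh x * c = f x
      rw [hghx x hx]
      have := hcomm c⁻¹ (Subgroup.inv_mem _ hc) (f x) (hF.map_mem hx)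
      rwa [inv_inv] at this

/-- **The step theorem**: the subsystem over `T` is saturated -/
theorem stepE_saturated [Finite S] {F : FusionSystem S} {p : ℕ} [Fact p.Prime] {T : Subgroup Ω}
    (H : StepHyp F p T) (hmax : ∀ K : Subgroup Ω, T ≤ K → K ≤ S → K = T ∨ K = S) :
    (stepE H).IsSaturated p := by
  have hfinT : Finite T := Helper87.finite_of_le H.le
  have hTp : IsPGroup p T := H.pgrp.to_le H.le
  apply saturated_of_criterion (stepE H) p hTp {P | (stepE H).IsCentric P}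
  · intro P hP Q hPQ
    exact isCentric_of_isConj hP hPQ
  · intro P hP
    have hPT : P ≤ T := hP.1
    have hPS : P ≤ S := hPT.trans H.le
    obtain ⟨Q, ψ, hψ, hψP, hQ⟩ := exists_omor_fn (p := p) H.pgrp H.sat hPS
    have hisoE : Iso (stepE H) P Q ψ :=
      ⟨mor_stepE_iff.mpr (EMor.of_omor (hψ.restr (Helper87.le_normalizerIn hPS)) hPT), hψP.2⟩
    have hconj : (stepE H).IsConj P Q := Helper87.isConj_iff.2 ⟨ψ, hisoE⟩
    have hQT : Q ≤ T := hisoE.le_right
    have hcen : (stepE H).IsCentric Q := isCentric_of_isConj hP hconj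
    by_cases hC : centralizerIn S Q ≤ T
    · obtain ⟨h1, h2⟩ := stepE_good_of_le H hQ hQT hcen hC
      exact ⟨Q, hconj, h1, h2⟩
    · obtain ⟨h1, h2⟩ := stepE_good_of_not_le H hmax hQ hQT hC
      exact ⟨Q, hconj, h1, h2⟩
  · intro E' hE'
    exact stepE_gen H E' hE'
  · intro P hP hP'
    exact absurd hP hP'

end Cfsg.Agent.Helper84
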