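import Mathlib
import Cfsg.Prelude.Def_FusionSystem
import Cfsg.Agent.Lib.Helper84.FusO8

/-!
# Existence of saturated subsystems of `p`-power index over every subgroup containing the hyperfocal
subgroup (Broto–Castellana–Grodal–Levi–Oliver; Puig)
-/

set_option autoImplicit false

namespace Cfsg.Agent.Helper84

open Cfsg Cfsg.FusionSystem
open Cfsg.Agent.Helper87 (Mor Iso extFun extAut)

variable {Ω : Type*} [Group Ω]

/-- a proper subgroup of a finite `p`-group lies in a normal subgroup of index `p` -/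
theorem exists_index_p_overgroup {S : Subgroup Ω} [Finite S] {p : ℕ} [hp : Fact p.Prime]
    (hS : IsPGroup p S) {T : Subgroup Ω} (hTS : T ≤ S) (hne : T ≠ S) :
    ∃ M : Subgroup Ω, T ≤ M ∧ M ≤ S ∧ Nat.card M < Nat.card S ∧
      (∀ a ∈ S, ∀ b ∈ S, a * b * a⁻¹ * b⁻¹ ∈ M) ∧
      (∀ K : Subgroup Ω, M ≤ K → K ≤ S → K = M ∨ K = S) := by
  obtain ⟨a, ha⟩ := hS.exists_card_eq
  have hT' : IsPGroup p (T.subgroupOf S) := hS.to_subgroup _
  obtain ⟨b, hb⟩ := hT'.exists_card_eq
  have hcT : Nat.card (T.subgroupOf S) = Nat.card T :=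
    Nat.card_congr (Subgroup.subgroupOfEquivOfLe hTS).toEquiv
  have hlt : Nat.card T < Nat.card S := card_lt_of_lt (lt_of_le_of_ne hTS hne)
  have hba : b < a := by
    rw [← hcT, hb, ha] at hlt
    exact (Nat.pow_lt_pow_iff_right hp.out.one_lt).mp hlt
  have hdvd : p ^ (a - 1) ∣ Nat.card S := by
    rw [ha]; exact pow_dvd_pow p (Nat.sub_le a 1)
  obtain ⟨K, hK, hTK⟩ := Sylow.exists_subgroup_card_pow_prime_le p hdvd (T.subgroupOf S) hb
    (by omega)
  have hcM : Nat.card (K.map S.subtype) = p ^ (a - 1) := by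
    rw [Subgroup.card_map_of_injective S.subtype_injective, hK]
  have hpa : p ^ a = p * p ^ (a - 1) := by
    rw [← pow_succ']
    congr 1
    omega
  have hidx : K.index = p := by
    have h1 := K.index_mul_card
    rw [hK, ha, hpa] at h1
    exact Nat.eq_of_mul_eq_mul_right (pow_pos hp.out.pos _) h1
  have hKn : K.Normal := by
    apply Subgroup.normal_of_index_eq_minFac_card
    rw [hidx, ha, Nat.Prime.pow_minFac hp.out (by omega)]
  have hcyc : IsCyclic (S ⧸ K) := isCyclic_of_prime_card (p := p) (by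
    rw [← Subgroup.index_eq_card]; exact hidx)
  have hcomm : ∀ u v : S ⧸ K, u * v = v * u := fun u v =>
    (IsCyclic.isMulCommutative (α := S ⧸ K)).is_comm.comm u v
  refine ⟨K.map S.subtype, ?_, Subgroup.map_subtype_le K, ?_, ?_, ?_⟩
  · intro x hx
    exact ⟨⟨x, hTS hx⟩, hTK (Subgroup.mem_subgroupOf.mpr hx), rfl⟩
  · rw [hcM, ha]
    exact Nat.pow_lt_pow_right hp.out.one_lt (by omega)
  · intro x hx y hy
    refine ⟨(⟨x, hx⟩ : S) * ⟨y, hy⟩ * (⟨x, hx⟩ : S)⁻¹ * (⟨y, hy⟩ : S)⁻¹, ?_, rfl⟩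
    rw [SetLike.mem_coe, ← QuotientGroup.eq_one_iff]
    simp only [QuotientGroup.mk_mul, QuotientGroup.mk_inv]
    rw [hcomm (QuotientGroup.mk ⟨x, hx⟩) (QuotientGroup.mk ⟨y, hy⟩)]
    group
  · intro K' hMK' hK'S
    have hfinK' : Finite K' := Helper87.finite_of_le hK'S
    have h1 : Nat.card (K.map S.subtype) ∣ Nat.card K' := Subgroup.card_dvd_of_le hMK'
    have h2 : Nat.card K' ∣ Nat.card S := Subgroup.card_dvd_of_le hK'S
    rw [hcM] at h1
    obtain ⟨d, hd⟩ := h1
    rw [hd, ha, hpa, mul_comm p] at h2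
    have h3 : d ∣ p := Nat.dvd_of_mul_dvd_mul_left (pow_pos hp.out.pos _) h2
    rcases (Nat.dvd_prime hp.out).mp h3 with h4 | h4
    · left
      symm
      apply Subgroup.eq_of_le_of_card_ge hMK'
      rw [hcM, hd, h4, mul_one]
    · right
      apply Subgroup.eq_of_le_of_card_ge hK'S
      rw [hd, h4, ha, hpa, mul_comm]

theorem hyperfocal_mono' {p : ℕ} {S T : Subgroup Ω} {F : FusionSystem S} {E : FusionSystem T}
    (h : E.IsSubsystemOf F) (hTS : T ≤ S) :
    E.hyperfocalSubgroup p ≤ F.hyperfocalSubgroup p := by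
  apply Helper87.hyperfocal_le
  intro P hP α hα hc x
  exact Helper87.mem_hyperfocal (hP.trans hTS)
    (Helper87.autGroup_le_of_subsystem h hP (hP.trans hTS) hα) hc x

/-- transitivity of `p`-power index -/
theorem hasPPowerIndexIn_trans {p : ℕ} {S M T : Subgroup Ω} {F : FusionSystem S}
    {E₁ : FusionSystem M} {E : FusionSystem T} (hTM : T ≤ M) (h1 : E₁.HasPPowerIndexIn F p)
    (h2 : E.HasPPowerIndexIn E₁ p) (hT : F.hyperfocalSubgroup p ≤ T) :
    E.HasPPowerIndexIn F p := by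
  refine ⟨fun P => (h2.1 P).trans (h1.1 P), hT, fun P hP => ?_⟩
  have ha := h1.2.2 P (hP.trans hTM)
  have hb := h2.2.2 P hP
  refine le_trans ?_ hb
  rw [Helper47.map_pResidual_eq_closure, Helper47.map_pResidual_eq_closure]
  apply Subgroup.closure_mono
  rintro g ⟨hg, hco⟩
  refine ⟨ha ?_, hco⟩
  rw [Helper47.map_pResidual_eq_closure]
  exact Subgroup.subset_closure ⟨hg, hco⟩

/-- **Existence** of a saturated subsystem of `p`-power index over each `T ≥ hyp(F)` -/
theorem exists_ppower_subsystem {p : ℕ} [Fact p.Prime] :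
    ∀ n : ℕ, ∀ S : Subgroup Ω, Finite S → IsPGroup p S → Nat.card S ≤ n →
      ∀ F : FusionSystem S, F.IsSaturated p → ∀ T : Subgroup Ω, T ≤ S →
        F.hyperfocalSubgroup p ≤ T →
        ∃ E : FusionSystem T, E.IsSaturated p ∧ E.HasPPowerIndexIn F p := by
  intro n
  induction n using Nat.strong_induction_on with
  | _ n ih =>
  intro S hfin hS hn F hF T hTS hT
  by_cases hne : T = S
  · subst hne
    exact ⟨F, hF, fun P => subset_rfl, hT, fun P _ => Helper47.map_pResidual_le _⟩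
  obtain ⟨M, hTM, hMS, hcM, hcomm, hmax⟩ := exists_index_p_overgroup hS hTS hne
  have H : StepHyp F p M := ⟨hS, hF, hMS, hcomm, hT.trans hTM⟩
  have hsat₁ := stepE_saturated H hmax
  have hidx₁ : (stepE H).HasPPowerIndexIn F p := subE_hasPPowerIndexIn F p H.le H.hyp
  have hfinM : Finite M := Helper87.finite_of_le hMS
  have hT₁ : (stepE H).hyperfocalSubgroup p ≤ T := (hyperfocal_mono' hidx₁.1 hMS).trans hT
  obtain ⟨E, hE, hEidx⟩ := ih (Nat.card M) (by omega) M hfinM (hS.to_le hMS) le_rfl (stepE H) hsat₁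
    T hTM hT₁
  exact ⟨E, hE, hasPPowerIndexIn_trans hTM hidx₁ hEidx hT⟩

end Cfsg.Agent.Helper84
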