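import Mathlib
import Cfsg.Prelude.Def_FusionSystem
import Cfsg.Agent.Lib.Helper84.FusW7
import Cfsg.Agent.Lib.Helper84.FusP3
import Cfsg.Agent.S5119

/-!
# Decompositions over a normal subgroup `K` of `Aut_F(T)` of index prime to `p`

`E` is invariant in `F` over the strongly closed subgroup `T`, and `K` is a normal subgroup of
`Aut_F(T)` containing `Aut_E(T)` and all elements of `p`-power order.  A map `f` of `F` on `P ≤ T`
is `K`-decomposable when it is a map of `E` followed by an element of `K`.  The main results: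
automorphisms of `p`-power order are `K`-decomposable, and an element of `Aut_F(T)` which is
`K`-decomposable on a subgroup all of whose conjugates contain their centralizers in `T` lies
in `K`.
-/

set_option autoImplicit false

namespace Cfsg.Agent.Helper84

open Cfsg Cfsg.FusionSystem
open Cfsg.Agent.Helper87 (Mor Iso extFun extAut)

variable {Ω : Type*} [Group Ω] {S T : Subgroup Ω}

/-- a normal subgroup `K` of `Aut_F(T)` containing `Aut_E(T)` and the elements of `p`-power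
order -/
structure KData (E : FusionSystem T) (F : FusionSystem S) (p : ℕ) (K : Subgroup (MulAut T)) :
    Prop where
  le : K ≤ F.autGroup T
  conj : ∀ γ ∈ F.autGroup T, ∀ κ ∈ K, γ * κ * γ⁻¹ ∈ K
  autE : E.autGroup T ≤ K
  ppow : ∀ γ ∈ F.autGroup T, ∀ k : ℕ, γ ^ (p ^ k) = 1 → γ ∈ K

/-- `f` on `P` is an element of `K` after a map of `E` -/
def KDec (E : FusionSystem T) (K : Subgroup (MulAut T)) (P : Subgroup Ω) (f : Ω → Ω) : Prop :=
  ∃ κ ∈ K, ∃ f₀, Mor E P f₀ ∧ ∀ x ∈ P, f x = extAut κ (f₀ x)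

theorem KDec.congr {E : FusionSystem T} {K : Subgroup (MulAut T)} {P : Subgroup Ω} {f f' : Ω → Ω}
    (h : KDec E K P f) (hff : ∀ x ∈ P, f x = f' x) : KDec E K P f' := by
  obtain ⟨κ, hκ, f₀, hf₀, e⟩ := h
  exact ⟨κ, hκ, f₀, hf₀, fun x hx => (hff x hx).symm.trans (e x hx)⟩

theorem KDec.restrict {E : FusionSystem T} {K : Subgroup (MulAut T)} {P Q : Subgroup Ω}
    {f : Ω → Ω} (h : KDec E K P f) (hQP : Q ≤ P) : KDec E K Q f := by
  obtain ⟨κ, hκ, f₀, hf₀, e⟩ := h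
  exact ⟨κ, hκ, f₀, hf₀.restrict hQP, fun x hx => e x (hQP hx)⟩

theorem KDec.of_mor {E : FusionSystem T} {K : Subgroup (MulAut T)} {P : Subgroup Ω} {f : Ω → Ω}
    (h : Mor E P f) : KDec E K P f :=
  ⟨1, K.one_mem, f, h, fun _ hx => (Helper87.extAut_one (h.mem hx)).symm⟩

theorem KDec.of_aut {E : FusionSystem T} {K : Subgroup (MulAut T)} {P : Subgroup Ω}
    (hPT : P ≤ T) {κ : MulAut T} (hκ : κ ∈ K) : KDec E K P (extAut κ) :=
  ⟨κ, hκ, fun x => x, Mor.id hPT, fun _ _ => rfl⟩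

theorem KDec.mor {E : FusionSystem T} {F : FusionSystem S} {K : Subgroup (MulAut T)}
    (hEF : E.IsSubsystemOf F) (hTS : T ≤ S) (hK : K ≤ F.autGroup T) {P : Subgroup Ω} {f : Ω → Ω}
    (h : KDec E K P f) : Mor F P f := by
  obtain ⟨κ, hκ, f₀, hf₀, e⟩ := h
  have h1 : Mor F T (extAut κ) := (Helper87.mem_autGroup_iff hTS).mp (hK hκ)
  exact ((Helper87.Mor.of_subsystem hEF hf₀).comp h1 (fun x hx => hf₀.mem hx)).congr
    (fun x hx => (e x hx).symm)

theorem KDec.mem {E : FusionSystem T} {K : Subgroup (MulAut T)} {P : Subgroup Ω} {f : Ω → Ω}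
    (h : KDec E K P f) {x : Ω} (hx : x ∈ P) : f x ∈ T := by
  obtain ⟨κ, hκ, f₀, hf₀, e⟩ := h
  rw [e x hx]
  exact Helper87.extAut_mem_self _ (hf₀.mem hx)

/-- composition of `K`-decomposable maps -/
theorem KDec.comp {E : FusionSystem T} {F : FusionSystem S} {K : Subgroup (MulAut T)}
    (hTS : T ≤ S) (hSI : Cfsg.Agent.S5119.SIfun E F) (hK : K ≤ F.autGroup T)
    {P Q : Subgroup Ω} {f g : Ω → Ω} (hQT : Q ≤ T) (hfQ : ∀ x ∈ P, f x ∈ Q)
    (hf : KDec E K P f) (hg : KDec E K Q g) : KDec E K P (fun x => g (f x)) := by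
  obtain ⟨α, hα, f₀, hf₀, ef⟩ := hf
  obtain ⟨β, hβ, g₀, hg₀, eg⟩ := hg
  have hαF : Mor F T (extAut α⁻¹) :=
    (Helper87.mem_autGroup_iff hTS).1 (Subgroup.inv_mem _ (hK hα))
  have hP₀T : hf₀.image ≤ T := hf₀.image_le
  let P₁ : Subgroup Ω := Helper87.imgAut α hf₀.image
  have hP₁ : ∀ y, y ∈ P₁ ↔ ∃ x ∈ P, f x = y := by
    intro y
    rw [Helper87.mem_imgAut hP₀T]
    constructor
    · rintro ⟨z, ⟨x, hx, rfl⟩, rfl⟩
      exact ⟨x, hx, ef x hx⟩
    · rintro ⟨x, hx, rfl⟩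
      exact ⟨f₀ x, ⟨x, hx, rfl⟩, (ef x hx).symm⟩
  have hP₁Q : P₁ ≤ Q := by
    intro y hy
    obtain ⟨x, hx, rfl⟩ := (hP₁ y).1 hy
    exact hfQ x hx
  have hP₁T : P₁ ≤ T := hP₁Q.trans hQT
  have hR : ∀ y, y ∈ hf₀.image ↔ ∃ x ∈ P₁, extAut α⁻¹ x = y := by
    intro y
    constructor
    · rintro ⟨x, hx, rfl⟩
      refine ⟨f x, (hP₁ _).2 ⟨x, hx, rfl⟩, ?_⟩
      rw [ef x hx, Helper87.extAut_inv_left α (hf₀.mem hx)]
    · rintro ⟨z, hz, rfl⟩
      obtain ⟨x, hx, rfl⟩ := (hP₁ z).1 hz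
      rw [ef x hx, Helper87.extAut_inv_left α (hf₀.mem hx)]
      exact ⟨x, hx, rfl⟩
  have hinv : ∀ x ∈ P₁, extAut α (extAut α⁻¹ x) = x :=
    fun x hx => Helper87.extAut_inv_right α (hP₁T hx)
  have h0 := hSI P₁ T hf₀.image g₀ (extAut α⁻¹) (extAut α) hP₁T le_rfl (hg₀.restrict hP₁Q)
    (fun x hx => hg₀.mem (hP₁Q hx)) hαF hR hinv
  refine ⟨β * α, Subgroup.mul_mem _ hβ hα, fun x => extAut α⁻¹ (g₀ (extAut α (f₀ x))),
    hf₀.comp h0 (fun x hx => ⟨x, hx, rfl⟩), fun x hx => ?_⟩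
  show g (f x) = _
  have hfx : f x ∈ Q := hfQ x hx
  have hT1 : g₀ (f x) ∈ T := hg₀.mem hfx
  rw [eg _ hfx, ef x hx] at *
  rw [Helper87.extAut_mul β α (Helper87.extAut_mem_self _ hT1), Helper87.extAut_inv_right α hT1]

/-! ### Automorphisms of `p`-power order -/

theorem conj_iterate' (g : Ω) (j : ℕ) (x : Ω) :
    (fun x => g * x * g⁻¹)^[j] x = g ^ j * x * (g ^ j)⁻¹ := by
  induction j generalizing x with
  | zero => simp
  | succ j ih =>
    rw [Function.iterate_succ_apply, ih, pow_succ]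
    group

/-- conjugation by an element of `S` on the strongly closed subgroup `T` -/
theorem exists_conjAut [Finite S] {F : FusionSystem S} (hsc : F.StronglyClosed T) {t : Ω}
    (ht : t ∈ S) {p k : ℕ} (htk : t ^ (p ^ k) = 1) :
    ∃ σ : MulAut T, σ ∈ F.autGroup T ∧ (∀ x ∈ T, extAut σ x = t * x * t⁻¹) ∧ σ ^ (p ^ k) = 1 := by
  have hiso : Iso F T T (fun x => t * x * t⁻¹) :=
    Helper87.iso_of_card_le (Mor.conj hsc.1 ht) hsc.1 (fun x hx => sc_conj_mem hsc ht hx) le_rfl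
  refine ⟨hiso.equiv, hiso.equiv_mem_autGroup, fun x hx => Helper87.extAut_equiv hiso hx, ?_⟩
  ext x
  rw [equiv_pow_apply hiso, conj_iterate', htk]
  simp

/-- **Frattini for automorphisms of `p`-power order**: an automorphism of `p`-power order of a
subgroup of `T` is a map of `E` followed by an element of `K` -/
theorem kdec_ppgen [Finite S] {p : ℕ} [hp : Fact p.Prime] (hS : IsPGroup p S)
    {E : FusionSystem T} {F : FusionSystem S} (hF : F.IsSaturated p) (hinv : E.IsInvariantIn F)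
    {K : Subgroup (MulAut T)} (hK : KData E F p K) {R : Subgroup Ω} (hRT : R ≤ T) {β : Ω → Ω}
    (hβ : PPGen F p R β) : KDec E K R β := by
  have hsc := hinv.2.1
  have hTS : T ≤ S := hsc.1
  have hRS : R ≤ S := hRT.trans hTS
  have hSI := Cfsg.Agent.S5119.siFun_of_invariant hinv
  obtain ⟨hβi, k, hβk⟩ := hβ
  have hfinR : Finite R := Helper87.finite_of_le hRS
  let a : F.autGroup R := ⟨hβi.equiv, hβi.equiv_mem_autGroup⟩
  have hapow : a ^ (p ^ k) = 1 := by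
    apply Subtype.ext
    rw [Subgroup.coe_pow, Subgroup.coe_one]
    ext x
    rw [equiv_pow_apply hβi, hβk x x.2]
    rfl
  obtain ⟨j, -, hj⟩ := (Nat.dvd_prime_pow hp.out).1 (orderOf_dvd_of_pow_eq_one hapow)
  obtain ⟨R₂, ψ, s, hψ, hs, eψ⟩ := exists_iso_conj_of_pPower F hS hF hRS a hj
  have ea : ∀ x ∈ R, extAut (a : MulAut R) x = β x := fun x hx => Helper87.extAut_equiv hβi hx
  obtain ⟨γ, hγ, l₀, hl₀, eψ'⟩ := Helper87.frattini_fun hinv hRT hψ.1
  obtain ⟨m, hm⟩ := hS ⟨s, hs⟩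
  have hsm : s ^ (p ^ m) = 1 := by
    have := congrArg Subtype.val hm
    simpa using this
  obtain ⟨σ, hσ, eσ, hσm⟩ := exists_conjAut hsc hs hsm
  have hπF : γ⁻¹ * σ * γ ∈ F.autGroup T :=
    Subgroup.mul_mem _ (Subgroup.mul_mem _ (Subgroup.inv_mem _ hγ) hσ) hγ
  have hπK : γ⁻¹ * σ * γ ∈ K := by
    apply hK.ppow _ hπF m
    have h1 : γ⁻¹ * σ * γ = γ⁻¹ * σ * γ⁻¹⁻¹ := by rw [inv_inv]
    rw [h1, conj_pow, hσm]
    simp
  have key : ∀ x ∈ R, l₀ (β x) = extAut (γ⁻¹ * σ * γ) (l₀ x) := by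
    intro x hx
    have hβx : β x ∈ R := hβi.map_mem hx
    have h1 := eψ x hx
    rw [ea x hx, eψ' _ hβx, eψ' x hx] at h1
    have hl₀x : l₀ x ∈ T := hl₀.mem hx
    have hγl : extAut γ (l₀ x) ∈ T := Helper87.extAut_mem_self _ hl₀x
    rw [← eσ _ hγl] at h1
    have h2 := congrArg (extAut γ⁻¹) h1
    rw [Helper87.extAut_inv_left γ (hl₀.mem hβx)] at h2
    rw [h2, Helper87.extAut_mul (γ⁻¹ * σ) γ hl₀x, Helper87.extAut_mul γ⁻¹ σ hγl]
  have hR₃T : hl₀.image ≤ T := hl₀.image_le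
  have hiso₀ : Iso E R hl₀.image l₀ := Iso.of_mor hl₀
  obtain ⟨l₀', hl₀', e1, -⟩ := hiso₀.symm
  have h1 : KDec E K R l₀ := KDec.of_mor hl₀
  have h2 : KDec E K hl₀.image (extAut (γ⁻¹ * σ * γ)) := KDec.of_aut hR₃T hπK
  have h12 := KDec.comp hTS hSI hK.le hR₃T (fun x hx => ⟨x, hx, rfl⟩) h1 h2
  have h3 : KDec E K hl₀.image l₀' := KDec.of_mor hl₀'.1
  have h123 := KDec.comp hTS hSI hK.le hR₃T
    (fun x hx => by rw [← key x hx]; exact ⟨β x, hβi.map_mem hx, rfl⟩) h12 h3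
  refine h123.congr (fun x hx => ?_)
  show l₀' (extAut (γ⁻¹ * σ * γ) (l₀ x)) = β x
  rw [← key x hx, e1 _ (hβi.map_mem hx)]

/-! ### Unipotent maps have `p`-power order -/

theorem iterate_of_fix {N R : Subgroup Ω} {l : Ω → Ω}
    (hmul : ∀ x ∈ N, ∀ y ∈ N, l (x * y) = l x * l y) (hRN : R ≤ N)
    (hfix : ∀ x ∈ R, l x = x) (hz : ∀ g ∈ N, g⁻¹ * l g ∈ R) :
    ∀ (m : ℕ) (g : Ω), g ∈ N → l^[m] g = g * (g⁻¹ * l g) ^ m := by
  intro m
  induction m with
  | zero => intro g _; simp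
  | succ m ih =>
    intro g hg
    have hzm : (g⁻¹ * l g) ^ m ∈ R := R.pow_mem (hz g hg) m
    rw [Function.iterate_succ_apply', ih g hg, hmul g hg _ (hRN hzm), hfix _ hzm, pow_succ',
      ← mul_assoc, mul_inv_cancel_left]

/-- a map of `F` from `N` to `N` fixing a subgroup `R` pointwise and moving the elements of `N`
inside their cosets of `R` is an automorphism of `p`-power order -/
theorem ppgen_of_fix [Finite S] {p : ℕ} [Fact p.Prime] (hS : IsPGroup p S) {F : FusionSystem S}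
    {N R : Subgroup Ω} {l : Ω → Ω} (hl : Mor F N l) (hlN : ∀ x ∈ N, l x ∈ N) (hRN : R ≤ N)
    (hfix : ∀ x ∈ R, l x = x) (hz : ∀ g ∈ N, g⁻¹ * l g ∈ R) : PPGen F p N l := by
  have hNS : N ≤ S := hl.le
  have hiso : Iso F N N l := Helper87.iso_of_card_le hl hNS hlN le_rfl
  have hfinR : Finite R := Helper87.finite_of_le (hRN.trans hNS)
  obtain ⟨k, hk⟩ := (hS.to_le (hRN.trans hNS)).exists_card_eq
  refine ⟨hiso, k, fun g hg => ?_⟩
  rw [iterate_of_fix (fun x hx y hy => hl.map_mul hx hy) hRN hfix hz _ g hg]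
  have h2 := pow_card_eq_one' (G := R) (x := ⟨_, hz g hg⟩)
  rw [hk] at h2
  have h3 := congrArg Subtype.val h2
  rw [Subgroup.coe_pow, Subgroup.coe_one] at h3
  rw [h3, mul_one]

/-! ### Lemma K -/

theorem comm_of_conj_eq {A B x : Ω} (h : A * x * A⁻¹ = B * x * B⁻¹) :
    x * (A⁻¹ * B) = A⁻¹ * B * x := by
  calc x * (A⁻¹ * B) = A⁻¹ * (A * x * A⁻¹) * B := by group
    _ = A⁻¹ * (B * x * B⁻¹) * B := by rw [h]
    _ = A⁻¹ * B * x := by group

/-- **Lemma K**: an element of `Aut_F(T)` which is `K`-decomposable on a subgroup `R` of `T` all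
of whose conjugates contain their centralizers in `T` lies in `K` -/
theorem mem_of_kdec_tcen [Finite S] {p : ℕ} [hp : Fact p.Prime] (hS : IsPGroup p S)
    {E : FusionSystem T} {F : FusionSystem S} (hE : E.IsSaturated p) (hF : F.IsSaturated p)
    (hinv : E.IsInvariantIn F) {K : Subgroup (MulAut T)} (hK : KData E F p K) :
    ∀ n : ℕ, ∀ (R : Subgroup Ω) (γ : MulAut T), TCen F T R → Nat.card T ≤ Nat.card R + n →
      γ ∈ F.autGroup T → KDec E K R (extAut γ) → γ ∈ K := by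
  have hsc := hinv.2.1
  have hTS : T ≤ S := hsc.1
  have hEF := hinv.1
  have hSI := Cfsg.Agent.S5119.siFun_of_invariant hinv
  have hT : IsPGroup p T := hS.to_le hTS
  have hfinT : Finite T := Helper87.finite_of_le hTS
  intro n
  induction n using Nat.strong_induction_on with
  | _ n ih =>
  intro R γ hR hn hγ hdec
  obtain ⟨κ, hκ, f₀, hf₀, e⟩ := hdec
  have hRT : R ≤ T := hR.1
  have hRS : R ≤ S := hRT.trans hTS
  obtain ⟨γ', hγ'eq⟩ : ∃ γ', γ' = κ⁻¹ * γ := ⟨_, rfl⟩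
  have hγ' : γ' ∈ F.autGroup T := by
    rw [hγ'eq]; exact Subgroup.mul_mem _ (Subgroup.inv_mem _ (hK.le hκ)) hγ
  have hψ : Mor E R (extAut γ') := hf₀.congr (fun x hx => by
    rw [hγ'eq, Helper87.extAut_mul κ⁻¹ γ (hRT hx), e x hx,
      Helper87.extAut_inv_left κ (hf₀.mem hx)])
  suffices hmem : γ' ∈ K by
    have := K.mul_mem hκ hmem
    rwa [hγ'eq, mul_inv_cancel_left] at this
  by_cases hRT' : R = T
  · subst hRT'
    exact hK.autE ((Helper87.mem_autGroup_iff le_rfl).mpr hψ)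
  have hlt : R < T := lt_of_le_of_ne hRT hRT'
  obtain ⟨t, ht, htN, htR⟩ := exists_mem_normalizer_not_mem hT hlt
  have hRN : R ≤ normalizerIn T R := fun x hx => ⟨hRT hx, Subgroup.le_normalizer hx⟩
  have hNT : normalizerIn T R ≤ T := inf_le_left
  have hcard : Nat.card R < Nat.card (normalizerIn T R) :=
    Helper87.card_lt_of_not_mem (S := T) hRN hNT ⟨ht, htN⟩ htR
  have hcardN : Nat.card (normalizerIn T R) ≤ Nat.card T := Subgroup.card_le_of_le hNT
  have hψF : Mor F T (extAut γ') := (Helper87.mem_autGroup_iff hTS).mp hγ'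
  have hisoE : Iso E R hψ.image (extAut γ') := Iso.of_mor hψ
  have hisoF : Iso F R hψ.image (extAut γ') := ⟨Helper87.Mor.of_subsystem hEF hisoE.1, hisoE.2⟩
  have hR'T : hψ.image ≤ T := hψ.image_le
  obtain ⟨R₁, hconj1, hfn1⟩ := Helper87.exists_fullyNormalized_conj E hR'T
  obtain ⟨ν, hν, hνR⟩ := Helper87.exists_map_normalizer_to_fullyNormalized hT hE hfn1 hconj1
  have hθ : Iso E R R₁ (fun x => ν (extAut γ' x)) := hisoE.comp hνR
  have hθF : Iso F R R₁ (fun x => ν (extAut γ' x)) :=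
    ⟨Helper87.Mor.of_subsystem hEF hθ.1, hθ.2⟩
  have hR'N : hψ.image ≤ normalizerIn T hψ.image :=
    fun x hx => ⟨hR'T hx, Subgroup.le_normalizer hx⟩
  -- the image of `N_T(R)` normalizes the image of `R`
  have hψN : ∀ g ∈ normalizerIn T R, extAut γ' g ∈ normalizerIn T hψ.image := by
    intro g hg
    exact ⟨Helper87.extAut_mem_self _ hg.1,
      Helper87.Mor.map_normalizer hψF hRT hisoF hg.1 hg.2⟩
  have hconjθ : ∀ g ∈ normalizerIn T R, ∀ x ∈ R, ν (extAut γ' (g * x * g⁻¹)) =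
      ν (extAut γ' g) * ν (extAut γ' x) * (ν (extAut γ' g))⁻¹ := by
    intro g hg x hx
    rw [hψF.map_conj hg.1 (hRT hx), hν.map_conj (hψN g hg) (hR'N (hisoE.map_mem hx))]
  have hnorm : ∀ g ∈ normalizerIn T R, ∀ x ∈ R, g * x * g⁻¹ ∈ R :=
    fun g hg x hx => (Subgroup.mem_normalizer_iff.mp hg.2 x).mp hx
  obtain ⟨ρ, hρ, eρ⟩ := (Helper87.isReceptive_iff.1
    (Helper87.receptive_of_fullyNormalized hT hE hfn1)).2 R _ hθ
  have hNext : normalizerIn T R ≤ hθ.ext := by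
    intro g hg
    rw [Helper87.Iso.mem_ext]
    exact ⟨hg.1, hg.2, ν (extAut γ' g), hν.mem (hψN g hg), fun x hx => hconjθ g hg x hx⟩
  have hρN : Mor E (normalizerIn T R) ρ := hρ.restrict hNext
  have hisoρ : Iso E (normalizerIn T R) hρN.image ρ := Iso.of_mor hρN
  obtain ⟨ρ', hρ', er1, er2⟩ := hisoρ.symm
  have hcen₁ : centralizerIn T R₁ ≤ R₁ := hR.2 R₁ (Helper87.isConj_iff.2 ⟨_, hθF⟩)
  have key1 : ∀ g ∈ normalizerIn T R, ν (extAut γ' g) ∈ hρN.image := by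
    intro g hg
    have hc : (ρ g)⁻¹ * ν (extAut γ' g) ∈ centralizerIn T R₁ := by
      refine Subgroup.mem_inf.mpr ⟨T.mul_mem (T.inv_mem (hρN.mem hg)) (hν.mem (hψN g hg)), ?_⟩
      rw [Subgroup.mem_centralizer_iff]
      intro z hz
      obtain ⟨x, hx, rfl⟩ := hθ.surj hz
      apply comm_of_conj_eq
      rw [← hconjθ g hg x hx, ← eρ x hx, ← eρ _ (hnorm g hg x hx), hρN.map_conj hg (hRN hx)]
    obtain ⟨x₀, hx₀, hx₀'⟩ := hθ.surj (hcen₁ hc)
    refine ⟨g * x₀, Subgroup.mul_mem _ hg (hRN hx₀), ?_⟩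
    rw [hρN.map_mul hg (hRN hx₀), eρ x₀ hx₀, hx₀', mul_inv_cancel_left]
  -- the automorphism `l` of `N_T(R)`
  have hl : Mor F (normalizerIn T R) (fun g => ρ' (ν (extAut γ' g))) :=
    ((hψF.restrict hNT).comp (Helper87.Mor.of_subsystem hEF hν) hψN).comp
      (Helper87.Mor.of_subsystem hEF hρ'.1) key1
  have hlN : ∀ g ∈ normalizerIn T R, ρ' (ν (extAut γ' g)) ∈ normalizerIn T R :=
    fun g hg => hρ'.map_mem (key1 g hg)
  have hfix : ∀ x ∈ R, ρ' (ν (extAut γ' x)) = x := by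
    intro x hx
    rw [← eρ x hx, er1 x (hRN hx)]
  have hcenR : centralizerIn T R ≤ R := hR.2 R (Helper87.isConj_refl hRS)
  have hz : ∀ g ∈ normalizerIn T R, g⁻¹ * ρ' (ν (extAut γ' g)) ∈ R := by
    intro g hg
    apply hcenR
    refine Subgroup.mem_inf.mpr ⟨T.mul_mem (T.inv_mem hg.1) (hNT (hlN g hg)), ?_⟩
    rw [Subgroup.mem_centralizer_iff]
    intro x hx
    apply comm_of_conj_eq
    have h1 : ρ' (ν (extAut γ' (g * x * g⁻¹))) = ρ' (ν (extAut γ' g)) * ρ' (ν (extAut γ' x)) *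
        (ρ' (ν (extAut γ' g)))⁻¹ := hl.map_conj hg (hRN hx)
    rw [hfix x hx, hfix _ (hnorm g hg x hx)] at h1
    exact h1
  have hpp : PPGen F p (normalizerIn T R) (fun g => ρ' (ν (extAut γ' g))) :=
    ppgen_of_fix hS hl hlN hRN hfix hz
  have hkd : KDec E K (normalizerIn T R) (fun g => ρ' (ν (extAut γ' g))) :=
    kdec_ppgen hS hF hinv hK hNT hpp
  obtain ⟨ν', hν', en1, -⟩ := (Iso.of_mor hν).symm
  have hcomp2 : Mor E (normalizerIn T R) (fun y => ν' (ρ y)) := by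
    refine hρN.comp hν'.1 (fun y hy => ?_)
    obtain ⟨g, hg, rfl⟩ := hpp.1.surj hy
    show ρ (ρ' (ν (extAut γ' g))) ∈ _
    rw [er2 _ (key1 g hg)]
    exact ⟨extAut γ' g, hψN g hg, rfl⟩
  have hfinal : KDec E K (normalizerIn T R) (extAut γ') := by
    refine (KDec.comp hTS hSI hK.le hNT hlN hkd (KDec.of_mor hcomp2)).congr (fun g hg => ?_)
    show ν' (ρ (ρ' (ν (extAut γ' g)))) = extAut γ' g
    rw [er2 _ (key1 g hg), en1 _ (hψN g hg)]
  exact ih (n - 1) (by omega) (normalizerIn T R) γ' (hR.of_le hRN hNT) (by omega) hγ' hfinal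

/-- uniqueness of the class modulo `K` of the automorphism in a decomposition -/
theorem kdec_unique [Finite S] {p : ℕ} [hp : Fact p.Prime] (hS : IsPGroup p S)
    {E : FusionSystem T} {F : FusionSystem S} (hE : E.IsSaturated p) (hF : F.IsSaturated p)
    (hinv : E.IsInvariantIn F) {K : Subgroup (MulAut T)} (hK : KData E F p K)
    {R : Subgroup Ω} (hR : TCen F T R) {f : Ω → Ω} (h1 : KDec E K R f) {γ : MulAut T}
    (hγ : γ ∈ F.autGroup T) {f₁ : Ω → Ω} (hf₁ : Mor E R f₁)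
    (e : ∀ x ∈ R, f x = extAut γ (f₁ x)) : γ ∈ K := by
  have hsc := hinv.2.1
  have hTS : T ≤ S := hsc.1
  have hEF := hinv.1
  obtain ⟨κ, hκ, f₀, hf₀, e₀⟩ := h1
  have hiso₁ : Iso E R hf₁.image f₁ := Iso.of_mor hf₁
  have hiso₁F : Iso F R hf₁.image f₁ := ⟨Helper87.Mor.of_subsystem hEF hiso₁.1, hiso₁.2⟩
  have hR' : TCen F T hf₁.image := hR.of_conj hsc (Helper87.isConj_iff.2 ⟨_, hiso₁F⟩)
  obtain ⟨f₁', hf₁', el, er⟩ := hiso₁.symm
  have hdec : KDec E K hf₁.image (extAut γ) := by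
    refine ⟨κ, hκ, fun y => f₀ (f₁' y), hf₁'.1.comp hf₀ (fun y hy => hf₁'.map_mem hy),
      fun y hy => ?_⟩
    obtain ⟨x, hx, rfl⟩ := hiso₁.surj hy
    show extAut γ (f₁ x) = extAut κ (f₀ (f₁' (f₁ x)))
    rw [el x hx, ← e x hx, e₀ x hx]
  have hfinT : Finite T := Helper87.finite_of_le hTS
  exact mem_of_kdec_tcen hS hE hF hinv hK (Nat.card T) _ γ hR' (Nat.le_add_left _ _) hγ hdec

end Cfsg.Agent.Helper84
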