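import Mathlib
import Cfsg.Prelude.Def_FusionSystem
import Cfsg.Agent.Lib.Helper84.FusY1
import Cfsg.Agent.Lib.Helper84.FusP4

/-!
# Climbing inside a subsystem of index prime to `p`; `O^{p'}` of an invariant subsystem
-/

set_option autoImplicit false

namespace Cfsg.Agent.Helper84.Z1

open Cfsg Cfsg.FusionSystem
open Cfsg.Agent.Helper87 (Mor Iso extFun extAut)

variable {Ω : Type*} [Group Ω] {S : Subgroup Ω}

/-- **Lemma K'**: a map of `X` defined on a strongly closed `H`, carrying `H` to `H`, whose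
restriction to a subgroup `R` of `H` all of whose conjugates contain their centralizers in `H`
lies in the subsystem `X'` of index prime to `p`, lies in `X'` -/
theorem mor_of_tcen [Finite S] {p : ℕ} [hp : Fact p.Prime] (hS : IsPGroup p S)
    {X X' : FusionSystem S} (hX' : X'.IsSaturated p)
    (hidx : X'.HasPrimeToPIndexIn X p) {H : Subgroup Ω} (hsc : X.StronglyClosed H) :
    ∀ n : ℕ, ∀ (R : Subgroup Ω) (γ : Ω → Ω), TCen X H R → Nat.card H ≤ Nat.card R + n →
      Mor X H γ → Mor X' R γ → Mor X' H γ := by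
  have hHS : H ≤ S := hsc.1
  have hle : X'.IsSubsystemOf X := hidx.1
  have hH : IsPGroup p H := hS.to_le hHS
  have hfinH : Finite H := Helper87.finite_of_le hHS
  intro n
  induction n using Nat.strong_induction_on with
  | _ n ih =>
  intro R γ hR hn hψF hψ
  have hRH : R ≤ H := hR.1
  have hRS : R ≤ S := hRH.trans hHS
  by_cases hRH' : R = H
  · subst hRH'
    exact hψ
  have hlt : R < H := lt_of_le_of_ne hRH hRH'
  obtain ⟨t, ht, htN, htR⟩ := exists_mem_normalizer_not_mem hH hlt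
  have hRN : R ≤ normalizerIn H R := fun x hx => ⟨hRH hx, Subgroup.le_normalizer hx⟩
  have hNH : normalizerIn H R ≤ H := inf_le_left
  have hNS : normalizerIn H R ≤ S := hNH.trans hHS
  have hcard : Nat.card R < Nat.card (normalizerIn H R) :=
    Helper87.card_lt_of_not_mem (S := H) hRN hNH ⟨ht, htN⟩ htR
  have hcardN : Nat.card (normalizerIn H R) ≤ Nat.card H := Subgroup.card_le_of_le hNH
  have hγH : ∀ x ∈ H, γ x ∈ H := fun x hx => sc_mem hsc hψF hx hx
  have hisoE : Iso X' R hψ.image γ := Iso.of_mor hψ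
  have hisoF : Iso X R hψ.image γ := ⟨Helper87.Mor.of_subsystem hle hisoE.1, hisoE.2⟩
  have hR'H : hψ.image ≤ H := by
    rintro _ ⟨x, hx, rfl⟩
    exact hγH x (hRH hx)
  have hR'S : hψ.image ≤ S := hR'H.trans hHS
  obtain ⟨R₁, hconj1, hfn1⟩ := Helper87.exists_fullyNormalized_conj X' hR'S
  obtain ⟨ν, hν, hνR⟩ := Helper87.exists_map_normalizer_to_fullyNormalized hS hX' hfn1 hconj1
  have hνF : Mor X (normalizerIn S hψ.image) ν := Helper87.Mor.of_subsystem hle hν
  have hθ : Iso X' R R₁ (fun x => ν (γ x)) := hisoE.comp hνR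
  have hθF : Iso X R R₁ (fun x => ν (γ x)) := ⟨Helper87.Mor.of_subsystem hle hθ.1, hθ.2⟩
  have hR'N : hψ.image ≤ normalizerIn S hψ.image :=
    fun x hx => ⟨hR'S hx, Subgroup.le_normalizer hx⟩
  -- the image of `N_H(R)` normalizes the image of `R`
  have hψN : ∀ g ∈ normalizerIn H R, γ g ∈ normalizerIn S hψ.image := by
    intro g hg
    exact ⟨hHS (hγH g hg.1), Helper87.Mor.map_normalizer hψF hRH hisoF hg.1 hg.2⟩
  have hconjθ : ∀ g ∈ normalizerIn H R, ∀ x ∈ R, ν (γ (g * x * g⁻¹)) =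
      ν (γ g) * ν (γ x) * (ν (γ g))⁻¹ := by
    intro g hg x hx
    rw [hψF.map_conj hg.1 (hRH hx), hν.map_conj (hψN g hg) (hR'N (hisoE.map_mem hx))]
  have hnorm : ∀ g ∈ normalizerIn H R, ∀ x ∈ R, g * x * g⁻¹ ∈ R :=
    fun g hg x hx => (Subgroup.mem_normalizer_iff.mp hg.2 x).mp hx
  obtain ⟨ρ, hρ, eρ⟩ := (Helper87.isReceptive_iff.1
    (Helper87.receptive_of_fullyNormalized hS hX' hfn1)).2 R _ hθ
  have hNext : normalizerIn H R ≤ hθ.ext := by
    intro g hg
    rw [Helper87.Iso.mem_ext]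
    exact ⟨hHS hg.1, hg.2, ν (γ g), hν.mem (hψN g hg), fun x hx => hconjθ g hg x hx⟩
  have hρN : Mor X' (normalizerIn H R) ρ := hρ.restrict hNext
  have hρNF : Mor X (normalizerIn H R) ρ := Helper87.Mor.of_subsystem hle hρN
  have hisoρ : Iso X' (normalizerIn H R) hρN.image ρ := Iso.of_mor hρN
  obtain ⟨ρ', hρ', er1, er2⟩ := hisoρ.symm
  have hcen₁ : centralizerIn H R₁ ≤ R₁ := hR.2 R₁ (Helper87.isConj_iff.2 ⟨_, hθF⟩)
  have hνγH : ∀ g ∈ normalizerIn H R, ν (γ g) ∈ H := by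
    intro g hg
    exact sc_mem hsc hνF (hψN g hg) (hγH g hg.1)
  have hρH : ∀ g ∈ normalizerIn H R, ρ g ∈ H := fun g hg => sc_mem hsc hρNF hg hg.1
  have key1 : ∀ g ∈ normalizerIn H R, ν (γ g) ∈ hρN.image := by
    intro g hg
    have hc : (ρ g)⁻¹ * ν (γ g) ∈ centralizerIn H R₁ := by
      refine Subgroup.mem_inf.mpr ⟨H.mul_mem (H.inv_mem (hρH g hg)) (hνγH g hg), ?_⟩
      rw [Subgroup.mem_centralizer_iff]
      intro z hz
      obtain ⟨x, hx, rfl⟩ := hθ.surj hz
      apply comm_of_conj_eq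
      rw [← hconjθ g hg x hx, ← eρ x hx, ← eρ _ (hnorm g hg x hx), hρN.map_conj hg (hRN hx)]
    obtain ⟨x₀, hx₀, hx₀'⟩ := hθ.surj (hcen₁ hc)
    refine ⟨g * x₀, Subgroup.mul_mem _ hg (hRN hx₀), ?_⟩
    rw [hρN.map_mul hg (hRN hx₀), eρ x₀ hx₀, hx₀', mul_inv_cancel_left]
  -- the automorphism `l` of `N_H(R)`
  have hl : Mor X (normalizerIn H R) (fun g => ρ' (ν (γ g))) :=
    ((hψF.restrict hNH).comp hνF hψN).comp (Helper87.Mor.of_subsystem hle hρ'.1) key1
  have hlN : ∀ g ∈ normalizerIn H R, ρ' (ν (γ g)) ∈ normalizerIn H R :=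
    fun g hg => hρ'.map_mem (key1 g hg)
  have hfix : ∀ x ∈ R, ρ' (ν (γ x)) = x := by
    intro x hx
    rw [← eρ x hx, er1 x (hRN hx)]
  have hcenR : centralizerIn H R ≤ R := hR.2 R (Helper87.isConj_refl hRS)
  have hz : ∀ g ∈ normalizerIn H R, g⁻¹ * ρ' (ν (γ g)) ∈ R := by
    intro g hg
    apply hcenR
    refine Subgroup.mem_inf.mpr ⟨H.mul_mem (H.inv_mem hg.1) (hNH (hlN g hg)), ?_⟩
    rw [Subgroup.mem_centralizer_iff]
    intro x hx
    apply comm_of_conj_eq
    have h1 : ρ' (ν (γ (g * x * g⁻¹))) = ρ' (ν (γ g)) * ρ' (ν (γ x)) *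
        (ρ' (ν (γ g)))⁻¹ := hl.map_conj hg (hRN hx)
    rw [hfix x hx, hfix _ (hnorm g hg x hx)] at h1
    exact h1
  have hpp : PPGen X p (normalizerIn H R) (fun g => ρ' (ν (γ g))) :=
    ppgen_of_fix hS hl hlN hRN hfix hz
  have hl' : Mor X' (normalizerIn H R) (fun g => ρ' (ν (γ g))) :=
    pmor_sub_of_primeToP hidx (PMor.base hpp)
  obtain ⟨ν', hν', en1, -⟩ := (Iso.of_mor hν).symm
  have hcomp2 : Mor X' (normalizerIn H R) (fun y => ν' (ρ y)) := by
    refine hρN.comp hν'.1 (fun y hy => ?_)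
    obtain ⟨g, hg, rfl⟩ := hpp.1.surj hy
    show ρ (ρ' (ν (γ g))) ∈ _
    rw [er2 _ (key1 g hg)]
    exact ⟨γ g, hψN g hg, rfl⟩
  have hfinal : Mor X' (normalizerIn H R) γ := by
    refine (hl'.comp hcomp2 hlN).congr (fun g hg => ?_)
    show ν' (ρ (ρ' (ν (γ g)))) = γ g
    rw [er2 _ (key1 g hg), en1 _ (hψN g hg)]
  exact ih (n - 1) (by omega) (normalizerIn H R) γ (hR.of_le hRN hNH) (by omega) hψF hfinal

/-- the maps of `O^{p'}_*` of a subsystem are maps of `O^{p'}_*` of the system -/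
theorem pmor_mono {H : Subgroup Ω} {D : FusionSystem H} {X : FusionSystem S}
    (hDX : D.IsSubsystemOf X) {p : ℕ} {P : Subgroup Ω} {f : Ω → Ω} (h : PMor D p P f) :
    PMor X p P f := by
  induction h with
  | base h => exact PMor.base ⟨⟨Helper87.Mor.of_subsystem hDX h.1.1, h.1.2⟩, h.2⟩
  | restr _ hQP ih => exact PMor.restr ih hQP
  | comp _ _ hfg ih1 ih2 => exact PMor.comp ih1 ih2 hfg
  | congr _ hff ih => exact PMor.congr ih hff

/-- the elements of `Aut⁰` of an invariant subsystem over `H` are maps of every saturated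
subsystem of index prime to `p` of the ambient system -/
theorem aut0_mor [Finite S] {p : ℕ} [hp : Fact p.Prime] (hS : IsPGroup p S)
    {X X' : FusionSystem S} (hX' : X'.IsSaturated p)
    (hidx : X'.HasPrimeToPIndexIn X p) {H : Subgroup Ω} {D : FusionSystem H}
    (hinv : D.IsInvariantIn X) {α : MulAut H} (hα : α ∈ Aut0 D p) : Mor X' H (extAut α) := by
  have hsc := hinv.2.1
  have hHS : H ≤ S := hsc.1
  have hfinH : Finite H := Helper87.finite_of_le hHS
  unfold Aut0 at hα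
  induction hα using Subgroup.closure_induction with
  | mem a ha =>
    obtain ⟨haD, P, hP, hPa⟩ := ha
    have h1 : Mor X H (extAut a) :=
      Helper87.Mor.of_subsystem hinv.1 ((Helper87.mem_autGroup_iff le_rfl).mp haD)
    have h2 : TCen X H P := tcen_of_centric' hinv hP
    have h3 : Mor X' P (extAut a) := pmor_sub_of_primeToP hidx (pmor_mono hinv.1 hPa)
    exact mor_of_tcen hS hX' hidx hsc (Nat.card H) P _ h2 (Nat.le_add_left _ _) h1 h3
  | one =>
    exact (Helper87.Mor.id hHS).congr (fun x hx => (Helper87.extAut_one hx).symm)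
  | mul a b _ _ iha ihb =>
    exact (ihb.comp iha (fun x hx => Helper87.extAut_mem_self b hx)).congr
      (fun x hx => (Helper87.extAut_mul a b hx).symm)
  | inv a _ iha =>
    have hiso : Iso X' H H (extAut a) := Helper87.iso_of_mor_extAut iha
    obtain ⟨g, hg, el, -⟩ := hiso.symm
    refine hg.1.congr (fun y hy => ?_)
    have h1 := el _ (Helper87.extAut_mem_self a⁻¹ hy)
    rw [Helper87.extAut_inv_right a hy] at h1
    exact h1

/-- **`O^{p'}` of an invariant subsystem lies in every saturated subsystem of index prime to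
`p`** of the ambient system -/
theorem pSys1_le_of_inv [Finite S] {p : ℕ} [hp : Fact p.Prime] (hS : IsPGroup p S)
    {X X' : FusionSystem S} (hX' : X'.IsSaturated p)
    (hidx : X'.HasPrimeToPIndexIn X p) {H : Subgroup Ω} [Finite H] (hH : IsPGroup p H)
    {D : FusionSystem H} (hinv : D.IsInvariantIn X) :
    (pSys1 D p hH).IsSubsystemOf X' := by
  intro P φ hφ
  have hφ' : E1Mor D p P (extFun φ) := hφ
  obtain ⟨α, hα, f₀, hf₀, e⟩ := hφ'
  have h1 : Mor X' P f₀ := pmor_sub_of_primeToP hidx (pmor_mono hinv.1 hf₀)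
  have h2 : Mor X' H (extAut α) := aut0_mor hS hX' hidx hinv hα
  have h3 := h1.comp h2 (fun x hx => hf₀.mor.mem hx)
  rw [Helper87.mem_hom_iff_mor]
  exact h3.congr (fun x hx => (e x hx).symm)

end Cfsg.Agent.Helper84.Z1
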