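import Mathlib
import Cfsg.Prelude.Def_FusionReduction
import Cfsg.Agent.Lib.Helper84.FusZ1
import Cfsg.Agent.Lib.Helper84.FusO9
import Cfsg.Agent.S5203
import Cfsg.Agent.S5120

/-!
# Residual limits: existence, and invariance under passing to a subsystem of index prime to `p`
-/

set_option autoImplicit false

namespace Cfsg.Agent.Helper84.Z2

open Cfsg Cfsg.FusionSystem
open Cfsg.Agent.Helper87 (Mor Iso extFun extAut)
open Cfsg.Agent.S5203 (Same)

variable {Ω : Type*} [Group Ω] {S : Subgroup Ω}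

/-- a residual limit of a system is a subsystem of it -/
theorem rl_sub {p : ℕ} : ∀ {T S : Subgroup Ω} (L : FusionSystem T) (F : FusionSystem S) (q : ℕ),
    IsResidualLimitOf L F q → q = p → L.IsSubsystemOf F := by
  intro T S L F q h
  induction h with
  | stable F q _ _ => exact fun _ _ => subset_rfl
  | step F q D D' hD hD' _ ih =>
    intro hq
    exact fun P => ((ih hq P).trans (hD'.2.1.1 P)).trans (hD.2.1 P)

/-- elementwise form of index prime to `p` -/
theorem primeToP_iff {E F : FusionSystem S} {p : ℕ} :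
    E.HasPrimeToPIndexIn F p ↔ E.IsSubsystemOf F ∧ ∀ P : Subgroup Ω, P ≤ S →
      ∀ α : MulAut P, α ∈ F.autGroup P → (∃ k : ℕ, orderOf α = p ^ k) → α ∈ E.autGroup P := by
  constructor
  · rintro ⟨h1, h2⟩
    refine ⟨h1, fun P hP α hα ⟨k, hk⟩ => h2 P hP ?_⟩
    refine ⟨⟨α, hα⟩, Subgroup.subset_closure ⟨k, ?_⟩, rfl⟩
    rw [← Subgroup.orderOf_coe]
    exact hk
  · rintro ⟨h1, h2⟩
    refine ⟨h1, fun P hP => ?_⟩
    rw [Subgroup.map_le_iff_le_comap, Subgroup.closure_le]
    rintro a ⟨k, hk⟩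
    show (a : MulAut P) ∈ E.autGroup P
    refine h2 P hP a a.2 ⟨k, ?_⟩
    rw [Subgroup.orderOf_coe]
    exact hk

theorem primeToP_trans {D X₂ X₁ : FusionSystem S} {p : ℕ} (h1 : D.HasPrimeToPIndexIn X₂ p)
    (h2 : X₂.HasPrimeToPIndexIn X₁ p) : D.HasPrimeToPIndexIn X₁ p := by
  rw [primeToP_iff] at h1 h2 ⊢
  exact ⟨fun P => (h1.1 P).trans (h2.1 P),
    fun P hP α hα hk => h1.2 P hP α (h2.2 P hP α hα hk) hk⟩

theorem primeToP_of_le {X' X₂ X₁ : FusionSystem S} {p : ℕ} (h1 : X'.HasPrimeToPIndexIn X₁ p)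
    (h2 : X'.IsSubsystemOf X₂) (h3 : X₂.IsSubsystemOf X₁) : X'.HasPrimeToPIndexIn X₂ p := by
  rw [primeToP_iff] at h1 ⊢
  refine ⟨h2, fun P hP α hα hk => h1.2 P hP α ?_ hk⟩
  exact Helper87.autGroup_le_of_subsystem h3 hP hP hα

theorem primeToP_of_ge {X' X₂ X₁ : FusionSystem S} {p : ℕ} (h1 : X'.HasPrimeToPIndexIn X₁ p)
    (h2 : X'.IsSubsystemOf X₂) (h3 : X₂.IsSubsystemOf X₁) : X₂.HasPrimeToPIndexIn X₁ p := by
  rw [primeToP_iff] at h1 ⊢
  refine ⟨h3, fun P hP α hα hk => ?_⟩
  exact Helper87.autGroup_le_of_subsystem h2 hP hP (h1.2 P hP α hα hk)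

/-- an intermediate saturated subsystem has the same `p'`-residual subsystem -/
theorem ppr_between {X₁ X₂ X' : FusionSystem S} {p : ℕ} (hX₂ : X₂.IsSaturated p)
    (hidx : X₂.HasPrimeToPIndexIn X₁ p) (h : X₁.IsPPrimeResidual p X') :
    X₂.IsPPrimeResidual p X' := by
  have hle : X'.IsSubsystemOf X₂ := h.2.2 X₂ hX₂ hidx
  refine ⟨h.1, primeToP_of_le h.2.1 hle hidx.1, fun D hD hDidx => ?_⟩
  exact h.2.2 D hD (primeToP_trans hDidx hidx)

theorem same_pSys1 [Finite S] {p : ℕ} [Fact p.Prime] (hS : IsPGroup p S) {F F' : FusionSystem S}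
    (hF : F.IsSaturated p) (h : F.IsPPrimeResidual p F') : Same F' (pSys1 F p hS) :=
  Cfsg.Agent.S5203.same_of_pPrimeResidual h
    ⟨pSys1_saturated hS hF, pSys1_hasPrimeToPIndexIn F p hS,
      fun _ hDs hD => pSys1_le_of_primeToP hS hF hDs hD⟩

theorem normal_of_stronglyClosed {F : FusionSystem S} {H : Subgroup Ω}
    (hsc : F.StronglyClosed H) : (H.subgroupOf S).Normal :=
  (Subgroup.normal_subgroupOf_iff_le_normalizer hsc.1).mpr (stronglyClosed_normal F hsc)

/-- the `p'`-residual of the `p`-residual lies in the `p'`-residual -/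
theorem ppr_pres_le [Finite S] {p : ℕ} [Fact p.Prime] (hS : IsPGroup p S) {F F' : FusionSystem S}
    (hF : F.IsSaturated p) (hF' : F.IsPPrimeResidual p F')
    {D D' : FusionSystem (F.hyperfocalSubgroup p)} (hD : F.IsPResidual p D)
    (hD' : D.IsPPrimeResidual p D') : D'.IsSubsystemOf F' := by
  have hHS := Cfsg.Agent.S5124.hyperfocal_le F p
  have hsc := Cfsg.Agent.S5124.result p hS F hF
  have : Finite (F.hyperfocalSubgroup p) := Helper87.finite_of_le hHS
  have hH : IsPGroup p (F.hyperfocalSubgroup p) := hS.to_le hHS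
  have := normal_of_stronglyClosed hsc
  have hDn : D.IsNormalIn F p :=
    Cfsg.Agent.S5120.result p hS F hF _ hHS inferInstance le_rfl D hD.1 hD.2
  have h1 : (pSys1 D p hH).IsSubsystemOf F' :=
    Z1.pSys1_le_of_inv hS hF'.1 hF'.2.1 hH hDn.1.2.2
  have h2 : D'.IsSubsystemOf (pSys1 D p hH) :=
    hD'.2.2 _ (pSys1_saturated hH hD.1) (pSys1_hasPrimeToPIndexIn D p hH)
  exact fun P => (h2 P).trans (h1 P)

/-- if `F` equals its `p`-residual but not its `p'`-residual, the latter has fewer automorphisms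
of the underlying group (stated with the underlying group of the residual as a variable) -/
theorem card_aut_lt [Finite S] {p : ℕ} [Fact p.Prime] (hS : IsPGroup p S) (F : FusionSystem S)
    (hF : F.IsSaturated p) (H : Subgroup Ω) (hHS : H = S) (D : FusionSystem H)
    (hD : D.HasPPowerIndexIn F p) (D' : FusionSystem H) (hD' : D.IsPPrimeResidual p D')
    (hns : ¬ F.IsPPrimeResidual p F) : Nat.card (D'.autGroup H) < Nat.card (F.autGroup S) := by
  subst hHS
  have hDF : Same D F := Cfsg.Agent.S5203.same_of_ppower_top hS hF hD le_rfl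
  obtain rfl : D = F := Cfsg.Agent.S5203.eq_of_same hDF
  have hle : D'.autGroup H ≤ D.autGroup H :=
    Helper87.autGroup_le_of_subsystem hD'.2.1.1 le_rfl le_rfl
  by_contra hcon
  rw [not_lt] at hcon
  have heq : D'.autGroup H = D.autGroup H := Subgroup.eq_of_le_of_card_ge hle hcon
  apply hns
  have hsub : D.IsSubsystemOf D' := by
    intro P φ hφ
    have hf : Mor D P (extFun φ) := Helper87.mor_of_mem hφ
    obtain ⟨a, ha, ω, hω, e⟩ := exists_pmor_factor hS hF hf
    have h1 : Mor D' P ω := pmor_sub_of_primeToP hD'.2.1 hω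
    have h2 : Mor D' H (extAut a) := (Helper87.mem_autGroup_iff le_rfl).mp (heq ▸ ha)
    rw [Helper87.mem_hom_iff_mor]
    exact (h1.comp h2 (fun x hx => hω.mor.mem hx)).congr (fun x hx => (e x hx).symm)
  have hsame : Same D' D := Cfsg.Agent.S5203.same_of_sub hD'.2.1.1 hsub
  obtain rfl : D' = D := Cfsg.Agent.S5203.eq_of_same hsame
  exact hD'

/-- **Existence of residual limits** -/
theorem exists_rl {p : ℕ} [Fact p.Prime] :
    ∀ n m : ℕ, ∀ (S : Subgroup Ω), Finite S → IsPGroup p S → ∀ F : FusionSystem S,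
      F.IsSaturated p → Nat.card S = n → Nat.card (F.autGroup S) = m →
      ∃ (T : Subgroup Ω) (L : FusionSystem T), L.IsResidualLimitOf F p := by
  intro n
  induction n using Nat.strong_induction_on with
  | _ n ihn =>
  intro m
  induction m using Nat.strong_induction_on with
  | _ m ihm =>
  intro S hfin hS F hF hn hm
  by_cases hst : F.hyperfocalSubgroup p = S ∧ F.IsPPrimeResidual p F
  · exact ⟨S, F, IsResidualLimitOf.stable F p hst.1 hst.2⟩
  have hHS := Cfsg.Agent.S5124.hyperfocal_le F p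
  have hfinH : Finite (F.hyperfocalSubgroup p) := Helper87.finite_of_le hHS
  have hH : IsPGroup p (F.hyperfocalSubgroup p) := hS.to_le hHS
  obtain ⟨D, hDs, hDi⟩ := exists_ppower_subsystem (p := p) (Nat.card S) S hfin hS le_rfl F hF
    (F.hyperfocalSubgroup p) hHS le_rfl
  obtain ⟨D', hD'⟩ := exists_pPrimeResidual D hH hDs
  suffices h : ∃ (T : Subgroup Ω) (L : FusionSystem T), L.IsResidualLimitOf D' p by
    obtain ⟨T, L, hL⟩ := h
    exact ⟨T, L, IsResidualLimitOf.step F p D D' ⟨hDs, hDi⟩ hD' hL⟩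
  by_cases hHeq : F.hyperfocalSubgroup p = S
  · have hns : ¬ F.IsPPrimeResidual p F := fun h => hst ⟨hHeq, h⟩
    have hlt := card_aut_lt hS F hF _ hHeq D hDi D' hD' hns
    have hcard : Nat.card (F.hyperfocalSubgroup p) = n := by rw [hHeq]; exact hn
    exact ihm _ (hm ▸ hlt) _ hfinH hH D' hD'.1 hcard rfl
  · have hlt : Nat.card (F.hyperfocalSubgroup p) < n := by
      rw [← hn]
      by_contra hcon
      rw [not_lt] at hcon
      exact hHeq (Subgroup.eq_of_le_of_card_ge hHS hcon)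
    exact ihn _ hlt _ _ hfinH hH D' hD'.1 rfl rfl

theorem exists_rl' [Finite S] {p : ℕ} [Fact p.Prime] (hS : IsPGroup p S) (F : FusionSystem S)
    (hF : F.IsSaturated p) : ∃ (T : Subgroup Ω) (L : FusionSystem T), L.IsResidualLimitOf F p :=
  exists_rl _ _ S inferInstance hS F hF rfl rfl

/-- **a system and its `p'`-residual subsystem have the same residual limit** -/
theorem rl_pprime {p : ℕ} [Fact p.Prime] :
    ∀ n : ℕ, ∀ (S : Subgroup Ω), Finite S → IsPGroup p S → Nat.card S ≤ n →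
      ∀ F : FusionSystem S, F.IsSaturated p → ∀ F' : FusionSystem S, F.IsPPrimeResidual p F' →
      ∀ {T : Subgroup Ω} (L : FusionSystem T), L.IsResidualLimitOf F p →
      ∀ {T' : Subgroup Ω} (L' : FusionSystem T'), L'.IsResidualLimitOf F' p → Same L L' := by
  intro n
  induction n using Nat.strong_induction_on with
  | _ n ih =>
  intro S hfin hS hn F hF F' hF' T L hL T' L' hL'
  cases hL with
  | stable _ _ h1 h2 =>
    have hs : Same F' F := Cfsg.Agent.S5203.same_of_pPrimeResidual hF' h2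
    obtain rfl : F' = F := Cfsg.Agent.S5203.eq_of_same hs
    exact Cfsg.Agent.S5203.rl_unique F' F' p (IsResidualLimitOf.stable F' p h1 h2) rfl hfin hS
      L' F' hL' (Cfsg.Agent.S5203.same_refl F')
  | step _ _ D D' hD hD' hrl =>
    have hHS := Cfsg.Agent.S5124.hyperfocal_le F p
    have hfinH : Finite (F.hyperfocalSubgroup p) := Helper87.finite_of_le hHS
    have hHp : IsPGroup p (F.hyperfocalSubgroup p) := hS.to_le hHS
    by_cases hHeq : F.hyperfocalSubgroup p = S
    · have hDF : Same D F := Cfsg.Agent.S5203.same_of_ppower_top hS hF hD.2 hHeq.ge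
      have h' : Same D' F' := Cfsg.Agent.S5203.pPrimeResidual_congr hDF hD' hF'
      exact Cfsg.Agent.S5203.rl_unique L D' p hrl rfl hfinH hHp L' F' hL' h'
    · have hlt : Nat.card (F.hyperfocalSubgroup p) < n := by
        refine lt_of_lt_of_le ?_ hn
        by_contra hcon
        rw [not_lt] at hcon
        exact hHeq (Subgroup.eq_of_le_of_card_ge hHS hcon)
      have hF'F : F'.IsSubsystemOf F := hF'.2.1.1
      have hhyp' : F'.hyperfocalSubgroup p ≤ F.hyperfocalSubgroup p :=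
        Cfsg.Agent.S5203.hyperfocal_mono hF'F
      obtain ⟨Z, hZs, hZi⟩ := exists_ppower_subsystem (p := p) (Nat.card S) S hfin hS le_rfl F'
        hF'.1 (F.hyperfocalSubgroup p) hHS hhyp'
      have hsc := Cfsg.Agent.S5124.result p hS F hF
      have hnorm := normal_of_stronglyClosed hsc
      have hZn : Z.IsNormalIn F' p :=
        Cfsg.Agent.S5120.result p hS F' hF'.1 _ hHS hnorm hhyp' Z hZs hZi
      obtain ⟨TZ, LZ, hLZ⟩ := exists_rl' hHp Z hZs
      have h1 : ∀ P, L'.Hom P = LZ.Hom P :=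
        Cfsg.Agent.S5203.result p hS F' hF'.1 Z hZn hZi L' hL' LZ hLZ
      have hD'F' : D'.IsSubsystemOf F' := ppr_pres_le hS hF hF' hD hD'
      have hZF : Z.IsSubsystemOf F := fun P => (hZi.1 P).trans (hF'F P)
      have hZD : Z.IsSubsystemOf D := Cfsg.Agent.S5203.sub_of_ppower hHp hZs hZF hD.2 le_rfl
      have hD'Z : D'.IsSubsystemOf Z :=
        Cfsg.Agent.S5203.sub_of_ppower hHp hD'.1 hD'F' hZi le_rfl
      have hZidx : Z.HasPrimeToPIndexIn D p := primeToP_of_ge hD'.2.1 hD'Z hZD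
      have hZres : Z.IsPPrimeResidual p D' := ppr_between hZs hZidx hD'
      have h2 : Same LZ L := ih _ hlt _ hfinH hHp le_rfl Z hZs D' hZres LZ hLZ L hrl
      exact fun P => ((h2 P).symm.trans (h1 P).symm)

/-- **a saturated subsystem of index prime to `p` has the same residual limit** -/
theorem rl_of_primeToP [Finite S] {p : ℕ} [Fact p.Prime] (hS : IsPGroup p S)
    {X₁ X₂ : FusionSystem S} (h₁ : X₁.IsSaturated p) (h₂ : X₂.IsSaturated p)
    (hidx : X₂.HasPrimeToPIndexIn X₁ p) {T₁ : Subgroup Ω} (L₁ : FusionSystem T₁)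
    (hL₁ : L₁.IsResidualLimitOf X₁ p) {T₂ : Subgroup Ω} (L₂ : FusionSystem T₂)
    (hL₂ : L₂.IsResidualLimitOf X₂ p) : Same L₁ L₂ := by
  obtain ⟨X', hX'⟩ := exists_pPrimeResidual X₁ hS h₁
  have hX'₂ := ppr_between h₂ hidx hX'
  obtain ⟨T', L', hL'⟩ := exists_rl' hS X' hX'.1
  have a := rl_pprime _ S inferInstance hS le_rfl X₁ h₁ X' hX' L₁ hL₁ L' hL'
  have b := rl_pprime _ S inferInstance hS le_rfl X₂ h₂ X' hX'₂ L₂ hL₂ L' hL'
  exact a.trans b.symm

end Cfsg.Agent.Helper84.Z2
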