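import Mathlib
import Cfsg.Prelude.Def_FusionSystem
import Cfsg.Agent.Lib.Helper84.FusY1
import Cfsg.Agent.Lib.Helper84.FusX2

/-!
# The subsystem of index prime to `p` attached to `K`

`chiSys` is the system generated by `O^{p'}_*(F)` and the automorphisms of `S` in `F` whose
restriction to `T` lies in `K`.
-/

set_option autoImplicit false

namespace Cfsg.Agent.Helper84

open Cfsg Cfsg.FusionSystem
open Cfsg.Agent.Helper87 (Mor Iso extFun extAut)

variable {Ω : Type*} [Group Ω] {S T : Subgroup Ω}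

/-- restriction of an isomorphism to the intersections with a strongly closed subgroup -/
theorem iso_inf_of_stronglyClosed {F : FusionSystem S} (hsc : F.StronglyClosed T)
    {P Q : Subgroup Ω} {f : Ω → Ω} (h : Iso F P Q f) : Iso F (P ⊓ T) (Q ⊓ T) f := by
  refine ⟨h.1.restrict inf_le_left, fun y => ⟨?_, ?_⟩⟩
  · rintro ⟨hyQ, hyT⟩
    obtain ⟨x, hx, rfl⟩ := h.surj hyQ
    obtain ⟨g, hg, hgl, -⟩ := h.symm
    refine ⟨x, ⟨hx, ?_⟩, rfl⟩
    have := sc_mem hsc hg.1 hyQ hyT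
    rwa [hgl x hx] at this
  · rintro ⟨x, ⟨hxP, hxT⟩, rfl⟩
    exact ⟨h.map_mem hxP, sc_mem hsc h.1 hxP hxT⟩

/-- the restriction to `T` of an automorphism of `S` in the system -/
theorem exists_restrict_top [Finite S] {F : FusionSystem S} (hsc : F.StronglyClosed T)
    {α : MulAut S} (hα : α ∈ F.autGroup S) :
    ∃ γ : MulAut T, γ ∈ F.autGroup T ∧ ∀ t ∈ T, extAut γ t = extAut α t := by
  have hTS : T ≤ S := hsc.1
  have hm : Mor F S (extAut α) := (Helper87.mem_autGroup_iff le_rfl).mp hα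
  have hiso : Iso F T T (extAut α) :=
    Helper87.iso_of_card_le (hm.restrict hTS) hTS (fun x hx => sc_mem hsc hm (hTS hx) hx) le_rfl
  exact ⟨hiso.equiv, hiso.equiv_mem_autGroup, fun t ht => Helper87.extAut_equiv hiso ht⟩

/-- the maps of `O^{p'}_*(F)` are `K`-decomposable on the intersection with `T` -/
theorem kdec_pmor [Finite S] {p : ℕ} [hp : Fact p.Prime] (hS : IsPGroup p S)
    {E : FusionSystem T} {F : FusionSystem S} (hF : F.IsSaturated p) (hinv : E.IsInvariantIn F)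
    {K : Subgroup (MulAut T)} (hK : KData E F p K) {P : Subgroup Ω} {f : Ω → Ω}
    (h : PMor F p P f) : KDec E K (P ⊓ T) f := by
  have hsc := hinv.2.1
  have hTS : T ≤ S := hsc.1
  have hSI := Cfsg.Agent.S5119.siFun_of_invariant hinv
  induction h with
  | @base R β hβ =>
    obtain ⟨hβi, k, hβk⟩ := hβ
    exact kdec_ppgen hS hF hinv hK inf_le_right
      ⟨iso_inf_of_stronglyClosed hsc hβi, k, fun x hx => hβk x hx.1⟩
  | @restr P₁ Q₁ f _ hQP ih => exact ih.restrict (inf_le_inf_right T hQP)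
  | @comp P₁ Q₁ f g hf _ hfg ih1 ih2 =>
    exact KDec.comp hTS hSI hK.le inf_le_right
      (fun x hx => ⟨hfg x hx.1, sc_mem hsc hf.mor hx.1 hx.2⟩) ih1 ih2
  | @congr P₁ f f' _ hff ih => exact ih.congr (fun x hx => hff x hx.1)

/-- the automorphisms of `S` in the system whose restriction to `T` lies in `K` -/
def HK (F : FusionSystem S) (hTS : T ≤ S) (K : Subgroup (MulAut T)) : Subgroup (MulAut S) where
  carrier := {α | α ∈ F.autGroup S ∧ ∃ κ ∈ K, ∀ t ∈ T, extAut α t = extAut κ t}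
  one_mem' := ⟨Subgroup.one_mem _, 1, K.one_mem, fun t ht => by
    rw [Helper87.extAut_one (hTS ht), Helper87.extAut_one ht]⟩
  mul_mem' := by
    rintro a b ⟨ha, κa, hκa, ea⟩ ⟨hb, κb, hκb, eb⟩
    refine ⟨Subgroup.mul_mem _ ha hb, κa * κb, K.mul_mem hκa hκb, fun t ht => ?_⟩
    rw [Helper87.extAut_mul a b (hTS ht), Helper87.extAut_mul κa κb ht, eb t ht,
      ea _ (Helper87.extAut_mem_self κb ht)]
  inv_mem' := by
    rintro a ⟨ha, κ, hκ, ea⟩
    refine ⟨Subgroup.inv_mem _ ha, κ⁻¹, K.inv_mem hκ, fun t ht => ?_⟩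
    have h1 : extAut κ⁻¹ t ∈ T := Helper87.extAut_mem_self _ ht
    have h2 := ea _ h1
    rw [Helper87.extAut_inv_right κ ht] at h2
    conv_lhs => rw [← h2]
    rw [Helper87.extAut_inv_left a (hTS h1)]

theorem mem_HK {F : FusionSystem S} {hTS : T ≤ S} {K : Subgroup (MulAut T)} {α : MulAut S} :
    α ∈ HK F hTS K ↔ α ∈ F.autGroup S ∧ ∃ κ ∈ K, ∀ t ∈ T, extAut α t = extAut κ t := Iff.rfl

theorem normalizesSys_pSys [Finite S] {F : FusionSystem S} {p : ℕ} [Fact p.Prime]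
    (hS : IsPGroup p S) {α : MulAut S} (hα : α ∈ F.autGroup S) :
    NormalizesSys (pSys F p hS) α := by
  intro Q f hf P₁ hP₁ hmap
  rw [mor_pSys_iff] at hf ⊢
  exact hf.conjAut hα P₁ hP₁ hmap

/-- the system generated by `O^{p'}_*(F)` and `HK` -/
noncomputable def chiSys [Finite S] (F : FusionSystem S) (p : ℕ) [Fact p.Prime]
    (hS : IsPGroup p S) (hTS : T ≤ S) (K : Subgroup (MulAut T)) : FusionSystem S :=
  extSys (pSys F p hS) (HK F hTS K) (fun _ hα => normalizesSys_pSys hS hα.1)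

theorem mor_chiSys_iff [Finite S] {F : FusionSystem S} {p : ℕ} [Fact p.Prime]
    {hS : IsPGroup p S} {hTS : T ≤ S} {K : Subgroup (MulAut T)} {P : Subgroup Ω} {f : Ω → Ω} :
    Mor (chiSys F p hS hTS K) P f ↔
      ∃ α ∈ HK F hTS K, ∃ f₀, PMor F p P f₀ ∧ ∀ x ∈ P, f x = extAut α (f₀ x) := by
  unfold chiSys
  rw [mor_extSys_iff]
  constructor
  · rintro ⟨α, hα, f₀, hf₀, e⟩
    exact ⟨α, hα, f₀, mor_pSys_iff.mp hf₀, e⟩
  · rintro ⟨α, hα, f₀, hf₀, e⟩
    exact ⟨α, hα, f₀, mor_pSys_iff.mpr hf₀, e⟩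

theorem chiSys_isSubsystemOf [Finite S] (F : FusionSystem S) (p : ℕ) [Fact p.Prime]
    (hS : IsPGroup p S) (hTS : T ≤ S) (K : Subgroup (MulAut T)) :
    (chiSys F p hS hTS K).IsSubsystemOf F := by
  intro P φ hφ
  have h1 : Mor (chiSys F p hS hTS K) P (extFun φ) := Helper87.mor_of_mem hφ
  obtain ⟨α, hα, f₀, hf₀, e⟩ := mor_chiSys_iff.mp h1
  have hα' : Mor F S (extAut α) := (Helper87.mem_autGroup_iff le_rfl).mp hα.1
  have h2 : Mor F P (extFun φ) :=
    (hf₀.mor.comp hα' (fun x hx => hf₀.mor.mem hx)).congr (fun x hx => (e x hx).symm)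
  exact Helper87.mem_hom_iff_mor.mpr h2

theorem pmor_chiSys [Finite S] {F : FusionSystem S} {p : ℕ} [Fact p.Prime]
    {hS : IsPGroup p S} {hTS : T ≤ S} {K : Subgroup (MulAut T)} {P : Subgroup Ω} {f : Ω → Ω}
    (h : PMor F p P f) : Mor (chiSys F p hS hTS K) P f :=
  mor_chiSys_iff.mpr ⟨1, Subgroup.one_mem _, f, h,
    fun _ hx => (Helper87.extAut_one (h.mor.mem hx)).symm⟩

theorem aut_chiSys [Finite S] {F : FusionSystem S} {p : ℕ} [Fact p.Prime]
    {hS : IsPGroup p S} {hTS : T ≤ S} {K : Subgroup (MulAut T)} {α : MulAut S}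
    (hα : α ∈ HK F hTS K) {P : Subgroup Ω} (hP : P ≤ S) :
    Mor (chiSys F p hS hTS K) P (extAut α) :=
  mor_chiSys_iff.mpr ⟨α, hα, fun x => x, PMor.id F p hP, fun _ _ => rfl⟩

/-- the maps of `chiSys` are `K`-decomposable on the intersection with `T` -/
theorem kdec_of_mor_chiSys [Finite S] {p : ℕ} [hp : Fact p.Prime] (hS : IsPGroup p S)
    {E : FusionSystem T} {F : FusionSystem S} (hF : F.IsSaturated p) (hinv : E.IsInvariantIn F)
    {K : Subgroup (MulAut T)} (hK : KData E F p K) {P : Subgroup Ω} {f : Ω → Ω}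
    (h : Mor (chiSys F p hS hinv.2.1.1 K) P f) : KDec E K (P ⊓ T) f := by
  have hsc := hinv.2.1
  obtain ⟨α, ⟨hα, κ, hκ, eα⟩, f₀, hf₀, e⟩ := mor_chiSys_iff.mp h
  obtain ⟨κ₀, hκ₀, g₀, hg₀, e₀⟩ := kdec_pmor hS hF hinv hK hf₀
  refine ⟨κ * κ₀, K.mul_mem hκ hκ₀, g₀, hg₀, fun x hx => ?_⟩
  have hT1 : f₀ x ∈ T := sc_mem hsc hf₀.mor hx.1 hx.2
  rw [e x hx.1, eα _ hT1, e₀ x hx, Helper87.extAut_mul κ κ₀ (hg₀.mem hx)]

/-- a `K`-decomposable map of `F` whose source meets `T` in a subgroup all of whose conjugates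
contain their centralizers in `T` is a map of `chiSys` -/
theorem mor_chiSys_of_kdec [Finite S] {p : ℕ} [hp : Fact p.Prime] (hS : IsPGroup p S)
    {E : FusionSystem T} {F : FusionSystem S} (hE : E.IsSaturated p) (hF : F.IsSaturated p)
    (hinv : E.IsInvariantIn F) {K : Subgroup (MulAut T)} (hK : KData E F p K)
    {P : Subgroup Ω} (hP : TCen F T (P ⊓ T)) {f : Ω → Ω} (hf : Mor F P f)
    (hdec : KDec E K (P ⊓ T) f) : Mor (chiSys F p hS hinv.2.1.1 K) P f := by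
  have hsc := hinv.2.1
  have hTS : T ≤ S := hsc.1
  obtain ⟨α, hα, f₀, hf₀, e⟩ := exists_pmor_factor hS hF hf
  obtain ⟨γ, hγ, eγ⟩ := exists_restrict_top hsc hα
  obtain ⟨κ₀, hκ₀, g₀, hg₀, e₀⟩ := kdec_pmor hS hF hinv hK hf₀
  have hmem : γ * κ₀ ∈ K := by
    refine kdec_unique hS hE hF hinv hK hP hdec (Subgroup.mul_mem _ hγ (hK.le hκ₀)) hg₀
      (fun x hx => ?_)
    have hT1 : f₀ x ∈ T := sc_mem hsc hf₀.mor hx.1 hx.2
    rw [e x hx.1, ← eγ _ hT1, e₀ x hx, Helper87.extAut_mul γ κ₀ (hg₀.mem hx)]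
  have hγK : γ ∈ K := by
    have := K.mul_mem hmem (K.inv_mem hκ₀)
    rwa [mul_inv_cancel_right] at this
  exact mor_chiSys_iff.mpr ⟨α, ⟨hα, γ, hγK, fun t ht => (eγ t ht).symm⟩, f₀, hf₀, e⟩

/-- the automorphisms of `S` in `chiSys` -/
theorem mem_autGroup_chiSys_iff [Finite S] {p : ℕ} [hp : Fact p.Prime] (hS : IsPGroup p S)
    {E : FusionSystem T} {F : FusionSystem S} (hF : F.IsSaturated p) (hinv : E.IsInvariantIn F)
    {K : Subgroup (MulAut T)} (hK : KData E F p K) {α : MulAut S} :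
    α ∈ (chiSys F p hS hinv.2.1.1 K).autGroup S ↔ α ∈ HK F hinv.2.1.1 K := by
  have hsc := hinv.2.1
  have hTS : T ≤ S := hsc.1
  have hfinT : Finite T := Helper87.finite_of_le hTS
  constructor
  · intro h
    have hm : Mor (chiSys F p hS hTS K) S (extAut α) := (Helper87.mem_autGroup_iff le_rfl).mp h
    have hαF : α ∈ F.autGroup S :=
      Helper87.autGroup_le_of_subsystem (chiSys_isSubsystemOf F p hS hTS K) le_rfl le_rfl h
    obtain ⟨κ, hκ, f₀, hf₀, e⟩ := (kdec_of_mor_chiSys hS hF hinv hK hm).restrict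
      (le_inf hTS le_rfl : T ≤ S ⊓ T)
    have hiso : Iso E T T f₀ := Helper87.iso_of_card_le hf₀ le_rfl (fun x hx => hf₀.mem hx) le_rfl
    have hε : (hiso.equiv : MulAut T) ∈ K := hK.autE hiso.equiv_mem_autGroup
    refine ⟨hαF, κ * hiso.equiv, K.mul_mem hκ hε, fun t ht => ?_⟩
    rw [e t ht, Helper87.extAut_mul κ _ ht, Helper87.extAut_equiv hiso ht]
  · intro h
    exact (Helper87.mem_autGroup_iff le_rfl).mpr (aut_chiSys h le_rfl)

end Cfsg.Agent.Helper84
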