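import Mathlib
import Cfsg.Prelude.Def_FusionSystem
import Cfsg.Agent.Lib.Helper84.FusY2
import Cfsg.Agent.Lib.Helper84.FusW4
import Cfsg.Agent.Lib.Helper88.FusionCentricUnique

/-!
# The family of centric subgroups meeting `T` in a `T`-centric subgroup, and growth outside it
-/

set_option autoImplicit false

namespace Cfsg.Agent.Helper84

open Cfsg Cfsg.FusionSystem
open Cfsg.Agent.Helper87 (Mor Iso extFun extAut)

variable {Ω : Type*} [Group Ω] {S T : Subgroup Ω}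

/-- the family: centric subgroups `P` such that all conjugates of `P ∩ T` contain their
centralizers in `T` -/
def HFam (F : FusionSystem S) (T P : Subgroup Ω) : Prop := F.IsCentric P ∧ TCen F T (P ⊓ T)

theorem HFam.of_conj {F : FusionSystem S} (hsc : F.StronglyClosed T) {P Q : Subgroup Ω}
    (h : HFam F T P) (hPQ : F.IsConj P Q) : HFam F T Q := by
  refine ⟨Helper87.isCentric_of_conj h.1 hPQ, ?_⟩
  obtain ⟨f, hf⟩ := Helper87.isConj_iff.1 hPQ
  exact h.2.of_conj hsc (Helper87.isConj_iff.2 ⟨f, iso_inf_of_stronglyClosed hsc hf⟩)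

theorem HFam.of_le {F : FusionSystem S} {P Q : Subgroup Ω} (h : HFam F T P) (hPQ : P ≤ Q)
    (hQS : Q ≤ S) : HFam F T Q :=
  ⟨Helper88.isCentric_of_le h.1 hPQ hQS, h.2.of_le (inf_le_inf_right T hPQ) inf_le_right⟩

theorem hfam_top [Finite S] {F : FusionSystem S} (hsc : F.StronglyClosed T) : HFam F T S :=
  ⟨isCentric_top F, (tcen_top hsc).of_le (le_inf hsc.1 le_rfl) inf_le_right⟩

/-- the image of a centralizing element centralizes the image -/
theorem map_centralizes {F : FusionSystem S} {N V V₂ : Subgroup Ω} {ν : Ω → Ω} (hν : Mor F N ν)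
    (hVN : V ≤ N) (hiso : Iso F V V₂ ν) {c : Ω} (hcN : c ∈ N)
    (hc : c ∈ Subgroup.centralizer (V : Set Ω)) : ν c ∈ Subgroup.centralizer (V₂ : Set Ω) := by
  rw [Subgroup.mem_centralizer_iff]
  intro z hz
  obtain ⟨v, hv, rfl⟩ := hiso.surj hz
  rw [← hν.map_mul (hVN hv) hcN, ← hν.map_mul hcN (hVN hv),
    Subgroup.mem_centralizer_iff.mp hc v hv]

/-- if `Q ∩ T` does not contain its centralizer in `T`, some element of `T` centralizing `Q ∩ T`
normalizes `Q` and lies outside `Q` -/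
theorem exists_cen_normalizer_not_mem [Finite S] {p : ℕ} [Fact p.Prime] (hS : IsPGroup p S)
    {F : FusionSystem S} (hsc : F.StronglyClosed T) {Q : Subgroup Ω} (hQS : Q ≤ S)
    (h : ¬ centralizerIn T (Q ⊓ T) ≤ Q ⊓ T) :
    ∃ x, x ∈ normalizerIn S Q ∧ x ∈ centralizerIn T (Q ⊓ T) ∧ x ∉ Q := by
  have hTS : T ≤ S := hsc.1
  have hDS : centralizerIn T (Q ⊓ T) ≤ S := inf_le_left.trans hTS
  have hfinD : Finite (centralizerIn T (Q ⊓ T) : Subgroup Ω) := Helper87.finite_of_le hDS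
  have hnorm : Q ≤ Subgroup.normalizer ((centralizerIn T (Q ⊓ T) : Subgroup Ω) : Set Ω) := by
    intro q hq
    apply mem_normalizer_of_conj_mem_finite
    intro d hd
    refine Subgroup.mem_inf.mpr ⟨sc_conj_mem hsc (hQS hq) hd.1, ?_⟩
    rw [Subgroup.mem_centralizer_iff]
    intro v hv
    have hw : q⁻¹ * v * q ∈ Q ⊓ T := by
      refine ⟨Q.mul_mem (Q.mul_mem (Q.inv_mem hq) hv.1) hq, ?_⟩
      have := sc_conj_mem hsc (S.inv_mem (hQS hq)) hv.2
      rwa [inv_inv] at this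
    have hcomm : q⁻¹ * v * q * d = d * (q⁻¹ * v * q) :=
      Subgroup.mem_centralizer_iff.mp hd.2 _ hw
    calc v * (q * d * q⁻¹) = q * (q⁻¹ * v * q * d) * q⁻¹ := by group
      _ = q * (d * (q⁻¹ * v * q)) * q⁻¹ := by rw [hcomm]
      _ = q * d * q⁻¹ * v := by group
  have hDQ : ¬ centralizerIn T (Q ⊓ T) ≤ Q := fun hle => h (le_inf hle inf_le_left)
  have hlt : Q < Q ⊔ centralizerIn T (Q ⊓ T) := by
    apply lt_of_le_of_ne le_sup_left
    intro heq
    exact hDQ (le_sup_right.trans heq.ge)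
  have hMS : Q ⊔ centralizerIn T (Q ⊓ T) ≤ S := sup_le hQS hDS
  have hfinM : Finite (Q ⊔ centralizerIn T (Q ⊓ T) : Subgroup Ω) := Helper87.finite_of_le hMS
  obtain ⟨y, hyM, hyN, hyQ⟩ := exists_mem_normalizer_not_mem (hS.to_le hMS) hlt
  have hyM' : y ∈ ((Q ⊔ centralizerIn T (Q ⊓ T) : Subgroup Ω) : Set Ω) := hyM
  rw [Subgroup.coe_mul_of_left_le_normalizer_right Q _ hnorm] at hyM'
  obtain ⟨q, hq, d, hd, rfl⟩ := hyM'
  have hq' : q ∈ Q := hq
  have hd' : d ∈ centralizerIn T (Q ⊓ T) := hd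
  have hdn : d ∈ Subgroup.normalizer (Q : Set Ω) := by
    have h1 : q⁻¹ ∈ Subgroup.normalizer (Q : Set Ω) := Subgroup.le_normalizer (Q.inv_mem hq')
    have h2 := Subgroup.mul_mem _ h1 hyN
    rwa [inv_mul_cancel_left] at h2
  exact ⟨d, ⟨hDS hd', hdn⟩, hd', fun hdQ => hyQ (Q.mul_mem hq' hdQ)⟩

/-- outside the family, every fully normalized conjugate `Q'` has an element of `T` centralizing
`Q' ∩ T` and normalizing `Q'` outside `Q'` -/
theorem exists_cen_of_not_tcen [Finite S] {p : ℕ} [Fact p.Prime] (hS : IsPGroup p S)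
    {F : FusionSystem S} (hF : F.IsSaturated p) (hsc : F.StronglyClosed T) {Q Q' : Subgroup Ω}
    (hQS : Q ≤ S) (hnt : ¬ TCen F T (Q ⊓ T)) (hQQ' : F.IsConj Q Q')
    (hfn : F.IsFullyNormalized Q') :
    ∃ x, x ∈ normalizerIn S Q' ∧ x ∈ centralizerIn T (Q' ⊓ T) ∧ x ∉ Q' := by
  have hTS : T ≤ S := hsc.1
  have hVS : Q ⊓ T ≤ S := inf_le_left.trans hQS
  have hex : ∃ V', F.IsConj (Q ⊓ T) V' ∧ ¬ centralizerIn T V' ≤ V' := by
    by_contra hcon
    push Not at hcon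
    exact hnt ⟨inf_le_right, hcon⟩
  obtain ⟨V', hVV', hV'⟩ := hex
  obtain ⟨V₂, hVV₂, hfnV₂⟩ := Helper87.exists_fullyNormalized_conj F hVS
  obtain ⟨ν₁, hν₁, hν₁V⟩ := Helper87.exists_map_normalizer_to_fullyNormalized hS hF hfnV₂
    (Helper87.isConj_trans (Helper87.isConj_symm hVV') hVV₂)
  obtain ⟨ν₂, hν₂, hν₂V⟩ := Helper87.exists_map_normalizer_to_fullyNormalized hS hF hfnV₂ hVV₂
  obtain ⟨c, hcC, hcV'⟩ := SetLike.not_le_iff_exists.mp hV'
  have hV'S : V' ≤ S := (Helper87.isConj_le hVV').2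
  have hV'N : V' ≤ normalizerIn S V' := Helper87.le_normalizerIn hV'S
  have hcN : c ∈ normalizerIn S V' :=
    ⟨hTS hcC.1, Subgroup.centralizer_le_normalizer _ hcC.2⟩
  -- `V₂` does not contain its centralizer in `T`
  have hV₂ : ¬ centralizerIn T V₂ ≤ V₂ := by
    intro hle
    have h1 : ν₁ c ∈ centralizerIn T V₂ :=
      ⟨sc_mem hsc hν₁ hcN hcC.1, map_centralizes hν₁ hV'N hν₁V hcN hcC.2⟩
    obtain ⟨v, hv, hvc⟩ := hν₁V.surj (hle h1)
    have := hν₁.inj (hV'N hv) hcN hvc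
    exact hcV' (this ▸ hv)
  -- move `Q` along `ν₂`
  have hfinV : Finite (Q ⊓ T : Subgroup Ω) := Helper87.finite_of_le hVS
  have hQN : Q ≤ normalizerIn S (Q ⊓ T) := by
    intro q hq
    refine ⟨hQS hq, mem_normalizer_of_conj_mem_finite (fun v hv => ?_)⟩
    exact ⟨Q.mul_mem (Q.mul_mem hq hv.1) (Q.inv_mem hq), sc_conj_mem hsc (hQS hq) hv.2⟩
  have hisoQ : Iso F Q (hν₂.restrict hQN).image ν₂ := Iso.of_mor _
  have hQ₁S : (hν₂.restrict hQN).image ≤ S := hisoQ.le_right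
  have hinf : (hν₂.restrict hQN).image ⊓ T = V₂ :=
    (iso_inf_of_stronglyClosed hsc hisoQ).eq_of_iso hν₂V
  have hnc₁ : ¬ centralizerIn T ((hν₂.restrict hQN).image ⊓ T) ≤ (hν₂.restrict hQN).image ⊓ T := by
    rw [hinf]; exact hV₂
  obtain ⟨x₁, hx₁N, hx₁C, hx₁Q⟩ := exists_cen_normalizer_not_mem hS hsc hQ₁S hnc₁
  obtain ⟨ν₃, hν₃, hν₃Q⟩ := Helper87.exists_map_normalizer_to_fullyNormalized hS hF hfn
    (Helper87.isConj_trans (Helper87.isConj_symm (Helper87.isConj_iff.2 ⟨_, hisoQ⟩)) hQQ')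
  have hQ₁N : (hν₂.restrict hQN).image ≤ normalizerIn S (hν₂.restrict hQN).image :=
    Helper87.le_normalizerIn hQ₁S
  refine ⟨ν₃ x₁, Helper87.map_normalizerIn hν₃ hν₃Q hx₁N,
    ⟨sc_mem hsc hν₃ hx₁N hx₁C.1, map_centralizes hν₃ (inf_le_left.trans hQ₁N)
      (iso_inf_of_stronglyClosed hsc hν₃Q) hx₁N hx₁C.2⟩, fun hmem => ?_⟩
  obtain ⟨q, hq, hqx⟩ := hν₃Q.surj hmem
  have := hν₃.inj (hQ₁N hq) hx₁N hqx
  exact hx₁Q (this ▸ hq)

/-- **growth**: if some element of `T` centralizing `Q ∩ T` normalizes the fully normalized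
subgroup `Q` and lies outside `Q`, every `p`-power automorphism of `Q` extends to a `p`-power
automorphism of a larger subgroup -/
theorem exists_ppgen_ext [Finite S] {p : ℕ} [Fact p.Prime] (hS : IsPGroup p S)
    {F : FusionSystem S} (hF : F.IsSaturated p) (hsc : F.StronglyClosed T) {Q : Subgroup Ω}
    (hfn : F.IsFullyNormalized Q) {x : Ω} (hxN : x ∈ normalizerIn S Q)
    (hxC : x ∈ centralizerIn T (Q ⊓ T)) (hxQ : x ∉ Q) :
    ∃ N : Subgroup Ω, Q ≤ N ∧ N ≤ S ∧ Nat.card Q < Nat.card N ∧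
      ∀ β, PPGen F p Q β → ∃ βh, PPGen F p N βh ∧ ∀ y ∈ Q, βh y = β y := by
  have hTS : T ≤ S := hsc.1
  have hQS : Q ≤ S := hfn.1
  have hfinQ : Finite Q := Helper87.finite_of_le hQS
  have hfinV : Finite (Q ⊓ T : Subgroup Ω) := Helper87.finite_of_le (inf_le_left.trans hQS)
  have hXS : normalizerIn S Q ⊓ centralizerIn T (Q ⊓ T) ≤ S := inf_le_left.trans inf_le_left
  have hNS : Q ⊔ (normalizerIn S Q ⊓ centralizerIn T (Q ⊓ T)) ≤ S := sup_le hQS hXS
  have hxX : x ∈ normalizerIn S Q ⊓ centralizerIn T (Q ⊓ T) := ⟨hxN, hxC⟩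
  refine ⟨Q ⊔ (normalizerIn S Q ⊓ centralizerIn T (Q ⊓ T)), le_sup_left, hNS,
    Helper87.card_lt_of_not_mem le_sup_left hNS
      ((le_sup_right : _ ≤ Q ⊔ (normalizerIn S Q ⊓ centralizerIn T (Q ⊓ T))) hxX) hxQ, ?_⟩
  intro β hβ
  obtain ⟨hβi, k, hβk⟩ := hβ
  have hrec := Helper87.receptive_of_fullyNormalized hS hF hfn
  obtain ⟨g, hg, hgβ⟩ := (Helper87.isReceptive_iff.1 hrec).2 Q _ hβi
  have hsyl := ((fullyAutomized_iff F Q).mp
    (Helper87.fullyAutomized_of_fullyNormalized hS hF hfn)).2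
  -- the normal `p`-subgroup of unipotent automorphisms
  have hAp : IsPGroup p (F.autGroup Q ⊓ unipIn Q (Q ⊓ T) : Subgroup (MulAut Q)) :=
    (unipIn_isPGroup (V := Q) (hS.to_le (inf_le_left.trans hQS))).to_le inf_le_right
  have hstab : F.autGroup Q ≤ stabIn Q (Q ⊓ T) := by
    intro t ht y
    have hm : Mor F Q (extAut t) := (Helper87.mem_autGroup_iff hQS).mp ht
    have hiso := iso_inf_of_stronglyClosed hsc (Helper87.iso_of_mor_extAut hm)
    constructor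
    · intro hy
      have := hiso.map_mem hy
      rwa [Helper87.extAut_apply] at this
    · intro hy
      obtain ⟨w, hw, hwy⟩ := hiso.surj hy
      have h1 : w = (y : Ω) := by
        apply hm.inj hw.1 y.2
        rw [hwy, Helper87.extAut_apply]
      exact h1 ▸ hw
  have hAn : F.autGroup Q ≤
      Subgroup.normalizer ((F.autGroup Q ⊓ unipIn Q (Q ⊓ T) : Subgroup (MulAut Q)) : Set (MulAut Q)) := by
    intro t ht
    have htn := stabIn_le_normalizer_unipIn Q (Q ⊓ T) (hstab ht)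
    rw [Subgroup.mem_normalizer_iff] at htn ⊢
    intro a
    constructor
    · rintro ⟨ha1, ha2⟩
      exact ⟨Subgroup.mul_mem _ (Subgroup.mul_mem _ ht ha1) (Subgroup.inv_mem _ ht),
        (htn a).mp ha2⟩
    · rintro ⟨ha1, ha2⟩
      refine ⟨?_, (htn a).mpr ha2⟩
      have := Subgroup.mul_mem _ (Subgroup.mul_mem _ (Subgroup.inv_mem _ ht) ha1) ht
      simpa [mul_assoc] using this
  have hAle := hsyl.normal_le inf_le_left hAp hAn
  -- `X ≤ N_β`
  have hXext : normalizerIn S Q ⊓ centralizerIn T (Q ⊓ T) ≤ hβi.ext := by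
    intro u hu
    have huS : u ∈ S := hu.1.1
    have huN : u ∈ Subgroup.normalizer (Q : Set Ω) := hu.1.2
    have huT : u ∈ T := hu.2.1
    have hunorm : ∀ y ∈ Q, u * y * u⁻¹ ∈ Q :=
      fun y hy => (Subgroup.mem_normalizer_iff.mp huN y).mp hy
    have hcu : Iso F Q Q (fun y => u * y * u⁻¹) :=
      Helper87.iso_of_card_le (Mor.conj hQS huS) hQS hunorm le_rfl
    have hcuU : (hcu.equiv : MulAut Q) ∈ unipIn Q (Q ⊓ T) := by
      refine ⟨fun y hy => ?_, fun v => ?_⟩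
      · apply Subtype.ext
        rw [hcu.equiv_apply]
        have hcomm : (y : Ω) * u = u * y := Subgroup.mem_centralizer_iff.mp hu.2.2 _ hy
        rw [← hcomm, mul_inv_cancel_right]
      · rw [hcu.equiv_apply]
        refine ⟨Q.mul_mem (Q.inv_mem v.2) (hunorm _ v.2), ?_⟩
        have h1 : (v : Ω)⁻¹ * u * ((v : Ω)⁻¹)⁻¹ ∈ T :=
          sc_conj_mem hsc (S.inv_mem (hQS v.2)) huT
        have h2 := T.mul_mem h1 (T.inv_mem huT)
        have h3 : (v : Ω)⁻¹ * u * ((v : Ω)⁻¹)⁻¹ * u⁻¹ = (v : Ω)⁻¹ * (u * v * u⁻¹) := by group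
        rwa [h3] at h2
    have hb : (hβi.equiv : MulAut Q) ∈ F.autGroup Q := hβi.equiv_mem_autGroup
    have hξ : (hβi.equiv : MulAut Q) * hcu.equiv * (hβi.equiv : MulAut Q)⁻¹ ∈
        F.autGroup Q ⊓ unipIn Q (Q ⊓ T) := by
      refine ⟨Subgroup.mul_mem _ (Subgroup.mul_mem _ hb hcu.equiv_mem_autGroup)
        (Subgroup.inv_mem _ hb), ?_⟩
      have htn := stabIn_le_normalizer_unipIn Q (Q ⊓ T) (hstab hb)
      exact (Subgroup.mem_normalizer_iff.mp htn _).mp hcuU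
    obtain ⟨k', hk'S, hk'⟩ := (mem_autInducedBy_iff S Q _).mp (hAle hξ)
    rw [Helper87.Iso.mem_ext]
    refine ⟨huS, huN, k', hk'S, fun y hy => ?_⟩
    have h1 := hk' (hβi.equiv ⟨y, hy⟩)
    rw [MulAut.mul_apply, MulAut.mul_apply, MulAut.inv_apply_self, hβi.equiv_apply,
      hβi.equiv_apply, hcu.equiv_apply] at h1
    exact h1
  have hNext : Q ⊔ (normalizerIn S Q ⊓ centralizerIn T (Q ⊓ T)) ≤ hβi.ext :=
    sup_le hβi.le_ext hXext
  have hgN : Mor F (Q ⊔ (normalizerIn S Q ⊓ centralizerIn T (Q ⊓ T))) g := hg.restrict hNext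
  have hgQ : Iso F Q Q g := hβi.congr (fun y hy => (hgβ y hy).symm)
  have hmaps : ∀ y ∈ Q ⊔ (normalizerIn S Q ⊓ centralizerIn T (Q ⊓ T)),
      g y ∈ Q ⊔ (normalizerIn S Q ⊓ centralizerIn T (Q ⊓ T)) := by
    apply mor_map_sup hgN
    · intro y hy
      exact (le_sup_left : Q ≤ _) (hgQ.map_mem hy)
    · intro u hu
      apply (le_sup_right : normalizerIn S Q ⊓ centralizerIn T (Q ⊓ T) ≤ _)
      have huN' : u ∈ Q ⊔ (normalizerIn S Q ⊓ centralizerIn T (Q ⊓ T)) :=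
        (le_sup_right : normalizerIn S Q ⊓ centralizerIn T (Q ⊓ T) ≤ _) hu
      refine ⟨⟨hgN.mem huN', Helper87.Mor.map_normalizer hgN le_sup_left hgQ huN' hu.1.2⟩,
        sc_mem hsc hgN huN' hu.2.1, ?_⟩
      exact map_centralizes hgN (inf_le_left.trans le_sup_left)
        (iso_inf_of_stronglyClosed hsc hgQ) huN' hu.2.2
  have hiso : Iso F (Q ⊔ (normalizerIn S Q ⊓ centralizerIn T (Q ⊓ T)))
      (Q ⊔ (normalizerIn S Q ⊓ centralizerIn T (Q ⊓ T))) g :=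
    Helper87.iso_of_card_le hgN hNS hmaps le_rfl
  have hfk : ∀ y ∈ Q, g^[p ^ k] y = y := by
    intro y hy
    rw [iterate_congr_on hgβ (fun y hy => hβi.map_mem hy) (p ^ k) y hy]
    exact hβk y hy
  obtain ⟨j, hj, hjx⟩ := exists_ppgen_pow hiso hfk
  exact ⟨g^[j], hj, fun y hy => (hjx y hy).trans (hgβ y hy)⟩

end Cfsg.Agent.Helper84
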