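import Mathlib
import Cfsg.Prelude.Def_FusionSystem
import Cfsg.Agent.Lib.Helper84.FusY3
import Cfsg.Agent.Lib.Helper84.FusCrit2

/-!
# `chiSys` is saturated
-/

set_option autoImplicit false

namespace Cfsg.Agent.Helper84

open Cfsg Cfsg.FusionSystem
open Cfsg.Agent.Helper87 (Mor Iso extFun extAut)

variable {Ω : Type*} [Group Ω] {S T : Subgroup Ω}

/-- every `p`-power automorphism of a subgroup of `S` lies in a system over `S` containing those
of the good subgroups, when the automorphisms of the centric subgroups which are not good grow -/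
theorem ppgen_claim_gen [Finite S] {F : FusionSystem S} {p : ℕ} [Fact p.Prime]
    (hS : IsPGroup p S) (hF : F.IsSaturated p) (E' : FusionSystem S) (good : Subgroup Ω → Prop)
    (hgood : ∀ (P : Subgroup Ω) (β : Ω → Ω), good P → PPGen F p P β → Mor E' P β)
    (hgrow : ∀ Q : Subgroup Ω, F.IsCentric Q → ¬ good Q → ∀ Q' : Subgroup Ω, F.IsConj Q Q' →
      F.IsFullyNormalized Q' → ∃ N : Subgroup Ω, Q' ≤ N ∧ N ≤ S ∧ Nat.card Q' < Nat.card N ∧
        ∀ β, PPGen F p Q' β → ∃ βh, PPGen F p N βh ∧ ∀ y ∈ Q', βh y = β y) :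
    ∀ n : ℕ, ∀ Q : Subgroup Ω, Q ≤ S → Nat.card S ≤ Nat.card Q + n → ∀ β, PPGen F p Q β →
      Mor E' Q β := by
  intro n
  induction n using Nat.strong_induction_on with
  | _ n ih =>
  intro Q hQS hn β hβ
  by_cases hg : good Q
  · exact hgood Q β hg hβ
  -- move to a fully normalized conjugate
  obtain ⟨Q₀, ψ, hψ, hψQ, hQ₀⟩ := exists_pmor_fn (p := p) hS hF hQS
  have hcard₀ : Nat.card Q = Nat.card Q₀ := hψQ.card_eq
  have hconj₀ : F.IsConj Q Q₀ := Helper87.isConj_iff.2 ⟨ψ, hψQ⟩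
  have hQne : Q ≠ S := by
    by_cases hc : F.IsCentric Q
    · obtain ⟨N, hQ₀N, hNS, hlt, -⟩ := hgrow Q hc hg Q₀ hconj₀ hQ₀
      intro h
      have := Subgroup.card_le_of_le hNS
      rw [h] at hcard₀
      omega
    · rintro rfl
      exact hc (isCentric_top F)
  have hlt : Q < S := lt_of_le_of_ne hQS hQne
  obtain ⟨t, ht, htN, htQ⟩ := exists_mem_normalizer_not_mem hS hlt
  have hcardlt : Nat.card Q < Nat.card S := Helper87.card_lt_of_not_mem hQS le_rfl ht htQ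
  have hgen' := ih (n - 1) (by omega)
  have hbig : ∀ Q₂ : Subgroup Ω, Q₂ ≤ S → Nat.card Q < Nat.card Q₂ → ∀ β, PPGen F p Q₂ β →
      Mor E' Q₂ β := fun Q₂ h2 hlt2 β' hβ' => hgen' Q₂ h2 (by omega) β' hβ'
  have hQM : Q ≤ normalizerIn S Q := Helper87.le_normalizerIn hQS
  have hcM : Nat.card Q < Nat.card (normalizerIn S Q : Subgroup Ω) :=
    Helper87.card_lt_of_not_mem hQM inf_le_left ⟨ht, htN⟩ htQ
  have hψM : Mor E' (normalizerIn S Q) ψ :=
    p_of_gen E' (n - 1) hgen' hψ _ le_rfl (by omega)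
  have hψE' : Mor E' Q ψ := hψM.restrict hQM
  have hisoE' : Iso E' Q Q₀ ψ := ⟨hψE', hψQ.2⟩
  obtain ⟨κ, hκ, hκl, hκr⟩ := hψQ.symm
  have hβ₀ : PPGen F p Q₀ (fun y => ψ (β (κ y))) := ppgen_transport hψQ hκ hκl hκr hβ
  have h₀ : Mor E' Q₀ (fun y => ψ (β (κ y))) := by
    by_cases hc : F.IsCentric Q
    · obtain ⟨N, hQ₀N, hNS, hltN, hext⟩ := hgrow Q hc hg Q₀ hconj₀ hQ₀
      obtain ⟨βh, hβh, eβh⟩ := hext _ hβ₀
      exact ((hbig N hNS (by omega) βh hβh).restrict hQ₀N).congr eβh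
    · have hnc₀ : ¬ F.IsCentric Q₀ := by
        intro h
        apply hc
        exact Helper87.isCentric_of_conj h (Helper87.isConj_symm hconj₀)
      exact ppgen_step_fn hS hF E' hQ₀ hnc₀ (fun Q₂ h2 hlt2 => hbig Q₂ h2 (by omega)) hβ₀
  obtain ⟨g, hg', hgl, -⟩ := hisoE'.symm
  have hcomp := (hψE'.comp h₀ (fun x hx => hψQ.map_mem hx)).comp hg'.1
    (fun x hx => hβ₀.1.map_mem (hψQ.map_mem hx))
  refine hcomp.congr (fun x hx => ?_)
  show g (ψ (β (κ (ψ x)))) = β x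
  rw [hκl x hx, hgl _ (hβ.1.map_mem hx)]

/-! ### Auxiliary facts on the unipotent automorphisms of `Q` relative to `Q ∩ T` -/

theorem autGroup_le_stabIn_inf {F : FusionSystem S} (hsc : F.StronglyClosed T) {Q : Subgroup Ω}
    (hQS : Q ≤ S) : F.autGroup Q ≤ stabIn Q (Q ⊓ T) := by
  intro t ht y
  have hm : Mor F Q (extAut t) := (Helper87.mem_autGroup_iff hQS).mp ht
  have hiso := iso_inf_of_stronglyClosed hsc (Helper87.iso_of_mor_extAut hm)
  constructor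
  · intro hy
    have := hiso.map_mem hy
    rwa [Helper87.extAut_apply] at this
  · intro hy
    obtain ⟨w, hw, hwy⟩ := hiso.surj hy
    have h1 : w = (y : Ω) := by
      apply hm.inj hw.1 y.2
      rw [hwy, Helper87.extAut_apply]
    exact h1 ▸ hw

theorem conjEquiv_mem_unipIn [Finite S] {F : FusionSystem S} (hsc : F.StronglyClosed T)
    {Q : Subgroup Ω} (hQS : Q ≤ S) {u : Ω} (huN : u ∈ normalizerIn S Q)
    (huC : u ∈ centralizerIn T (Q ⊓ T)) (hcu : Iso F Q Q (fun y => u * y * u⁻¹)) :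
    (hcu.equiv : MulAut Q) ∈ unipIn Q (Q ⊓ T) := by
  have hunorm : ∀ y ∈ Q, u * y * u⁻¹ ∈ Q :=
    fun y hy => (Subgroup.mem_normalizer_iff.mp huN.2 y).mp hy
  refine ⟨fun y hy => ?_, fun v => ?_⟩
  · apply Subtype.ext
    rw [hcu.equiv_apply]
    have hcomm : (y : Ω) * u = u * y := Subgroup.mem_centralizer_iff.mp huC.2 _ hy
    rw [← hcomm, mul_inv_cancel_right]
  · rw [hcu.equiv_apply]
    refine ⟨Q.mul_mem (Q.inv_mem v.2) (hunorm _ v.2), ?_⟩
    have h1 : (v : Ω)⁻¹ * u * ((v : Ω)⁻¹)⁻¹ ∈ T :=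
      sc_conj_mem hsc (S.inv_mem (hQS v.2)) huC.1
    have h2 := T.mul_mem h1 (T.inv_mem huC.1)
    have h3 : (v : Ω)⁻¹ * u * ((v : Ω)⁻¹)⁻¹ * u⁻¹ = (v : Ω)⁻¹ * (u * v * u⁻¹) := by group
    rwa [h3] at h2

/-! ### The saturation criterion for `chiSys` -/

theorem chiSys_contains [Finite S] {F : FusionSystem S} {p : ℕ} [Fact p.Prime]
    (hS : IsPGroup p S) (hTS : T ≤ S) (K : Subgroup (MulAut T)) {P : Subgroup Ω} (hP : P ≤ S) :
    (opp p (F.autGroup P)).map (F.autGroup P).subtype ≤ (chiSys F p hS hTS K).autGroup P := by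
  rintro _ ⟨b, hb, rfl⟩
  rw [Helper87.mem_autGroup_iff hP]
  exact pmor_chiSys (pmor_of_mem_opp hP hb)

/-- `chiSys` is generated by its maps between members of the family -/
theorem chiSys_gen [Finite S] {p : ℕ} [hp : Fact p.Prime] (hS : IsPGroup p S)
    {E : FusionSystem T} {F : FusionSystem S} (hF : F.IsSaturated p) (hinv : E.IsInvariantIn F)
    {K : Subgroup (MulAut T)} (E' : FusionSystem S)
    (hE' : ∀ P : Subgroup Ω, HFam F T P → (chiSys F p hS hinv.2.1.1 K).Hom P ⊆ E'.Hom P) :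
    chiSys F p hS hinv.2.1.1 K ≤ E' := by
  have hsc := hinv.2.1
  have hTS : T ≤ S := hsc.1
  have hgood : ∀ (P : Subgroup Ω) (β : Ω → Ω), HFam F T P → PPGen F p P β → Mor E' P β := by
    intro P β hP hβ
    obtain ⟨φ, hφ, e⟩ := pmor_chiSys (hS := hS) (hTS := hTS) (K := K) (PMor.base hβ)
    exact ⟨φ, hE' P hP hφ, e⟩
  have hgrow : ∀ Q : Subgroup Ω, F.IsCentric Q → ¬ HFam F T Q → ∀ Q' : Subgroup Ω,
      F.IsConj Q Q' → F.IsFullyNormalized Q' → ∃ N : Subgroup Ω, Q' ≤ N ∧ N ≤ S ∧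
        Nat.card Q' < Nat.card N ∧
        ∀ β, PPGen F p Q' β → ∃ βh, PPGen F p N βh ∧ ∀ y ∈ Q', βh y = β y := by
    intro Q hc hnh Q' hQQ' hfn
    have hnt : ¬ TCen F T (Q ⊓ T) := fun h => hnh ⟨hc, h⟩
    obtain ⟨x, hxN, hxC, hxQ⟩ := exists_cen_of_not_tcen hS hF hsc hc.1 hnt hQQ' hfn
    exact exists_ppgen_ext hS hF hsc hfn hxN hxC hxQ
  have hgen := ppgen_claim_gen hS hF E' (HFam F T) hgood hgrow (Nat.card S)
  intro P φ hφ
  have h1 : Mor (chiSys F p hS hTS K) P (extFun φ) := Helper87.mor_of_mem hφ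
  obtain ⟨α, hα, f₀, hf₀, e⟩ := mor_chiSys_iff.mp h1
  have h2 : Mor E' P f₀ := p_of_gen E' (Nat.card S) hgen hf₀ P le_rfl (Nat.le_add_left _ _)
  have h3 : Mor E' S (extAut α) := by
    obtain ⟨φα, hφα, eα⟩ := aut_chiSys (hS := hS) hα (le_refl S)
    exact ⟨φα, hE' S (hfam_top hsc) hφα, eα⟩
  have h4 := h2.comp h3 (fun x hx => hf₀.mor.mem hx)
  rw [Helper87.mem_hom_iff_mor]
  exact h4.congr (fun x hx => (e x hx).symm)

/-- members of the family have fully automized receptive conjugates in `chiSys` -/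
theorem chiSys_sat_fam [Finite S] {p : ℕ} [hp : Fact p.Prime] (hS : IsPGroup p S)
    {E : FusionSystem T} {F : FusionSystem S} (hE : E.IsSaturated p) (hF : F.IsSaturated p)
    (hinv : E.IsInvariantIn F) {K : Subgroup (MulAut T)} (hK : KData E F p K)
    {P : Subgroup Ω} (hP : HFam F T P) :
    ∃ Q, (chiSys F p hS hinv.2.1.1 K).IsConj P Q ∧
      (chiSys F p hS hinv.2.1.1 K).IsFullyAutomized p Q ∧
      (chiSys F p hS hinv.2.1.1 K).IsReceptive Q := by
  have hsc := hinv.2.1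
  have hTS : T ≤ S := hsc.1
  have hsub := chiSys_isSubsystemOf F p hS hTS K
  have hPS : P ≤ S := hP.1.1
  obtain ⟨Q, ψ, hψ, hψQ, hQfn⟩ := exists_pmor_fn (p := p) hS hF hPS
  have hQS : Q ≤ S := hQfn.1
  have hψ' : Mor (chiSys F p hS hTS K) P ψ :=
    pmor_chiSys (hψ.restr (Helper87.le_normalizerIn hPS))
  have hQ : HFam F T Q := hP.of_conj hsc (Helper87.isConj_iff.2 ⟨ψ, hψQ⟩)
  refine ⟨Q, Helper87.isConj_iff.2 ⟨ψ, ⟨hψ', hψQ.2⟩⟩, ?_, ?_⟩
  · rw [fullyAutomized_iff]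
    have hFA := ((fullyAutomized_iff F Q).mp
      (Helper87.fullyAutomized_of_fullyNormalized hS hF hQfn)).2
    exact ⟨hQS, hFA.of_le (autInducedBy_le_autGroup _ hQS)
      (Helper87.autGroup_le_of_subsystem hsub hQS hQS)⟩
  · rw [Helper87.isReceptive_iff]
    refine ⟨hQS, fun P' f h => ?_⟩
    have hF' : Iso F P' Q f := ⟨Helper87.Mor.of_subsystem hsub h.1, h.2⟩
    obtain ⟨g, hg, hgf⟩ := (Helper87.isReceptive_iff.1
      (Helper87.receptive_of_fullyNormalized hS hF hQfn)).2 P' f hF'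
    have hext : h.ext = hF'.ext := by
      ext y
      rw [Helper87.Iso.mem_ext, Helper87.Iso.mem_ext]
    rw [hext]
    have hP' : HFam F T P' := hQ.of_conj hsc (Helper87.isConj_symm (Helper87.isConj_iff.2 ⟨f, hF'⟩))
    have hextS : hF'.ext ≤ S := hg.le
    have hextH : HFam F T hF'.ext := hP'.of_le hF'.le_ext hextS
    refine ⟨g, mor_chiSys_of_kdec hS hE hF hinv hK hextH.2 hg ?_, hgf⟩
    obtain ⟨γ, hγ, g₀, hg₀, eg⟩ := Helper87.frattini_fun hinv
      (inf_le_right : hF'.ext ⊓ T ≤ T) (hg.restrict inf_le_left)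
    have h1 : KDec E K (P' ⊓ T) g :=
      (kdec_of_mor_chiSys hS hF hinv hK h.1).congr (fun x hx => (hgf x hx.1).symm)
    have hle : P' ⊓ T ≤ hF'.ext ⊓ T := inf_le_inf_right T hF'.le_ext
    have hγK : γ ∈ K := kdec_unique hS hE hF hinv hK hP'.2 h1 hγ (hg₀.restrict hle)
      (fun x hx => eg x (hle hx))
    exact ⟨γ, hγK, g₀, hg₀, eg⟩

/-- centric subgroups outside the family have conjugates `Q` with
`Out_S(Q) ∩ O_p(Out(Q)) ≠ 1` -/
theorem chiSys_star [Finite S] {p : ℕ} [hp : Fact p.Prime] (hS : IsPGroup p S)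
    {F : FusionSystem S} (hF : F.IsSaturated p) (hsc : F.StronglyClosed T)
    {K : Subgroup (MulAut T)} {P : Subgroup Ω}
    (hcen : (chiSys F p hS hsc.1 K).IsCentric P) (hnot : ¬ HFam F T P) :
    ∃ Q, (chiSys F p hS hsc.1 K).IsConj P Q ∧
      ¬ (autInducedBy S Q ⊓ (Cfsg.pCore p ((chiSys F p hS hsc.1 K).autGroup Q)).map
        ((chiSys F p hS hsc.1 K).autGroup Q).subtype ≤ Inn Q) := by
  have hTS : T ≤ S := hsc.1
  have hsub := chiSys_isSubsystemOf F p hS hTS K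
  have hcenF : F.IsCentric P :=
    (centric_iff (chiSys F p hS hTS K) F hS hF hsub
      (fun P hP => chiSys_contains hS hTS K hP.1) P).mp hcen
  have hPS : P ≤ S := hcenF.1
  have hnt : ¬ TCen F T (P ⊓ T) := fun h => hnot ⟨hcenF, h⟩
  obtain ⟨Q, ψ, hψ, hψQ, hQfn⟩ := exists_pmor_fn (p := p) hS hF hPS
  have hQS : Q ≤ S := hQfn.1
  have hfinQ : Finite Q := Helper87.finite_of_le hQS
  have hfinV : Finite (Q ⊓ T : Subgroup Ω) := Helper87.finite_of_le (inf_le_left.trans hQS)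
  have hψ' : Mor (chiSys F p hS hTS K) P ψ :=
    pmor_chiSys (hψ.restr (Helper87.le_normalizerIn hPS))
  have hconjF : F.IsConj P Q := Helper87.isConj_iff.2 ⟨ψ, hψQ⟩
  have hcenQ : F.IsCentric Q := Helper87.isCentric_of_conj hcenF hconjF
  refine ⟨Q, Helper87.isConj_iff.2 ⟨ψ, ⟨hψ', hψQ.2⟩⟩, ?_⟩
  obtain ⟨x, hxN, hxC, hxQ⟩ := exists_cen_of_not_tcen hS hF hsc hPS hnt hconjF hQfn
  have hxnorm : ∀ y ∈ Q, x * y * x⁻¹ ∈ Q :=
    fun y hy => (Subgroup.mem_normalizer_iff.mp hxN.2 y).mp hy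
  have hcx : Iso F Q Q (fun y => x * y * x⁻¹) :=
    Helper87.iso_of_card_le (Mor.conj hQS hxN.1) hQS hxnorm le_rfl
  have hcxS : (hcx.equiv : MulAut Q) ∈ autInducedBy S Q :=
    (mem_autInducedBy_iff S Q _).mpr ⟨x, hxN.1, fun y => hcx.equiv_apply y⟩
  have hcxU := conjEquiv_mem_unipIn hsc hQS hxN hxC hcx
  -- the normal `p`-subgroup of unipotent automorphisms in `chiSys`
  have hAp : IsPGroup p ((chiSys F p hS hTS K).autGroup Q ⊓ unipIn Q (Q ⊓ T) :
      Subgroup (MulAut Q)) :=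
    (unipIn_isPGroup (V := Q) (hS.to_le (inf_le_left.trans hQS))).to_le inf_le_right
  have hle := le_pcoreN (chiSys F p hS hTS K) p (Q := Q)
    (N := (chiSys F p hS hTS K).autGroup Q ⊓ unipIn Q (Q ⊓ T)) inf_le_left hAp (by
      intro γ hγ β hβ
      have hγF : γ ∈ F.autGroup Q := Helper87.autGroup_le_of_subsystem hsub hQS hQS hγ
      have htn := stabIn_le_normalizer_unipIn Q (Q ⊓ T) (autGroup_le_stabIn_inf hsc hQS hγF)
      exact ⟨Subgroup.mul_mem _ (Subgroup.mul_mem _ hγ hβ.1) (Subgroup.inv_mem _ hγ),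
        (Subgroup.mem_normalizer_iff.mp htn _).mp hβ.2⟩)
  intro hcon
  have hmem : (hcx.equiv : MulAut Q) ∈ Inn Q :=
    hcon ⟨hcxS, hle ⟨autInducedBy_le_autGroup _ hQS hcxS, hcxU⟩⟩
  obtain ⟨q, hq⟩ := hmem
  apply hxQ
  have hc : (q : Ω)⁻¹ * x ∈ centralizerIn S Q := by
    refine Subgroup.mem_inf.mpr ⟨S.mul_mem (S.inv_mem (hQS q.2)) hxN.1, ?_⟩
    rw [Subgroup.mem_centralizer_iff]
    intro y hy
    have h1 := congrArg (fun a : MulAut Q => ((a ⟨y, hy⟩ : Q) : Ω)) hq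
    simp only [MulAut.conj_apply, hcx.equiv_apply] at h1
    have h2 : (q : Ω) * y * (q : Ω)⁻¹ = x * y * x⁻¹ := by simpa using h1
    exact comm_of_conj_eq h2
  have hcQ := hcenQ.2 Q (Helper87.isConj_refl hQS) hc
  have := Q.mul_mem q.2 hcQ
  rwa [mul_inv_cancel_left] at this

/-- **`chiSys` is saturated** -/
theorem chiSys_saturated [Finite S] {p : ℕ} [hp : Fact p.Prime] (hS : IsPGroup p S)
    {E : FusionSystem T} {F : FusionSystem S} (hE : E.IsSaturated p) (hF : F.IsSaturated p)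
    (hinv : E.IsInvariantIn F) {K : Subgroup (MulAut T)} (hK : KData E F p K) :
    (chiSys F p hS hinv.2.1.1 K).IsSaturated p := by
  have hsc := hinv.2.1
  have hTS : T ≤ S := hsc.1
  have hsub := chiSys_isSubsystemOf F p hS hTS K
  apply saturated_of_criterion _ p hS {P | HFam F T P}
  · intro P hP Q hPQ
    exact HFam.of_conj hsc hP (isConj_of_subsystem hsub hPQ)
  · intro P hP
    exact chiSys_sat_fam hS hE hF hinv hK hP
  · intro E' hE'
    exact chiSys_gen hS hF hinv E' hE'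
  · intro P hcen hnot
    exact chiSys_star hS hF hsc hcen hnot

end Cfsg.Agent.Helper84
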