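import Mathlib
import Cfsg.Prelude.Def_FusionSystem
import Cfsg.Agent.Lib.Helper84.FusY4
import Cfsg.Agent.Lib.Helper84.FusAlp3

/-!
# `chiSys` contains `E`, is normal in `F`, and is proper when `K` is
-/

set_option autoImplicit false

namespace Cfsg.Agent.Helper84

open Cfsg Cfsg.FusionSystem
open Cfsg.Agent.Helper87 (Mor Iso extFun extAut)

variable {Ω : Type*} [Group Ω] {S T : Subgroup Ω}

/-! ### Restriction of a system to a strongly closed subgroup -/

/-- the full subsystem on the subgroups of a strongly closed subgroup -/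
def restrictSys (F₀ : FusionSystem S) (hsc : F₀.StronglyClosed T) : FusionSystem T where
  Hom P := {φ | φ ∈ F₀.Hom P ∧ P ≤ T}
  le_of_mem := fun {P φ} h => ⟨h.2, fun x => hsc.2 P h.2 φ h.1 x⟩
  injective_of_mem := fun h => F₀.injective_of_mem h.1
  conj_mem := fun {P g} hP hg => ⟨F₀.conj_mem (hP.trans hsc.1) (hsc.1 hg), hP⟩
  comp_mem := fun {P Q φ ψ} hφ hψ h => ⟨F₀.comp_mem hφ.1 hψ.1 h, hφ.2⟩
  inv_mem := by
    intro P φ hφ
    obtain ⟨ψ, hψ, e⟩ := F₀.inv_mem hφ.1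
    refine ⟨ψ, ⟨hψ, ?_⟩, e⟩
    rintro _ ⟨x, rfl⟩
    exact hsc.2 P hφ.2 φ hφ.1 x

theorem mor_restrictSys_iff {F₀ : FusionSystem S} {hsc : F₀.StronglyClosed T} {P : Subgroup Ω}
    {f : Ω → Ω} : Mor (restrictSys F₀ hsc) P f ↔ Mor F₀ P f ∧ P ≤ T := by
  constructor
  · rintro ⟨φ, hφ, e⟩
    exact ⟨⟨φ, hφ.1, e⟩, hφ.2⟩
  · rintro ⟨⟨φ, hφ, e⟩, hP⟩
    exact ⟨φ, ⟨hφ, hP⟩, e⟩

theorem stronglyClosed_of_subsystem {F₀ F : FusionSystem S} (hsub : F₀.IsSubsystemOf F)
    (hsc : F.StronglyClosed T) : F₀.StronglyClosed T :=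
  ⟨hsc.1, fun R hR φ hφ x => hsc.2 R hR φ (hsub R hφ) x⟩

/-- **`E` is a subsystem of `chiSys`** -/
theorem sub_chiSys [Finite S] {p : ℕ} [hp : Fact p.Prime] (hS : IsPGroup p S)
    {E : FusionSystem T} {F : FusionSystem S} (hE : E.IsSaturated p) (hF : F.IsSaturated p)
    (hinv : E.IsInvariantIn F) {K : Subgroup (MulAut T)} (hK : KData E F p K) :
    E.IsSubsystemOf (chiSys F p hS hinv.2.1.1 K) := by
  have hsc := hinv.2.1
  have hTS : T ≤ S := hsc.1
  have hEF := hinv.1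
  have hfinT : Finite T := Helper87.finite_of_le hTS
  have hT : IsPGroup p T := hS.to_le hTS
  have hsub := chiSys_isSubsystemOf F p hS hTS K
  have hsc₀ : (chiSys F p hS hTS K).StronglyClosed T := stronglyClosed_of_subsystem hsub hsc
  -- maps of `E` on centric subgroups
  have hcen : ∀ (P : Subgroup Ω) (f : Ω → Ω), E.IsCentric P → Mor E P f →
      Mor (chiSys F p hS hTS K) P f := by
    intro P f hP hf
    have hPT : P ≤ T := hP.1
    have htc : TCen F T (P ⊓ T) := by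
      rw [inf_eq_left.mpr hPT]
      exact tcen_of_centric' hinv hP
    exact mor_chiSys_of_kdec hS hE hF hinv hK htc (Helper87.Mor.of_subsystem hEF hf)
      ((KDec.of_mor hf).restrict inf_le_left)
  have halp := alperin E hT hE (restrictSys (chiSys F p hS hTS K) hsc₀) (by
    intro P hP α hα
    have hPc : E.IsCentric P := by
      rcases hP with rfl | hP
      · exact isCentric_top E
      · exact hP.1
    have hPT : P ≤ T := hPc.1
    rw [Helper87.mem_autGroup_iff hPT] at hα ⊢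
    exact mor_restrictSys_iff.mpr ⟨hcen P _ hPc hα, hPT⟩)
  intro P φ hφ
  exact (halp P hφ).1

/-! ### `chiSys` is normal in `F` -/

theorem HK_conj_mem [Finite S] {p : ℕ} {E : FusionSystem T} {F : FusionSystem S}
    (hsc : F.StronglyClosed T) {K : Subgroup (MulAut T)} (hK : KData E F p K) {a h : MulAut S}
    (ha : a ∈ F.autGroup S) (hh : h ∈ HK F hsc.1 K) : a⁻¹ * h * a ∈ HK F hsc.1 K := by
  have hTS : T ≤ S := hsc.1
  obtain ⟨hhF, κ, hκ, eh⟩ := hh
  obtain ⟨γ, hγ, eγ⟩ := exists_restrict_top hsc ha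
  refine ⟨Subgroup.mul_mem _ (Subgroup.mul_mem _ (Subgroup.inv_mem _ ha) hhF) ha,
    γ⁻¹ * κ * γ, ?_, fun t ht => ?_⟩
  · have := hK.conj γ⁻¹ (Subgroup.inv_mem _ hγ) κ hκ
    rwa [inv_inv] at this
  · have h1 : extAut γ t ∈ T := Helper87.extAut_mem_self _ ht
    have h2 : extAut κ (extAut γ t) ∈ T := Helper87.extAut_mem_self _ h1
    rw [Helper87.extAut_mul (a⁻¹ * h) a (hTS ht), Helper87.extAut_mul a⁻¹ h
      (Helper87.extAut_mem_self a (hTS ht)), Helper87.extAut_mul (γ⁻¹ * κ) γ ht,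
      Helper87.extAut_mul γ⁻¹ κ h1, ← eγ t ht, eh _ h1]
    -- `a⁻¹` and `γ⁻¹` agree on `T`
    have h3 : extAut a (extAut γ⁻¹ (extAut κ (extAut γ t))) = extAut κ (extAut γ t) := by
      rw [← eγ _ (Helper87.extAut_mem_self _ h2), Helper87.extAut_inv_right γ h2]
    conv_lhs => rw [← h3]
    rw [Helper87.extAut_inv_left a (hTS (Helper87.extAut_mem_self _ h2))]

/-- the automorphisms of `S` in `F` normalize `chiSys` -/
theorem normalizesSys_chiSys [Finite S] {p : ℕ} [hp : Fact p.Prime] (hS : IsPGroup p S)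
    {E : FusionSystem T} {F : FusionSystem S} (hsc : F.StronglyClosed T)
    {K : Subgroup (MulAut T)} (hK : KData E F p K) {a : MulAut S} (ha : a ∈ F.autGroup S) :
    NormalizesSys (chiSys F p hS hsc.1 K) a := by
  intro Q f hf P₁ hP₁ hmap
  obtain ⟨h, hh, f₀, hf₀, e⟩ := mor_chiSys_iff.mp hf
  have hQS : Q ≤ S := hf₀.mor.le
  refine mor_chiSys_iff.mpr ⟨a⁻¹ * h * a, HK_conj_mem hsc hK ha hh,
    fun x => extAut a⁻¹ (f₀ (extAut a x)), hf₀.conjAut ha P₁ hP₁ hmap, fun x hx => ?_⟩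
  have h1 : f₀ (extAut a x) ∈ S := hf₀.mor.mem (hmap x hx)
  have h2 : extAut a⁻¹ (f₀ (extAut a x)) ∈ S := Helper87.extAut_mem_self _ h1
  show extAut a⁻¹ (f (extAut a x)) = _
  rw [e _ (hmap x hx), Helper87.extAut_mul (a⁻¹ * h) a h2, Helper87.extAut_inv_right a h1,
    Helper87.extAut_mul a⁻¹ h h1]

/-- strong invariance of `chiSys` in `F` -/
theorem siFun_chiSys [Finite S] {p : ℕ} [hp : Fact p.Prime] (hS : IsPGroup p S)
    {E : FusionSystem T} {F : FusionSystem S} (hF : F.IsSaturated p) (hsc : F.StronglyClosed T)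
    {K : Subgroup (MulAut T)} (hK : KData E F p K) :
    Cfsg.Agent.S5119.SIfun (chiSys F p hS hsc.1 K) F := by
  intro P Q R f g g' hPQ hQS hf hfQ hg hR hg'
  obtain ⟨a, ha, ω, hω, eg⟩ := exists_pmor_factor hS hF hg
  have hωc : Mor (chiSys F p hS hsc.1 K) Q ω := pmor_chiSys hω
  have hωP : Mor (chiSys F p hS hsc.1 K) P ω := hωc.restrict hPQ
  have hisoω : Iso (chiSys F p hS hsc.1 K) P hωP.image ω := Iso.of_mor hωP
  obtain ⟨ω', hω', el, -⟩ := hisoω.symm
  have hh₀ : Mor (chiSys F p hS hsc.1 K) hωP.image (fun z => ω (f (ω' z))) :=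
    (hω'.1.comp hf (fun z hz => hω'.map_mem hz)).comp hωc (fun z hz => hfQ _ (hω'.map_mem hz))
  have hai : a⁻¹ ∈ F.autGroup S := Subgroup.inv_mem _ ha
  have hRS : R ≤ S := by
    intro y hy
    obtain ⟨x, hx, rfl⟩ := (hR y).1 hy
    exact hg.mem (hPQ hx)
  have hmap : ∀ y ∈ R, extAut a⁻¹ y ∈ hωP.image := by
    intro y hy
    obtain ⟨x, hx, rfl⟩ := (hR y).1 hy
    rw [eg x (hPQ hx), Helper87.extAut_inv_left a (hω.mor.mem (hPQ hx))]
    exact ⟨x, hx, rfl⟩
  have h1 := normalizesSys_chiSys hS hsc hK hai _ _ hh₀ R hRS hmap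
  rw [inv_inv] at h1
  refine h1.congr (fun y hy => ?_)
  obtain ⟨x, hx, rfl⟩ := (hR y).1 hy
  show extAut a (ω (f (ω' (extAut a⁻¹ (g x))))) = g (f (g' (g x)))
  rw [hg' x hx, eg x (hPQ hx), Helper87.extAut_inv_left a (hω.mor.mem (hPQ hx)), el x hx,
    eg _ (hfQ x hx)]

/-- **`chiSys` is normal in `F`** -/
theorem chiSys_isNormalIn [Finite S] {p : ℕ} [hp : Fact p.Prime] (hS : IsPGroup p S)
    {E : FusionSystem T} {F : FusionSystem S} (hE : E.IsSaturated p) (hF : F.IsSaturated p)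
    (hinv : E.IsInvariantIn F) {K : Subgroup (MulAut T)} (hK : KData E F p K) :
    (chiSys F p hS hinv.2.1.1 K).IsNormalIn F p := by
  have hsc := hinv.2.1
  have hTS : T ≤ S := hsc.1
  have hsub := chiSys_isSubsystemOf F p hS hTS K
  have hscS : F.StronglyClosed S := ⟨le_rfl, fun R _ φ hφ x => (F.le_of_mem hφ).2 x⟩
  refine ⟨⟨chiSys_saturated hS hE hF hinv hK, hF,
    Cfsg.Agent.S5119.invariant_of_siFun hS hF hsub hscS (siFun_chiSys hS hF hsc hK)⟩, ?_⟩
  intro α hα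
  have hαF : α ∈ F.autGroup S := Helper87.autGroup_le_of_subsystem hsub le_rfl le_rfl hα
  have hm : Mor F S (extAut α) := (Helper87.mem_autGroup_iff le_rfl).mp hαF
  have hWS : S ⊔ centralizerIn S S ≤ S := sup_le le_rfl inf_le_left
  have hiso : Iso F (S ⊔ centralizerIn S S) (S ⊔ centralizerIn S S) (extAut α) :=
    Helper87.iso_of_card_le (hm.restrict hWS) hWS
      (fun x hx => (le_sup_left : S ≤ S ⊔ centralizerIn S S)
        (Helper87.extAut_mem_self α (hWS hx))) le_rfl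
  refine ⟨hiso.equiv, hiso.equiv_mem_autGroup, fun x => ?_, fun c hc => ?_⟩
  · rw [hiso.equiv_apply]
    exact Helper87.extAut_apply α x
  · rw [hiso.equiv_apply]
    have hcS : (c : Ω) ∈ S := hc.1
    have hαc : extAut α c ∈ S := Helper87.extAut_mem_self α hcS
    refine Subgroup.mem_inf.mpr ⟨S.mul_mem (S.inv_mem hcS) hαc, ?_⟩
    rw [Subgroup.mem_centralizer_iff]
    intro s hs
    obtain ⟨s', hs', rfl⟩ := Helper87.extAut_surj α hs
    have hcomm : s' * c = c * s' := Subgroup.mem_centralizer_iff.mp hc.2 s' hs'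
    have hcomm' : extAut α s' * c = c * extAut α s' :=
      Subgroup.mem_centralizer_iff.mp hc.2 _ hs
    have h1 : extAut α s' * extAut α c = extAut α c * extAut α s' := by
      rw [← hm.map_mul hs' hcS, ← hm.map_mul hcS hs', hcomm]
    calc extAut α s' * ((c : Ω)⁻¹ * extAut α c)
        = (c : Ω)⁻¹ * (c * extAut α s') * (c : Ω)⁻¹ * extAut α c := by group
      _ = (c : Ω)⁻¹ * (extAut α s' * c) * (c : Ω)⁻¹ * extAut α c := by rw [hcomm']
      _ = (c : Ω)⁻¹ * (extAut α s' * extAut α c) := by group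
      _ = (c : Ω)⁻¹ * (extAut α c * extAut α s') := by rw [h1]
      _ = (c : Ω)⁻¹ * extAut α c * extAut α s' := by group

/-! ### Properness -/

theorem map_conj_eq_of_normal {G : Type*} [Group G] {A K : Subgroup G}
    (hconj : ∀ γ ∈ A, ∀ κ ∈ K, γ * κ * γ⁻¹ ∈ K) {γ : G} (hγ : γ ∈ A) :
    K.map (MulAut.conj γ).toMonoidHom = K := by
  ext x
  constructor
  · rintro ⟨κ, hκ, rfl⟩
    exact hconj γ hγ κ hκ
  · intro hx
    refine ⟨γ⁻¹ * x * γ, ?_, ?_⟩
    · have := hconj γ⁻¹ (A.inv_mem hγ) x hx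
      rwa [inv_inv] at this
    · simp [MulAut.conj_apply, mul_assoc]

/-- **Frattini**: if `K` is a proper subgroup of `Aut_F(T)`, some automorphism of `S` in `F` does
not restrict to an element of `K` -/
theorem exists_aut_not_mem_HK [Finite S] {p : ℕ} [hp : Fact p.Prime] (hS : IsPGroup p S)
    {E : FusionSystem T} {F : FusionSystem S} (hF : F.IsSaturated p) (hsc : F.StronglyClosed T)
    {K : Subgroup (MulAut T)} (hK : KData E F p K) {γ₀ : MulAut T} (hγ₀ : γ₀ ∈ F.autGroup T)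
    (hγ₀K : γ₀ ∉ K) : ∃ α ∈ F.autGroup S, α ∉ HK F hsc.1 K := by
  have hTS : T ≤ S := hsc.1
  have hfinT : Finite T := Helper87.finite_of_le hTS
  have hfn : F.IsFullyNormalized T := fullyNormalized_of_stronglyClosed hsc
  have hsylA : IsSylIn p (autInducedBy S T) (F.autGroup T) :=
    ((fullyAutomized_iff F T).mp (Helper87.fullyAutomized_of_fullyNormalized hS hF hfn)).2
  have hP₀K : autInducedBy S T ≤ K := by
    intro τ hτ
    obtain ⟨k, hk⟩ := hsylA.2.1 ⟨τ, hτ⟩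
    apply hK.ppow τ (hsylA.1 hτ) k
    have := congrArg Subtype.val hk
    simpa using this
  have hsylK : IsSylIn p (autInducedBy S T) K := hsylA.of_le hP₀K hK.le
  have h' : IsSylIn p ((autInducedBy S T).map (MulAut.conj γ₀).toMonoidHom) K := by
    have := hsylK.map_conj γ₀
    rwa [map_conj_eq_of_normal hK.conj hγ₀] at this
  obtain ⟨k, hk, hkeq⟩ := hsylK.exists_conj h'
  have hγ : k⁻¹ * γ₀ ∈ F.autGroup T := Subgroup.mul_mem _ (Subgroup.inv_mem _ (hK.le hk)) hγ₀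
  have hγK : k⁻¹ * γ₀ ∉ K := by
    intro h
    apply hγ₀K
    have := K.mul_mem hk h
    rwa [mul_inv_cancel_left] at this
  have hnorm : ∀ τ ∈ autInducedBy S T, (k⁻¹ * γ₀) * τ * (k⁻¹ * γ₀)⁻¹ ∈ autInducedBy S T := by
    intro τ hτ
    have h1 : γ₀ * τ * γ₀⁻¹ ∈ (autInducedBy S T).map (MulAut.conj γ₀).toMonoidHom :=
      ⟨τ, hτ, by simp [MulAut.conj_apply]⟩
    rw [hkeq] at h1
    obtain ⟨τ', hτ', e⟩ := h1
    have e' : k * τ' * k⁻¹ = γ₀ * τ * γ₀⁻¹ := by simpa [MulAut.conj_apply] using e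
    have : (k⁻¹ * γ₀) * τ * (k⁻¹ * γ₀)⁻¹ = τ' := by
      calc (k⁻¹ * γ₀) * τ * (k⁻¹ * γ₀)⁻¹ = k⁻¹ * (γ₀ * τ * γ₀⁻¹) * k := by group
        _ = k⁻¹ * (k * τ' * k⁻¹) * k := by rw [e']
        _ = τ' := by group
    rw [this]
    exact hτ'
  obtain ⟨γ, hγdef⟩ : ∃ γ, γ = k⁻¹ * γ₀ := ⟨_, rfl⟩
  rw [← hγdef] at hγ hγK hnorm
  have hm : Mor F T (extAut γ) := (Helper87.mem_autGroup_iff hTS).mp hγ
  have hiso : Iso F T T (extAut γ) := Helper87.iso_of_mor_extAut hm
  have hrec := Helper87.receptive_of_fullyNormalized hS hF hfn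
  obtain ⟨g, hg, hgγ⟩ := (Helper87.isReceptive_iff.1 hrec).2 T _ hiso
  have hext : S ≤ hiso.ext := by
    intro s hs
    have hsn : s ∈ Subgroup.normalizer (T : Set Ω) := stronglyClosed_normal F hsc hs
    have hcs : Iso F T T (fun x => s * x * s⁻¹) :=
      Helper87.iso_of_card_le (Mor.conj hTS hs) hTS (fun x hx => sc_conj_mem hsc hs hx) le_rfl
    have hσ : (hcs.equiv : MulAut T) ∈ autInducedBy S T :=
      (mem_autInducedBy_iff S T _).mpr ⟨s, hs, fun x => hcs.equiv_apply x⟩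
    obtain ⟨k', hk'S, hk'⟩ := (mem_autInducedBy_iff S T _).mp (hnorm _ hσ)
    rw [Helper87.Iso.mem_ext]
    refine ⟨hs, hsn, k', hk'S, fun x hx => ?_⟩
    have h1 := hk' (γ ⟨x, hx⟩)
    rw [MulAut.mul_apply, MulAut.mul_apply, MulAut.inv_apply_self] at h1
    have h3 : hcs.equiv ⟨x, hx⟩ = ⟨s * x * s⁻¹, sc_conj_mem hsc hs hx⟩ :=
      Subtype.ext (hcs.equiv_apply _)
    rw [h3] at h1
    have h2 : extAut γ (s * x * s⁻¹) = ((γ ⟨s * x * s⁻¹, sc_conj_mem hsc hs hx⟩ : T) : Ω) :=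
      Helper87.extAut_mem γ _
    rw [h2, Helper87.extAut_mem γ hx]
    exact h1
  have hgS : Mor F S g := hg.restrict hext
  have hisoS : Iso F S S g := Helper87.iso_of_card_le hgS le_rfl (fun x hx => hgS.mem hx) le_rfl
  refine ⟨hisoS.equiv, hisoS.equiv_mem_autGroup, ?_⟩
  rintro ⟨-, κ, hκ, e⟩
  apply hγK
  have : γ = κ := by
    ext t
    have h1 := e t t.2
    rw [Helper87.extAut_equiv hisoS (hTS t.2), hgγ t t.2, Helper87.extAut_apply,
      Helper87.extAut_apply] at h1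
    exact h1
  rw [this]
  exact hκ

end Cfsg.Agent.Helper84
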