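import Mathlib
import Cfsg.Prelude.Def_FusionSystem
import Cfsg.Agent.Lib.Helper84.FusY5

/-!
# Normality is transitive along subsystems invariant under the automizer
-/

set_option autoImplicit false

namespace Cfsg.Agent.Helper84.Z3

open Cfsg Cfsg.FusionSystem
open Cfsg.Agent.Helper87 (Mor Iso extFun extAut)

variable {Ω : Type*} [Group Ω] {S S₁ S₂ : Subgroup Ω}

/-- the automorphism `α` of `S₁` normalizes the system `F₂` over `S₂ ≤ S₁` (pull-back form) -/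
def NormBy (F₂ : FusionSystem S₂) (α : MulAut S₁) : Prop :=
  (∀ x ∈ S₂, extAut α x ∈ S₂) ∧
  ∀ (Q : Subgroup Ω) (f : Ω → Ω), Mor F₂ Q f → ∀ P₁ : Subgroup Ω, P₁ ≤ S₂ →
    (∀ x ∈ P₁, extAut α x ∈ Q) → Mor F₂ P₁ (fun x => extAut α⁻¹ (f (extAut α x)))

/-- **normality is transitive for subsystems invariant under the automizer**: if `F₁` is normal in
`F`, `F₂` is normal in `F₁` and normalized by `Aut_F(S₁)`, and `C_S(S₂) ≤ S₂`, then `F₂` is
normal in `F` -/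
theorem normal_of_normBy [Finite S] {p : ℕ} [hp : Fact p.Prime] (hS : IsPGroup p S)
    {F : FusionSystem S} {F₁ : FusionSystem S₁} {F₂ : FusionSystem S₂}
    (hn₁ : F₁.IsNormalIn F p) (hn₂ : F₂.IsNormalIn F₁ p)
    (hC : centralizerIn S S₂ ≤ S₂) (hinv : ∀ α ∈ F.autGroup S₁, NormBy F₂ α) :
    F₂.IsNormalIn F p := by
  have hF : F.IsSaturated p := hn₁.1.2.1
  have hinv₁ : F₁.IsInvariantIn F := hn₁.1.2.2
  have hinv₂ : F₂.IsInvariantIn F₁ := hn₂.1.2.2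
  have hS₁S : S₁ ≤ S := hinv₁.2.1.1
  have hS₂S₁ : S₂ ≤ S₁ := hinv₂.2.1.1
  have hS₂S : S₂ ≤ S := hS₂S₁.trans hS₁S
  have hsub : F₂.IsSubsystemOf F := fun P => (hinv₂.1 P).trans (hinv₁.1 P)
  have hsc₂ := (Helper87.stronglyClosed_iff.1 hinv₂.2.1).2
  -- `S₂` is strongly closed in `F`
  have hscF : F.StronglyClosed S₂ := by
    rw [Helper87.stronglyClosed_iff]
    refine ⟨hS₂S, fun R f hR hf x hx => ?_⟩
    obtain ⟨α, hα, f₀, hf₀, e⟩ := Helper87.frattini_fun hinv₁ (hR.trans hS₂S₁) hf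
    rw [e x hx]
    exact (hinv α hα).1 _ (hsc₂ R f₀ hR hf₀ x hx)
  have hSI₂ := Cfsg.Agent.S5119.siFun_of_invariant hinv₂
  have hSI : Cfsg.Agent.S5119.SIfun F₂ F := by
    intro P Q R f g g' hPQ hQS hf hfQ hg hR hg'
    obtain ⟨a, ha, ω, hω, eg⟩ := Helper87.frattini_fun hinv₁ (hQS.trans hS₂S₁) hg
    have hωP : Mor F₁ P ω := hω.restrict hPQ
    have hisoω : Iso F₁ P hωP.image ω := Iso.of_mor hωP
    obtain ⟨ω', hω', el, -⟩ := hisoω.symm
    have hR₁ : ∀ y, y ∈ hωP.image ↔ ∃ x ∈ P, ω x = y := fun y => Iff.rfl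
    have hh₀ : Mor F₂ hωP.image (fun z => ω (f (ω' z))) :=
      hSI₂ P Q hωP.image f ω ω' hPQ hQS hf hfQ hω hR₁ el
    have hai : a⁻¹ ∈ F.autGroup S₁ := Subgroup.inv_mem _ ha
    have hRS : R ≤ S₂ := by
      intro y hy
      obtain ⟨x, hx, rfl⟩ := (hR y).1 hy
      exact (Helper87.stronglyClosed_iff.1 hscF).2 Q g hQS hg x (hPQ hx)
    have hmap : ∀ y ∈ R, extAut a⁻¹ y ∈ hωP.image := by
      intro y hy
      obtain ⟨x, hx, rfl⟩ := (hR y).1 hy
      rw [eg x (hPQ hx), Helper87.extAut_inv_left a (hω.mem (hPQ hx))]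
      exact ⟨x, hx, rfl⟩
    have h1 := (hinv a⁻¹ hai).2 _ _ hh₀ R hRS hmap
    rw [inv_inv] at h1
    refine h1.congr (fun y hy => ?_)
    obtain ⟨x, hx, rfl⟩ := (hR y).1 hy
    show extAut a (ω (f (ω' (extAut a⁻¹ (g x))))) = g (f (g' (g x)))
    rw [hg' x hx, eg x (hPQ hx), Helper87.extAut_inv_left a (hω.mem (hPQ hx)), el x hx,
      eg _ (hfQ x hx)]
  refine ⟨⟨hn₂.1.1, hF, Cfsg.Agent.S5119.invariant_of_siFun hS hF hsub hscF hSI⟩, ?_⟩
  intro α hα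
  have hαF : α ∈ F.autGroup S₂ := Helper87.autGroup_le_of_subsystem hsub le_rfl hS₂S hα
  have hm : Mor F S₂ (extAut α) := (Helper87.mem_autGroup_iff hS₂S).mp hαF
  have hWS : S₂ ⊔ centralizerIn S S₂ ≤ S₂ := sup_le le_rfl hC
  have hiso : Iso F (S₂ ⊔ centralizerIn S S₂) (S₂ ⊔ centralizerIn S S₂) (extAut α) :=
    Helper87.iso_of_card_le (hm.restrict hWS) (hWS.trans hS₂S)
      (fun x hx => (le_sup_left : S₂ ≤ S₂ ⊔ centralizerIn S S₂)
        (Helper87.extAut_mem_self α (hWS hx))) le_rfl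
  refine ⟨hiso.equiv, hiso.equiv_mem_autGroup, fun x => ?_, fun c hc => ?_⟩
  · rw [hiso.equiv_apply]
    exact Helper87.extAut_apply α x
  · rw [hiso.equiv_apply]
    have hcS : (c : Ω) ∈ S₂ := hC hc
    have hαc : extAut α c ∈ S₂ := Helper87.extAut_mem_self α hcS
    refine Subgroup.mem_inf.mpr ⟨S₂.mul_mem (S₂.inv_mem hcS) hαc, ?_⟩
    rw [Subgroup.mem_centralizer_iff]
    intro s hs
    obtain ⟨s', hs', rfl⟩ := Helper87.extAut_surj α hs
    have hcomm : s' * c = c * s' := Subgroup.mem_centralizer_iff.mp hc.2 s' hs'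
    have hcomm' : extAut α s' * c = c * extAut α s' :=
      Subgroup.mem_centralizer_iff.mp hc.2 _ hs
    have h1 : extAut α s' * extAut α c = extAut α c * extAut α s' := by
      rw [← hm.map_mul hs' hcS, ← hm.map_mul hcS hs', hcomm]
    calc extAut α s' * ((c : Ω)⁻¹ * extAut α c)
        = (c : Ω)⁻¹ * (c * extAut α s') * (c : Ω)⁻¹ * extAut α c := by group
      _ = (c : Ω)⁻¹ * (extAut α s' * c) * (c : Ω)⁻¹ * extAut α c := by rw [hcomm']
      _ = (c : Ω)⁻¹ * (extAut α s' * extAut α c) := by group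
      _ = (c : Ω)⁻¹ * (extAut α c * extAut α s') := by rw [h1]
      _ = (c : Ω)⁻¹ * extAut α c * extAut α s' := by group

end Cfsg.Agent.Helper84.Z3
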