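import Mathlib
import Cfsg.Prelude.Def_FusionSystem
import Cfsg.Agent.Lib.Helper84.FusZ3
import Cfsg.Agent.Lib.Helper84.FusZ2
import Cfsg.Agent.Lib.Helper84.FusW7
import Cfsg.Agent.S5198

/-!
# Subsystems of `p`-power index and of index prime to `p` are normalized by automorphisms
-/

set_option autoImplicit false

namespace Cfsg.Agent.Helper84.Z4

open Cfsg Cfsg.FusionSystem
open Cfsg.Agent.Helper87 (Mor Iso extFun extAut)
open Cfsg.Agent.Helper84.Z3

variable {Ω : Type*} [Group Ω] {S S₁ S₂ T : Subgroup Ω}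

/-- pull-back of a `p'`-automorphism along a normalizing automorphism -/
theorem pgen_conjNorm {F : FusionSystem S} {p : ℕ} {R : Subgroup Ω} {f : Ω → Ω}
    (h : PGen F p R f) {α : MulAut S} (hα : NormalizesSys F α) :
    PGen F p (imgAut α⁻¹ R) (fun x => extAut α⁻¹ (f (extAut α x))) := by
  obtain ⟨hf, k, hk, hfk⟩ := h
  have hR : R ≤ S := hf.le_left
  have hR' : imgAut α⁻¹ R ≤ S := imgAut_le _ _
  refine ⟨hα.iso hf, k, hk, fun x hx => ?_⟩
  have hmem : ∀ x ∈ imgAut α⁻¹ R, extAut α x ∈ R := fun x hx => ((mem_imgAut_inv hR).mp hx).2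
  have key : ∀ j : ℕ, ∀ x ∈ imgAut α⁻¹ R, (fun x => extAut α⁻¹ (f (extAut α x)))^[j] x =
      extAut α⁻¹ (f^[j] (extAut α x)) := by
    intro j
    induction j with
    | zero =>
      intro x hx
      exact (Helper87.extAut_inv_left α (hR' hx)).symm
    | succ j ih =>
      intro x hx
      have hfx : f (extAut α x) ∈ R := hf.map_mem (hmem x hx)
      have hx' : extAut α⁻¹ (f (extAut α x)) ∈ imgAut α⁻¹ R := (mem_imgAut hR).mpr ⟨_, hfx, rfl⟩
      rw [Function.iterate_succ_apply, ih _ hx', Helper87.extAut_inv_right α (hR hfx),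
        Function.iterate_succ_apply]
  rw [key _ x hx, hfk _ (hmem x hx), Helper87.extAut_inv_left α (hR' hx)]

/-- pull-back of a map of `O^p_*(F)` along a normalizing automorphism -/
theorem omor_conjNorm {F : FusionSystem S} {p : ℕ} {Q : Subgroup Ω} {f : Ω → Ω}
    (h : OMor F p Q f) {α : MulAut S} (hα : NormalizesSys F α) :
    ∀ P₁ : Subgroup Ω, P₁ ≤ S → (∀ x ∈ P₁, extAut α x ∈ Q) →
      OMor F p P₁ (fun x => extAut α⁻¹ (f (extAut α x))) := by
  induction h with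
  | @base R f h =>
    intro P₁ hP₁S hP₁
    exact OMor.restr (OMor.base (pgen_conjNorm h hα))
      (fun x hx => (mem_imgAut_inv h.1.le_left).mpr ⟨hP₁S hx, hP₁ x hx⟩)
  | restr _ hQP ih =>
    intro P₁ hP₁S hP₁
    exact ih P₁ hP₁S (fun x hx => hQP (hP₁ x hx))
  | @comp P Q f g hPf hQg hfg ih1 ih2 =>
    intro P₁ hP₁S hP₁
    have hQS : Q ≤ S := hQg.mor.le
    have h1 := ih1 P₁ hP₁S hP₁
    have h2 := ih2 (imgAut α⁻¹ Q) (imgAut_le _ _) (fun x hx => ((mem_imgAut_inv hQS).mp hx).2)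
    refine (OMor.comp h1 h2 (fun x hx => ?_)).congr (fun x hx => ?_)
    · rw [mem_imgAut_inv hQS]
      have hfx : f (extAut α x) ∈ Q := hfg _ (hP₁ x hx)
      refine ⟨Helper87.extAut_mem_self _ (hQS hfx), ?_⟩
      rw [Helper87.extAut_inv_right α (hQS hfx)]
      exact hfx
    · show extAut α⁻¹ (g (extAut α (extAut α⁻¹ (f (extAut α x))))) = _
      rw [Helper87.extAut_inv_right α (hQS (hfg _ (hP₁ x hx)))]
  | congr _ hff ih =>
    intro P₁ hP₁S hP₁
    exact (ih P₁ hP₁S hP₁).congr (fun x hx => by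
      show extAut α⁻¹ _ = extAut α⁻¹ _
      rw [hff _ (hP₁ x hx)])

/-- maps of `O^p_*(F)` lie in every saturated... every subsystem of `p`-power index, after
intersecting the source with its underlying group -/
theorem omor_mor_ppower [Finite S] {p : ℕ} [Fact p.Prime] {F : FusionSystem S}
    {E : FusionSystem T} (hEi : E.HasPPowerIndexIn F p) (hTsc : F.StronglyClosed T)
    {P : Subgroup Ω} {f : Ω → Ω} (h : OMor F p P f) : Mor E (P ⊓ T) f := by
  induction h with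
  | @base R f h =>
    have h1 := Cfsg.Agent.S5120.mor_of_mem_pResidual hEi hTsc h.1.le_left _
      (pgen_mem_pResidual h)
    refine h1.congr (fun x hx => ?_)
    have hxR : x ∈ R := hx.1
    show extAut h.1.equiv x = f x
    rw [Helper87.extAut_mem _ hxR, h.1.equiv_apply]
  | restr _ hQP ih =>
    exact ih.restrict (inf_le_inf_right _ hQP)
  | @comp P Q f g hPf hQg hfg ih1 ih2 =>
    refine ih1.comp ih2 (fun x hx => ⟨hfg x hx.1, ?_⟩)
    exact sc_mem hTsc hPf.mor hx.1 hx.2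
  | congr _ hff ih =>
    exact ih.congr (fun x hx => hff x hx.1)

/-- the maps of a saturated subsystem of `p`-power index over `T` -/
theorem mor_ppower_iff [Finite S] {p : ℕ} [Fact p.Prime] (hS : IsPGroup p S)
    {F : FusionSystem S} {E : FusionSystem T} (hEs : E.IsSaturated p)
    (hEi : E.HasPPowerIndexIn F p) (hTsc : F.StronglyClosed T) {P : Subgroup Ω} {f : Ω → Ω} :
    Mor E P f ↔ EMor F p T P f := by
  have hTS : T ≤ S := hTsc.1
  have hfin : Finite T := Helper87.finite_of_le hTS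
  have hT : IsPGroup p T := hS.to_le hTS
  constructor
  · intro h
    have hsub := Cfsg.Agent.S5203.sub_of_ppower hT hEs hEi.1
      (subE_hasPPowerIndexIn F p hTS hEi.2.1) le_rfl
    exact mor_subE_iff.mp (Helper87.Mor.of_subsystem hsub h)
  · rintro ⟨hPT, t, ht, h⟩
    have h1 : Mor E P (fun x => t⁻¹ * f x * t) := by
      have := omor_mor_ppower hEi hTsc h
      rwa [inf_eq_left.mpr hPT] at this
    have hmem : ∀ x ∈ P, t⁻¹ * f x * t ∈ T := fun x hx => h1.mem hx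
    have h2 : Mor E T (fun y => t * y * t⁻¹) := Helper87.Mor.conj le_rfl ht
    refine (h1.comp h2 hmem).congr (fun x hx => ?_)
    show t * (t⁻¹ * f x * t) * t⁻¹ = f x
    group

/-- a saturated subsystem of `p`-power index is normalized by the automorphisms normalizing the
big system and stabilizing its underlying group -/
theorem normBy_ppower [Finite S₁] {p : ℕ} [Fact p.Prime] (hS₁ : IsPGroup p S₁)
    {F₁ : FusionSystem S₁} {F₂ : FusionSystem S₂} (hF₂s : F₂.IsSaturated p)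
    (hF₂i : F₂.HasPPowerIndexIn F₁ p) (hsc : F₁.StronglyClosed S₂) {α : MulAut S₁}
    (hα : NormalizesSys F₁ α) (hαS₂ : ∀ x ∈ S₂, extAut α x ∈ S₂)
    (hαiS₂ : ∀ x ∈ S₂, extAut α⁻¹ x ∈ S₂) : NormBy F₂ α := by
  have hS₂S₁ : S₂ ≤ S₁ := hsc.1
  refine ⟨hαS₂, fun Q f hf P₁ hP₁ hmap => ?_⟩
  rw [mor_ppower_iff hS₁ hF₂s hF₂i hsc] at hf ⊢
  obtain ⟨hQ, t, ht, h⟩ := hf
  refine ⟨hP₁, extAut α⁻¹ t, hαiS₂ t ht, ?_⟩
  have h1 := omor_conjNorm h hα P₁ (hP₁.trans hS₂S₁) hmap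
  refine h1.congr (fun x hx => ?_)
  have hfx : f (extAut α x) ∈ S₁ := by
    have h2 : t⁻¹ * f (extAut α x) * t ∈ S₁ := h.mor.mem (hmap x hx)
    have h3 : f (extAut α x) = t * (t⁻¹ * f (extAut α x) * t) * t⁻¹ := by group
    rw [h3]
    exact S₁.mul_mem (S₁.mul_mem (hS₂S₁ ht) h2) (S₁.inv_mem (hS₂S₁ ht))
  have htS : t ∈ S₁ := hS₂S₁ ht
  show extAut α⁻¹ (t⁻¹ * f (extAut α x) * t) = (extAut α⁻¹ t)⁻¹ * extAut α⁻¹ (f (extAut α x)) *
    extAut α⁻¹ t
  rw [extAut_map_mul α⁻¹ (S₁.mul_mem (S₁.inv_mem htS) hfx) htS,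
    extAut_map_mul α⁻¹ (S₁.inv_mem htS) hfx, extAut_map_inv α⁻¹ htS]

/-- `chiSys` is normalized by the automorphisms normalizing the big system and `HK` -/
theorem normalizesSys_chiSys' [Finite S] {p : ℕ} [hp : Fact p.Prime] (hS : IsPGroup p S)
    {F : FusionSystem S} (hTS : T ≤ S)
    {K : Subgroup (MulAut T)} {a : MulAut S} (ha : NormalizesSys F a)
    (hHK : ∀ h ∈ HK F hTS K, a⁻¹ * h * a ∈ HK F hTS K) :
    NormalizesSys (chiSys F p hS hTS K) a := by
  intro Q f hf P₁ hP₁ hmap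
  obtain ⟨h, hh, f₀, hf₀, e⟩ := mor_chiSys_iff.mp hf
  have hQS : Q ≤ S := hf₀.mor.le
  refine mor_chiSys_iff.mpr ⟨a⁻¹ * h * a, hHK h hh,
    fun x => extAut a⁻¹ (f₀ (extAut a x)), hf₀.conjNorm ha P₁ hP₁ hmap, fun x hx => ?_⟩
  have h1 : f₀ (extAut a x) ∈ S := hf₀.mor.mem (hmap x hx)
  have h2 : extAut a⁻¹ (f₀ (extAut a x)) ∈ S := Helper87.extAut_mem_self _ h1
  show extAut a⁻¹ (f (extAut a x)) = _
  rw [e _ (hmap x hx), Helper87.extAut_mul (a⁻¹ * h) a h2, Helper87.extAut_inv_right a h1,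
    Helper87.extAut_mul a⁻¹ h h1]

end Cfsg.Agent.Helper84.Z4
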