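import Mathlib
import Cfsg.Prelude.Def_FusionSystem
import Cfsg.Agent.Lib.Helper84.FusZ4

/-!
# One step of the chain: passing to a normal subsystem of `p`-power index or index prime to `p`
-/

set_option autoImplicit false

namespace Cfsg.Agent.Helper84.Z5

open Cfsg Cfsg.FusionSystem
open Cfsg.Agent.Helper87 (Mor Iso extFun extAut)
open Cfsg.Agent.Helper84.Z3 Cfsg.Agent.Helper84.Z4 Cfsg.Agent.Helper84.Z2
open Cfsg.Agent.S5203 (Same)

variable {Ω : Type*} [Group Ω] {S S₁ S₂ T : Subgroup Ω}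

theorem stronglyClosed_of_sub {F : FusionSystem S} {F₁ : FusionSystem S₁}
    (hsub : F₁.IsSubsystemOf F) (hTS₁ : T ≤ S₁) (hsc : F.StronglyClosed T) :
    F₁.StronglyClosed T := by
  rw [Helper87.stronglyClosed_iff] at hsc ⊢
  exact ⟨hTS₁, fun R f hR hf => hsc.2 R f hR (Helper87.Mor.of_subsystem hsub hf)⟩

theorem siFun_of_le {E : FusionSystem T} {F : FusionSystem S} {F₁ : FusionSystem S₁}
    (hsub : F₁.IsSubsystemOf F) (h : Cfsg.Agent.S5119.SIfun E F) :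
    Cfsg.Agent.S5119.SIfun E F₁ := by
  intro P Q R f g g' hPQ hQT hf hfQ hg hR hg'
  exact h P Q R f g g' hPQ hQT hf hfQ (Helper87.Mor.of_subsystem hsub hg) hR hg'

theorem invariant_of_le [Finite S₁] {p : ℕ} [Fact p.Prime] (hS₁ : IsPGroup p S₁)
    {E : FusionSystem T} {F : FusionSystem S} {F₁ : FusionSystem S₁}
    (hinv : E.IsInvariantIn F) (hF₁ : F₁.IsSaturated p) (hEF₁ : E.IsSubsystemOf F₁)
    (hsub : F₁.IsSubsystemOf F) : E.IsInvariantIn F₁ := by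
  have hTS₁ : T ≤ S₁ := Cfsg.Agent.S5203.le_of_sub hEF₁
  exact Cfsg.Agent.S5119.invariant_of_siFun hS₁ hF₁ hEF₁
    (stronglyClosed_of_sub hsub hTS₁ hinv.2.1)
    (siFun_of_le hsub (Cfsg.Agent.S5119.siFun_of_invariant hinv))

/-- a saturated system is normal in itself -/
theorem normal_self [Finite S] {p : ℕ} [Fact p.Prime] (hS : IsPGroup p S) (F : FusionSystem S)
    (hF : F.IsSaturated p) : F.IsNormalIn F p := by
  have hn : (S.subgroupOf S).Normal := by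
    rw [Subgroup.subgroupOf_self]; infer_instance
  refine Cfsg.Agent.S5120.result p hS F hF S le_rfl hn (Cfsg.Agent.S5124.hyperfocal_le F p) F hF
    ⟨fun P => subset_rfl, Cfsg.Agent.S5124.hyperfocal_le F p, fun P hP => ?_⟩
  rintro _ ⟨b, -, rfl⟩
  exact b.2

/-- restriction of an automorphism to a strongly closed subgroup -/
theorem restrict_to [Finite S] {F : FusionSystem S} (hsc : F.StronglyClosed T) (hTS₁ : T ≤ S₁)
    (hS₁S : S₁ ≤ S) {a : MulAut S₁} (ha : a ∈ F.autGroup S₁) :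
    ∃ γ : MulAut T, γ ∈ F.autGroup T ∧ ∀ t ∈ T, extAut γ t = extAut a t := by
  obtain ⟨γ, hγ, e, -⟩ := Cfsg.Agent.S5198.restrict_aut hsc hTS₁ hS₁S a ha
  refine ⟨γ, hγ, fun t ht => ?_⟩
  rw [Helper87.extAut_mem γ ht, Helper87.extAut_mem a (hTS₁ ht)]
  exact e ⟨t, ht⟩

theorem HK_conj_mem' [Finite S] {F : FusionSystem S} {F₁ : FusionSystem S₁} (hS₁S : S₁ ≤ S)
    (hsc : F.StronglyClosed T) (hTS₁ : T ≤ S₁) {K : Subgroup (MulAut T)}
    (hKn : ∀ γ ∈ F.autGroup T, ∀ κ ∈ K, γ * κ * γ⁻¹ ∈ K) {a : MulAut S₁}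
    (ha : a ∈ F.autGroup S₁) (haN : NormalizesSys F₁ a) {h : MulAut S₁}
    (hh : h ∈ HK F₁ hTS₁ K) : a⁻¹ * h * a ∈ HK F₁ hTS₁ K := by
  obtain ⟨hhF, κ, hκ, eh⟩ := hh
  obtain ⟨γ, hγ, eγ⟩ := restrict_to hsc hTS₁ hS₁S ha
  refine ⟨?_, γ⁻¹ * κ * γ, ?_, fun t ht => ?_⟩
  · rw [Helper87.mem_autGroup_iff le_rfl] at hhF ⊢
    have h1 := haN S₁ _ hhF S₁ le_rfl (fun x hx => Helper87.extAut_mem_self a hx)
    refine h1.congr (fun x hx => ?_)
    show extAut a⁻¹ (extAut h (extAut a x)) = extAut (a⁻¹ * h * a) x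
    rw [Helper87.extAut_mul (a⁻¹ * h) a hx, Helper87.extAut_mul a⁻¹ h
      (Helper87.extAut_mem_self a hx)]
  · have := hKn γ⁻¹ (Subgroup.inv_mem _ hγ) κ hκ
    rwa [inv_inv] at this
  · have h1 : extAut γ t ∈ T := Helper87.extAut_mem_self _ ht
    have h2 : extAut κ (extAut γ t) ∈ T := Helper87.extAut_mem_self _ h1
    rw [Helper87.extAut_mul (a⁻¹ * h) a (hTS₁ ht), Helper87.extAut_mul a⁻¹ h
      (Helper87.extAut_mem_self a (hTS₁ ht)), Helper87.extAut_mul (γ⁻¹ * κ) γ ht,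
      Helper87.extAut_mul γ⁻¹ κ h1, ← eγ t ht, eh _ h1]
    have h3 : extAut a (extAut γ⁻¹ (extAut κ (extAut γ t))) = extAut κ (extAut γ t) := by
      rw [← eγ _ (Helper87.extAut_mem_self _ h2), Helper87.extAut_inv_right γ h2]
    conv_lhs => rw [← h3]
    rw [Helper87.extAut_inv_left a (hTS₁ (Helper87.extAut_mem_self _ h2))]

/-! ### extensions of automorphisms of `T` to `T C_S(T)` -/

theorem extAut_conj {t₀ : T} {t : Ω} (ht : t ∈ T) :
    extAut (MulAut.conj t₀) t = (t₀ : Ω) * t * (t₀ : Ω)⁻¹ := by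
  rw [Helper87.extAut_mem _ ht]
  simp [MulAut.conj_apply]


/-- `α` extends to a map of `F₁` on `T C_S(T)` moving `C_S(T)` only inside its cosets of `T` -/
def HasExt (S : Subgroup Ω) (F₁ : FusionSystem S₁) (α : MulAut T) : Prop :=
  ∃ fh, Mor F₁ (T ⊔ centralizerIn S T) fh ∧ (∀ x ∈ T, fh x = extAut α x) ∧
    ∀ c ∈ centralizerIn S T, c⁻¹ * fh c ∈ T

theorem HasExt.maps {F₁ : FusionSystem S₁} {fh : Ω → Ω} {α : MulAut T}
    (hfh : Mor F₁ (T ⊔ centralizerIn S T) fh) (e : ∀ x ∈ T, fh x = extAut α x)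
    (hc : ∀ c ∈ centralizerIn S T, c⁻¹ * fh c ∈ T) :
    ∀ x ∈ T ⊔ centralizerIn S T, fh x ∈ T ⊔ centralizerIn S T := by
  refine mor_map_sup hfh (fun x hx => ?_) (fun c hcc => ?_)
  · rw [e x hx]
    exact (le_sup_left : T ≤ T ⊔ centralizerIn S T) (Helper87.extAut_mem_self α hx)
  · have h1 : fh c = c * (c⁻¹ * fh c) := by group
    rw [h1]
    exact Subgroup.mul_mem _ ((le_sup_right : centralizerIn S T ≤ T ⊔ centralizerIn S T) hcc)
      ((le_sup_left : T ≤ T ⊔ centralizerIn S T) (hc c hcc))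

theorem HasExt.iso [Finite S₁] {F₁ : FusionSystem S₁} {fh : Ω → Ω} {α : MulAut T}
    (hfh : Mor F₁ (T ⊔ centralizerIn S T) fh) (e : ∀ x ∈ T, fh x = extAut α x)
    (hc : ∀ c ∈ centralizerIn S T, c⁻¹ * fh c ∈ T) :
    Iso F₁ (T ⊔ centralizerIn S T) (T ⊔ centralizerIn S T) fh :=
  Helper87.iso_of_card_le hfh hfh.le (HasExt.maps hfh e hc) le_rfl

theorem hasExt_mul {F₁ : FusionSystem S₁} {α β : MulAut T} (h1 : HasExt S F₁ α)
    (h2 : HasExt S F₁ β) : HasExt S F₁ (α * β) := by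
  obtain ⟨f, hf, ef, cf⟩ := h1
  obtain ⟨g, hg, eg, cg⟩ := h2
  have hTle : T ≤ T ⊔ centralizerIn S T := le_sup_left
  have hCle : centralizerIn S T ≤ T ⊔ centralizerIn S T := le_sup_right
  refine ⟨fun x => f (g x), hg.comp hf (HasExt.maps hg eg cg), fun x hx => ?_, fun c hc => ?_⟩
  · show f (g x) = extAut (α * β) x
    rw [Helper87.extAut_mul α β hx, eg x hx, ef _ (Helper87.extAut_mem_self β hx)]
  · show c⁻¹ * f (g c) ∈ T
    have h1 : g c = c * (c⁻¹ * g c) := by group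
    rw [h1, hf.map_mul (hCle hc) (hTle (cg c hc)), ← mul_assoc]
    refine T.mul_mem (cf c hc) ?_
    rw [ef _ (cg c hc)]
    exact Helper87.extAut_mem_self α (cg c hc)

theorem hasExt_conj {F₁ : FusionSystem S₁} (hW : T ⊔ centralizerIn S T ≤ S₁) (t₀ : T) :
    HasExt S F₁ (MulAut.conj t₀) := by
  have ht₀ : (t₀ : Ω) ∈ S₁ := hW ((le_sup_left : T ≤ T ⊔ centralizerIn S T) t₀.2)
  refine ⟨fun x => (t₀ : Ω) * x * (t₀ : Ω)⁻¹, Helper87.Mor.conj hW ht₀, fun x hx => ?_,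
    fun c hc => ?_⟩
  · rw [extAut_conj hx]
  · have := Subgroup.mem_centralizer_iff.mp hc.2 t₀ t₀.2
    have h1 : c⁻¹ * ((t₀ : Ω) * c * (t₀ : Ω)⁻¹) = 1 := by
      rw [this]; group
    rw [h1]
    exact T.one_mem

theorem hasExt_iterate [Finite S₁] {F₁ : FusionSystem S₁} {fh : Ω → Ω} {α : MulAut T}
    (hfh : Mor F₁ (T ⊔ centralizerIn S T) fh) (e : ∀ x ∈ T, fh x = extAut α x)
    (hc : ∀ c ∈ centralizerIn S T, c⁻¹ * fh c ∈ T) (j : ℕ) :
    (∀ x ∈ T, fh^[j] x = extAut (α ^ j) x) ∧ ∀ c ∈ centralizerIn S T, c⁻¹ * fh^[j] c ∈ T := by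
  have hTle : T ≤ T ⊔ centralizerIn S T := le_sup_left
  have hCle : centralizerIn S T ≤ T ⊔ centralizerIn S T := le_sup_right
  have hiso := HasExt.iso hfh e hc
  have h1 : ∀ x ∈ T, fh^[j] x = extAut (α ^ j) x := by
    intro x hx
    rw [iterate_congr_on e (fun x hx => Helper87.extAut_mem_self α hx) j x hx,
      extAut_iterate α j hx, Helper87.extAut_mem _ hx]
  refine ⟨h1, ?_⟩
  induction j with
  | zero =>
    intro c _
    simp [T.one_mem]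
  | succ j ih =>
    intro c hcc
    have hj1 : ∀ x ∈ T, fh^[j] x = extAut (α ^ j) x := by
      intro x hx
      rw [iterate_congr_on e (fun x hx => Helper87.extAut_mem_self α hx) j x hx,
        extAut_iterate α j hx, Helper87.extAut_mem _ hx]
    rw [Function.iterate_succ_apply]
    have h2 : fh c = c * (c⁻¹ * fh c) := by group
    rw [h2, (iso_iterate hiso j).1.map_mul (hCle hcc) (hTle (hc c hcc)), ← mul_assoc]
    refine T.mul_mem (ih hj1 c hcc) ?_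
    rw [hj1 _ (hc c hcc)]
    exact Helper87.extAut_mem_self _ (hc c hcc)

/-- automorphisms of `T` in `E` of `p`-power order are inner -/
theorem inner_of_pPower [Finite T] {p : ℕ} [hp : Fact p.Prime] {E : FusionSystem T}
    (hEs : E.IsSaturated p) {σ : MulAut T} (hσE : σ ∈ E.autGroup T) {k : ℕ}
    (hσk : σ ^ (p ^ k) = 1) : ∃ t₀ : T, σ = MulAut.conj t₀ := by
  obtain ⟨j, -, hj⟩ := (Nat.dvd_prime_pow hp.out).mp (orderOf_dvd_of_pow_eq_one hσk)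
  have hj' : orderOf (⟨σ, hσE⟩ : E.autGroup T) = p ^ j := by
    rw [← hj]
    exact (Subgroup.orderOf_coe (⟨σ, hσE⟩ : E.autGroup T)).symm
  obtain ⟨g, hg, t, ht, -, e⟩ :=
    exists_aut_conj_of_pPower (top_fullyAutomized E hEs) (⟨σ, hσE⟩ : E.autGroup T) hj'
  have hgm : Mor E T (extAut g) := (Helper87.mem_autGroup_iff le_rfl).mp hg
  have hgt : extAut g t ∈ T := Helper87.extAut_mem_self g ht
  refine ⟨⟨extAut g t, hgt⟩, ?_⟩
  ext y
  obtain ⟨y', hy', hy'e⟩ := Helper87.extAut_surj g y.2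
  have h1 := e y' hy'
  simp only at h1
  rw [hy'e, Helper87.extAut_mem σ y.2] at h1
  rw [h1, hgm.map_mul (T.mul_mem ht hy') (T.inv_mem ht), hgm.map_mul ht hy', hgm.map_inv ht,
    hy'e]
  simp [MulAut.conj_apply]

/-- in a subsystem of `p`-power index containing `T C_S(T)`, the extension condition persists -/
theorem hasExt_ppower [Finite S₁] [Finite T] {p : ℕ} [hp : Fact p.Prime] {E : FusionSystem T}
    (hEs : E.IsSaturated p) {F₁ : FusionSystem S₁} {F₂ : FusionSystem S₂}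
    (hF₂i : F₂.HasPPowerIndexIn F₁ p) (hW : T ⊔ centralizerIn S T ≤ S₂)
    (hext : ∀ α ∈ E.autGroup T, HasExt S F₁ α) :
    ∀ α ∈ E.autGroup T, HasExt S F₂ α := by
  intro α hα
  have hS₂S₁ : S₂ ≤ S₁ := Cfsg.Agent.S5203.le_of_sub hF₂i.1
  obtain ⟨i, j, a, b, hb, e, hi, hj⟩ := exists_pow_decomp p (⟨α, hα⟩ : E.autGroup T)
  have e' : α = α ^ i * α ^ j := by
    have := congrArg Subtype.val e
    simpa using this
  have hi' : (α ^ i) ^ (p ^ a) = 1 := by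
    have := congrArg Subtype.val hi
    simpa using this
  have hj' : (α ^ j) ^ b = 1 := by
    have := congrArg Subtype.val hj
    simpa using this
  rw [e']
  refine hasExt_mul ?_ ?_
  · obtain ⟨t₀, ht₀⟩ := inner_of_pPower hEs (Subgroup.pow_mem _ hα i) hi'
    rw [ht₀]
    exact hasExt_conj hW t₀
  · obtain ⟨fh, hfh, efh, cfh⟩ := hext (α ^ j) (Subgroup.pow_mem _ hα j)
    have hiso := HasExt.iso hfh efh cfh
    obtain ⟨j', b', hb', hj'1, -, hfix⟩ := exists_pprime_iterate hiso hb 0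
    have hpg : PGen F₁ p (T ⊔ centralizerIn S T) (fh^[j']) := ⟨iso_iterate hiso j', b', hb', hfix⟩
    have hmem := hF₂i.2.2 (T ⊔ centralizerIn S T) hW ⟨_, pgen_mem_pResidual hpg, rfl⟩
    have hmor : Mor F₂ (T ⊔ centralizerIn S T) (fh^[j']) := by
      have h1 := (Helper87.mem_autGroup_iff hW).mp hmem
      exact h1.congr (fun x hx => Helper87.extAut_equiv hpg.1 hx)
    obtain ⟨h1, h2⟩ := hasExt_iterate hfh efh cfh j'
    refine ⟨fh^[j'], hmor, fun x hx => ?_, h2⟩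
    rw [h1 x hx]
    have h3 : (α ^ j) ^ j' = (α ^ j) ^ 1 := by
      rw [pow_eq_pow_iff_modEq]
      exact hj'1.of_dvd (orderOf_dvd_of_pow_eq_one hj')
    rw [h3, pow_one]

/-- the invariant carried along the chain -/
structure Good (F : FusionSystem S) (E : FusionSystem T) (p : ℕ) (S₁ : Subgroup Ω)
    (F₁ : FusionSystem S₁) : Prop where
  sat : F₁.IsSaturated p
  normal : F₁.IsNormalIn F p
  sub : E.IsSubsystemOf F₁
  cen : T ⊔ centralizerIn S T ≤ S₁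
  rl : ∀ {U : Subgroup Ω} (Finf : FusionSystem U), Finf.IsResidualLimitOf F p →
    ∀ {V : Subgroup Ω} (L : FusionSystem V), L.IsResidualLimitOf F₁ p → Same L Finf
  ext : ∀ α ∈ E.autGroup T, HasExt S F₁ α

theorem centralizerIn_le_of_le (hTS₁ : T ≤ S₁) (hcen : T ⊔ centralizerIn S T ≤ S₁) :
    centralizerIn S S₁ ≤ S₁ := by
  intro c hc
  refine hcen ((le_sup_right : centralizerIn S T ≤ _) ?_)
  refine Subgroup.mem_inf.mpr ⟨hc.1, ?_⟩
  rw [Subgroup.mem_centralizer_iff]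
  intro t ht
  exact Subgroup.mem_centralizer_iff.mp hc.2 t (hTS₁ ht)

/-- **the step of index prime to `p`** -/
theorem step_prime [Finite S] {p : ℕ} [hp : Fact p.Prime] (hS : IsPGroup p S)
    {F : FusionSystem S} {E : FusionSystem T} (hE : E.IsWeaklyNormalIn F p)
    {F₁ : FusionSystem S₁} (hG : Good F E p S₁ F₁) {K : Subgroup (MulAut T)}
    (hEK : E.autGroup T ≤ K) (hKn : ∀ γ ∈ F.autGroup T, ∀ κ ∈ K, γ * κ * γ⁻¹ ∈ K)
    (hKp : ∀ g ∈ F₁.autGroup T, ∀ k : ℕ, g ^ (p ^ k) = 1 → g ∈ K) :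
    ∃ F₂ : FusionSystem S₁, Good F E p S₁ F₂ ∧ F₂.autGroup T ≤ K := by
  have hEs : E.IsSaturated p := hE.1
  have hinv : E.IsInvariantIn F := hE.2.2
  have hF₁inv : F₁.IsInvariantIn F := hG.normal.1.2.2
  have hsub₁ : F₁.IsSubsystemOf F := hF₁inv.1
  have hS₁S : S₁ ≤ S := hF₁inv.2.1.1
  have hfin : Finite S₁ := Helper87.finite_of_le hS₁S
  have hS₁ : IsPGroup p S₁ := hS.to_le hS₁S
  have hTS₁ : T ≤ S₁ := Cfsg.Agent.S5203.le_of_sub hG.sub
  have hTS : T ≤ S := hTS₁.trans hS₁S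
  have hsc : F.StronglyClosed T := hinv.2.1
  have hsc₁ : F₁.StronglyClosed T := stronglyClosed_of_sub hsub₁ hTS₁ hsc
  have hinv₁ : E.IsInvariantIn F₁ := invariant_of_le hS₁ hinv hG.sat hG.sub hsub₁
  have hA₁ : F₁.autGroup T ≤ F.autGroup T := Helper87.autGroup_le_of_subsystem hsub₁ hTS₁ hTS
  have hK : KData E F₁ p (K ⊓ F₁.autGroup T) := by
    refine ⟨inf_le_right, fun γ hγ κ hκ => ⟨hKn γ (hA₁ hγ) κ hκ.1, ?_⟩,
      le_inf hEK (Helper87.autGroup_le_of_subsystem hG.sub le_rfl hTS₁),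
      fun γ hγ k hk => ⟨hKp γ hγ k hk, hγ⟩⟩
    exact Subgroup.mul_mem _ (Subgroup.mul_mem _ hγ hκ.2) (Subgroup.inv_mem _ hγ)
  have hKn' : ∀ γ ∈ F.autGroup T, ∀ κ ∈ K ⊓ F₁.autGroup T,
      γ * κ * γ⁻¹ ∈ K ⊓ F₁.autGroup T := by
    intro γ hγ κ hκ
    refine Subgroup.mem_inf.mpr ⟨hKn γ hγ κ hκ.1, ?_⟩
    -- `Aut_{F₁}(T)` is normal in `Aut_F(T)`
    have hSI := Cfsg.Agent.S5119.siFun_of_invariant hF₁inv
    have hκm : Mor F₁ T (extAut κ) := (Helper87.mem_autGroup_iff hTS₁).mp hκ.2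
    have hγm : Mor F T (extAut γ) := (Helper87.mem_autGroup_iff hTS).mp hγ
    rw [Helper87.mem_autGroup_iff hTS₁]
    have h1 := hSI T T T (extAut κ) (extAut γ) (extAut γ⁻¹) le_rfl hTS₁ hκm
      (fun x hx => Helper87.extAut_mem_self κ hx) hγm
      (fun y => ⟨fun hy => Helper87.extAut_surj γ hy, by
        rintro ⟨x, hx, rfl⟩; exact Helper87.extAut_mem_self γ hx⟩)
      (fun x hx => Helper87.extAut_inv_left γ hx)
    refine h1.congr (fun y hy => ?_)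
    show extAut γ (extAut κ (extAut γ⁻¹ y)) = extAut (γ * κ * γ⁻¹) y
    rw [Helper87.extAut_mul (γ * κ) γ⁻¹ hy, Helper87.extAut_mul γ κ
      (Helper87.extAut_mem_self γ⁻¹ hy)]
  refine ⟨chiSys F₁ p hS₁ hinv₁.2.1.1 (K ⊓ F₁.autGroup T), ?_, ?_⟩
  · have hsat₂ := chiSys_saturated hS₁ hEs hG.sat hinv₁ hK
    have hn₂ := chiSys_isNormalIn hS₁ hEs hG.sat hinv₁ hK
    refine ⟨hsat₂, ?_, sub_chiSys hS₁ hEs hG.sat hinv₁ hK, hG.cen, ?_, ?_⟩
    · refine normal_of_normBy hS hG.normal hn₂ (centralizerIn_le_of_le hTS₁ hG.cen) ?_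
      intro α hα
      have hαN : NormalizesSys F₁ α := normalizesSys_of_invariant hF₁inv hα
      refine ⟨fun x hx => Helper87.extAut_mem_self α hx, ?_⟩
      exact normalizesSys_chiSys' hS₁ hinv₁.2.1.1 hαN
        (fun h hh => HK_conj_mem' hS₁S hsc hTS₁ hKn' hα hαN hh)
    · intro U Finf hFinf V L hL
      obtain ⟨V₁, L₁, hL₁⟩ := exists_rl' hS₁ F₁ hG.sat
      have hidx : (chiSys F₁ p hS₁ hinv₁.2.1.1 (K ⊓ F₁.autGroup T)).HasPrimeToPIndexIn F₁ p :=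
        ⟨chiSys_isSubsystemOf F₁ p hS₁ hinv₁.2.1.1 _,
          fun P hP => chiSys_contains hS₁ hinv₁.2.1.1 _ hP⟩
      have h1 : Same L₁ L := rl_of_primeToP hS₁ hG.sat hsat₂ hidx L₁ hL₁ L hL
      exact h1.symm.trans (hG.rl Finf hFinf L₁ hL₁)
    · intro α hα
      obtain ⟨fh, hfh, e, c⟩ := hG.ext α hα
      have hinf : (T ⊔ centralizerIn S T) ⊓ T = T := inf_eq_right.mpr le_sup_left
      refine ⟨fh, mor_chiSys_of_kdec hS₁ hEs hG.sat hinv₁ hK ?_ hfh ?_, e, c⟩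
      · rw [hinf]
        exact tcen_top hsc₁
      · rw [hinf]
        exact (KDec.of_mor ((Helper87.mem_autGroup_iff le_rfl).mp hα)).congr
          (fun x hx => (e x hx).symm)
  · intro α hα
    have hαm : Mor (chiSys F₁ p hS₁ hinv₁.2.1.1 (K ⊓ F₁.autGroup T)) T (extAut α) :=
      (Helper87.mem_autGroup_iff hTS₁).mp hα
    have hdec := kdec_of_mor_chiSys hS₁ hG.sat hinv₁ hK hαm
    rw [inf_idem] at hdec
    have hα₁ : α ∈ F₁.autGroup T :=
      Helper87.autGroup_le_of_subsystem (chiSys_isSubsystemOf F₁ p hS₁ hinv₁.2.1.1 _) hTS₁ hTS₁ hα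
    exact (mem_of_kdec_tcen hS₁ hEs hG.sat hinv₁ hK 0 T α (tcen_top hsc₁) (by omega) hα₁ hdec).1

/-! ### the step of `p`-power index -/

/-- the elements of `S₁` inducing on `T` an automorphism in `K` -/
def cK (S₁ T : Subgroup Ω) (K : Subgroup (MulAut T)) : Subgroup Ω where
  carrier := {x | x ∈ S₁ ∧ ∃ κ ∈ K, ∀ t ∈ T, extAut κ t = x * t * x⁻¹}
  one_mem' := ⟨S₁.one_mem, 1, K.one_mem, fun t ht => by rw [Helper87.extAut_one ht]; group⟩
  mul_mem' := by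
    rintro x y ⟨hx, κ, hκ, ex⟩ ⟨hy, μ, hμ, ey⟩
    refine ⟨S₁.mul_mem hx hy, κ * μ, K.mul_mem hκ hμ, fun t ht => ?_⟩
    have h1 : y * t * y⁻¹ ∈ T := by rw [← ey t ht]; exact Helper87.extAut_mem_self μ ht
    rw [Helper87.extAut_mul κ μ ht, ey t ht, ex _ h1]
    group
  inv_mem' := by
    rintro x ⟨hx, κ, hκ, ex⟩
    refine ⟨S₁.inv_mem hx, κ⁻¹, K.inv_mem hκ, fun t ht => ?_⟩
    have h1 := ex (extAut κ⁻¹ t) (Helper87.extAut_mem_self _ ht)
    rw [Helper87.extAut_inv_right κ ht] at h1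
    conv_rhs => rw [h1]
    group

theorem mem_cK {K : Subgroup (MulAut T)} {x : Ω} :
    x ∈ cK S₁ T K ↔ x ∈ S₁ ∧ ∃ κ ∈ K, ∀ t ∈ T, extAut κ t = x * t * x⁻¹ := Iff.rfl

theorem cK_le (K : Subgroup (MulAut T)) : cK S₁ T K ≤ S₁ := fun _ h => h.1

theorem le_cK (hTS₁ : T ≤ S₁) {K : Subgroup (MulAut T)} (hK : Inn T ≤ K) : T ≤ cK S₁ T K := by
  intro t₀ ht₀
  refine ⟨hTS₁ ht₀, MulAut.conj (⟨t₀, ht₀⟩ : T), hK ⟨_, rfl⟩, fun t ht => ?_⟩
  rw [extAut_conj ht]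

theorem cen_le_cK {K : Subgroup (MulAut T)} (hC : centralizerIn S T ≤ S₁) :
    centralizerIn S T ≤ cK S₁ T K := by
  intro c hc
  refine ⟨hC hc, 1, K.one_mem, fun t ht => ?_⟩
  rw [Helper87.extAut_one ht]
  have := Subgroup.mem_centralizer_iff.mp hc.2 t ht
  rw [← this]; group

/-- **the step of `p`-power index** -/
theorem step_ppower [Finite S] {p : ℕ} [hp : Fact p.Prime] (hS : IsPGroup p S)
    {F : FusionSystem S} {E : FusionSystem T} (hE : E.IsWeaklyNormalIn F p)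
    {F₁ : FusionSystem S₁} (hG : Good F E p S₁ F₁) {K : Subgroup (MulAut T)}
    (hEK : E.autGroup T ≤ K) (hKn : ∀ γ ∈ F.autGroup T, ∀ κ ∈ K, γ * κ * γ⁻¹ ∈ K)
    (hKp : ∀ g ∈ F₁.autGroup T, (orderOf g).Coprime p → g ∈ K) :
    ∃ (S₂ : Subgroup Ω) (F₂ : FusionSystem S₂), Good F E p S₂ F₂ ∧ F₂.autGroup T ≤ K := by
  have hEs : E.IsSaturated p := hE.1
  have hinv : E.IsInvariantIn F := hE.2.2
  have hF₁inv : F₁.IsInvariantIn F := hG.normal.1.2.2
  have hsub₁ : F₁.IsSubsystemOf F := hF₁inv.1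
  have hS₁S : S₁ ≤ S := hF₁inv.2.1.1
  have hfin : Finite S₁ := Helper87.finite_of_le hS₁S
  have hS₁ : IsPGroup p S₁ := hS.to_le hS₁S
  have hTS₁ : T ≤ S₁ := Cfsg.Agent.S5203.le_of_sub hG.sub
  have hTS : T ≤ S := hTS₁.trans hS₁S
  have hfinT : Finite T := Helper87.finite_of_le hTS
  have hT : IsPGroup p T := hS.to_le hTS
  have hsc : F.StronglyClosed T := hinv.2.1
  have hsc₁ : F₁.StronglyClosed T := stronglyClosed_of_sub hsub₁ hTS₁ hsc
  have hA₁ : F₁.autGroup T ≤ F.autGroup T := Helper87.autGroup_le_of_subsystem hsub₁ hTS₁ hTS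
  have hInn : Inn T ≤ K := (inn_le_autGroup E le_rfl).trans hEK
  -- the new underlying group
  have hS₂S₁ : cK S₁ T K ≤ S₁ := cK_le K
  have hTS₂ : T ≤ cK S₁ T K := le_cK hTS₁ hInn
  have hCS₂ : centralizerIn S T ≤ cK S₁ T K := cen_le_cK (le_sup_right.trans hG.cen)
  have hresK : ∀ (S' : Subgroup Ω) (F' : FusionSystem S'), F'.IsSubsystemOf F₁ → T ≤ S' →
      ∀ b : F'.autGroup T, b ∈ pResidual p (F'.autGroup T) → (b : MulAut T) ∈ K := by
    intro S' F' hF' hTS' b hb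
    have hle : pResidual p (F'.autGroup T) ≤ K.comap (F'.autGroup T).subtype := by
      unfold pResidual
      rw [Subgroup.closure_le]
      intro g hg
      have hg1 : (g : MulAut T) ∈ F₁.autGroup T :=
        Helper87.autGroup_le_of_subsystem hF' hTS' hTS₁ g.2
      refine hKp _ hg1 ?_
      have h2 : orderOf (g : MulAut T) = orderOf g := Subgroup.orderOf_coe g
      show (orderOf (g : MulAut T)).Coprime p
      rw [h2]
      exact hg
    exact hle hb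
  have hhyp : F₁.hyperfocalSubgroup p ≤ cK S₁ T K := by
    intro x hx
    obtain ⟨α, hα, e⟩ := Cfsg.Agent.S5198.result p hS₁ F₁ hG.sat T hsc₁ x hx
    have hle : (pResidual p (F₁.autGroup T)).map (F₁.autGroup T).subtype ⊔ Inn T ≤ K := by
      refine sup_le ?_ hInn
      rintro _ ⟨b, hb, rfl⟩
      exact hresK S₁ F₁ (fun P => subset_rfl) hTS₁ b hb
    refine ⟨Cfsg.Agent.S5124.hyperfocal_le F₁ p hx, α, hle hα, fun t ht => ?_⟩
    rw [Helper87.extAut_mem α ht]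
    exact e ⟨t, ht⟩
  -- conjugation by elements of `S` as automorphisms of `T`
  have hconj : ∀ s ∈ S, ∃ σ ∈ F.autGroup T, ∀ x ∈ T, extAut σ x = s * x * s⁻¹ := by
    intro s hs
    obtain ⟨k, hk⟩ := hS ⟨s, hs⟩
    have hk' : s ^ (p ^ k) = 1 := by
      have := congrArg Subtype.val hk
      simpa using this
    obtain ⟨σ, hσ, e, -⟩ := exists_conjAut hsc hs hk'
    exact ⟨σ, hσ, e⟩
  have hnorm : ((cK S₁ T K).subgroupOf S₁).Normal := by
    refine ⟨fun x hx s => ?_⟩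
    rw [Subgroup.mem_subgroupOf] at hx ⊢
    obtain ⟨-, κ, hκ, eκ⟩ := hx
    obtain ⟨σ, hσ, eσ⟩ := hconj s (hS₁S s.2)
    refine ⟨S₁.mul_mem (S₁.mul_mem s.2 x.2) (S₁.inv_mem s.2), σ * κ * σ⁻¹, hKn σ hσ κ hκ,
      fun t ht => ?_⟩
    have h1 : extAut σ⁻¹ t ∈ T := Helper87.extAut_mem_self _ ht
    have h2 : extAut σ⁻¹ t = (s : Ω)⁻¹ * t * (s : Ω) := by
      have h3 := eσ _ h1
      rw [Helper87.extAut_inv_right σ ht] at h3
      conv_rhs => rw [h3]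
      group
    rw [Helper87.extAut_mul (σ * κ) σ⁻¹ ht, Helper87.extAut_mul σ κ h1, eσ _
      (Helper87.extAut_mem_self κ h1), eκ _ h1, h2]
    simp only [Subgroup.coe_mul, Subgroup.coe_inv]
    group
  have hsc₂ : F₁.StronglyClosed (cK S₁ T K) :=
    Cfsg.Agent.S5120.stronglyClosed_of_hyperfocal_le hS₁ hG.sat hS₂S₁ hnorm hhyp
  obtain ⟨F₂, hF₂s, hF₂i⟩ := exists_ppower_subsystem (Nat.card S₁) S₁ hfin hS₁ le_rfl F₁ hG.sat
    (cK S₁ T K) hS₂S₁ hhyp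
  have hn₂ : F₂.IsNormalIn F₁ p :=
    Cfsg.Agent.S5120.result p hS₁ F₁ hG.sat _ hS₂S₁ hnorm hhyp F₂ hF₂s hF₂i
  have hfin₂ : Finite (cK S₁ T K) := Helper87.finite_of_le hS₂S₁
  have hS₂ : IsPGroup p (cK S₁ T K) := hS₁.to_le hS₂S₁
  have hsub₂ : F₂.IsSubsystemOf F₁ := hF₂i.1
  have hEF₂ : E.IsSubsystemOf F₂ := Cfsg.Agent.S5203.sub_of_ppower hT hEs hG.sub hF₂i hTS₂
  refine ⟨cK S₁ T K, F₂, ⟨hF₂s, ?_, hEF₂, sup_le hTS₂ hCS₂, ?_,
    hasExt_ppower hEs hF₂i (sup_le hTS₂ hCS₂) hG.ext⟩, ?_⟩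
  · refine normal_of_normBy hS hG.normal hn₂ (centralizerIn_le_of_le hTS₂ (sup_le hTS₂ hCS₂)) ?_
    intro α hα
    have hαN : NormalizesSys F₁ α := normalizesSys_of_invariant hF₁inv hα
    have hstab : ∀ a ∈ F.autGroup S₁, ∀ x ∈ cK S₁ T K, extAut a x ∈ cK S₁ T K := by
      intro a ha x hx
      obtain ⟨hxS₁, κ, hκ, eκ⟩ := hx
      obtain ⟨γ, hγ, eγ⟩ := restrict_to hsc hTS₁ hS₁S ha
      have ham : Mor F S₁ (extAut a) := (Helper87.mem_autGroup_iff hS₁S).mp ha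
      refine ⟨Helper87.extAut_mem_self a hxS₁, γ * κ * γ⁻¹, hKn γ hγ κ hκ, fun t ht => ?_⟩
      have h1 : extAut γ⁻¹ t ∈ T := Helper87.extAut_mem_self _ ht
      have h2 : extAut κ (extAut γ⁻¹ t) ∈ T := Helper87.extAut_mem_self _ h1
      rw [Helper87.extAut_mul (γ * κ) γ⁻¹ ht, Helper87.extAut_mul γ κ h1, eγ _ h2, eκ _ h1,
        ham.map_mul (S₁.mul_mem hxS₁ (hTS₁ h1)) (S₁.inv_mem hxS₁), ham.map_mul hxS₁ (hTS₁ h1),
        ham.map_inv hxS₁, ← eγ _ h1, Helper87.extAut_inv_right γ ht]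
    exact normBy_ppower hS₁ hF₂s hF₂i hsc₂ hαN (hstab α hα)
      (hstab α⁻¹ (Subgroup.inv_mem _ hα))
  · intro U Finf hFinf V L hL
    obtain ⟨V₁, L₁, hL₁⟩ := exists_rl' hS₁ F₁ hG.sat
    have h1 : Same L₁ L := Cfsg.Agent.S5203.result p hS₁ F₁ hG.sat F₂ hn₂ hF₂i L₁ hL₁ L hL
    exact h1.symm.trans (hG.rl Finf hFinf L₁ hL₁)
  · intro α hα
    have hscT₂ : F₂.StronglyClosed T :=
      stronglyClosed_of_sub (fun P => (hsub₂ P).trans (hsub₁ P)) hTS₂ hsc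
    have hfn : F₂.IsFullyNormalized T := fullyNormalized_of_stronglyClosed hscT₂
    obtain ⟨n, hn, b, hb, e⟩ := aut_decomp hS₂ hF₂s hfn hα
    obtain ⟨-, κ, hκ, eκ⟩ := hn.1
    have hbK : (b : MulAut T) ∈ K := hresK _ F₂ hsub₂ hTS₂ b hb
    have : α = κ * (b : MulAut T) := by
      ext x
      rw [e x, MulAut.mul_apply, ← eκ _ ((b : MulAut T) x).2, Helper87.extAut_apply]
    rw [this]
    exact K.mul_mem hκ hbK

end Cfsg.Agent.Helper84.Z5
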