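import Mathlib
import Cfsg.Prelude.Def_FusionSystem
import Cfsg.Prelude.Def_Local
import Cfsg.Agent.Lib.Helper84.FusZ5

/-!
# The chain of subgroups given by a `p`-solvable quotient, and the envelope `F₀`
-/

set_option autoImplicit false

namespace Cfsg.Agent.Helper84.Z6

open Cfsg Cfsg.FusionSystem
open Cfsg.Agent.Helper87 (Mor Iso extFun extAut)
open Cfsg.Agent.Helper84.Z3 Cfsg.Agent.Helper84.Z4 Cfsg.Agent.Helper84.Z2 Cfsg.Agent.Helper84.Z5
open Cfsg.Agent.S5203 (Same)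

theorem mem_of_pow_mem_coprime {G : Type*} [Group G] (B : Subgroup G) {g : G} {a b : ℕ}
    (ha : g ^ a ∈ B) (hb : g ^ b ∈ B) (hab : a.Coprime b) : g ∈ B := by
  have h1 : (Nat.gcd a b : ℤ) = a * Nat.gcdA a b + b * Nat.gcdB a b := Nat.gcd_eq_gcd_ab a b
  rw [hab] at h1
  have h2 : g = (g ^ a) ^ (Nat.gcdA a b) * (g ^ b) ^ (Nat.gcdB a b) := by
    rw [← zpow_natCast g a, ← zpow_natCast g b, ← zpow_mul, ← zpow_mul, ← zpow_add, ← h1]
    simp
  rw [h2]
  exact B.mul_mem (B.zpow_mem ha _) (B.zpow_mem hb _)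

theorem pow_relIndex_mem {G : Type*} [Group G] (B C : Subgroup G) [B.Normal] {g : G}
    (hg : g ∈ C) : g ^ (B.relIndex C) ∈ B := by
  have h := Subgroup.pow_index_mem (B.subgroupOf C) (⟨g, hg⟩ : C)
  rw [Subgroup.mem_subgroupOf] at h
  have h2 : B.relIndex C = (B.subgroupOf C).index := rfl
  rw [h2]
  simpa using h

/-- the chain of subgroups between `N` and `A` given by a `p`-solvable quotient `A / N` -/
theorem exists_chain {X : Type*} [Group X] {p : ℕ} (A N : Subgroup X) (hNA : N ≤ A)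
    [hn : (N.subgroupOf A).Normal] (hsolv : IsPSolvable p (↥A ⧸ N.subgroupOf A)) :
    ∃ (n : ℕ) (M : Fin (n + 1) → Subgroup X), M 0 = N ∧ M (Fin.last n) = A ∧
      (∀ i, ∀ γ ∈ A, ∀ κ ∈ M i, γ * κ * γ⁻¹ ∈ M i) ∧ (∀ i, N ≤ M i) ∧
      ∀ i : Fin n, ((∀ g ∈ M i.succ, ∀ k : ℕ, g ^ (p ^ k) = 1 → g ∈ M i.castSucc) ∨
        (∀ g ∈ M i.succ, (orderOf g).Coprime p → g ∈ M i.castSucc)) := by
  obtain ⟨n, H, h0, hlast, hmono, hnorm, hstep⟩ := hsolv
  have hmem : ∀ (i : Fin (n + 1)) (x : X),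
      x ∈ ((H i).comap (QuotientGroup.mk' (N.subgroupOf A))).map A.subtype ↔
        ∃ hx : x ∈ A, (QuotientGroup.mk (⟨x, hx⟩ : A) : ↥A ⧸ N.subgroupOf A) ∈ H i := by
    intro i x
    constructor
    · rintro ⟨a, ha, rfl⟩
      exact ⟨a.2, ha⟩
    · rintro ⟨hx, h⟩
      exact ⟨⟨x, hx⟩, h, rfl⟩
  refine ⟨n, fun i => ((H i).comap (QuotientGroup.mk' (N.subgroupOf A))).map A.subtype,
    ?_, ?_, ?_, ?_, ?_⟩
  · ext x
    rw [hmem, h0]
    constructor
    · rintro ⟨hx, h⟩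
      rw [Subgroup.mem_bot, QuotientGroup.eq_one_iff] at h
      exact h
    · intro hx
      refine ⟨hNA hx, ?_⟩
      rw [Subgroup.mem_bot, QuotientGroup.eq_one_iff]
      exact hx
  · ext x
    rw [hmem, hlast]
    exact ⟨fun ⟨hx, _⟩ => hx, fun hx => ⟨hx, Subgroup.mem_top _⟩⟩
  · intro i γ hγ κ hκ
    rw [hmem] at hκ ⊢
    obtain ⟨hκA, h⟩ := hκ
    refine ⟨A.mul_mem (A.mul_mem hγ hκA) (A.inv_mem hγ), ?_⟩
    have := (hnorm i).conj_mem _ h (QuotientGroup.mk (⟨γ, hγ⟩ : A))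
    exact this
  · intro i x hx
    rw [hmem]
    refine ⟨hNA hx, ?_⟩
    have : (QuotientGroup.mk (⟨x, hNA hx⟩ : A) : ↥A ⧸ N.subgroupOf A) = 1 := by
      rw [QuotientGroup.eq_one_iff]
      exact hx
    rw [this]
    exact Subgroup.one_mem _
  · intro i
    have hni : (H i.castSucc).Normal := hnorm _
    rcases hstep i with ⟨m, hm⟩ | hcop
    · right
      intro g hg hgo
      rw [hmem] at hg ⊢
      obtain ⟨hgA, h⟩ := hg
      refine ⟨hgA, ?_⟩
      have h1 := pow_relIndex_mem (H i.castSucc) (H i.succ) h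
      rw [hm] at h1
      have h2 : (QuotientGroup.mk (⟨g, hgA⟩ : A) : ↥A ⧸ N.subgroupOf A) ^ (orderOf g) ∈
          H i.castSucc := by
        rw [← QuotientGroup.mk_pow]
        have : (⟨g, hgA⟩ : A) ^ orderOf g = 1 := by
          apply Subtype.ext
          simp [pow_orderOf_eq_one]
        rw [this]
        exact Subgroup.one_mem _
      exact mem_of_pow_mem_coprime _ h2 h1 (Nat.Coprime.pow_right m hgo)
    · left
      intro g hg k hgk
      rw [hmem] at hg ⊢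
      obtain ⟨hgA, h⟩ := hg
      refine ⟨hgA, ?_⟩
      have h1 := pow_relIndex_mem (H i.castSucc) (H i.succ) h
      have h2 : (QuotientGroup.mk (⟨g, hgA⟩ : A) : ↥A ⧸ N.subgroupOf A) ^ (p ^ k) ∈
          H i.castSucc := by
        rw [← QuotientGroup.mk_pow]
        have : (⟨g, hgA⟩ : A) ^ (p ^ k) = 1 := by
          apply Subtype.ext
          simp [hgk]
        rw [this]
        exact Subgroup.one_mem _
      exact mem_of_pow_mem_coprime _ h1 h2 (Nat.Coprime.pow_right k hcop)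

variable {Ω : Type*} [Group Ω] {S S₁ T : Subgroup Ω}

/-- **the envelope**: descending along the chain -/
theorem exists_envelope [Finite S] {p : ℕ} [hp : Fact p.Prime] (hS : IsPGroup p S)
    {F : FusionSystem S} (hF : F.IsSaturated p) {E : FusionSystem T}
    (hE : E.IsNormalIn F p)
    [hn : ((E.autGroup T).subgroupOf (F.autGroup T)).Normal]
    (hsolv : IsPSolvable p (↥(F.autGroup T) ⧸ (E.autGroup T).subgroupOf (F.autGroup T))) :
    ∃ (S₁ : Subgroup Ω) (F₁ : FusionSystem S₁), Good F E p S₁ F₁ ∧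
      F₁.autGroup T ≤ E.autGroup T := by
  have hinv : E.IsInvariantIn F := hE.1.2.2
  have hTS : T ≤ S := hinv.2.1.1
  have hNA : E.autGroup T ≤ F.autGroup T := Helper87.autGroup_le_of_subsystem hinv.1 le_rfl hTS
  obtain ⟨n, M, hM0, hMl, hMn, hNM, hMs⟩ := exists_chain (F.autGroup T) (E.autGroup T) hNA hsolv
  have key : ∀ i : Fin (n + 1), ∃ (S₁ : Subgroup Ω) (F₁ : FusionSystem S₁), Good F E p S₁ F₁ ∧
      F₁.autGroup T ≤ M i := by
    intro i
    induction i using Fin.reverseInduction with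
    | last =>
      refine ⟨S, F, ⟨hF, normal_self hS F hF, hinv.1, ?_, ?_, ?_⟩, hMl.ge⟩
      · exact sup_le hTS inf_le_left
      · intro U Finf hFinf V L hL
        exact Cfsg.Agent.S5203.rl_unique L F p hL rfl inferInstance hS Finf F hFinf
          (Cfsg.Agent.S5203.same_refl F)
      · intro α hα
        obtain ⟨β, hβ, e1, e2⟩ := hE.2 α hα
        have hle : T ⊔ centralizerIn S T ≤ S := sup_le hTS inf_le_left
        refine ⟨extAut β, (Helper87.mem_autGroup_iff hle).mp hβ, fun x hx => ?_, fun c hc => ?_⟩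
        · rw [Helper87.extAut_mem β ((le_sup_left : T ≤ T ⊔ centralizerIn S T) hx),
            Helper87.extAut_mem α hx]
          exact e1 ⟨x, hx⟩
        · rw [Helper87.extAut_mem β ((le_sup_right : centralizerIn S T ≤ T ⊔ centralizerIn S T) hc)]
          exact (e2 ⟨c, (le_sup_right : centralizerIn S T ≤ T ⊔ centralizerIn S T) hc⟩ hc).1
    | cast i ih =>
      obtain ⟨S₁, F₁, hG, hle⟩ := ih
      rcases hMs i with h | h
      · obtain ⟨F₂, hG₂, h₂⟩ := step_prime hS hE.1 hG (hNM i.castSucc) (hMn i.castSucc)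
          (fun g hg k hk => h g (hle hg) k hk)
        exact ⟨S₁, F₂, hG₂, h₂⟩
      · exact step_ppower hS hE.1 hG (hNM i.castSucc) (hMn i.castSucc)
          (fun g hg hk => h g (hle hg) hk)
  obtain ⟨S₁, F₁, hG, hle⟩ := key 0
  exact ⟨S₁, F₁, hG, hle.trans hM0.le⟩

/-- when the automizer of `T` has come down to `Aut_E(T)`, the underlying group is `T C_S(T)` -/
theorem le_sup_cen_of_aut_le [Finite S] {p : ℕ} [hp : Fact p.Prime] (hS : IsPGroup p S)
    {F : FusionSystem S} {E : FusionSystem T} (hE : E.IsWeaklyNormalIn F p)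
    {F₁ : FusionSystem S₁} (hG : Good F E p S₁ F₁) (hle : F₁.autGroup T ≤ E.autGroup T) :
    S₁ ≤ T ⊔ centralizerIn S T := by
  have hEs : E.IsSaturated p := hE.1
  have hinv : E.IsInvariantIn F := hE.2.2
  have hF₁inv : F₁.IsInvariantIn F := hG.normal.1.2.2
  have hsub₁ : F₁.IsSubsystemOf F := hF₁inv.1
  have hS₁S : S₁ ≤ S := hF₁inv.2.1.1
  have hfin : Finite S₁ := Helper87.finite_of_le hS₁S
  have hS₁ : IsPGroup p S₁ := hS.to_le hS₁S
  have hTS₁ : T ≤ S₁ := Cfsg.Agent.S5203.le_of_sub hG.sub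
  have hTS : T ≤ S := hTS₁.trans hS₁S
  have hfinT : Finite T := Helper87.finite_of_le hTS
  have hsc : F.StronglyClosed T := hinv.2.1
  have hsc₁ : F₁.StronglyClosed T := stronglyClosed_of_sub hsub₁ hTS₁ hsc
  intro x hx
  obtain ⟨k, hk⟩ := hS₁ ⟨x, hx⟩
  have hk' : x ^ (p ^ k) = 1 := by
    have := congrArg Subtype.val hk
    simpa using this
  obtain ⟨σ, hσ, eσ, hσk⟩ := exists_conjAut hsc₁ hx hk'
  have hσE : σ ∈ E.autGroup T := hle hσ
  obtain ⟨j, -, hj⟩ := (Nat.dvd_prime_pow hp.out).mp (orderOf_dvd_of_pow_eq_one hσk)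
  have hj' : orderOf (⟨σ, hσE⟩ : E.autGroup T) = p ^ j := by
    rw [← hj]
    exact (Subgroup.orderOf_coe (⟨σ, hσE⟩ : E.autGroup T)).symm
  obtain ⟨g, hg, t, ht, -, e⟩ :=
    exists_aut_conj_of_pPower (top_fullyAutomized E hEs) (⟨σ, hσE⟩ : E.autGroup T) hj'
  have hgm : Mor E T (extAut g) := (Helper87.mem_autGroup_iff le_rfl).mp hg
  -- `σ` is conjugation by `g t`
  have hgt : extAut g t ∈ T := Helper87.extAut_mem_self g ht
  have hconj : ∀ y ∈ T, x * y * x⁻¹ = extAut g t * y * (extAut g t)⁻¹ := by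
    intro y hy
    obtain ⟨y', hy', rfl⟩ := Helper87.extAut_surj g hy
    rw [← eσ _ (Helper87.extAut_mem_self g hy')]
    have := e y' hy'
    simp only at this
    rw [this, hgm.map_mul (T.mul_mem ht hy') (T.inv_mem ht), hgm.map_mul ht hy', hgm.map_inv ht]
  have hc : (extAut g t)⁻¹ * x ∈ centralizerIn S T := by
    refine Subgroup.mem_inf.mpr ⟨S.mul_mem (S.inv_mem (hTS hgt)) (hS₁S hx), ?_⟩
    rw [Subgroup.mem_centralizer_iff]
    intro y hy
    have h1 := hconj y hy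
    calc y * ((extAut g t)⁻¹ * x)
        = (extAut g t)⁻¹ * (extAut g t * y * (extAut g t)⁻¹) * x := by group
      _ = (extAut g t)⁻¹ * (x * y * x⁻¹) * x := by rw [h1]
      _ = (extAut g t)⁻¹ * x * y := by group
  have : x = extAut g t * ((extAut g t)⁻¹ * x) := by group
  rw [this]
  exact Subgroup.mul_mem _ ((le_sup_left : T ≤ T ⊔ centralizerIn S T) hgt)
    ((le_sup_right : centralizerIn S T ≤ T ⊔ centralizerIn S T) hc)

/-- **the envelope over `T C_S(T)`** -/
theorem envelope [Finite S] {p : ℕ} [hp : Fact p.Prime] (hS : IsPGroup p S)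
    {F : FusionSystem S} (hF : F.IsSaturated p) {E : FusionSystem T}
    (hE : E.IsNormalIn F p)
    [hn : ((E.autGroup T).subgroupOf (F.autGroup T)).Normal]
    (hsolv : IsPSolvable p (↥(F.autGroup T) ⧸ (E.autGroup T).subgroupOf (F.autGroup T))) :
    ∃ F₀ : FusionSystem (T ⊔ centralizerIn S T), Good F E p (T ⊔ centralizerIn S T) F₀ ∧
      F₀.autGroup T = E.autGroup T := by
  obtain ⟨S₁, F₁, hG, hle⟩ := exists_envelope hS hF hE hsolv
  have hS₁ : S₁ = T ⊔ centralizerIn S T :=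
    le_antisymm (le_sup_cen_of_aut_le hS hE.1 hG hle) hG.cen
  subst hS₁
  exact ⟨F₁, hG, le_antisymm hle
    (Helper87.autGroup_le_of_subsystem hG.sub le_rfl le_sup_left)⟩

end Cfsg.Agent.Helper84.Z6
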