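import Mathlib
import Cfsg.Prelude.Def_FusionSystem
import Cfsg.Agent.Lib.Helper84.FusZ6
import Cfsg.Agent.Lib.Helper85.QuotLift3

/-!
# The envelope `F₀` over `T C_S(T)`: maps between subgroups of `T`, and good extensions
-/

set_option autoImplicit false

namespace Cfsg.Agent.Helper84.Z7

open Cfsg Cfsg.FusionSystem
open Cfsg.Agent.Helper87 (Mor Iso extFun extAut)
open Cfsg.Agent.Helper84.Z5
open Cfsg.Agent.S5203 (Same)

section card
variable {G : Type*} [Group G]

theorem card_mul_relIndex' {X Y : Subgroup G} (h : X ≤ Y) :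
    Nat.card X * X.relIndex Y = Nat.card Y := by
  have := Subgroup.relIndex_mul_relIndex (⊥ : Subgroup G) X Y bot_le h
  rwa [Subgroup.relIndex_bot_left, Subgroup.relIndex_bot_left] at this

theorem card_sup_mul_card_inf_normal (H N : Subgroup G) [N.Normal] :
    Nat.card (H ⊔ N : Subgroup G) * Nat.card (H ⊓ N : Subgroup G) = Nat.card H * Nat.card N := by
  have h1 : Nat.card N * N.relIndex (H ⊔ N) = Nat.card (H ⊔ N : Subgroup G) :=
    card_mul_relIndex' le_sup_right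
  have h2 : Nat.card (H ⊓ N : Subgroup G) * (H ⊓ N).relIndex H = Nat.card H :=
    card_mul_relIndex' inf_le_left
  rw [Subgroup.relIndex_sup_right] at h1
  rw [inf_comm, Subgroup.inf_relIndex_right] at h2
  rw [inf_comm, ← h1, ← h2]
  ring

theorem card_sup_mul_card_inf_of_le (H N : Subgroup G)
    (h : H ≤ Subgroup.normalizer (N : Set G)) :
    Nat.card (H ⊔ N : Subgroup G) * Nat.card (H ⊓ N : Subgroup G) = Nat.card H * Nat.card N := by
  set L : Subgroup G := H ⊔ N with hL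
  have hHL : H ≤ L := le_sup_left
  have hNL : N ≤ L := le_sup_right
  have hLn : L ≤ Subgroup.normalizer (N : Set G) := sup_le h Subgroup.le_normalizer
  have hn : (N.subgroupOf L).Normal := (Subgroup.normal_subgroupOf_iff_le_normalizer hNL).mpr hLn
  have h1 := card_sup_mul_card_inf_normal (H.subgroupOf L) (N.subgroupOf L)
  have h2 : H.subgroupOf L ⊔ N.subgroupOf L = ⊤ := by
    rw [← Subgroup.subgroupOf_sup hHL hNL, Subgroup.subgroupOf_self]
  have h3 : H.subgroupOf L ⊓ N.subgroupOf L = (H ⊓ N).subgroupOf L := by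
    ext x; simp [Subgroup.mem_subgroupOf]
  have hc : ∀ {A : Subgroup G}, A ≤ L → Nat.card (A.subgroupOf L) = Nat.card A := fun hA =>
    Nat.card_congr (Subgroup.subgroupOfEquivOfLe hA).toEquiv
  rw [h2, h3, Subgroup.card_top, hc (inf_le_left.trans hHL), hc hHL, hc hNL] at h1
  exact h1

end card

variable {Ω : Type*} [Group Ω] {S T U : Subgroup Ω}

/-- the situation after the chain: `F₀` over `U = T C_S(T)` with `Aut_{F₀}(T) = Aut_E(T)` -/
structure Env (F : FusionSystem S) (E : FusionSystem T) (p : ℕ) (U : Subgroup Ω)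
    (F₀ : FusionSystem U) : Prop where
  satE : E.IsSaturated p
  sat : F₀.IsSaturated p
  sub : F₀.IsSubsystemOf F
  subE : E.IsSubsystemOf F₀
  inv : E.IsInvariantIn F₀
  le : U ≤ T ⊔ centralizerIn S T
  cen : centralizerIn S T ≤ U
  aut : F₀.autGroup T ≤ E.autGroup T
  ext : ∀ α ∈ E.autGroup T, HasExt S F₀ α

namespace Env

variable {F : FusionSystem S} {E : FusionSystem T} {p : ℕ} {F₀ : FusionSystem U}

theorem hTU (h : Env F E p U F₀) : T ≤ U := Cfsg.Agent.S5203.le_of_sub h.subE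

theorem hUS (h : Env F E p U F₀) : U ≤ S := Cfsg.Agent.S5203.le_of_sub h.sub

theorem hWU (h : Env F E p U F₀) : T ⊔ centralizerIn S T ≤ U := sup_le h.hTU h.cen

theorem hsc (h : Env F E p U F₀) : F₀.StronglyClosed T := h.inv.2.1

/-- maps of `F₀` between subgroups of `T` are maps of `E` -/
theorem mor_E (h : Env F E p U F₀) {P : Subgroup Ω} (hP : P ≤ T) {f : Ω → Ω}
    (hf : Mor F₀ P f) : Mor E P f := by
  obtain ⟨α, hα, f₀, hf₀, e⟩ := Helper87.frattini_fun h.inv hP hf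
  have hαm : Mor E T (extAut α) := (Helper87.mem_autGroup_iff le_rfl).mp (h.aut hα)
  exact (hf₀.comp hαm (fun x hx => hf₀.mem hx)).congr (fun x hx => (e x hx).symm)

theorem iso_E (h : Env F E p U F₀) {P Q : Subgroup Ω} (hP : P ≤ T) {f : Ω → Ω}
    (hf : Iso F₀ P Q f) : Iso E P Q f := ⟨h.mor_E hP hf.1, hf.2⟩

theorem cen_le_centralizer {Q : Subgroup Ω} (hQ : Q ≤ T) {c : Ω} (hc : c ∈ centralizerIn S T) :
    c ∈ Subgroup.centralizer (Q : Set Ω) := by
  rw [Subgroup.mem_centralizer_iff]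
  intro x hx
  exact Subgroup.mem_centralizer_iff.mp hc.2 x (hQ hx)

theorem cen_le_normalizer {Q : Subgroup Ω} (hQ : Q ≤ T) {c : Ω} (hc : c ∈ centralizerIn S T) :
    c ∈ Subgroup.normalizer (Q : Set Ω) := by
  apply Subgroup.centralizer_le_normalizer
  exact cen_le_centralizer hQ hc

theorem normalizerIn_eq (h : Env F E p U F₀) {Q : Subgroup Ω} (hQ : Q ≤ T) :
    normalizerIn U Q = normalizerIn T Q ⊔ centralizerIn S T := by
  apply le_antisymm
  · intro x hx
    obtain ⟨t, ht, c, hc, rfl⟩ := mem_sup_cen (le_refl T) (h.le hx.1)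
    have hcN : c ∈ Subgroup.normalizer (Q : Set Ω) := cen_le_normalizer hQ hc
    have htN : t ∈ Subgroup.normalizer (Q : Set Ω) := by
      have h1 : t = t * c * c⁻¹ := by group
      rw [h1]
      exact Subgroup.mul_mem _ hx.2 (Subgroup.inv_mem _ hcN)
    exact Subgroup.mul_mem _ ((le_sup_left : normalizerIn T Q ≤ _) ⟨ht, htN⟩)
      ((le_sup_right : centralizerIn S T ≤ normalizerIn T Q ⊔ centralizerIn S T) hc)
  · exact sup_le (fun x hx => ⟨h.hTU hx.1, hx.2⟩) (fun c hc => ⟨h.cen hc, cen_le_normalizer hQ hc⟩)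

theorem normalizerIn_inf {Q : Subgroup Ω} (hQ : Q ≤ T) :
    normalizerIn T Q ⊓ centralizerIn S T = T ⊓ centralizerIn S T := by
  apply le_antisymm
  · exact inf_le_inf_right _ inf_le_left
  · intro x hx
    exact ⟨⟨hx.1, cen_le_normalizer hQ hx.2⟩, hx.2⟩

theorem card_normalizerIn (h : Env F E p U F₀) {Q : Subgroup Ω} (hQ : Q ≤ T) :
    Nat.card (normalizerIn U Q) * Nat.card (T ⊓ centralizerIn S T : Subgroup Ω) =
      Nat.card (normalizerIn T Q) * Nat.card (centralizerIn S T) := by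
  rw [h.normalizerIn_eq hQ, ← normalizerIn_inf hQ]
  refine card_sup_mul_card_inf_of_le _ _ ?_
  intro x hx
  apply Subgroup.centralizer_le_normalizer
  rw [Subgroup.mem_centralizer_iff]
  intro c hc
  exact (Subgroup.mem_centralizer_iff.mp hc.2 x hx.1).symm

/-- a subgroup of `T` fully normalized in `E` is fully normalized in `F₀` -/
theorem fullyNormalized [Finite S] (h : Env F E p U F₀) {P : Subgroup Ω}
    (hP : E.IsFullyNormalized P) : F₀.IsFullyNormalized P := by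
  have hPT : P ≤ T := hP.1
  have hfinU : Finite U := Helper87.finite_of_le h.hUS
  refine ⟨hPT.trans h.hTU, fun Q hQ => ?_⟩
  obtain ⟨f, hf⟩ := Helper87.isConj_iff.1 hQ
  have hfE : Iso E P Q f := h.iso_E hPT hf
  have hQT : Q ≤ T := hfE.le_right
  have h1 := hP.2 Q (Helper87.isConj_iff.2 ⟨f, hfE⟩)
  have h2 := h.card_normalizerIn hQT
  have h3 := h.card_normalizerIn hPT
  have hfinZ : Finite (T ⊓ centralizerIn S T : Subgroup Ω) :=
    Helper87.finite_of_le (inf_le_right.trans (inf_le_left : centralizerIn S T ≤ S))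
  have hpos : 0 < Nat.card (T ⊓ centralizerIn S T : Subgroup Ω) := Nat.card_pos
  have h4 : Nat.card (normalizerIn U Q) * Nat.card (T ⊓ centralizerIn S T : Subgroup Ω) ≤
      Nat.card (normalizerIn U P) * Nat.card (T ⊓ centralizerIn S T : Subgroup Ω) := by
    rw [h2, h3]
    exact Nat.mul_le_mul_right _ h1
  exact Nat.le_of_mul_le_mul_right h4 hpos

/-- a map on `P C_S(T)` stabilizing the `T`-centric subgroup `P` stabilizes `P C_S(T)` -/
theorem maps_sup (h : Env F E p U F₀) {P : Subgroup Ω} (hPT : P ≤ T)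
    (hCP : centralizerIn T P ≤ P) {a : Ω → Ω} (ha : Mor F₀ (P ⊔ centralizerIn S T) a)
    (haP : ∀ x ∈ P, a x ∈ P) (hsurj : ∀ y ∈ P, ∃ x ∈ P, a x = y) :
    ∀ x ∈ P ⊔ centralizerIn S T, a x ∈ P ⊔ centralizerIn S T := by
  have hPle : P ≤ P ⊔ centralizerIn S T := le_sup_left
  have hCle : centralizerIn S T ≤ P ⊔ centralizerIn S T := le_sup_right
  refine mor_map_sup ha (fun x hx => hPle (haP x hx)) (fun c hc => ?_)
  obtain ⟨t, ht, c', hc', e⟩ := mem_sup_cen (le_refl T) (h.le (ha.mem (hCle hc)))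
  have hcen : a c ∈ Subgroup.centralizer (P : Set Ω) := by
    rw [Subgroup.mem_centralizer_iff]
    intro y hy
    obtain ⟨x, hx, rfl⟩ := hsurj y hy
    rw [← ha.map_mul (hPle hx) (hCle hc), ← ha.map_mul (hCle hc) (hPle hx),
      Subgroup.mem_centralizer_iff.mp (cen_le_centralizer hPT hc) x hx]
  have htc : t ∈ Subgroup.centralizer (P : Set Ω) := by
    have h1 : t = a c * c'⁻¹ := by rw [e]; group
    rw [h1]
    exact Subgroup.mul_mem _ hcen (Subgroup.inv_mem _ (cen_le_centralizer hPT hc'))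
  rw [e]
  exact Subgroup.mul_mem _ (hPle (hCP ⟨ht, htc⟩)) (hCle hc')

/-- **good extensions**: for `P ≤ T` fully normalized and centric in `E`, every `α ∈ Aut_E(P)`
extends to `P C_S(T)` in `F₀`, moving `C_S(T)` only inside its cosets of `T` -/
theorem good_ext [Finite S] [hp : Fact p.Prime] (hS : IsPGroup p S) (h : Env F E p U F₀)
    {P : Subgroup Ω} (hfn : E.IsFullyNormalized P) (hcen : E.IsCentric P) {α : MulAut P}
    (hα : α ∈ E.autGroup P) :
    ∃ a, Mor F₀ (P ⊔ centralizerIn S T) a ∧ (∀ x ∈ P, a x = extAut α x) ∧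
      ∀ c ∈ centralizerIn S T, c⁻¹ * a c ∈ T := by
  have hPT : P ≤ T := hfn.1
  have hPU : P ≤ U := hPT.trans h.hTU
  have hfinU : Finite U := Helper87.finite_of_le h.hUS
  have hU : IsPGroup p U := hS.to_le h.hUS
  have hPle : P ≤ P ⊔ centralizerIn S T := le_sup_left
  have hCle : centralizerIn S T ≤ P ⊔ centralizerIn S T := le_sup_right
  have hPCU : P ⊔ centralizerIn S T ≤ U := sup_le hPU h.cen
  have hCP : centralizerIn T P ≤ P := hcen.2 P (Helper87.isConj_refl hPT)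
  have hrec : F₀.IsReceptive P :=
    Helper87.receptive_of_fullyNormalized hU h.sat (h.fullyNormalized hfn)
  have hαm : Mor F₀ P (extAut α) :=
    Helper87.Mor.of_subsystem h.subE ((Helper87.mem_autGroup_iff hPT).mp hα)
  have hiso : Iso F₀ P P (extAut α) := Helper87.iso_of_mor_extAut hαm
  obtain ⟨g₀, hg₀', e₀⟩ := (Helper87.isReceptive_iff.mp hrec).2 P _ hiso
  have hle : P ⊔ centralizerIn S T ≤ hiso.ext := by
    refine sup_le (fun x hx => ?_) (fun c hc => ?_)
    · refine ⟨hPU hx, Subgroup.le_normalizer hx, extAut α x, hPU (Helper87.extAut_mem_self α hx),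
        fun y hy => ?_⟩
      rw [hαm.map_mul (P.mul_mem hx hy) (P.inv_mem hx), hαm.map_mul hx hy, hαm.map_inv hx]
    · refine ⟨h.cen hc, cen_le_normalizer hPT hc, 1, U.one_mem, fun y hy => ?_⟩
      have := Subgroup.mem_centralizer_iff.mp (cen_le_centralizer hPT hc) y hy
      have h1 : c * y * c⁻¹ = y := by rw [← this]; group
      rw [h1]; group
  have hg₀ : Mor F₀ (P ⊔ centralizerIn S T) g₀ := hg₀'.restrict hle
  have hg₀P : ∀ x ∈ P, g₀ x ∈ P := fun x hx => by
    rw [e₀ x hx]; exact Helper87.extAut_mem_self α hx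
  have hg₀maps := h.maps_sup hPT hCP hg₀ hg₀P (fun y hy => by
    obtain ⟨x, hx, hxy⟩ := Helper87.extAut_surj α hy
    exact ⟨x, hx, (e₀ x hx).trans hxy⟩)
  -- lift modulo `T` to an automorphism of `U`
  obtain ⟨γ, hγ, eγ⟩ := Cfsg.Agent.Helper85.exists_liftMod hU h.sat h.hsc _ g₀ hg₀
  have hTle' : T ≤ (P ⊔ centralizerIn S T) ⊔ T := le_sup_right
  have hγT : ∀ t ∈ T, γ t ∈ T := fun t ht => sc_mem h.hsc hγ (hTle' ht) ht
  have hisoT : Iso F₀ T T γ := Helper87.iso_of_card_le (hγ.restrict hTle') h.hTU hγT le_rfl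
  obtain ⟨b, hb, eb, cb⟩ := h.ext _ (h.aut hisoT.equiv_mem_autGroup)
  have hisob := HasExt.iso hb eb cb
  obtain ⟨b', hb', hl, hr⟩ := hisob.symm
  have hTW : T ≤ T ⊔ centralizerIn S T := le_sup_left
  have hCW : centralizerIn S T ≤ T ⊔ centralizerIn S T := le_sup_right
  have hbmod : ∀ z ∈ T ⊔ centralizerIn S T, z⁻¹ * b z ∈ T := by
    intro z hz
    obtain ⟨t, ht, c, hc, rfl⟩ := mem_sup_cen (le_refl T) hz
    have hbt : b t ∈ T := by
      rw [eb t ht]; exact Helper87.extAut_mem_self _ ht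
    have h1 : t⁻¹ * b t ∈ T := T.mul_mem (T.inv_mem ht) hbt
    have h2 := Subgroup.mem_centralizer_iff.mp hc.2 _ h1
    rw [hb.map_mul (hTW ht) (hCW hc)]
    have h3 : (t * c)⁻¹ * (b t * b c) = c⁻¹ * (t⁻¹ * b t * c) * (c⁻¹ * b c) := by group
    rw [h3, h2]
    have h4 : c⁻¹ * (c * (t⁻¹ * b t)) * (c⁻¹ * b c) = t⁻¹ * b t * (c⁻¹ * b c) := by group
    rw [h4]
    exact T.mul_mem h1 (cb c hc)
  have hb'mod : ∀ y ∈ T ⊔ centralizerIn S T, (b' y)⁻¹ * y ∈ T := by
    intro y hy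
    have := hbmod (b' y) (hb'.map_mem hy)
    rwa [hr y hy] at this
  have hγW : ∀ x ∈ P ⊔ centralizerIn S T, γ x ∈ T ⊔ centralizerIn S T := fun x hx =>
    h.le (hγ.mem ((le_sup_left : P ⊔ centralizerIn S T ≤ _) hx))
  have hγ' : Mor F₀ (P ⊔ centralizerIn S T) (fun x => b' (γ x)) :=
    (hγ.restrict le_sup_left).comp hb'.1 hγW
  have hγ'P : ∀ x ∈ P, b' (γ x) = x := by
    intro x hx
    have h1 : b x = γ x := by
      rw [eb x (hPT hx)]
      exact Helper87.extAut_equiv hisoT (hPT hx)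
    rw [← h1]
    exact hl x (hTW (hPT hx))
  have hγ'mod : ∀ x ∈ P ⊔ centralizerIn S T, (g₀ x)⁻¹ * b' (γ x) ∈ T := by
    intro x hx
    have h1 := eγ x hx
    have h2 := T.inv_mem (hb'mod (γ x) (hγW x hx))
    have h3 : (g₀ x)⁻¹ * b' (γ x) = (g₀ x)⁻¹ * γ x * ((b' (γ x))⁻¹ * γ x)⁻¹ := by group
    rw [h3]
    exact T.mul_mem h1 h2
  have hγ'maps := h.maps_sup hPT hCP hγ' (fun x hx => by
    show b' (γ x) ∈ P
    rw [hγ'P x hx]; exact hx) (fun y hy => ⟨y, hy, hγ'P y hy⟩)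
  have hisoγ' : Iso F₀ (P ⊔ centralizerIn S T) (P ⊔ centralizerIn S T) (fun x => b' (γ x)) :=
    Helper87.iso_of_card_le hγ' hPCU hγ'maps le_rfl
  obtain ⟨γ'', hγ'', hl', hr'⟩ := hisoγ'.symm
  refine ⟨fun x => g₀ (γ'' x), hγ''.1.comp hg₀ (fun x hx => hγ''.map_mem hx), fun x hx => ?_,
    fun c hc => ?_⟩
  · show g₀ (γ'' x) = extAut α x
    have h1 : γ'' x = x := by
      have := hl' x (hPle hx)
      rwa [hγ'P x hx] at this
    rw [h1, e₀ x hx]
  · show c⁻¹ * g₀ (γ'' c) ∈ T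
    have hw : γ'' c ∈ P ⊔ centralizerIn S T := hγ''.map_mem (hCle hc)
    have h1 := hγ'mod _ hw
    have h2 : b' (γ (γ'' c)) = c := hr' c (hCle hc)
    rw [h2] at h1
    have h3 : c⁻¹ * g₀ (γ'' c) = ((g₀ (γ'' c))⁻¹ * c)⁻¹ := by group
    rw [h3]
    exact T.inv_mem h1

end Env

end Cfsg.Agent.Helper84.Z7
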