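import Mathlib
import Cfsg.Prelude.Def_FusionSystem
import Cfsg.Prelude.Def_FusionComponents
import Cfsg.Agent.Lib.Helper84.FusT3
import Cfsg.Agent.Lib.Helper84.FusZ7

/-!
# Transport of normality of subsystems and of subnormal chains
-/

set_option autoImplicit false

namespace Cfsg.Agent.Helper84.T4

open Cfsg Cfsg.FusionSystem
open Cfsg.Agent.Helper87 (Mor Iso extFun extAut extHom)
open Cfsg.Agent.Helper84.T1 Cfsg.Agent.Helper84.T2 Cfsg.Agent.Helper84.T3

universe u v w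
variable {Ω : Type u} {Ω' : Type v} [Group Ω] [Group Ω']
variable {U : Subgroup Ω} {U' : Subgroup Ω'} {θ : Ω → Ω'} {κ : Ω' → Ω}
variable {h : Tr U U' θ κ} {S T : Subgroup Ω} {S' T' : Subgroup Ω'}
variable {F : FusionSystem S} {F' : FusionSystem S'} {E : FusionSystem T} {E' : FusionSystem T'}

/-- strongly closed subgroups are transported -/
theorem stronglyClosed (hr : Rel h F F') {Q : Subgroup Ω} (hQ : F.StronglyClosed Q) :
    F'.StronglyClosed (h.img Q) := by
  rw [Helper87.stronglyClosed_iff] at hQ ⊢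
  refine ⟨hr.img_le hQ.1, fun R' f' hR' hf' x hx => ?_⟩
  have hm := hr.bwd _ _ hf'
  have hle : h.symm.img R' ≤ Q := by
    have := h.symm.img_mono hR'
    rwa [h.symm_img_img (hQ.1.trans hr.le)] at this
  have hxU' : x ∈ U' := hr.le' (hf'.le hx)
  have hκx : κ x ∈ h.symm.img R' := ⟨h.inv x hxU', by rw [h.right x hxU']; exact hx⟩
  have h1 := hQ.2 _ _ hle hm (κ x) hκx
  simp only [h.right x hxU'] at h1
  exact ⟨hr.le' (hf'.mem hx), h1⟩

/-- the strong invariance condition is transported -/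
theorem siFun (hrE : Rel h E E') (hr : Rel h F F') (hSI : Cfsg.Agent.S5119.SIfun E F) :
    Cfsg.Agent.S5119.SIfun E' F' := by
  intro P' Q' R' f' g' g'' hPQ hQT hf hfQ hg hR hg''
  have hT'U' : T' ≤ U' := hrE.le'
  have hQ'U' : Q' ≤ U' := hQT.trans hT'U'
  have hP'U' : P' ≤ U' := hPQ.trans hQ'U'
  have hR'U' : R' ≤ U' := by
    intro y hy
    obtain ⟨x, hx, rfl⟩ := (hR y).1 hy
    exact hr.le' (hg.mem (hPQ hx))
  have hκQT : h.symm.img Q' ≤ T := hrE.symm_img_le hQT
  have key := hSI (h.symm.img P') (h.symm.img Q') (h.symm.img R')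
    (fun x => κ (f' (θ x))) (fun x => κ (g' (θ x))) (fun x => κ (g'' (θ x)))
    (h.symm.img_mono hPQ) hκQT (hrE.bwd _ _ hf) ?_ (hr.bwd _ _ hg) ?_ ?_
  · have h1 := hrE.fwd _ _ key
    rw [h.img_symm_img hR'U'] at h1
    refine h1.congr (fun y hy => ?_)
    obtain ⟨x, hx, rfl⟩ := (hR y).1 hy
    have hgx : g' x ∈ U' := hr.le' (hg.mem (hPQ hx))
    have hfx : f' x ∈ U' := hQ'U' (hfQ x hx)
    show θ (κ (g' (θ (κ (f' (θ (κ (g'' (θ (κ (g' x)))))))))))
      = g' (f' (g'' (g' x)))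
    rw [h.right _ hgx, hg'' x hx, h.right _ (hP'U' hx), h.right _ hfx,
      h.right _ (hr.le' (hg.mem (hfQ x hx)))]
  · intro x hx
    have hfx : f' (θ x) ∈ Q' := hfQ _ hx.2
    exact ⟨h.inv _ (hQ'U' hfx), by rw [h.right _ (hQ'U' hfx)]; exact hfx⟩
  · intro y
    constructor
    · rintro ⟨hy, hy'⟩
      obtain ⟨x', hx', e⟩ := (hR _).1 hy'
      refine ⟨κ x', ⟨h.inv _ (hP'U' hx'), by rw [h.right _ (hP'U' hx')]; exact hx'⟩, ?_⟩
      show κ (g' (θ (κ x'))) = y
      rw [h.right _ (hP'U' hx'), e, h.left y hy]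
    · rintro ⟨x, hx, rfl⟩
      have hgx : g' (θ x) ∈ R' := (hR _).2 ⟨θ x, hx.2, rfl⟩
      exact ⟨h.inv _ (hR'U' hgx), by rw [h.right _ (hR'U' hgx)]; exact hgx⟩
  · intro x hx
    have hgx : g' (θ x) ∈ U' := hr.le' (hg.mem (hPQ hx.2))
    show κ (g'' (θ (κ (g' (θ x))))) = x
    rw [h.right _ hgx, hg'' _ hx.2, h.left x hx.1]

/-- the extension condition is transported -/
theorem cext (hr : Rel h F F') {T : Subgroup Ω} (hTS : T ≤ S) {a : Ω → Ω}
    (hc : CExt F T T a) :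
    CExt F' (h.img T) (h.img T) (fun y => θ (a (κ y))) := by
  obtain ⟨fh, hfh, e, hcf⟩ := hc
  obtain rfl := hr.eq
  have hS := hr.le
  have hTU : T ≤ U := hTS.trans hS
  have hCU : centralizerIn S T ≤ U := inf_le_left.trans hS
  have h1 := hr.fwd _ _ hfh
  rw [h.img_sup hTU hCU, h.img_centralizerIn hS hTU] at h1
  refine ⟨_, h1, fun y hy => ?_, fun c hc => ?_⟩
  · show θ (fh (κ y)) = θ (a (κ y))
    rw [e _ hy.2]
  · have hc' : c ∈ h.img (centralizerIn S T) := by
      rw [h.img_centralizerIn hS hTU]; exact hc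
    have hκc : κ c ∈ centralizerIn S T := hc'.2
    have h2 := hcf _ hκc
    have hcU' : c ∈ U' := hc'.1
    have hfc : fh (κ c) ∈ U := hS (hfh.mem ((le_sup_right : centralizerIn S T ≤ _) hκc))
    have h3 : θ ((κ c)⁻¹ * fh (κ c)) = c⁻¹ * θ (fh (κ c)) := by
      rw [h.mul _ (U.inv_mem (hCU hκc)) _ hfc, h.map_inv (hCU hκc), h.right c hcU']
    show c⁻¹ * θ (fh (κ c)) ∈ h.img T
    rw [← h3]
    exact h.map_mem_img h2 (hTU h2)

/-- **normality of subsystems is transported** -/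
theorem normalIn [Finite S] {p : ℕ} [Fact p.Prime] (hS : IsPGroup p S)
    (hrE : Rel h E E') (hr : Rel h F F') (hE : E.IsNormalIn F p) : E'.IsNormalIn F' p := by
  obtain ⟨⟨hEs, hFs, hinv⟩, hext⟩ := hE
  have hTS : T ≤ S := hinv.2.1.1
  have : Finite T := Finite.of_injective (Subgroup.inclusion hTS) (Subgroup.inclusion_injective hTS)
  have hT : IsPGroup p T := hS.to_le hTS
  have hFS' : Finite S' := hr.finite
  have hS' : IsPGroup p S' := hr.isPGroup hS
  have hE's : E'.IsSaturated p := hrE.saturated hT hEs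
  have hF's : F'.IsSaturated p := hr.saturated hS hFs
  have hsub' : E'.IsSubsystemOf F' := hrE.subsystem hr hinv.1
  have hT' : T' = h.img T := hrE.eq
  have hsc' : F'.StronglyClosed T' := by
    rw [hT']; exact stronglyClosed hr hinv.2.1
  have hinv' : E'.IsInvariantIn F' :=
    Cfsg.Agent.S5119.invariant_of_siFun hS' hF's hsub' hsc'
      (siFun hrE hr (Cfsg.Agent.S5119.siFun_of_invariant hinv))
  refine ⟨⟨hE's, hF's, hinv'⟩, fun α' hα' => ?_⟩
  refine exists_beta_of_cext hsc' ?_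
  have hT'S' : T' ≤ S' := hsc'.1
  have hm' : Mor E' T' (extAut α') := (Helper87.mem_autGroup_iff le_rfl).1 hα'
  have hm := hrE.bwd _ _ hm'
  rw [← hrE.eq'] at hm
  have hTU : T ≤ U := hrE.le
  have hiso : Iso E T T (fun x => κ (extAut α' (θ x))) := by
    refine Helper87.iso_of_card_le hm le_rfl (fun x hx => ?_) le_rfl
    exact hm.mem hx
  have hα : (hiso.equiv : MulAut T) ∈ E.autGroup T := hiso.equiv_mem_autGroup
  obtain ⟨β, hβ, e1, e2⟩ := hext _ hα
  have hle : T ⊔ centralizerIn S T ≤ S := sup_le hTS inf_le_left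
  have hc : CExt F T T (fun x => κ (extAut α' (θ x))) := by
    refine ⟨extAut β, (Helper87.mem_autGroup_iff hle).mp hβ, fun x hx => ?_, fun c hc => ?_⟩
    · rw [Helper87.extAut_mem β ((le_sup_left : T ≤ T ⊔ centralizerIn S T) hx)]
      exact e1 ⟨x, hx⟩
    · rw [Helper87.extAut_mem β ((le_sup_right : centralizerIn S T ≤ T ⊔ centralizerIn S T) hc)]
      exact (e2 ⟨c, (le_sup_right : centralizerIn S T ≤ T ⊔ centralizerIn S T) hc⟩ hc).1
  have hc' := cext hr hTS hc
  rw [← hT'] at hc'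
  refine hc'.congr (fun y hy => ?_)
  have hyU' : y ∈ U' := hrE.le' hy
  show θ (κ (extAut α' (θ (κ y)))) = extAut α' y
  rw [h.right y hyU', h.right _ (hrE.le' (Helper87.extAut_mem_self α' hy))]

end Cfsg.Agent.Helper84.T4
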