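import Mathlib
import Cfsg.Prelude.Def_FusionSystem
import Cfsg.Prelude.Def_FusionComponents
import Cfsg.Agent.Lib.Helper84.FusT4
import Cfsg.Agent.Lib.Helper87.FusionCenter
import Cfsg.Agent.S5144

/-!
# Transport of subnormal chains, of the hyperfocal subgroup and of the centre
-/

set_option autoImplicit false

namespace Cfsg.Agent.Helper84.T5

open Cfsg Cfsg.FusionSystem
open Cfsg.Agent.Helper87 (Mor Iso extFun extAut extHom)
open Cfsg.Agent.Helper84.T1 Cfsg.Agent.Helper84.T2 Cfsg.Agent.Helper84.T3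

universe u v w
variable {Ω : Type u} {Ω' : Type v} [Group Ω] [Group Ω']
variable {U : Subgroup Ω} {U' : Subgroup Ω'} {θ : Ω → Ω'} {κ : Ω' → Ω}
variable {h : Tr U U' θ κ}

theorem le_of_subnormal {p : ℕ} {T S : Subgroup Ω} {E : FusionSystem T} {F : FusionSystem S}
    (hsn : E.IsSubnormalIn F p) : T ≤ S := by
  induction hsn with
  | refl F p => exact le_rfl
  | step h1 h2 ih => exact ih.trans h2.1.2.2.2.1.1

theorem saturated_of_subnormal {p : ℕ} {T S : Subgroup Ω} {E : FusionSystem T}
    {F : FusionSystem S} (hsn : E.IsSubnormalIn F p) (hF : F.IsSaturated p) :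
    E.IsSaturated p := by
  induction hsn with
  | refl F p => exact hF
  | step h1 h2 ih => exact ih h2.1.1

/-- **subnormality is transported** -/
theorem subnormal {p : ℕ} {T S : Subgroup Ω} {E : FusionSystem T} {F : FusionSystem S}
    (hsn : E.IsSubnormalIn F p) :
    ∀ (_ : Fact p.Prime) (_ : Finite S) (_ : IsPGroup p S) {T' S' : Subgroup Ω'}
      (E' : FusionSystem T') (F' : FusionSystem S'), Rel h E E' → Rel h F F' →
      E'.IsSubnormalIn F' p := by
  induction hsn with
  | refl F p =>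
    intro hp hfin hS T' S' E' F' hrE hr
    obtain ⟨e, hH⟩ := hrE.unique hr
    subst e
    have : E' = F' := fusionSystem_ext hH
    subst this
    exact IsSubnormalIn.refl _ _
  | step h1 h2 ih =>
    rename_i T V S E D F p
    intro hp hfin hS T' S' E' F' hrE hr
    have hVS : V ≤ S := h2.1.2.2.2.1.1
    have hfinV : Finite V :=
      Finite.of_injective (Subgroup.inclusion hVS) (Subgroup.inclusion_injective hVS)
    obtain ⟨D', hrD⟩ := exists_push h D (hVS.trans hr.le)
    have h3 := ih hp hfinV (hS.to_le hVS) E' D' hrE hrD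
    exact IsSubnormalIn.step h3 (T4.normalIn hS hrD hr h2)

variable {S : Subgroup Ω} {S' : Subgroup Ω'} {F : FusionSystem S} {F' : FusionSystem S'}

/-- automorphism groups correspond -/
theorem mem_autGroup (hr : Rel h F F') {P' : Subgroup Ω'} (hP' : P' ≤ S') {α' : MulAut P'}
    (hα' : α' ∈ F'.autGroup P') :
    MulAut.congr (h.symm.equiv (hP'.trans hr.le')) α' ∈ F.autGroup (h.symm.img P') := by
  have hPS : h.symm.img P' ≤ S := hr.symm_img_le hP'
  rw [Helper87.mem_autGroup_iff hPS]
  have hm := hr.bwd _ _ ((Helper87.mem_autGroup_iff hP').1 hα')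
  refine hm.congr (fun x hx => ?_)
  rw [Helper87.extAut_mem _ hx]
  show κ (extAut α' (θ x)) = _
  rw [Helper87.extAut_mem α' hx.2]
  rfl

theorem hyperfocal_le (hr : Rel h F F') (p : ℕ) :
    F'.hyperfocalSubgroup p ≤ h.img (F.hyperfocalSubgroup p) := by
  refine Helper87.hyperfocal_le (fun P' hP' α' hα' hc x' => ?_)
  have hP'U' : P' ≤ U' := hP'.trans hr.le'
  have hPS : h.symm.img P' ≤ S := hr.symm_img_le hP'
  set e := h.symm.equiv hP'U' with he
  have hα := mem_autGroup hr hP' hα'
  have hord : orderOf (MulAut.congr e α') = orderOf α' :=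
    MulEquiv.orderOf_eq (MulAut.congr e) α'
  have h1 := Helper87.mem_hyperfocal (p := p) hPS hα (by rw [hord]; exact hc) (e x')
  have h2 : (((MulAut.congr e α') (e x') : h.symm.img P') : Ω) = κ (α' x') := by
    show ((e (α' (e.symm (e x'))) : h.symm.img P') : Ω) = κ (α' x')
    rw [e.symm_apply_apply]
    rfl
  have h3 : ((e x' : h.symm.img P') : Ω) = κ x' := rfl
  rw [h2, h3] at h1
  have hx'U' : (x' : Ω') ∈ U' := hP'U' x'.2
  have hax'U' : ((α' x' : P') : Ω') ∈ U' := hP'U' (α' x').2
  refine ⟨U'.mul_mem (U'.inv_mem hx'U') hax'U', ?_⟩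
  rw [h.mul' _ (U'.inv_mem hx'U') _ hax'U', h.symm.map_inv hx'U']
  exact h1

/-- the hyperfocal subgroup is transported -/
theorem hyperfocal (hr : Rel h F F') (p : ℕ) :
    F'.hyperfocalSubgroup p = h.img (F.hyperfocalSubgroup p) := by
  apply le_antisymm (hyperfocal_le hr p)
  have h1 := hyperfocal_le hr.symm p
  have h2 := h.img_mono h1
  rwa [h.img_symm_img ((Helper87.hyperfocal_le_self F' p).trans hr.le')] at h2

/-- central subgroups are transported -/
theorem isCentral (hr : Rel h F F') {Q : Subgroup Ω} (hQ : F.IsCentral Q) :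
    F'.IsCentral (h.img Q) := by
  rw [Helper87.isCentral_iff] at hQ ⊢
  refine ⟨hr.img_le hQ.1, fun P' f' hf' => ?_⟩
  have hP' : P' ≤ S' := hf'.le
  have hP'U' : P' ≤ U' := hP'.trans hr.le'
  obtain ⟨g, hg, e1, e2⟩ := hQ.2 _ _ (hr.bwd _ _ hf')
  have h1 := hr.fwd _ _ hg
  have hκP : h.symm.img P' ≤ U := h.symm.img_le P'
  rw [h.img_sup hκP (hQ.1.trans hr.le), h.img_symm_img hP'U'] at h1
  refine ⟨_, h1, fun y hy => ?_, fun y hy => ?_⟩
  · have hκy : κ y ∈ h.symm.img P' := ⟨h.inv y (hP'U' hy), by rw [h.right y (hP'U' hy)]; exact hy⟩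
    show θ (g (κ y)) = f' y
    rw [e1 _ hκy]
    show θ (κ (f' (θ (κ y)))) = f' y
    rw [h.right y (hP'U' hy), h.right _ (hr.le' (hf'.mem hy))]
  · show θ (g (κ y)) = y
    rw [e2 _ hy.2, h.right y hy.1]

/-- the centre is transported -/
theorem center [Finite S] (hr : Rel h F F') : F'.center = h.img F.center := by
  have : Finite S' := hr.finite
  have h1 : h.img F.center ≤ F'.center :=
    le_sSup (isCentral hr (Cfsg.Agent.S5144.result F))
  have h2 : h.symm.img F'.center ≤ F.center :=
    le_sSup (isCentral hr.symm (Cfsg.Agent.S5144.result F'))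
  apply le_antisymm _ h1
  have hZ' : F'.center ≤ U' := (Cfsg.Agent.S5144.result F').1.trans hr.le'
  have := h.img_mono h2
  rwa [h.img_symm_img hZ'] at this

end Cfsg.Agent.Helper84.T5
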