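import Mathlib
import Cfsg.Prelude.Def_FusionSystem
import Cfsg.Prelude.Def_FusionComponents
import Cfsg.Agent.Lib.Helper84.FusT5
import Cfsg.Agent.S5148

/-!
# Transport of factor systems, of simplicity and of quasisimplicity
-/

set_option autoImplicit false

namespace Cfsg.Agent.Helper84.T6

open Cfsg Cfsg.FusionSystem
open Cfsg.Agent.Helper87 (Mor Iso extFun extAut extHom)
open Cfsg.Agent.Helper84.T1 Cfsg.Agent.Helper84.T2 Cfsg.Agent.Helper84.T3

universe u v u₁ u₂
variable {Ω : Type u} {Ω' : Type v} [Group Ω] [Group Ω']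
variable {U : Subgroup Ω} {U' : Subgroup Ω'} {θ : Ω → Ω'} {κ : Ω' → Ω}
variable {h : Tr U U' θ κ}
variable {S : Subgroup Ω} {S' : Subgroup Ω'} {F : FusionSystem S} {F' : FusionSystem S'}

section factor

variable {Ω₁ : Type u₁} {Ω₂ : Type u₂} [Group Ω₁] [Group Ω₂]
variable {S₁ : Subgroup Ω₁} {S₂ : Subgroup Ω₂} {F₁ : FusionSystem S₁} {F₂ : FusionSystem S₂}
variable {θ₁ : S →* Ω₁} {θ₂ : S' →* Ω₂} {Z : Subgroup Ω} {Z' : Subgroup Ω'}
variable {V : Subgroup Ω₁} {V' : Subgroup Ω₂} {θb : Ω₁ → Ω₂} {κb : Ω₂ → Ω₁}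

theorem factor_img_le (hr : Rel h F F') (h1 : F.IsFactorSystem Z θ₁ F₁)
    (h2 : F'.IsFactorSystem Z' θ₂ F₂) (hb : Tr V V' θb κb)
    (c1 : ∀ x ∈ S, θb (extHom θ₁ x) = extHom θ₂ (θ x)) {Pb : Subgroup Ω₁} (hPb : Pb ≤ S₁) :
    hb.img Pb ≤ S₂ := by
  intro y hy
  obtain ⟨x, hx, e⟩ := (Helper87.factor_range h1).1 (hPb hy.2)
  have hθx : θ x ∈ S' := by
    have := h.map_mem_img hx (hr.le hx)
    rwa [← hr.eq] at this
  have : y = extHom θ₂ (θ x) := by
    rw [← c1 x hx, e, hb.right y hy.1]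
  rw [this]
  exact Helper87.factor_mem h2 hθx

/-- maps of factor systems correspond (one direction) -/
theorem factor_fwd (hr : Rel h F F') (h1 : F.IsFactorSystem Z θ₁ F₁)
    (h2 : F'.IsFactorSystem Z' θ₂ F₂) (hb : Tr V V' θb κb) (hV' : S₂ ≤ V')
    (c1 : ∀ x ∈ S, θb (extHom θ₁ x) = extHom θ₂ (θ x))
    (c2 : ∀ y ∈ S', κb (extHom θ₂ y) = extHom θ₁ (κ y))
    {Pb : Subgroup Ω₁} {fb : Ω₁ → Ω₁} (hm : Mor F₁ Pb fb) :
    Mor F₂ (hb.img Pb) (fun y => θb (fb (κb y))) := by
  obtain ⟨f, hf, e⟩ := Helper87.factor_mor_exists h1 hm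
  have hPS : preimageAlong θ₁ Pb ≤ S := Helper87.preimageAlong_le' θ₁ Pb
  have h3 := hr.fwd _ _ hf
  have hle : hb.img Pb ≤ S₂ := factor_img_le hr h1 h2 hb c1 hm.le
  have hpre : preimageAlong θ₂ (hb.img Pb) = h.img (preimageAlong θ₁ Pb) := by
    ext y
    rw [Helper87.mem_preimageAlong_iff]
    constructor
    · rintro ⟨hy, hy'⟩
      have h4 := hy'.2
      rw [c2 y hy] at h4
      have hyU' : y ∈ U' := hr.le' hy
      have hκy : κ y ∈ S := by
        have : y ∈ h.img S := hr.eq ▸ hy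
        exact this.2
      exact ⟨hyU', Helper87.mem_preimageAlong_iff.2 ⟨hκy, h4⟩⟩
    · rintro ⟨hy, hy'⟩
      obtain ⟨hκy, h4⟩ := Helper87.mem_preimageAlong_iff.1 hy'
      have hyS' : y ∈ S' := by
        rw [hr.eq]; exact ⟨hy, hκy⟩
      refine ⟨hyS', hV' (Helper87.factor_mem h2 hyS'), ?_⟩
      rw [c2 y hyS']
      exact h4
  refine Helper87.factor_mor_of h2 hle (f := fun y => θ (f (κ y))) (by rw [hpre]; exact h3)
    (fun y hy => ?_)
  rw [hpre] at hy
  have hκy : κ y ∈ preimageAlong θ₁ Pb := hy.2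
  have hyS' : y ∈ S' := by
    rw [hr.eq]; exact ⟨hy.1, hPS hκy⟩
  show θb (fb (κb (extHom θ₂ y))) = extHom θ₂ (θ (f (κ y)))
  rw [c2 y hyS', e _ hκy, c1 _ (hf.mem hκy)]

/-- **factor systems of related systems are related** -/
theorem factor_rel (hr : Rel h F F') (h1 : F.IsFactorSystem Z θ₁ F₁)
    (h2 : F'.IsFactorSystem Z' θ₂ F₂) (hb : Tr V V' θb κb) (hV : S₁ ≤ V) (hV' : S₂ ≤ V')
    (c1 : ∀ x ∈ S, θb (extHom θ₁ x) = extHom θ₂ (θ x))
    (c2 : ∀ y ∈ S', κb (extHom θ₂ y) = extHom θ₁ (κ y)) : Rel hb F₁ F₂ := by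
  refine ⟨hV, ?_, fun Pb fb hm => factor_fwd hr h1 h2 hb hV' c1 c2 hm,
    fun Pb fb hm => factor_fwd hr.symm h2 h1 hb.symm hV c2 c1 hm⟩
  apply le_antisymm
  · intro y hy
    obtain ⟨y₀, hy₀, e⟩ := (Helper87.factor_range h2).1 hy
    refine ⟨hV' hy, ?_⟩
    rw [← e, c2 y₀ hy₀]
    have hκ : κ y₀ ∈ S := by
      have : y₀ ∈ h.img S := hr.eq ▸ hy₀
      exact this.2
    exact Helper87.factor_mem h1 hκ
  · exact factor_img_le hr h1 h2 hb c1 le_rfl

end factor

/-- **simplicity is transported** -/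
theorem simple [Finite S] {p : ℕ} [Fact p.Prime] (hS : IsPGroup p S) (hr : Rel h F F')
    (hF : F.IsSimple p) : F'.IsSimple p := by
  have hfin' : Finite S' := hr.finite
  have hS' : IsPGroup p S' := hr.isPGroup hS
  refine ⟨hr.saturated hS hF.1, fun h0 => hF.2.1 ?_, fun T' E' hE' => ?_⟩
  · apply h.img_eq_bot hr.le
    rw [← hr.eq, h0]
  · have hT'S' : T' ≤ S' := hE'.1.2.2.2.1.1
    have hfinT' : Finite T' :=
      Finite.of_injective (Subgroup.inclusion hT'S') (Subgroup.inclusion_injective hT'S')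
    have hT'U' : T' ≤ U' := hT'S'.trans hr.le'
    obtain ⟨E, hrE⟩ := exists_push h.symm E' hT'U'
    have hE : E.IsNormalIn F p := T4.normalIn hS' hrE hr.symm hE'
    rcases hF.2.2 _ E hE with h1 | ⟨h1, h2⟩
    · left
      exact h.symm.img_eq_bot hT'U' h1
    · right
      have hT' : T' = S' := by
        rw [← h.img_symm_img hT'U', h1, ← hr.eq]
      refine ⟨hT', fun P' => ?_⟩
      apply Set.Subset.antisymm (hE'.1.2.2.1 P')
      have hsub : F.IsSubsystemOf E := fun P => (h2 P).ge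
      exact Rel.subsystem hr hrE.symm hsub P'

theorem quot_ker {G : Type*} [Group G] (T Z : Subgroup G) [(Z.subgroupOf T).Normal] (s : T) :
    QuotientGroup.mk' (Z.subgroupOf T) s = 1 ↔ (s : G) ∈ Z := by
  rw [QuotientGroup.mk'_apply, QuotientGroup.eq_one_iff, Subgroup.mem_subgroupOf]

theorem quot_range {G : Type*} [Group G] (T Z : Subgroup G) [(Z.subgroupOf T).Normal] :
    (QuotientGroup.mk' (Z.subgroupOf T)).range = ⊤ :=
  MonoidHom.range_eq_top.2 (QuotientGroup.mk'_surjective _)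

/-- **quasisimplicity is transported** -/
theorem quasisimple [Finite S] {p : ℕ} [Fact p.Prime] (hS : IsPGroup p S) (hr : Rel h F F')
    (hq : F.Quasisimple p) : F'.Quasisimple p := by
  have hfin' : Finite S' := hr.finite
  have hS' : IsPGroup p S' := hr.isPGroup hS
  obtain ⟨hsat, hhyp, hsim⟩ := hq
  refine ⟨hr.saturated hS hsat, ?_, fun E₂ h2 => ?_⟩
  · rw [T5.hyperfocal hr p, hhyp, ← hr.eq]
  · have hcen : F'.center = h.img F.center := T5.center hr
    have hZS : F.center ≤ S := (Cfsg.Agent.S5144.result F).1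
    have hsc : F.StronglyClosed F.center :=
      Cfsg.Agent.S5148.central_stronglyClosed (Cfsg.Agent.S5144.result F)
    let E₁ := Helper85.factorSystem F F.center (QuotientGroup.mk' (F.center.subgroupOf S)) ⊤
      (quot_ker S F.center) (quot_range S F.center) hsc
    have h1 : F.IsFactorSystem F.center (QuotientGroup.mk' (F.center.subgroupOf S)) E₁ :=
      Helper85.factorSystem_isFactorSystem F F.center _ ⊤ (quot_ker S F.center)
        (quot_range S F.center) hsc
    have hE₁ : E₁.IsSimple p := hsim E₁ h1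
    obtain rfl := hr.eq
    -- the induced isomorphism of quotients
    let e : S ≃* h.img S := h.equiv hr.le
    have he : (F.center.subgroupOf S).map e.toMonoidHom = F'.center.subgroupOf (h.img S) := by
      ext y
      rw [Subgroup.mem_map, Subgroup.mem_subgroupOf, hcen]
      constructor
      · rintro ⟨x, hx, rfl⟩
        exact h.map_mem_img (Subgroup.mem_subgroupOf.1 hx) (hr.le x.2)
      · intro hy
        refine ⟨e.symm y, Subgroup.mem_subgroupOf.2 hy.2, e.apply_symm_apply y⟩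
    let eb := QuotientGroup.congr (F.center.subgroupOf S) (F'.center.subgroupOf (h.img S)) e he
    have hb : Tr (⊤ : Subgroup (↥S ⧸ F.center.subgroupOf S))
        (⊤ : Subgroup (↥(h.img S) ⧸ F'.center.subgroupOf (h.img S))) eb eb.symm :=
      ⟨fun _ _ => Subgroup.mem_top _, fun x _ y _ => map_mul eb x y,
        fun _ _ => Subgroup.mem_top _, fun x _ => eb.symm_apply_apply x,
        fun y _ => eb.apply_symm_apply y⟩
    have c1 : ∀ x ∈ S, eb (extHom (QuotientGroup.mk' (F.center.subgroupOf S)) x) =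
        extHom (QuotientGroup.mk' (F'.center.subgroupOf (h.img S))) (θ x) := by
      intro x hx
      rw [Helper87.extHom_mem _ hx, Helper87.extHom_mem _ (h.map_mem_img hx (hr.le hx))]
      rfl
    have c2 : ∀ y ∈ h.img S,
        eb.symm (extHom (QuotientGroup.mk' (F'.center.subgroupOf (h.img S))) y) =
        extHom (QuotientGroup.mk' (F.center.subgroupOf S)) (κ y) := by
      intro y hy
      rw [eb.symm_apply_eq, c1 (κ y) hy.2, h.right y hy.1]
    have hrel : Rel hb E₁ E₂ := factor_rel hr h1 h2 hb le_rfl le_rfl c1 c2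
    have hfin₁ : Finite (⊤ : Subgroup (↥S ⧸ F.center.subgroupOf S)) := Helper85.factor_finite h1
    exact simple (Helper85.factor_isPGroup hS h1) hrel hE₁

end Cfsg.Agent.Helper84.T6
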