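import Mathlib
import Cfsg.Agent.Lib.Helper84.GrpFus
import Cfsg.Agent.Lib.Helper33.Centric
import Cfsg.Agent.Lib.Helper32.PGroupCenter
import Cfsg.Agent.Lib.Helper85.Realized
import Cfsg.Agent.Lib.Helper84.FusT6

/-!
# Generic lemmas on fusion systems of groups used for `PSL_n(q)`
-/

set_option autoImplicit false
open Cfsg

namespace Cfsg.Agent.Helper84.PslGrp

open Cfsg.FusionSystem Cfsg.Agent.Helper87
open scoped Pointwise

variable {G : Type*} [Group G]

theorem mem_normalizer_of_conj_mem (H : Subgroup G) (g : G)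
    (h1 : ∀ x ∈ H, g * x * g⁻¹ ∈ H) (h2 : ∀ x ∈ H, g⁻¹ * x * g ∈ H) :
    g ∈ Subgroup.normalizer (H : Set G) := by
  rw [Subgroup.mem_normalizer_iff]
  intro x
  refine ⟨h1 x, fun hx => ?_⟩
  have := h2 _ hx
  have e : g⁻¹ * (g * x * g⁻¹) * g = x := by group
  rwa [e] at this

/-- a subgroup of `S` normalized by `S` is fully normalized -/
theorem fullyNormalized_of_normal [Finite G] {p : ℕ} [Fact p.Prime] (S : Sylow p G)
    {P : Subgroup G} (hPS : P ≤ (S : Subgroup G))
    (hn : (S : Subgroup G) ≤ Subgroup.normalizer (P : Set G)) :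
    (groupFusionSystem (S : Subgroup G)).IsFullyNormalized P := by
  rw [Cfsg.Agent.Helper84.gfs_fullyNormalized_iff S P hPS]
  have e : normalizerIn (S : Subgroup G) P = (S : Subgroup G) := by
    unfold normalizerIn
    exact inf_eq_left.2 hn
  rw [e]
  refine ⟨hn, S.isPGroup', ?_⟩
  intro hdvd
  have h1 : (S : Subgroup G).relIndex (Subgroup.normalizer (P : Set G)) ∣ (S : Subgroup G).index := by
    rw [← Subgroup.relIndex_mul_index hn]
    exact dvd_mul_right _ _
  exact S.not_dvd_index (hdvd.trans h1)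

/-- a self-centralizing subgroup of `S` is centric -/
theorem centric_of_centralizer_le {S Q : Subgroup G} (hQS : Q ≤ S)
    (hC : Subgroup.centralizer (Q : Set G) ≤ Q) : (groupFusionSystem S).IsCentric Q := by
  rw [Cfsg.Agent.Helper33.isCentric_groupFusionSystem_iff]
  refine ⟨hQS, fun g _ x hx => ?_⟩
  rw [Cfsg.Agent.Helper33.mem_conj_smul]
  apply hC
  rw [Subgroup.mem_centralizer_iff]
  intro q hq
  have h1 := Subgroup.mem_centralizer_iff.1 hx.2 (g * q * g⁻¹)
    (Cfsg.Agent.Helper33.conj_mem_conj_smul hq)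
  calc q * (g⁻¹ * x * g) = g⁻¹ * ((g * q * g⁻¹) * x) * g := by group
    _ = g⁻¹ * (x * (g * q * g⁻¹)) * g := by rw [h1]
    _ = g⁻¹ * x * g * q := by group

/-- strongly closed subgroups are closed under `G`-conjugation inside `S` -/
theorem conj_mem_of_stronglyClosed {S T : Subgroup G}
    (hT : (groupFusionSystem S).StronglyClosed T)
    {x : G} (hx : x ∈ T) (g : G) (hg : g * x * g⁻¹ ∈ S) : g * x * g⁻¹ ∈ T := by
  have hR : Subgroup.zpowers x ≤ T := by rw [Subgroup.zpowers_le]; exact hx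
  have hφ : conjHom (Subgroup.zpowers x) g ∈ (groupFusionSystem S).Hom (Subgroup.zpowers x) := by
    refine ⟨hR.trans hT.1, ?_, g, fun y => rfl⟩
    rintro ⟨y, hy⟩
    obtain ⟨k, rfl⟩ := Subgroup.mem_zpowers_iff.1 hy
    show g * x ^ k * g⁻¹ ∈ S
    have e : g * x ^ k * g⁻¹ = (g * x * g⁻¹) ^ k := by rw [conj_zpow]
    rw [e]; exact Subgroup.zpow_mem _ hg k
  exact hT.2 _ hR _ hφ ⟨x, Subgroup.mem_zpowers x⟩

/-- a nontrivial strongly closed subgroup of a `p`-group `S` contains a nontrivial central element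
of `S` -/
theorem exists_central_of_stronglyClosed [Finite G] {p : ℕ} [Fact p.Prime] {S T : Subgroup G}
    (hS : IsPGroup p S) (hT : (groupFusionSystem S).StronglyClosed T) (hT1 : T ≠ ⊥) :
    ∃ z ∈ T, z ≠ 1 ∧ ∀ y ∈ S, z * y = y * z := by
  have : (T.subgroupOf S).Normal := by
    constructor
    intro x hx s
    rw [Subgroup.mem_subgroupOf] at hx ⊢
    have := conj_mem_of_stronglyClosed hT hx (s : G)
      (S.mul_mem (S.mul_mem s.2 (hT.1 hx)) (S.inv_mem s.2))
    simpa using this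
  have hne : T.subgroupOf S ≠ ⊥ := by
    intro h
    apply hT1
    rw [Subgroup.subgroupOf_eq_bot] at h
    rw [eq_bot_iff]
    intro x hx
    have : x ∈ T ⊓ S := ⟨hx, hT.1 hx⟩
    rw [disjoint_iff.1 h] at this
    exact this
  obtain ⟨z, hz, hz1, hzc⟩ :=
    Cfsg.Agent.Helper32.exists_ne_one_mem_center_of_normal hS (T.subgroupOf S) hne
  refine ⟨(z : G), Subgroup.mem_subgroupOf.1 hz, ?_, ?_⟩
  · intro h
    apply hz1
    exact Subtype.ext h
  · intro y hy
    have := Subgroup.mem_center_iff.1 hzc ⟨y, hy⟩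
    have h2 := congrArg Subtype.val this
    exact h2.symm

/-! ### transport of the fusion system of a group under conjugation -/

theorem tr_conj (g : G) :
    T1.Tr (⊤ : Subgroup G) (⊤ : Subgroup G) (fun x => g * x * g⁻¹) (fun y => g⁻¹ * y * g) where
  map _ _ := Subgroup.mem_top _
  mul x _ y _ := by group
  inv _ _ := Subgroup.mem_top _
  left x _ := by group
  right y _ := by group

theorem rel_conj (S : Subgroup G) (g : G) :
    T2.Rel (tr_conj g) (groupFusionSystem S)
      (groupFusionSystem ((tr_conj g).img S)) := by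
  have hmem : ∀ {P : Subgroup G} {y : G}, y ∈ (tr_conj g).img P ↔ g⁻¹ * y * g ∈ P := by
    intro P y
    rw [T1.Tr.mem_img]
    exact ⟨fun h => h.2, fun h => ⟨Subgroup.mem_top _, h⟩⟩
  have hmem' : ∀ {P : Subgroup G} {y : G}, y ∈ (tr_conj g).symm.img P ↔ g * y * g⁻¹ ∈ P := by
    intro P y
    rw [T1.Tr.mem_img]
    exact ⟨fun h => h.2, fun h => ⟨Subgroup.mem_top _, h⟩⟩
  refine ⟨le_top, rfl, ?_, ?_⟩
  · intro P f hf
    rw [Cfsg.Agent.Helper85.gfs_mor_iff] at hf ⊢
    obtain ⟨hPS, hfS, c, hc⟩ := hf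
    refine ⟨fun y hy => hmem.2 (hPS (hmem.1 hy)), fun y hy => ?_, g * c * g⁻¹, fun y hy => ?_⟩
    · rw [hmem]
      have := hfS _ (hmem.1 hy)
      have e : g⁻¹ * (g * f (g⁻¹ * y * g) * g⁻¹) * g = f (g⁻¹ * y * g) := by group
      rw [e]
      exact this
    · show g * f (g⁻¹ * y * g) * g⁻¹ = _
      rw [hc _ (hmem.1 hy)]
      group
  · intro P' f' hf'
    rw [Cfsg.Agent.Helper85.gfs_mor_iff] at hf' ⊢
    obtain ⟨hPS, hfS, c, hc⟩ := hf'
    refine ⟨fun x hx => ?_, fun x hx => ?_, g⁻¹ * c * g, fun x hx => ?_⟩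
    · have := hmem.1 (hPS (hmem'.1 hx))
      have e : g⁻¹ * (g * x * g⁻¹) * g = x := by group
      rwa [e] at this
    · exact hmem.1 (hfS _ (hmem'.1 hx))
    · show g⁻¹ * f' (g * x * g⁻¹) * g = _
      rw [hc _ (hmem'.1 hx)]
      group

/-- simplicity of `F_S(G)` does not depend on the Sylow subgroup -/
theorem simple_of_sylow [Finite G] {p : ℕ} [Fact p.Prime] (S S' : Sylow p G)
    (h : (groupFusionSystem (S : Subgroup G)).IsSimple p) :
    (groupFusionSystem (S' : Subgroup G)).IsSimple p := by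
  obtain ⟨g, hg⟩ := MulAction.exists_smul_eq G S S'
  have e : (S' : Subgroup G) = (tr_conj g).img (S : Subgroup G) := by
    rw [← hg]
    ext y
    rw [T1.Tr.mem_img, Sylow.coe_subgroup_smul, Cfsg.Agent.Helper33.mem_conj_smul]
    exact ⟨fun h => ⟨Subgroup.mem_top _, h⟩, fun h => h.2⟩
  have hr := rel_conj (S : Subgroup G) g
  rw [← e] at hr
  exact T6.simple S.isPGroup' hr h

end Cfsg.Agent.Helper84.PslGrp
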