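import Mathlib
import Cfsg.Agent.Lib.Helper84.Sp4Defs
import Cfsg.Agent.Lib.Helper42.Sp4B1
import Cfsg.Agent.Lib.Helper42.Sp4B2
import Cfsg.Agent.Lib.Helper42.Sp4B3

/-!
# BASIC API for the PSP4F server (re-export of helper42's B1, B2, B3; B4 proved here)
-/

set_option autoImplicit false

namespace Cfsg.Agent.Helper84.Sp4

open Matrix

variable {F : Type*} [Field F]

/-! ### (B1) TOR -/

theorem mem_Tor_iff (X : SL2 F) :
    X ∈ (Tor : Subgroup (SL2 F)) ↔ ∃ a b : F, (X : Matrix (Fin 2) (Fin 2) F) = rot a b :=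
  Cfsg.Agent.Helper42.Sp4.mem_Tor_iff X

theorem Tor_comm {X Y : SL2 F} (hX : X ∈ (Tor : Subgroup (SL2 F)))
    (hY : Y ∈ (Tor : Subgroup (SL2 F))) : X * Y = Y * X :=
  Cfsg.Agent.Helper42.Sp4.Tor_comm hX hY

theorem mem_Tor2_iff (X : SL2 F) :
    X ∈ (Tor2 : Subgroup (SL2 F)) ↔ X ∈ (Tor : Subgroup (SL2 F)) ∧ ∃ m : ℕ, X ^ (2 ^ m) = 1 :=
  Cfsg.Agent.Helper42.Sp4.mem_Tor2_iff X

theorem i0_mul_i0 : (i0 : SL2 F) * i0 = -1 := Cfsg.Agent.Helper42.Sp4.i0_mul_i0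

theorem i0_inv : (i0 : SL2 F)⁻¹ = -i0 := Cfsg.Agent.Helper42.Sp4.i0_inv

theorem i0_mem_Tor2 : (i0 : SL2 F) ∈ (Tor2 : Subgroup (SL2 F)) :=
  Cfsg.Agent.Helper42.Sp4.i0_mem_Tor2

theorem neg_one_mem_Tor2 : (-1 : SL2 F) ∈ (Tor2 : Subgroup (SL2 F)) :=
  Cfsg.Agent.Helper42.Sp4.neg_one_mem_Tor2

theorem Tor_sq_eq_one (h2 : (2 : F) ≠ 0) {X : SL2 F} (hX : X ∈ (Tor : Subgroup (SL2 F)))
    (h : X * X = 1) : X = 1 ∨ X = -1 := Cfsg.Agent.Helper42.Sp4.Tor_sq_eq_one h2 hX h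

theorem Tor_sq_eq_neg_one (h2 : (2 : F) ≠ 0) {X : SL2 F} (hX : X ∈ (Tor : Subgroup (SL2 F)))
    (h : X * X = -1) : X = i0 ∨ X = i0⁻¹ := Cfsg.Agent.Helper42.Sp4.Tor_sq_eq_neg_one h2 hX h

/-! ### (B2) NTOR -/

theorem mem_NTor_iff (X : SL2 F) : X ∈ (NTor : Set (SL2 F)) ↔ X * i0 * X⁻¹ = i0⁻¹ :=
  Cfsg.Agent.Helper42.Sp4.mem_NTor_iff X

theorem NTor_conj {X Y : SL2 F} (hX : X ∈ (NTor : Set (SL2 F)))
    (hY : Y ∈ (Tor : Subgroup (SL2 F))) : X * Y * X⁻¹ = Y⁻¹ :=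
  Cfsg.Agent.Helper42.Sp4.NTor_conj hX hY

theorem NTor_mul_self {X : SL2 F} (hX : X ∈ (NTor : Set (SL2 F))) : X * X = -1 :=
  Cfsg.Agent.Helper42.Sp4.NTor_mul_self hX

theorem NTor_inv {X : SL2 F} (hX : X ∈ (NTor : Set (SL2 F))) : X⁻¹ ∈ (NTor : Set (SL2 F)) :=
  Cfsg.Agent.Helper42.Sp4.NTor_inv hX

theorem NTor_mul_NTor {X Y : SL2 F} (hX : X ∈ (NTor : Set (SL2 F)))
    (hY : Y ∈ (NTor : Set (SL2 F))) : X * Y ∈ (Tor : Subgroup (SL2 F)) :=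
  Cfsg.Agent.Helper42.Sp4.NTor_mul_NTor hX hY

theorem NTor_mul_Tor {X Y : SL2 F} (hX : X ∈ (NTor : Set (SL2 F)))
    (hY : Y ∈ (Tor : Subgroup (SL2 F))) : X * Y ∈ (NTor : Set (SL2 F)) :=
  Cfsg.Agent.Helper42.Sp4.NTor_mul_Tor hX hY

theorem Tor_mul_NTor {X Y : SL2 F} (hX : X ∈ (Tor : Subgroup (SL2 F)))
    (hY : Y ∈ (NTor : Set (SL2 F))) : X * Y ∈ (NTor : Set (SL2 F)) :=
  Cfsg.Agent.Helper42.Sp4.Tor_mul_NTor hX hY

theorem not_mem_NTor_of_mem_Tor (h2 : (2 : F) ≠ 0) {X : SL2 F}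
    (hX : X ∈ (Tor : Subgroup (SL2 F))) : X ∉ (NTor : Set (SL2 F)) :=
  Cfsg.Agent.Helper42.Sp4.not_mem_NTor_of_mem_Tor h2 hX

theorem mem_Tor_or_NTor_of_conj {g : SL2 F}
    (h : g * i0 * g⁻¹ = i0 ∨ g * i0 * g⁻¹ = i0⁻¹) :
    g ∈ (Tor : Subgroup (SL2 F)) ∨ g ∈ (NTor : Set (SL2 F)) :=
  Cfsg.Agent.Helper42.Sp4.mem_Tor_or_NTor_of_conj h

/-! ### (B3) J0 -/

theorem j0_mem [Finite F] : (j0 : SL2 F) ∈ (NTor : Set (SL2 F)) :=
  Cfsg.Agent.Helper42.Sp4.j0_mem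

/-! ### (B4) QAPI -/

theorem Tor2_le_Q : (Tor2 : Subgroup (SL2 F)) ≤ Q := le_sup_left

theorem j0_mem_Q : (j0 : SL2 F) ∈ (Q : Subgroup (SL2 F)) :=
  (le_sup_right : Subgroup.zpowers (j0 : SL2 F) ≤ Q) (Subgroup.mem_zpowers _)

theorem i0_mem_Q : (i0 : SL2 F) ∈ (Q : Subgroup (SL2 F)) := Tor2_le_Q i0_mem_Tor2

theorem neg_one_mem_Q : (-1 : SL2 F) ∈ (Q : Subgroup (SL2 F)) := Tor2_le_Q neg_one_mem_Tor2

theorem Tor2_le_Tor : (Tor2 : Subgroup (SL2 F)) ≤ Tor := fun _ hX => ((mem_Tor2_iff _).1 hX).1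

/-- `j0` inverts `Tor2` -/
theorem j0_conj_Tor2 [Finite F] {c : SL2 F} (hc : c ∈ (Tor2 : Subgroup (SL2 F))) :
    (j0 : SL2 F) * c * j0⁻¹ = c⁻¹ := NTor_conj j0_mem (Tor2_le_Tor hc)

theorem j0_mul_j0 [Finite F] : (j0 : SL2 F) * j0 = -1 := NTor_mul_self j0_mem

theorem j0_mul [Finite F] {c : SL2 F} (hc : c ∈ (Tor2 : Subgroup (SL2 F))) :
    (j0 : SL2 F) * c = c⁻¹ * j0 := by
  have := j0_conj_Tor2 hc
  calc (j0 : SL2 F) * c = (j0 * c * j0⁻¹) * j0 := by group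
    _ = c⁻¹ * j0 := by rw [this]

theorem mem_Q_iff [Finite F] (X : SL2 F) :
    X ∈ (Q : Subgroup (SL2 F)) ↔ ∃ c ∈ (Tor2 : Subgroup (SL2 F)), X = c ∨ X = c * j0 := by
  constructor
  · intro hX
    -- the set `Tor2 ∪ Tor2 * j0` is a subgroup containing the generators
    let K : Subgroup (SL2 F) :=
      { carrier := {X | ∃ c ∈ (Tor2 : Subgroup (SL2 F)), X = c ∨ X = c * j0}
        one_mem' := ⟨1, Subgroup.one_mem _, Or.inl rfl⟩
        mul_mem' := by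
          rintro X Y ⟨c, hc, hX⟩ ⟨d, hd, hY⟩
          rcases hX with hX | hX <;> rcases hY with hY | hY
          · exact ⟨c * d, Subgroup.mul_mem _ hc hd, Or.inl (by rw [hX, hY])⟩
          · exact ⟨c * d, Subgroup.mul_mem _ hc hd, Or.inr (by rw [hX, hY]; group)⟩
          · refine ⟨c * d⁻¹, Subgroup.mul_mem _ hc (Subgroup.inv_mem _ hd), Or.inr ?_⟩
            rw [hX, hY, mul_assoc, j0_mul hd, mul_assoc]
          · refine ⟨c * d⁻¹ * (-1), Subgroup.mul_mem _ (Subgroup.mul_mem _ hc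
              (Subgroup.inv_mem _ hd)) neg_one_mem_Tor2, Or.inl ?_⟩
            rw [hX, hY]
            calc c * j0 * (d * j0) = c * (j0 * d) * j0 := by group
              _ = c * (d⁻¹ * j0) * j0 := by rw [j0_mul hd]
              _ = c * d⁻¹ * (j0 * j0) := by group
              _ = c * d⁻¹ * (-1) := by rw [j0_mul_j0]
        inv_mem' := by
          rintro X ⟨c, hc, hX⟩
          rcases hX with hX | hX
          · exact ⟨c⁻¹, Subgroup.inv_mem _ hc, Or.inl (by rw [hX])⟩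
          · refine ⟨c * (-1), Subgroup.mul_mem _ hc neg_one_mem_Tor2, Or.inr ?_⟩
            have h1 : (j0 : SL2 F)⁻¹ = (-1) * j0 := by
              have : ((-1 : SL2 F) * j0) * j0 = 1 := by
                rw [mul_assoc, j0_mul_j0]
                simp
              exact (eq_inv_of_mul_eq_one_left this).symm
            rw [hX]
            calc (c * j0)⁻¹ = j0⁻¹ * c⁻¹ := by group
              _ = (-1) * (j0 * c⁻¹) := by rw [h1]; group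
              _ = (-1) * (c * j0) := by
                  rw [j0_mul (Subgroup.inv_mem _ hc), inv_inv]
              _ = c * (-1) * j0 := by
                  rw [← mul_assoc, neg_one_mul, mul_neg_one, neg_mul] }
    have hle : (Q : Subgroup (SL2 F)) ≤ K := by
      unfold Q
      rw [sup_le_iff]
      constructor
      · intro c hc
        exact ⟨c, hc, Or.inl rfl⟩
      · rw [Subgroup.zpowers_le]
        exact ⟨1, Subgroup.one_mem _, Or.inr (by rw [one_mul])⟩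
    exact hle hX
  · rintro ⟨c, hc, rfl | rfl⟩
    · exact Tor2_le_Q hc
    · exact Subgroup.mul_mem _ (Tor2_le_Q hc) j0_mem_Q

theorem Q_mul_self [Finite F] {X : SL2 F} (hX : X ∈ (Q : Subgroup (SL2 F)))
    (hX' : X ∉ (Tor2 : Subgroup (SL2 F))) : X * X = -1 := by
  obtain ⟨c, hc, rfl | rfl⟩ := (mem_Q_iff X).1 hX
  · exact absurd hc hX'
  · calc c * j0 * (c * j0) = c * (j0 * c) * j0 := by group
      _ = c * (c⁻¹ * j0) * j0 := by rw [j0_mul hc]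
      _ = j0 * j0 := by group
      _ = -1 := j0_mul_j0

theorem Q_inf_Tor [Finite F] (h2 : (2 : F) ≠ 0) {X : SL2 F} (hX : X ∈ (Q : Subgroup (SL2 F)))
    (hT : X ∈ (Tor : Subgroup (SL2 F))) : X ∈ (Tor2 : Subgroup (SL2 F)) := by
  obtain ⟨c, hc, rfl | rfl⟩ := (mem_Q_iff X).1 hX
  · exact hc
  · exact absurd (Tor_mul_NTor (Tor2_le_Tor hc) j0_mem) (not_mem_NTor_of_mem_Tor h2 hT)

theorem isPGroup_Q [Finite F] : IsPGroup 2 (Q : Subgroup (SL2 F)) := by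
  rintro ⟨X, hX⟩
  by_cases hT : X ∈ (Tor2 : Subgroup (SL2 F))
  · obtain ⟨m, hm⟩ := ((mem_Tor2_iff X).1 hT).2
    exact ⟨m, Subtype.ext (by simpa using hm)⟩
  · refine ⟨2, Subtype.ext ?_⟩
    have h := Q_mul_self hX hT
    show X ^ (2 ^ 2) = 1
    have : X ^ (2 ^ 2) = (X * X) * (X * X) := by
      rw [show (2 : ℕ) ^ 2 = 4 from rfl, pow_succ, pow_succ, pow_succ, pow_one, mul_assoc]
    rw [this, h]
    simp

end Cfsg.Agent.Helper84.Sp4
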