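import Mathlib
import Cfsg.Agent.S5160
import Cfsg.Agent.Lib.Helper87.FusionSaturated

/-!
# A simplicity criterion for `F_S(G)` (variant of S5160 without radicality)

`F_S(G)` is simple as soon as `S ≠ 1`, no proper nontrivial subgroup of `S` is strongly closed, and
`N_G(S)` is generated by elements `k ∈ N_G(S)` lying in `⟨p-elements of N_G(R)⟩` for some fully
normalized centric `R`.
-/

set_option autoImplicit false
open Cfsg

namespace Cfsg.Agent.Helper84.PslCrit

open Cfsg.FusionSystem Cfsg.Agent.Helper87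

variable {G : Type*} [Group G] [Finite G] {p : ℕ} [Fact p.Prime]

omit [Finite G] in
/-- the elements of `N_G(S)` whose conjugation lies in `E` form a subgroup -/
theorem mor_conj_closure (S : Subgroup G) {E : FusionSystem S} (X : Set G)
    (hX : ∀ k ∈ X, k ∈ Subgroup.normalizer (S : Set G) ∧ Mor E S (fun x => k * x * k⁻¹))
    {g : G} (hg : g ∈ Subgroup.closure X) :
    g ∈ Subgroup.normalizer (S : Set G) ∧ Mor E S (fun x => g * x * g⁻¹) := by
  induction hg using Subgroup.closure_induction with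
  | mem g hg => exact hX g hg
  | one =>
    refine ⟨Subgroup.one_mem _, (Mor.id le_rfl).congr (fun x _ => by simp)⟩
  | mul a b _ _ ha hb =>
    obtain ⟨haN, haE⟩ := ha
    obtain ⟨hbN, hbE⟩ := hb
    refine ⟨Subgroup.mul_mem _ haN hbN, ?_⟩
    have := hbE.comp haE (fun x hx => (Subgroup.mem_normalizer_iff.1 hbN x).1 hx)
    refine this.congr (fun x _ => ?_)
    show a * (b * x * b⁻¹) * a⁻¹ = a * b * x * (a * b)⁻¹
    group
  | inv a _ ha =>
    obtain ⟨haN, haE⟩ := ha
    refine ⟨Subgroup.inv_mem _ haN, ?_⟩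
    obtain ⟨g', hg', e1, e2⟩ := (Cfsg.Agent.S5160.iso_of_mor_conj haN haE).symm
    refine hg'.1.congr (fun y hy => ?_)
    have hy' : a⁻¹ * y * a⁻¹⁻¹ ∈ S :=
      (Subgroup.mem_normalizer_iff.1 (Subgroup.inv_mem _ haN) y).1 hy
    have := e1 _ hy'
    rw [← this]
    congr 1
    group

/-- simplicity criterion: variant of S5160 with fully normalized centric subgroups only -/
theorem simple_crit (S : Sylow p G) (hS1 : (S : Subgroup G) ≠ ⊥)
    (ha : ∀ T : Subgroup G, (groupFusionSystem (S : Subgroup G)).StronglyClosed T →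
      T = ⊥ ∨ T = (S : Subgroup G))
    (hb : ∀ g ∈ Subgroup.normalizer ((S : Subgroup G) : Set G),
      g ∈ Subgroup.closure {k : G | k ∈ Subgroup.normalizer ((S : Subgroup G) : Set G) ∧
        ∃ R : Subgroup G, (groupFusionSystem (S : Subgroup G)).IsFullyNormalized R ∧
          (groupFusionSystem (S : Subgroup G)).IsCentric R ∧
          k ∈ Subgroup.closure {g : G | g ∈ Subgroup.normalizer (R : Set G) ∧
            ∃ m : ℕ, orderOf g = p ^ m}}) :
    (groupFusionSystem (S : Subgroup G)).IsSimple p := by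
  classical
  have hFsat : (groupFusionSystem (S : Subgroup G)).IsSaturated p :=
    Cfsg.Agent.Helper84.gfs_saturated S
  have hSp : IsPGroup p (S : Subgroup G) := S.isPGroup'
  refine ⟨hFsat, hS1, ?_⟩
  intro T E hE
  obtain ⟨⟨hEsat, -, hinv⟩, -⟩ := hE
  have hinv' := hinv
  obtain ⟨hsub, hTsc, -, hfrat⟩ := hinv
  rcases ha T hTsc with h | h
  · left; exact h
  · right
    subst h
    refine ⟨rfl, fun P => ?_⟩
    have key : (groupFusionSystem (S : Subgroup G)).autGroup (S : Subgroup G) ≤
        E.autGroup (S : Subgroup G) := by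
      rw [Cfsg.Agent.Helper84.gfs_autGroup_eq (S : Subgroup G) (S : Subgroup G) le_rfl]
      intro α hα
      obtain ⟨g, -, hgN, e⟩ := mem_autInducedBy_iff'.1 hα
      rw [Cfsg.Agent.Helper87.mem_autGroup_iff (F := E) (le_refl (S : Subgroup G))]
      have hX : ∀ k ∈ {k : G | k ∈ Subgroup.normalizer ((S : Subgroup G) : Set G) ∧
          ∃ R : Subgroup G, (groupFusionSystem (S : Subgroup G)).IsFullyNormalized R ∧
            (groupFusionSystem (S : Subgroup G)).IsCentric R ∧
            k ∈ Subgroup.closure {g : G | g ∈ Subgroup.normalizer (R : Set G) ∧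
              ∃ m : ℕ, orderOf g = p ^ m}},
          k ∈ Subgroup.normalizer ((S : Subgroup G) : Set G) ∧
            Mor E (S : Subgroup G) (fun x => k * x * k⁻¹) := by
        intro k hk
        obtain ⟨hkN, R, hRfn, hRcen, hkR⟩ := hk
        refine ⟨hkN, ?_⟩
        obtain ⟨-, hkE⟩ := Cfsg.Agent.S5160.mor_conj_of_mem_closure S hinv' hRfn hkR
        have hψ : Mor (groupFusionSystem (S : Subgroup G)) (S : Subgroup G)
            (fun x => k * x * k⁻¹) :=
          Cfsg.Agent.S5160.gfs_mor_conj _ le_rfl k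
            (fun x hx => (Subgroup.mem_normalizer_iff.1 hkN x).1 hx)
        exact Cfsg.Agent.Helper88.mor_sub_of_centric hSp hFsat hEsat hsub hψ R hRfn.1 hRcen hkE
      have h1 := mor_conj_closure (S : Subgroup G) (E := E) _ hX (hb g hgN)
      exact h1.2.congr (fun x hx => by rw [extAut_mem α hx, e])
    apply Set.Subset.antisymm (hsub P)
    intro φ hφ
    have hPS : P ≤ (S : Subgroup G) := ((groupFusionSystem (S : Subgroup G)).le_of_mem hφ).1
    obtain ⟨α, hα, φ₀, hφ₀, hrel⟩ := hfrat P hPS φ hφ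
    have hαE : α ∈ E.autGroup (S : Subgroup G) := key hα
    rw [Cfsg.Agent.Helper87.mem_autGroup_iff (F := E) (le_refl (S : Subgroup G))] at hαE
    have hφ₀S : ∀ x : P, φ₀ x ∈ (S : Subgroup G) := (E.le_of_mem hφ₀).2
    have h1 : Mor E P (fun x => extAut α (extFun φ₀ x)) :=
      (mor_of_mem hφ₀).comp hαE (fun x hx => by rw [extFun_mem φ₀ hx]; exact hφ₀S _)
    rw [mem_hom_iff_mor]
    refine h1.congr (fun x hx => ?_)
    rw [extFun_mem φ hx, hrel ⟨x, hx⟩ (hφ₀S _), extFun_mem φ₀ hx, extAut_mem α (hφ₀S _)]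

end Cfsg.Agent.Helper84.PslCrit
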