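import Mathlib
import Cfsg.Prelude.Def_FusionSystem
import Cfsg.Agent.Lib.Helper84.FusNorm

/-!
# The centralizer system of a fully centralized subgroup is saturated (AKO I.5.5)
-/

set_option autoImplicit false

namespace Cfsg.Agent.Helper84

open Cfsg Cfsg.FusionSystem

variable {Ω : Type*} [Group Ω] {S : Subgroup Ω}

/-- Automorphisms of `PQ` stabilizing `P` and fixing `Q` elementwise. -/
def pairKC (P Q : Subgroup Ω) : Subgroup (MulAut ↥(P ⊔ Q)) :=
  stabIn (P ⊔ Q) P ⊓ fixIn (P ⊔ Q) Q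

theorem pairKC_le_pairK (P Q : Subgroup Ω) : pairKC P Q ≤ pairK P Q :=
  inf_le_inf_left _ (fixIn_le_stabIn _ _)

theorem normalizerIn_le_normK_pairC (S P Q : Subgroup Ω) :
    normalizerIn (centralizerIn S Q) P ≤ normK S (P ⊔ Q) (pairKC P Q) := by
  intro g hg
  have hgS : g ∈ S := hg.1.1
  have hgQ : g ∈ Subgroup.centralizer (Q : Set Ω) := hg.1.2
  have hgP : g ∈ Subgroup.normalizer (P : Set Ω) := hg.2
  have hgU : g ∈ normalizerIn S (P ⊔ Q) :=
    Subgroup.mem_inf.mpr ⟨hgS, mem_normalizer_sup hgP (Subgroup.centralizer_le_normalizer _ hgQ)⟩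
  rw [mem_normK_iff]
  refine ⟨hgU, Subgroup.mem_inf.mpr ⟨?_, ?_⟩⟩
  · intro x
    exact Subgroup.mem_normalizer_iff.mp hgP x
  · intro x hx
    apply Subtype.ext
    rw [normAut_apply]
    show g * (x : Ω) * g⁻¹ = x
    rw [← hgQ x hx, mul_inv_cancel_right]

theorem normK_pairC_le_normalizerIn (S P Q : Subgroup Ω) [Finite P] :
    normK S (P ⊔ Q) (pairKC P Q) ≤ normalizerIn (centralizerIn S Q) P := by
  intro g hg
  obtain ⟨hgU, hgK⟩ := mem_normK_iff.mp hg
  obtain ⟨hgP, hgQ⟩ := Subgroup.mem_inf.mp hgK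
  refine Subgroup.mem_inf.mpr ⟨Subgroup.mem_inf.mpr ⟨hgU.1, ?_⟩, ?_⟩
  · rw [Subgroup.mem_centralizer_iff]
    intro x hx
    have h1 := congrArg Subtype.val (hgQ ⟨x, (le_sup_right : Q ≤ P ⊔ Q) hx⟩ hx)
    rw [normAut_apply] at h1
    have h2 : g * x * g⁻¹ = x := h1
    calc x * g = (g * x * g⁻¹) * g := by rw [h2]
      _ = g * x := by group
  · apply mem_normalizer_of_conj_mem_finite
    intro x hx
    exact (hgP ⟨x, (le_sup_left : P ≤ P ⊔ Q) hx⟩).mp hx

/-- If conjugation by `h` on `V` is the transport of an automorphism fixing `Q`, then `h`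
centralizes the image of `Q`. -/
theorem mem_centralizer_image_of_congr {U V Q : Subgroup Ω} (e : U ≃* V) {α : MulAut U}
    (hα : α ∈ fixIn U Q) {h : Ω} (hh : h ∈ normalizerIn S V)
    (heq : normAut S V ⟨h, hh⟩ = MulAut.congr e α) :
    h ∈ Subgroup.centralizer
      (((Q.subgroupOf U).map (V.subtype.comp e.toMonoidHom) : Subgroup Ω) : Set Ω) := by
  rw [Subgroup.mem_centralizer_iff]
  rintro _ ⟨x, hx, rfl⟩
  rw [SetLike.mem_coe, Subgroup.mem_subgroupOf] at hx
  have h1 := congrArg (fun β : MulAut V => ((β (e x) : V) : Ω)) heq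
  simp only [normAut_apply, congr_apply', hα x hx] at h1
  show ((e x : V) : Ω) * h = h * ((e x : V) : Ω)
  calc ((e x : V) : Ω) * h = (h * ((e x : V) : Ω) * h⁻¹) * h := by rw [h1]
    _ = h * ((e x : V) : Ω) := by group

/-- Main lemma: for `P` fully normalized in `C_F(Q)`, the pair `(PQ, Aut(PQ; P, Q pointwise))` is good. -/
theorem pairC_good_of_fullyNormalized (F : FusionSystem S) [Finite S] {p : ℕ} [Fact p.Prime]
    (hS : IsPGroup p S) (hF : F.IsSaturated p) {Q : Subgroup Ω} (hQ : F.IsFullyCentralized Q)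
    (E : FusionSystem (centralizerIn S Q)) (hE : F.IsCentralizerSystem Q E) {P : Subgroup Ω}
    (hP : E.IsFullyNormalized P) :
    F.IsReceptive (P ⊔ Q) ∧
      IsSylIn p (autInducedBy S (P ⊔ Q) ⊓ pairKC P Q) (F.autGroup (P ⊔ Q) ⊓ pairKC P Q) := by
  have hPC : P ≤ centralizerIn S Q := hP.1
  have hQS : Q ≤ S := hQ.1
  have hUS : P ⊔ Q ≤ S := sup_le (hPC.trans inf_le_left) hQS
  obtain ⟨V, e, he, hVrec, hsyl⟩ := exists_good_target F hF hUS (pairKC P Q)
  have hVS : V ≤ S := (isoSet_le F he).2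
  have hfinV : Finite V := finite_of_le hVS
  apply good_of_card_le F hS hF he (pairKC P Q) hVrec hsyl
  set K' := (pairKC P Q).map (MulAut.congr e).toMonoidHom with hK'
  set ē : ↥(P ⊔ Q) →* Ω := V.subtype.comp e.toMonoidHom with hēdef
  set Q₁ : Subgroup Ω := (Q.subgroupOf (P ⊔ Q)).map ē with hQ₁
  have hQ₁V : Q₁ ≤ V := by
    rintro _ ⟨x, -, rfl⟩
    exact (e x).2
  -- the inverse isomorphism Q₁ → Q
  obtain ⟨eQ, heQ, heQx⟩ := exists_iso_restrict' F he (le_sup_right : Q ≤ P ⊔ Q) hQ₁.symm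
  have hεQ : eQ.symm ∈ isoSet F Q₁ Q := isoSet_symm F heQ
  have hQrec : F.IsReceptive Q := saturated_fc F hS hF hQ
  set D := extender S Q₁ (Q.subtype.comp eQ.symm.toMonoidHom) with hDdef
  obtain ⟨ρ, hρ, hρag⟩ := hQrec.2 Q₁ _ hεQ (range_subtype_comp_iso eQ.symm)
  have hQ₁D : Q₁ ≤ D := le_extender F hεQ
  have hCD : centralizerIn S Q₁ ≤ D := centralizerIn_le_extender Q₁ _
  -- ρ inverts ē on Q
  have hρQ : ∀ (q : Q) (hq : ē (Subgroup.inclusion le_sup_right q) ∈ D),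
      ρ ⟨ē (Subgroup.inclusion le_sup_right q), hq⟩ = q := by
    intro q hq
    have hq1 : ē (Subgroup.inclusion le_sup_right q) ∈ Q₁ :=
      ⟨Subgroup.inclusion le_sup_right q, by simp [Subgroup.mem_subgroupOf], rfl⟩
    rw [hρag _ hq1 hq]
    have : (⟨ē (Subgroup.inclusion le_sup_right q), hq1⟩ : Q₁) = eQ q := Subtype.ext (heQx q).symm
    rw [this]
    simp
  -- V ≤ D
  have hVD : V ≤ D := by
    intro v hv
    obtain ⟨u, hu⟩ := e.surjective ⟨v, hv⟩
    have hv' : v = ē u := by rw [hēdef]; simp [hu]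
    rw [hv']
    refine sup_subtype_induction (D.comap ē) ?_ ?_ u
    · intro x
      apply hCD
      refine Subgroup.mem_inf.mpr ⟨hVS (e _).2, ?_⟩
      rw [Subgroup.mem_centralizer_iff]
      rintro _ ⟨q, hq, rfl⟩
      rw [SetLike.mem_coe, Subgroup.mem_subgroupOf] at hq
      rw [← map_mul, ← map_mul]
      congr 1
      apply Subtype.ext
      have hxC : (x : Ω) ∈ Subgroup.centralizer (Q : Set Ω) := (hPC x.2).2
      exact hxC q hq
    · intro y
      apply hQ₁D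
      exact ⟨Subgroup.inclusion le_sup_right y, by simp [Subgroup.mem_subgroupOf], rfl⟩
  -- the composite map θ
  have hθ : (ρ.comp (Subgroup.inclusion hVD)).comp e.toMonoidHom ∈ F.Hom (P ⊔ Q) :=
    comp_iso_mem F he (restrict_mem F hρ hVD)
  set θ : ↥(P ⊔ Q) →* Ω := (ρ.comp (Subgroup.inclusion hVD)).comp e.toMonoidHom with hθdef
  have hθapp : ∀ x : ↥(P ⊔ Q), θ x = ρ ⟨ē x, hVD (e x).2⟩ := fun x => rfl
  have hθQ : ∀ q : Q, θ (Subgroup.inclusion le_sup_right q) = q := by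
    intro q
    rw [hθapp]
    exact hρQ q _
  have hθC : ∀ x : P, θ (Subgroup.inclusion le_sup_left x) ∈ centralizerIn S Q := by
    intro x
    refine Subgroup.mem_inf.mpr ⟨(F.le_of_mem hθ).2 _, ?_⟩
    rw [Subgroup.mem_centralizer_iff]
    intro q hq
    have h1 := hθQ ⟨q, hq⟩
    simp only at h1
    rw [← h1, ← map_mul, ← map_mul]
    congr 1
    apply Subtype.ext
    have hxC : (x : Ω) ∈ Subgroup.centralizer (Q : Set Ω) := (hPC x.2).2
    exact hxC q hq
  set P₂ : Subgroup Ω := (P.subgroupOf (P ⊔ Q)).map θ with hP₂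
  have hconj : E.IsConj P P₂ := by
    refine ⟨θ.comp (Subgroup.inclusion le_sup_left), ?_, range_comp_inclusion le_sup_left θ⟩
    rw [hE P]
    exact ⟨restrict_mem F hθ le_sup_left, hPC, fun x => hθC x, θ, hθ, fun x => rfl, hθQ⟩
  have hfinN : Finite (centralizerIn S Q) := finite_of_le inf_le_left
  have hcard1 := hP.2 P₂ hconj
  have hcard2 : Nat.card (normalizerIn (centralizerIn S Q) P) ≤
      Nat.card (normK S (P ⊔ Q) (pairKC P Q)) := by
    have : Finite (normK S (P ⊔ Q) (pairKC P Q)) :=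
      finite_of_le ((normK_le S _ _).trans inf_le_left)
    exact Subgroup.card_le_of_le (normalizerIn_le_normK_pairC S P Q)
  refine le_trans ?_ (hcard1.trans hcard2)
  have hP₂C : P₂ ≤ centralizerIn S Q := by
    rintro _ ⟨x, hx, rfl⟩
    rw [SetLike.mem_coe, Subgroup.mem_subgroupOf] at hx
    exact hθC ⟨x, hx⟩
  have hfinP₂ : Finite P₂ := finite_of_le (hP₂C.trans inf_le_left)
  have hmem : ∀ h : normK S V K', ∃ (h1 : (h : Ω) ∈ D),
      ρ ⟨h, h1⟩ ∈ normalizerIn (centralizerIn S Q) P₂ := by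
    intro h
    obtain ⟨hhN, hhK⟩ := mem_normK_iff.mp h.2
    obtain ⟨α, hα, hαeq⟩ := hhK
    have hαP : α ∈ stabIn (P ⊔ Q) P := (Subgroup.mem_inf.mp hα).1
    have hαQ : α ∈ fixIn (P ⊔ Q) Q := (Subgroup.mem_inf.mp hα).2
    have hcQ₁ := mem_centralizer_image_of_congr (S := S) e hαQ hhN hαeq.symm
    have h1 : (h : Ω) ∈ D := hCD (Subgroup.mem_inf.mpr ⟨hhN.1, hcQ₁⟩)
    refine ⟨h1, Subgroup.mem_inf.mpr ⟨Subgroup.mem_inf.mpr ⟨(F.le_of_mem hρ).2 _, ?_⟩, ?_⟩⟩
    · rw [Subgroup.mem_centralizer_iff]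
      intro q hq
      have hq1 : ē (Subgroup.inclusion le_sup_right (⟨q, hq⟩ : Q)) ∈ Q₁ :=
        ⟨Subgroup.inclusion le_sup_right ⟨q, hq⟩, Subgroup.mem_subgroupOf.mpr hq, rfl⟩
      have h2 := hρQ ⟨q, hq⟩ (hQ₁D hq1)
      simp only at h2
      rw [← h2, ← map_mul, ← map_mul]
      congr 1
      apply Subtype.ext
      exact hcQ₁ _ hq1
    · apply mem_normalizer_of_conj_mem_finite
      rintro _ ⟨x, hx, rfl⟩
      refine ⟨α x, ?_, ?_⟩
      · rw [SetLike.mem_coe, Subgroup.mem_subgroupOf] at hx ⊢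
        exact (hαP x).mp hx
      · rw [hθapp, hθapp, ← map_inv, ← map_mul, ← map_mul]
        congr 1
        apply Subtype.ext
        have h2 := congrArg (fun β : MulAut V => ((β (e x) : V) : Ω)) hαeq
        simp only [normAut_apply, MulEquiv.coe_toMonoidHom, congr_apply'] at h2
        show ((e (α x) : V) : Ω) = h * ((e x : V) : Ω) * (h : Ω)⁻¹
        exact h2
  have hfinT : Finite (normalizerIn (centralizerIn S Q) P₂) := finite_of_le inf_le_left
  apply Nat.card_le_card_of_injective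
    (fun h : normK S V K' => (⟨ρ ⟨h, (hmem h).1⟩, (hmem h).2⟩ : normalizerIn (centralizerIn S Q) P₂))
  intro h₁ h₂ h
  have h3 := F.injective_of_mem hρ (congrArg Subtype.val h)
  have h4 : (h₁ : Ω) = h₂ := congrArg (fun z : D => (z : Ω)) h3
  exact Subtype.ext h4

theorem map_eq_of_fix {P Q : Subgroup Ω} {ψ : ↥(P ⊔ Q) →* Ω}
    (hψQ : ∀ x : Q, ψ (Subgroup.inclusion le_sup_right x) = x) :
    (Q.subgroupOf (P ⊔ Q)).map ψ = Q := by
  rw [map_subgroupOf_sup_right_eq]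
  constructor
  · intro y
    rw [hψQ]
    exact y.2
  · intro y' hy'
    exact ⟨⟨y', hy'⟩, hψQ _⟩

/-- Step 2: the Sylow property of the pair gives full automization in the centralizer system. -/
theorem pairC_fullyAutomized (F : FusionSystem S) [Finite S] {p : ℕ} [Fact p.Prime]
    {Q : Subgroup Ω} (hQS : Q ≤ S)
    (E : FusionSystem (centralizerIn S Q)) (hE : F.IsCentralizerSystem Q E) {P : Subgroup Ω}
    (hPC : P ≤ centralizerIn S Q)
    (hsyl : IsSylIn p (autInducedBy S (P ⊔ Q) ⊓ pairKC P Q) (F.autGroup (P ⊔ Q) ⊓ pairKC P Q)) :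
    E.IsFullyAutomized p P := by
  have hfinN : Finite (centralizerIn S Q) := finite_of_le inf_le_left
  have hUS : P ⊔ Q ≤ S := sup_le (hPC.trans inf_le_left) hQS
  have hfinU : Finite ↥(P ⊔ Q) := finite_of_le hUS
  have hfinP : Finite P := finite_of_le (hPC.trans inf_le_left)
  rw [fullyAutomized_iff]
  refine ⟨hPC, ?_⟩
  have hHL : F.autGroup (P ⊔ Q) ⊓ pairKC P Q ≤ stabIn (P ⊔ Q) P :=
    inf_le_right.trans inf_le_left
  have h1 := (hsyl.subgroupOf hHL).map (resIn (le_sup_left : P ≤ P ⊔ Q))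
  have hA : ((F.autGroup (P ⊔ Q) ⊓ pairKC P Q).subgroupOf (stabIn (P ⊔ Q) P)).map
      (resIn (le_sup_left : P ≤ P ⊔ Q)) = E.autGroup P := by
    ext β
    constructor
    · rintro ⟨α, hα, rfl⟩
      rw [SetLike.mem_coe, Subgroup.mem_subgroupOf] at hα
      obtain ⟨hαF, hαK⟩ := Subgroup.mem_inf.mp hα
      have hαF' := (mem_autGroup_iff F hUS _).mp hαF
      rw [mem_autGroup_iff E hPC, hE P]
      refine ⟨?_, hPC, fun x => hPC (resIn (le_sup_left : P ≤ P ⊔ Q) α x).2, _, hαF',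
        fun x => rfl, ?_⟩
      · refine hom_congr F rfl ?_ (restrict_mem F hαF' (le_sup_left : P ≤ P ⊔ Q))
        intro x hx hx'
        rfl
      · intro x
        have := (Subgroup.mem_inf.mp hαK).2 (Subgroup.inclusion le_sup_right x) x.2
        exact congrArg Subtype.val this
    · intro hβ
      rw [mem_autGroup_iff E hPC, hE P] at hβ
      obtain ⟨-, -, -, ψ, hψ, hψP, hψQ⟩ := hβ
      obtain ⟨α, hαF, hαK, hαx⟩ := exists_pair_aut F β hψ hψP (map_eq_of_fix hψQ)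
      have hαKC : α ∈ pairKC P Q := by
        refine Subgroup.mem_inf.mpr ⟨(Subgroup.mem_inf.mp hαK).1, ?_⟩
        intro x hx
        apply Subtype.ext
        rw [hαx]
        exact hψQ ⟨x, hx⟩
      refine ⟨⟨α, (Subgroup.mem_inf.mp hαK).1⟩, ?_, ?_⟩
      · rw [SetLike.mem_coe, Subgroup.mem_subgroupOf]
        exact Subgroup.mem_inf.mpr ⟨hαF, hαKC⟩
      · ext x
        rw [resIn_apply]
        show ((α ⟨x, _⟩ : ↥(P ⊔ Q)) : Ω) = _
        rw [hαx]
        exact hψP x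
  have hT : ((autInducedBy S (P ⊔ Q) ⊓ pairKC P Q).subgroupOf (stabIn (P ⊔ Q) P)).map
      (resIn (le_sup_left : P ≤ P ⊔ Q)) = autInducedBy (centralizerIn S Q) P := by
    ext β
    constructor
    · rintro ⟨α, hα, rfl⟩
      rw [SetLike.mem_coe, Subgroup.mem_subgroupOf] at hα
      obtain ⟨g, hg, hαg⟩ := mem_autInducedBy_inf_iff.mp hα
      rw [mem_autInducedBy_iff]
      refine ⟨g, (normK_pairC_le_normalizerIn S P Q hg).1, ?_⟩
      intro x
      rw [resIn_apply, hαg, normAut_apply]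
    · intro hβ
      rw [mem_autInducedBy_iff] at hβ
      obtain ⟨g, hgN, hg⟩ := hβ
      have hgNP : g ∈ normalizerIn (centralizerIn S Q) P :=
        Subgroup.mem_inf.mpr ⟨hgN, mem_normalizer_of_autInduced hg⟩
      have hgK := normalizerIn_le_normK_pairC S P Q hgNP
      have hα : normAut S (P ⊔ Q) ⟨g, normK_le S _ _ hgK⟩ ∈ autInducedBy S (P ⊔ Q) ⊓ pairKC P Q :=
        mem_autInducedBy_inf_iff.mpr ⟨g, hgK, rfl⟩
      refine ⟨⟨_, (Subgroup.mem_inf.mp (Subgroup.mem_inf.mp hα).2).1⟩, ?_, ?_⟩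
      · rw [SetLike.mem_coe, Subgroup.mem_subgroupOf]
        exact hα
      · ext x
        rw [resIn_apply, hg x]
        rfl
  rw [hA, hT] at h1
  exact h1

/-- Step 3: the good pair gives receptivity in the centralizer system. -/
theorem pairC_receptive (F : FusionSystem S) [Finite S] {p : ℕ} [Fact p.Prime] (hS : IsPGroup p S)
    {Q : Subgroup Ω} (hQS : Q ≤ S)
    (E : FusionSystem (centralizerIn S Q)) (hE : F.IsCentralizerSystem Q E) {P : Subgroup Ω}
    (hPC : P ≤ centralizerIn S Q)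
    (hrec : F.IsReceptive (P ⊔ Q))
    (hsyl : IsSylIn p (autInducedBy S (P ⊔ Q) ⊓ pairKC P Q) (F.autGroup (P ⊔ Q) ⊓ pairKC P Q)) :
    E.IsReceptive P := by
  have hUS : P ⊔ Q ≤ S := sup_le (hPC.trans inf_le_left) hQS
  have hfinP : Finite P := finite_of_le (hPC.trans inf_le_left)
  refine ⟨hPC, ?_⟩
  intro R φ hφ hr
  rw [hE R] at hφ
  obtain ⟨hφF, hRC, hφC, φb, hφb, hφbR, hφbQ⟩ := hφ
  have hφP : ∀ x : R, φ x ∈ P := fun x => hr ▸ ⟨x, rfl⟩
  have hWS : R ⊔ Q ≤ S := sup_le (hRC.trans inf_le_left) hQS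
  have hQ1 : ∀ y : Q, φb (Subgroup.inclusion le_sup_right y) ∈ Q := fun y => by
    rw [hφbQ]; exact y.2
  have hrange : φb.range = P ⊔ Q := by
    apply le_antisymm
    · rintro _ ⟨z, rfl⟩
      exact sup_map_mem φb (fun x => by rw [hφbR]; exact hφP x) hQ1 z
    · apply sup_le
      · intro y hy
        rw [← hr] at hy
        obtain ⟨x, rfl⟩ := hy
        exact ⟨_, hφbR x⟩
      · intro y hy
        exact ⟨_, hφbQ ⟨y, hy⟩⟩
  obtain ⟨ē, hē, hēx⟩ := exists_iso_of_hom F hφb hrange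
  have hinj := F.injective_of_mem hφb
  have hR_iff : ∀ w : ↥(R ⊔ Q), φb w ∈ P ↔ (w : Ω) ∈ R := by
    intro w
    constructor
    · intro hw
      rw [← hr] at hw
      obtain ⟨x, hx⟩ := hw
      have h1 : φb (Subgroup.inclusion le_sup_left x) = φb w := by rw [hφbR, hx]
      rw [← hinj h1]
      exact x.2
    · intro hw
      have : w = Subgroup.inclusion le_sup_left (⟨w, hw⟩ : R) := rfl
      rw [this, hφbR]
      exact hφP _
  have hQ_iff : ∀ w : ↥(R ⊔ Q), φb w ∈ Q ↔ (w : Ω) ∈ Q := by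
    intro w
    constructor
    · intro hw
      have h1 : φb (Subgroup.inclusion le_sup_right (⟨φb w, hw⟩ : Q)) = φb w := hφbQ _
      rw [← hinj h1]
      exact hw
    · intro hw
      exact hQ1 ⟨w, hw⟩
  have hφbQ' : ∀ (w : ↥(R ⊔ Q)), (w : Ω) ∈ Q → φb w = w := fun w hw => hφbQ ⟨w, hw⟩
  -- the data for the extension lemma
  set T := autInducedBy S (P ⊔ Q) ⊓ pairKC P Q with hTdef
  set H := F.autGroup (P ⊔ Q) ⊓ pairKC P Q with hHdef
  set A₀ : Subgroup (MulAut ↥(P ⊔ Q)) := H ⊓ fixIn (P ⊔ Q) P with hA₀def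
  have hA₀ : A₀ ≤ H := inf_le_left
  have hnorm : T ≤ Subgroup.normalizer (A₀ : Set (MulAut ↥(P ⊔ Q))) := by
    intro t ht
    have htH : t ∈ H := hsyl.1 ht
    have htP : t ∈ stabIn (P ⊔ Q) P := (Subgroup.mem_inf.mp (Subgroup.mem_inf.mp htH).2).1
    apply mem_normalizer_of_forall_conj_mem
    · intro a ha
      obtain ⟨ha1, ha2⟩ := Subgroup.mem_inf.mp ha
      exact Subgroup.mem_inf.mpr ⟨H.mul_mem (H.mul_mem htH ha1) (H.inv_mem htH),
        conj_mem_fixIn htP ha2⟩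
    · intro a ha
      obtain ⟨ha1, ha2⟩ := Subgroup.mem_inf.mp ha
      refine Subgroup.mem_inf.mpr ⟨H.mul_mem (H.mul_mem (H.inv_mem htH) ha1) htH, ?_⟩
      have := conj_mem_fixIn ((stabIn (P ⊔ Q) P).inv_mem htP) ha2
      rwa [inv_inv] at this
  set M := extender (centralizerIn S Q) R φ with hMdef
  have hMNR : M ≤ normalizerIn (centralizerIn S Q) R := extender_le_normalizerIn _ R φ
  have hM : M ≤ normalizerIn S (R ⊔ Q) := by
    intro g hg
    have h1 := hMNR hg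
    exact Subgroup.mem_inf.mpr ⟨h1.1.1,
      mem_normalizer_sup h1.2 (Subgroup.centralizer_le_normalizer _ h1.1.2)⟩
  have hMA : ∀ g (hg : g ∈ M),
      MulAut.congr ē (normAut S (R ⊔ Q) ⟨g, hM hg⟩) ∈ A₀ ⊔ T := by
    let Θ : normalizerIn S (R ⊔ Q) →* MulAut ↥(P ⊔ Q) :=
      (MulAut.congr ē).toMonoidHom.comp (normAutMHom S (R ⊔ Q))
    have hle : M ≤ ((A₀ ⊔ T).comap Θ).map (normalizerIn S (R ⊔ Q)).subtype := by
      apply (Subgroup.closure_le _).mpr
      rintro g ⟨hgN, hgR, h, hhN, hh⟩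
      have hgQ : g ∈ Subgroup.centralizer (Q : Set Ω) := hgN.2
      have hgW : g ∈ normalizerIn S (R ⊔ Q) :=
        Subgroup.mem_inf.mpr ⟨hgN.1,
          mem_normalizer_sup hgR (Subgroup.centralizer_le_normalizer _ hgQ)⟩
      refine ⟨⟨g, hgW⟩, ?_, rfl⟩
      show MulAut.congr ē (normAut S (R ⊔ Q) ⟨g, hgW⟩) ∈ A₀ ⊔ T
      set γ := MulAut.congr ē (normAut S (R ⊔ Q) ⟨g, hgW⟩) with hγdef
      -- h normalizes P
      have hhP : h ∈ Subgroup.normalizer (P : Set Ω) := by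
        apply mem_normalizer_of_conj_mem_finite
        intro y hy
        rw [← hr] at hy
        obtain ⟨x, rfl⟩ := hy
        have hx : g * (x : Ω) * g⁻¹ ∈ R := (Subgroup.mem_normalizer_iff.mp hgR x).mp x.2
        rw [← hh x hx]
        exact hφP _
      have hhNP : h ∈ normalizerIn (centralizerIn S Q) P := Subgroup.mem_inf.mpr ⟨hhN, hhP⟩
      have hhK := normalizerIn_le_normK_pairC S P Q hhNP
      set τ := normAut S (P ⊔ Q) ⟨h, normK_le S _ _ hhK⟩ with hτdef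
      have hτT : τ ∈ T := mem_autInducedBy_inf_iff.mpr ⟨h, hhK, rfl⟩
      have hγF : γ ∈ F.autGroup (P ⊔ Q) :=
        congr_mem_autGroup F hē (autInducedBy_le_autGroup F hWS (normAut_mem S _ _))
      have hγapp : ∀ w : ↥(R ⊔ Q), ((γ (ē w) : ↥(P ⊔ Q)) : Ω) =
          φb ⟨g * w * g⁻¹, (Subgroup.mem_normalizer_iff.mp hgW.2 w).mp w.2⟩ := by
        intro w
        rw [hγdef, congr_apply', hēx]
        rfl
      have hγK : γ ∈ pairKC P Q := by
        refine Subgroup.mem_inf.mpr ⟨?_, ?_⟩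
        · intro z
          obtain ⟨w, rfl⟩ := ē.surjective z
          rw [hγapp, hēx, hR_iff, hR_iff]
          exact Subgroup.mem_normalizer_iff.mp hgR w
        · intro z hz
          obtain ⟨w, rfl⟩ := ē.surjective z
          rw [hēx, hQ_iff] at hz
          apply Subtype.ext
          rw [hγapp, hēx]
          congr 1
          apply Subtype.ext
          show g * (w : Ω) * g⁻¹ = w
          rw [← hgQ w hz, mul_inv_cancel_right]
      have hγH : γ ∈ H := Subgroup.mem_inf.mpr ⟨hγF, hγK⟩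
      have hτH : τ ∈ H := hsyl.1 hτT
      have ha : τ⁻¹ * γ ∈ A₀ := by
        refine Subgroup.mem_inf.mpr ⟨H.mul_mem (H.inv_mem hτH) hγH, ?_⟩
        intro z hz
        obtain ⟨w, rfl⟩ := ē.surjective z
        rw [hēx, hR_iff] at hz
        have hx : g * ((⟨w, hz⟩ : R) : Ω) * g⁻¹ ∈ R :=
          (Subgroup.mem_normalizer_iff.mp hgR w).mp hz
        have h1 : γ (ē w) = τ (ē w) := by
          apply Subtype.ext
          rw [hγapp, hτdef, normAut_apply, hēx]
          have h2 : w = Subgroup.inclusion le_sup_left (⟨w, hz⟩ : R) := rfl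
          have h3 : (⟨g * (w : Ω) * g⁻¹, (Subgroup.mem_normalizer_iff.mp hgW.2 w).mp w.2⟩ : ↥(R ⊔ Q)) =
              Subgroup.inclusion le_sup_left (⟨g * ((⟨w, hz⟩ : R) : Ω) * g⁻¹, hx⟩ : R) := rfl
          rw [h3, hφbR, hh ⟨w, hz⟩ hx]
          conv_rhs => rw [h2, hφbR]
        rw [MulAut.mul_apply, h1, MulAut.inv_apply_self]
      have : γ = τ * (τ⁻¹ * γ) := by group
      rw [this]
      exact (A₀ ⊔ T).mul_mem ((le_sup_right : T ≤ A₀ ⊔ T) hτT) ((le_sup_left : A₀ ≤ A₀ ⊔ T) ha)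
    intro g hg
    obtain ⟨g', hg', hgg'⟩ := hle hg
    have : g' = ⟨g, hM hg⟩ := Subtype.ext hgg'
    rw [this] at hg'
    exact hg'
  obtain ⟨a, ha, ψh, hψh, hψhW, hψhM⟩ :=
    extend_of_good F hS hē (pairKC P Q) hrec hsyl A₀ hA₀ hnorm M hM hMA
  obtain ⟨haH, haP⟩ := Subgroup.mem_inf.mp ha
  have haQ : a ∈ fixIn (P ⊔ Q) Q := (Subgroup.mem_inf.mp (Subgroup.mem_inf.mp haH).2).2
  have hMC : M ≤ centralizerIn S Q := hMNR.trans inf_le_left
  have hle2 : M ⊔ Q ≤ M ⊔ (R ⊔ Q) := sup_le le_sup_left (le_sup_right.trans le_sup_right)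
  refine ⟨ψh.comp (Subgroup.inclusion (le_sup_left : M ≤ M ⊔ (R ⊔ Q))), ?_, ?_⟩
  · rw [hE M]
    refine ⟨restrict_mem F hψh le_sup_left, hMC, ?_, ψh.comp (Subgroup.inclusion hle2),
      restrict_mem F hψh hle2, fun x => rfl, ?_⟩
    · intro g
      exact (normK_pairC_le_normalizerIn S P Q (hψhM g g.2)).1
    · intro y
      have h1 : (ψh.comp (Subgroup.inclusion hle2)) (Subgroup.inclusion le_sup_right y) =
          ψh (Subgroup.inclusion le_sup_right (Subgroup.inclusion le_sup_right y : ↥(R ⊔ Q))) := rfl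
      rw [h1, hψhW]
      have h2 : ((ē (Subgroup.inclusion le_sup_right y) : ↥(P ⊔ Q)) : Ω) = y := by
        rw [hēx]; exact hφbQ y
      have h3 : ((ē (Subgroup.inclusion le_sup_right y) : ↥(P ⊔ Q)) : Ω) ∈ Q := by
        rw [h2]; exact y.2
      rw [haQ _ h3, h2]
  · intro x hxR hxM
    have h1 : (ψh.comp (Subgroup.inclusion (le_sup_left : M ≤ M ⊔ (R ⊔ Q)))) ⟨x, hxM⟩ =
        ψh (Subgroup.inclusion le_sup_right
          (Subgroup.inclusion le_sup_left (⟨x, hxR⟩ : R) : ↥(R ⊔ Q))) := rfl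
    rw [h1, hψhW]
    have h2 : ((ē (Subgroup.inclusion le_sup_left (⟨x, hxR⟩ : R)) : ↥(P ⊔ Q)) : Ω) ∈ P := by
      rw [hēx, hφbR]
      exact hφP _
    rw [haP _ h2, hēx, hφbR]

/-- AKO Theorem I.5.5 for centralizers: `C_F(Q)` is saturated when `Q` is fully centralized. -/
theorem centralizerSystem_saturated (F : FusionSystem S) [Finite S] {p : ℕ} [Fact p.Prime]
    (hS : IsPGroup p S) (hF : F.IsSaturated p) {Q : Subgroup Ω} (hQ : F.IsFullyCentralized Q)
    (E : FusionSystem (centralizerIn S Q)) (hE : F.IsCentralizerSystem Q E) : E.IsSaturated p := by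
  have hfinN : Finite (centralizerIn S Q) := finite_of_le inf_le_left
  intro P hP
  obtain ⟨P', hPP', hP'⟩ := exists_fullyNormalized_conj E hP
  obtain ⟨hrec, hsyl⟩ := pairC_good_of_fullyNormalized F hS hF hQ E hE hP'
  exact ⟨P', hPP', pairC_fullyAutomized F hQ.1 E hE hP'.1 hsyl,
    pairC_receptive F hS hQ.1 E hE hP'.1 hrec hsyl⟩

end Cfsg.Agent.Helper84
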