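import Mathlib
import Cfsg.Prelude.Def_FusionSystem
import Cfsg.Agent.Lib.Helper84.FusNormal
import Cfsg.Agent.S5097

set_option autoImplicit false

namespace Cfsg.Agent.Helper84

open Cfsg Cfsg.FusionSystem

variable {Ω : Type*} [Group Ω] {S : Subgroup Ω}

/-- The centralizer system of a subgroup central in `S`, as a system over `S`. -/
theorem exists_centralizerSystem_top (F : FusionSystem S) {Q : Subgroup Ω} (hQ : Q ≤ S)
    (hn : S ≤ Subgroup.centralizer (Q : Set Ω)) :
    ∃ E : FusionSystem S, ∀ P : Subgroup Ω, E.Hom P = F.centralizerHom Q P := by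
  obtain ⟨E, hE⟩ := Cfsg.Agent.S5097.result F Q hQ
  have h : centralizerIn S Q = S := inf_eq_left.mpr hn
  obtain ⟨E', hE'⟩ := fusionSystem_transport h E
  exact ⟨E', fun P => (hE' P).trans (hE P)⟩

theorem central_iff_singletons (F : FusionSystem S) [Finite S] {p : ℕ} [Fact p.Prime]
    (hS : IsPGroup p S) (hF : F.IsSaturated p) (Q : Subgroup Ω) :
    F.IsCentral Q ↔ (Q ≤ S ∧ ∀ x ∈ Q, ∀ y : Ω, F.IsConjElt x y → y = x) := by
  constructor
  · rintro ⟨hQS, hQ⟩
    refine ⟨hQS, ?_⟩
    rintro x hx y ⟨φ, hφ, rfl⟩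
    obtain ⟨ψ, hψ, hext, hfix⟩ := hQ _ φ hφ
    rw [← hext]
    exact hfix ⟨x, hx⟩
  · rintro ⟨hQS, hQ⟩
    -- elements of Q are fixed by every map of the system defined on them
    have hfixed : ∀ (P : Subgroup Ω) (φ : P →* Ω), φ ∈ F.Hom P → ∀ x : P, (x : Ω) ∈ Q → φ x = x := by
      intro P φ hφ x hx
      have hle : Subgroup.zpowers (x : Ω) ≤ P := by
        rw [Subgroup.zpowers_le]
        exact x.2
      apply hQ x hx (φ x)
      exact ⟨φ.comp (Subgroup.inclusion hle), restrict_mem F hφ hle, rfl⟩
    have hn : S ≤ Subgroup.centralizer (Q : Set Ω) := by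
      intro g hg
      rw [Subgroup.mem_centralizer_iff]
      intro x hx
      have := hfixed Q (conjHom Q g) (F.conj_mem hQS hg) ⟨x, hx⟩ hx
      have h2 : g * x * g⁻¹ = x := this
      calc x * g = g * x * g⁻¹ * g := by rw [h2]
        _ = g * x := by group
    obtain ⟨E, hE⟩ := exists_centralizerSystem_top F hQS hn
    have hle : ∀ P : Subgroup Ω, F.Hom P ⊆ E.Hom P := by
      apply alperin F hS hF E
      intro P hP α hα
      have hPS : P ≤ S := by
        rcases hP with rfl | hess
        · exact le_rfl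
        · exact hess.1.1
      have hQP : Q ≤ P := by
        rcases hP with rfl | hess
        · exact hQS
        · have hC : centralizerIn S P ≤ P := hess.1.2 P (conj_refl F hPS)
          refine le_trans ?_ hC
          intro x hx
          refine Subgroup.mem_inf.mpr ⟨hQS hx, ?_⟩
          rw [Subgroup.mem_centralizer_iff]
          intro y hy
          exact (hn (hPS hy) x hx).symm
      apply Subgroup.subset_closure
      show P.subtype.comp α.toMonoidHom ∈ E.Hom P
      rw [hE]
      have hα' := (mem_autGroup_iff F hPS α).mp hα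
      have hPN : P ≤ centralizerIn S Q := le_inf hPS (hPS.trans hn)
      have hle2 : P ⊔ Q ≤ P := sup_le le_rfl hQP
      refine ⟨hα', hPN, fun x => hPN (α x).2,
        (P.subtype.comp α.toMonoidHom).comp (Subgroup.inclusion hle2), restrict_mem F hα' hle2, ?_, ?_⟩
      · intro x
        rfl
      · intro x
        exact hfixed P _ hα' ⟨x, hQP x.2⟩ x.2
    refine ⟨hQS, ?_⟩
    intro P φ hφ
    have := hle P hφ
    rw [hE] at this
    exact this.2.2.2

end Cfsg.Agent.Helper84
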