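import Mathlib
import Cfsg.Prelude.Def_FusionSystem

set_option autoImplicit false

namespace Cfsg.Agent.Helper84

variable {P : Type*} [Group P]

/-- If `γ` fixes `m = x⁻¹ γ(x)` then `γ^k x = x m^k`. -/
theorem aut_pow_apply_of_fixed (γ : MulAut P) (x : P) (hm : γ (x⁻¹ * γ x) = x⁻¹ * γ x) (k : ℕ) :
    (γ ^ k) x = x * (x⁻¹ * γ x) ^ k := by
  induction k with
  | zero => simp
  | succ k ih =>
    rw [pow_succ', MulAut.mul_apply, ih, map_mul, map_pow, hm, pow_succ']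
    simp only [mul_assoc, mul_inv_cancel_left]

theorem aut_pow_card_apply_of_fixed [Finite P] (γ : MulAut P) (x : P)
    (hm : γ (x⁻¹ * γ x) = x⁻¹ * γ x) : (γ ^ Nat.card P) x = x := by
  rw [aut_pow_apply_of_fixed γ x hm, pow_card_eq_one', mul_one]

/-- An automorphism stabilizing a chain of subgroups has order dividing a power of `|P|`. -/
theorem aut_pow_eq_one_of_stabilizes_chain [Finite P] (γ : MulAut P) (N : ℕ → Subgroup P)
    (h0 : N 0 = ⊥) (hmono : ∀ i, N i ≤ N (i + 1))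
    (hstab : ∀ i, ∀ x ∈ N (i + 1), x⁻¹ * γ x ∈ N i) :
    ∀ i, ∀ x ∈ N i, (γ ^ (Nat.card P ^ i)) x = x := by
  -- γ preserves each N i
  have hinv : ∀ i, ∀ x ∈ N i, γ x ∈ N i := by
    intro i x hx
    rcases i with _ | i
    · rw [h0, Subgroup.mem_bot] at hx
      rw [hx, map_one]
      exact Subgroup.one_mem _
    · have h1 := hmono i (hstab i x hx)
      have h2 : γ x = x * (x⁻¹ * γ x) := by group
      rw [h2]
      exact Subgroup.mul_mem _ hx h1
  have hinvpow : ∀ (k : ℕ) i, ∀ x ∈ N i, (γ ^ k) x ∈ N i := by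
    intro k
    induction k with
    | zero => intro i x hx; simpa using hx
    | succ k ih =>
      intro i x hx
      rw [pow_succ', MulAut.mul_apply]
      exact hinv i _ (ih i x hx)
  -- powers of γ also stabilize the chain
  have hstabpow : ∀ (k : ℕ) i, ∀ x ∈ N (i + 1), x⁻¹ * (γ ^ k) x ∈ N i := by
    intro k
    induction k with
    | zero => intro i x hx; simp
    | succ k ih =>
      intro i x hx
      rw [pow_succ', MulAut.mul_apply]
      have h1 := ih i x hx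
      have h2 := hstab i _ (hinvpow k (i + 1) x hx)
      have h3 : x⁻¹ * γ ((γ ^ k) x) = (x⁻¹ * (γ ^ k) x) * (((γ ^ k) x)⁻¹ * γ ((γ ^ k) x)) := by group
      rw [h3]
      exact Subgroup.mul_mem _ h1 h2
  intro i
  induction i with
  | zero =>
    intro x hx
    rw [h0, Subgroup.mem_bot] at hx
    rw [hx, map_one]
  | succ i ih =>
    intro x hx
    have hm := hstabpow (Nat.card P ^ i) i x hx
    have hfix := ih _ hm
    have := aut_pow_card_apply_of_fixed (γ ^ (Nat.card P ^ i)) x hfix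
    rw [← pow_mul, ← pow_succ] at this
    exact this


/-- The subgroup of `A ≤ Aut(P)` of automorphisms acting trivially on the factors of a chain of
`A`-invariant subgroups. -/
def chainStab (A : Subgroup (MulAut P)) (Nc : ℕ → Subgroup P)
    (hinv : ∀ a ∈ A, ∀ k, ∀ x ∈ Nc k, (a : MulAut P) x ∈ Nc k) : Subgroup A where
  carrier := {a | ∀ k, ∀ x ∈ Nc (k + 1), x⁻¹ * (a : MulAut P) x ∈ Nc k}
  one_mem' := by
    intro k x _
    simp
  mul_mem' := by
    intro a b ha hb k x hx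
    have h1 := hb k x hx
    have h2 := ha k _ (hinv b b.2 (k + 1) x hx)
    have h3 : x⁻¹ * ((a * b : A) : MulAut P) x =
        (x⁻¹ * (b : MulAut P) x) * (((b : MulAut P) x)⁻¹ * (a : MulAut P) ((b : MulAut P) x)) := by
      simp [MulAut.mul_apply, mul_assoc]
    rw [h3]
    exact Subgroup.mul_mem _ h1 h2
  inv_mem' := by
    intro a ha k x hx
    have hy : ((a⁻¹ : A) : MulAut P) x ∈ Nc (k + 1) := hinv _ (a⁻¹).2 (k + 1) x hx
    have h1 := ha k _ hy
    have h2 : (a : MulAut P) (((a⁻¹ : A) : MulAut P) x) = x := by simp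
    rw [h2] at h1
    have h3 : x⁻¹ * ((a⁻¹ : A) : MulAut P) x = ((((a⁻¹ : A) : MulAut P) x)⁻¹ * x)⁻¹ := by group
    rw [h3]
    exact Subgroup.inv_mem _ h1

theorem mem_chainStab_iff (A : Subgroup (MulAut P)) (Nc : ℕ → Subgroup P)
    (hinv : ∀ a ∈ A, ∀ k, ∀ x ∈ Nc k, (a : MulAut P) x ∈ Nc k) (a : A) :
    a ∈ chainStab A Nc hinv ↔ ∀ k, ∀ x ∈ Nc (k + 1), x⁻¹ * (a : MulAut P) x ∈ Nc k := Iff.rfl

theorem chainStab_normal (A : Subgroup (MulAut P)) (Nc : ℕ → Subgroup P)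
    (hinv : ∀ a ∈ A, ∀ k, ∀ x ∈ Nc k, (a : MulAut P) x ∈ Nc k) : (chainStab A Nc hinv).Normal := by
  constructor
  intro d hd a k x hx
  have hy : ((a⁻¹ : A) : MulAut P) x ∈ Nc (k + 1) := hinv _ (a⁻¹).2 (k + 1) x hx
  have h1 := hd k _ hy
  have h2 := hinv a a.2 k _ h1
  have h3 : x⁻¹ * ((a * d * a⁻¹ : A) : MulAut P) x =
      (a : MulAut P) ((((a⁻¹ : A) : MulAut P) x)⁻¹ * (d : MulAut P) (((a⁻¹ : A) : MulAut P) x)) := by
    simp [MulAut.mul_apply]
  rw [h3]
  exact h2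

theorem chainStab_isPGroup [Finite P] {p : ℕ} (hP : IsPGroup p P) (A : Subgroup (MulAut P))
    (Nc : ℕ → Subgroup P)
    (hinv : ∀ a ∈ A, ∀ k, ∀ x ∈ Nc k, (a : MulAut P) x ∈ Nc k)
    (h0 : Nc 0 = ⊥) (hmono : ∀ i, Nc i ≤ Nc (i + 1)) (m : ℕ) (hm : Nc m = ⊤) [Fact p.Prime] :
    IsPGroup p (chainStab A Nc hinv) := by
  obtain ⟨e, he⟩ := IsPGroup.iff_card.mp hP
  intro d
  refine ⟨e * m, ?_⟩
  apply Subtype.ext
  apply Subtype.ext
  ext x
  have h1 := aut_pow_eq_one_of_stabilizes_chain ((d : A) : MulAut P) Nc h0 hmono d.2 m x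
    (hm ▸ Subgroup.mem_top x)
  rw [he, ← pow_mul] at h1
  simpa using h1

end Cfsg.Agent.Helper84
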