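import Mathlib
import Cfsg.Prelude.Def_FusionSystem
import Cfsg.Agent.Lib.Helper84.FusNormal
import Cfsg.Agent.Lib.Helper84.GrpStab
import Cfsg.Agent.S5085

set_option autoImplicit false

namespace Cfsg.Agent.Helper84

open Cfsg Cfsg.FusionSystem
open scoped Pointwise commutatorElement

variable {Ω : Type*} [Group Ω] {S : Subgroup Ω}

theorem aut_apply_mem_of_stronglyClosed (F : FusionSystem S) {R P : Subgroup Ω}
    (hR : F.StronglyClosed R) (hPS : P ≤ S) {α : MulAut P} (hα : α ∈ F.autGroup P) (x : P)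
    (hx : (x : Ω) ∈ R) : ((α x : P) : Ω) ∈ R := by
  have h1 := (mem_autGroup_iff F hPS α).mp hα
  have h2 := restrict_mem F h1 (inf_le_left : P ⊓ R ≤ P)
  exact hR.2 (P ⊓ R) inf_le_right _ h2 ⟨x, Subgroup.mem_inf.mpr ⟨x.2, hx⟩⟩

/-- AKO Proposition I.4.6, key step. -/
theorem le_of_series_centric_radical (F : FusionSystem S) [Finite S] {p : ℕ} [Fact p.Prime]
    (hS : IsPGroup p S) {Q P : Subgroup Ω} (Qn : ℕ → Subgroup Ω) (h0 : Qn 0 = ⊥)
    (hmono : ∀ k, Qn k ≤ Qn (k + 1)) (hsc : ∀ k, F.StronglyClosed (Qn k))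
    (hcomm : ∀ k, ⁅Q, Qn (k + 1)⁆ ≤ Qn k) (m : ℕ) (hm : P ≤ Qn m) (hQsc : F.StronglyClosed Q)
    (hcen : F.IsCentric P) (hrad : F.IsRadical p P) : Q ≤ P := by
  have hPS : P ≤ S := hcen.1
  have hQS : Q ≤ S := hQsc.1
  have hfinP : Finite P := finite_of_le hPS
  have hC : centralizerIn S P ≤ P := hcen.2 P (conj_refl F hPS)
  set Nc : ℕ → Subgroup P := fun k => (Qn k).subgroupOf P with hNc
  have hinv : ∀ a ∈ F.autGroup P, ∀ k, ∀ x ∈ Nc k, (a : MulAut P) x ∈ Nc k := by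
    intro a ha k x hx
    exact aut_apply_mem_of_stronglyClosed F (hsc k) hPS ha x hx
  have hDn := chainStab_normal (F.autGroup P) Nc hinv
  have hDp : IsPGroup p (chainStab (F.autGroup P) Nc hinv) := by
    refine chainStab_isPGroup (hS.to_le hPS) (F.autGroup P) Nc hinv ?_ ?_ m ?_
    · show (Qn 0).subgroupOf P = ⊥
      rw [h0]
      exact Subgroup.bot_subgroupOf P
    · intro i x hx
      exact hmono i hx
    · show (Qn m).subgroupOf P = ⊤
      exact Subgroup.subgroupOf_eq_top.mpr hm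
  have hDcore : chainStab (F.autGroup P) Nc hinv ≤ pCore p (F.autGroup P) := le_sSup ⟨hDn, hDp⟩
  have hNQ : Q ⊓ Subgroup.normalizer (P : Set Ω) ≤ P := by
    intro g hg
    have hgN : g ∈ normalizerIn S P := Subgroup.mem_inf.mpr ⟨hQS hg.1, hg.2⟩
    have hmem : normAutHom F hPS ⟨g, hgN⟩ ∈ chainStab (F.autGroup P) Nc hinv := by
      intro k x hx
      show ((x⁻¹ * (normAut S P ⟨g, hgN⟩) x : P) : Ω) ∈ Qn k
      have hx' : (x : Ω) ∈ Qn (k + 1) := hx
      have h1 : ((x⁻¹ * (normAut S P ⟨g, hgN⟩) x : P) : Ω) = ⁅g, (x : Ω)⁻¹⁆⁻¹ := by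
        simp only [Subgroup.coe_mul, InvMemClass.coe_inv, normAut_apply, commutatorElement_def]
        group
      rw [h1]
      apply Subgroup.inv_mem
      apply hcomm k
      exact Subgroup.commutator_mem_commutator hg.1 (Subgroup.inv_mem _ hx')
    have h2 : ((normAutHom F hPS ⟨g, hgN⟩ : F.autGroup P) : MulAut P) ∈ Inn P := by
      rw [← hrad.2]
      exact ⟨_, hDcore hmem, rfl⟩
    exact (normAutHom_mem_inn_iff F hPS hC ⟨g, hgN⟩).mp (Subgroup.mem_subgroupOf.mpr h2)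
  have hPnQ : P ≤ Subgroup.normalizer (Q : Set Ω) := hPS.trans (stronglyClosed_normal F hQsc)
  have hcoe : ((P ⊔ Q : Subgroup Ω) : Set Ω) = (P : Set Ω) * (Q : Set Ω) :=
    Subgroup.coe_mul_of_left_le_normalizer_right P Q hPnQ
  have hP₀ : (P ⊔ Q) ⊓ Subgroup.normalizer (P : Set Ω) ≤ P := by
    intro t ht
    have ht1 : t ∈ ((P ⊔ Q : Subgroup Ω) : Set Ω) := ht.1
    rw [hcoe] at ht1
    obtain ⟨u, hu, q, hq, rfl⟩ := ht1
    have hqN : q ∈ Subgroup.normalizer (P : Set Ω) := by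
      have : q = u⁻¹ * (u * q) := by group
      rw [this]
      exact Subgroup.mul_mem _ (Subgroup.inv_mem _ (Subgroup.le_normalizer hu)) ht.2
    exact P.mul_mem hu (hNQ (Subgroup.mem_inf.mpr ⟨hq, hqN⟩))
  have hPQS : P ⊔ Q ≤ S := sup_le hPS hQS
  have hfin : Finite ↥(P ⊔ Q) := finite_of_le hPQS
  by_contra hQP
  have hlt : P < P ⊔ Q := lt_of_le_not_ge le_sup_left (fun h => hQP (le_sup_right.trans h))
  obtain ⟨t, ht1, ht2, ht3⟩ := exists_mem_normalizer_not_mem (hS.to_le hPQS) hlt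
  exact ht3 (hP₀ (Subgroup.mem_inf.mpr ⟨ht1, ht2⟩))


theorem stronglyClosed_bot (F : FusionSystem S) : F.StronglyClosed (⊥ : Subgroup Ω) := by
  refine ⟨bot_le, ?_⟩
  intro R hR φ _ x
  have hx : (x : Ω) = 1 := by
    have := hR x.2
    simpa using this
  have : x = 1 := Subtype.ext hx
  rw [this, map_one]
  exact Subgroup.one_mem _

theorem stronglyClosed_top (F : FusionSystem S) : F.StronglyClosed S :=
  ⟨le_rfl, fun _ _ _ hφ x => (F.le_of_mem hφ).2 x⟩

theorem commutator_le_of_le_normalizer {Q T : Subgroup Ω} (h : T ≤ Subgroup.normalizer (Q : Set Ω)) :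
    ⁅Q, T⁆ ≤ Q := by
  rw [Subgroup.commutator_le]
  intro g hg s hs
  have h1 : s * g⁻¹ * s⁻¹ ∈ Q := (Subgroup.mem_normalizer_iff.mp (h hs) g⁻¹).mp (Q.inv_mem hg)
  have h2 : ⁅g, s⁆ = g * (s * g⁻¹ * s⁻¹) := by
    rw [commutatorElement_def]; group
  rw [h2]
  exact Q.mul_mem hg h1

/-- AKO Proposition I.4.6, one direction. -/
theorem normal_of_series (F : FusionSystem S) [Finite S] {p : ℕ} [Fact p.Prime]
    (hS : IsPGroup p S) (hF : F.IsSaturated p) {Q : Subgroup Ω} (n : ℕ)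
    (Qs : Fin (n + 1) → Subgroup Ω) (h0 : Qs 0 = ⊥) (hlast : Qs (Fin.last n) = Q)
    (hmono : Monotone Qs)
    (hstep : ∀ i : Fin n, F.StronglyClosed (Qs i.succ) ∧ ⁅Q, Qs i.succ⁆ ≤ Qs (Fin.castSucc i)) :
    F.IsNormal Q := by
  have hscall : ∀ j : Fin (n + 1), F.StronglyClosed (Qs j) := by
    intro j
    refine Fin.cases ?_ (fun i => (hstep i).1) j
    rw [h0]
    exact stronglyClosed_bot F
  have hQsc : F.StronglyClosed Q := hlast ▸ hscall (Fin.last n)
  have hQS : Q ≤ S := hQsc.1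
  have hSnQ := stronglyClosed_normal F hQsc
  set Qn : ℕ → Subgroup Ω := fun k => if h : k ≤ n then Qs ⟨k, Nat.lt_succ_of_le h⟩ else S with hQn
  have hQn_le : ∀ k (h : k ≤ n), Qn k = Qs ⟨k, Nat.lt_succ_of_le h⟩ := by
    intro k h
    simp only [hQn, dif_pos h]
  have hQn_gt : ∀ k, ¬ k ≤ n → Qn k = S := by
    intro k h
    simp only [hQn, dif_neg h]
  have hQn0 : Qn 0 = ⊥ := by
    rw [hQn_le 0 (Nat.zero_le n)]
    exact h0
  have hQnn : Qn n = Q := by
    rw [hQn_le n le_rfl]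
    exact hlast
  have hQn_mono : ∀ k, Qn k ≤ Qn (k + 1) := by
    intro k
    by_cases h1 : k + 1 ≤ n
    · rw [hQn_le k (by omega), hQn_le (k + 1) h1]
      apply hmono
      simp [Fin.le_def]
    · rw [hQn_gt (k + 1) h1]
      by_cases h2 : k ≤ n
      · rw [hQn_le k h2]
        exact (hscall _).1
      · rw [hQn_gt k h2]
  have hQn_sc : ∀ k, F.StronglyClosed (Qn k) := by
    intro k
    by_cases h : k ≤ n
    · rw [hQn_le k h]
      exact hscall _
    · rw [hQn_gt k h]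
      exact stronglyClosed_top F
  have hQn_comm : ∀ k, ⁅Q, Qn (k + 1)⁆ ≤ Qn k := by
    intro k
    by_cases h1 : k + 1 ≤ n
    · rw [hQn_le k (by omega), hQn_le (k + 1) h1]
      exact (hstep ⟨k, by omega⟩).2
    · rw [hQn_gt (k + 1) h1]
      by_cases h2 : k ≤ n
      · have : k = n := by omega
        subst this
        rw [hQnn]
        exact commutator_le_of_le_normalizer hSnQ
      · rw [hQn_gt k h2]
        rw [Subgroup.commutator_le]
        intro g hg s hs
        exact S.mul_mem (S.mul_mem (S.mul_mem (hQS hg) hs) (S.inv_mem (hQS hg))) (S.inv_mem hs)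
  apply normal_of_alperin_invariant F hS hF
  intro P hP
  rcases hP with rfl | hess
  · exact ⟨hQS, fun α hα => aut_map_eq_of_stronglyClosed F hQsc le_rfl hQS hα⟩
  · have hPS : P ≤ S := hess.1.1
    have hQP : Q ≤ P := by
      refine le_of_series_centric_radical F hS Qn hQn0 hQn_mono hQn_sc hQn_comm (n + 1) ?_ hQsc
        hess.1 (essential_radical F hS hF hess)
      rw [hQn_gt (n + 1) (by omega)]
      exact hPS
    exact ⟨hQP, fun α hα => aut_map_eq_of_stronglyClosed F hQsc hPS hQP hα⟩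

theorem normal_of_characteristic (F : FusionSystem S) {Q U : Subgroup Ω} (hQ : F.IsNormal Q)
    (hUQ : U ≤ Q) (hU : (U.subgroupOf Q).Characteristic) : F.IsNormal U :=
  Cfsg.Agent.S5085.result F Q U hQ hUQ hU

/-- AKO Proposition I.4.6, other direction. -/
theorem series_of_normal (F : FusionSystem S) [Finite S] {p : ℕ} [Fact p.Prime]
    (hS : IsPGroup p S) {Q : Subgroup Ω} (hQ : F.IsNormal Q) :
    ∃ (n : ℕ) (Qs : Fin (n + 1) → Subgroup Ω), Qs 0 = ⊥ ∧ Qs (Fin.last n) = Q ∧ Monotone Qs ∧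
      ∀ i : Fin n, F.StronglyClosed (Qs i.succ) ∧ ⁅Q, Qs i.succ⁆ ≤ Qs (Fin.castSucc i) := by
  have hQS : Q ≤ S := hQ.1
  have hfinQ : Finite Q := finite_of_le hQS
  have hnil : Group.IsNilpotent Q := (hS.to_le hQS).isNilpotent
  obtain ⟨c, hc⟩ := (Subgroup.isNilpotent_iff_lowerCentralSeries Q).mp hnil
  have hchar : ∀ k, ((Q.lowerCentralSeries k).subgroupOf Q).Characteristic := by
    intro k
    have h1 : (Q.lowerCentralSeries k).subgroupOf Q = (⊤ : Subgroup Q).lowerCentralSeries k := by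
      rw [← Subgroup.top_subtype_lowerCentralSeries, Subgroup.subgroupOf,
        Subgroup.comap_map_eq_self_of_injective (Subgroup.subtype_injective Q)]
    rw [h1]
    infer_instance
  have hsc : ∀ k, F.StronglyClosed (Q.lowerCentralSeries k) := fun k =>
    stronglyClosed_of_normal F
      (normal_of_characteristic F hQ (Subgroup.lowerCentralSeries_le_self Q k) (hchar k))
  refine ⟨c, fun i => Q.lowerCentralSeries (c - i), ?_, ?_, ?_, ?_⟩
  · simpa using hc
  · simp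
  · intro i j hij
    apply Subgroup.lowerCentralSeries_antitone
    have : (i : ℕ) ≤ j := hij
    omega
  · intro i
    refine ⟨hsc _, ?_⟩
    have h1 : c - ((Fin.castSucc i : Fin (c + 1)) : ℕ) = (c - ((i.succ : Fin (c + 1)) : ℕ)) + 1 := by
      have := i.2
      simp only [Fin.val_castSucc, Fin.val_succ]
      omega
    show ⁅Q, Q.lowerCentralSeries (c - ((i.succ : Fin (c + 1)) : ℕ))⁆ ≤
      Q.lowerCentralSeries (c - ((Fin.castSucc i : Fin (c + 1)) : ℕ))
    rw [h1, Subgroup.lowerCentralSeries_succ, Subgroup.commutator_comm]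

end Cfsg.Agent.Helper84
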