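import Mathlib
import Cfsg.Prelude.Def_FusionSystem
import Cfsg.Prelude.Def_FusionComponents
import Cfsg.Agent.Lib.Helper84.FusT6
import Cfsg.Agent.Lib.Helper87.FusionInvariant

/-!
# Images of subnormal subsystems under maps of the system
-/

set_option autoImplicit false

namespace Cfsg.Agent.Helper84.T7

open Cfsg Cfsg.FusionSystem
open Cfsg.Agent.Helper87 (Mor Iso extFun extAut extHom)
open Cfsg.Agent.Helper84.T1 Cfsg.Agent.Helper84.T2 Cfsg.Agent.Helper84.T3

universe u
variable {Ω : Type u} [Group Ω]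

/-- existence of the image system over a prescribed subgroup -/
theorem exists_push' {Ω' : Type*} [Group Ω'] {U : Subgroup Ω} {U' : Subgroup Ω'} {θ : Ω → Ω'}
    {κ : Ω' → Ω} (h : Tr U U' θ κ) {S : Subgroup Ω} [Finite S] (F : FusionSystem S) (hS : S ≤ U)
    {S' : Subgroup Ω'} (e : S' = h.img S) : ∃ F' : FusionSystem S', Rel h F F' := by
  subst e
  exact exists_push h F hS

/-- an automorphism of a subgroup as a transport datum -/
theorem tr_of_aut {V : Subgroup Ω} (α : MulAut V) : Tr V V (extAut α) (extAut α⁻¹) where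
  map x hx := Helper87.extAut_mem_self α hx
  mul x hx y hy := by
    rw [Helper87.extAut_mem α hx, Helper87.extAut_mem α hy, Helper87.extAut_mem α (V.mul_mem hx hy)]
    have : (⟨x * y, V.mul_mem hx hy⟩ : V) = ⟨x, hx⟩ * ⟨y, hy⟩ := rfl
    rw [this, map_mul]
    rfl
  inv y hy := Helper87.extAut_mem_self α⁻¹ hy
  left x hx := Helper87.extAut_inv_left α hx
  right y hy := Helper87.extAut_inv_right α hy

theorem img_tr_of_aut {V : Subgroup Ω} (α : MulAut V) {P : Subgroup Ω} (hP : P ≤ V) :
    (tr_of_aut α).img P = Helper87.imgAut α P := by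
  ext y
  rw [(tr_of_aut α).mem_img' hP, Helper87.mem_imgAut hP]

theorem symm_img_tr_of_aut {V : Subgroup Ω} (α : MulAut V) {P : Subgroup Ω} (hP : P ≤ V) :
    (tr_of_aut α).symm.img P = Helper87.imgAut α⁻¹ P := by
  ext y
  rw [(tr_of_aut α).symm.mem_img' hP, Helper87.mem_imgAut hP]

/-- an invariant subsystem is carried to itself by the automorphisms of `F` -/
theorem rel_of_aut_invariant {V S : Subgroup Ω} {D : FusionSystem V} {F : FusionSystem S}
    (hinv : D.IsInvariantIn F) {α : MulAut V} (hα : α ∈ F.autGroup V) :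
    Rel (tr_of_aut α) D D := by
  refine ⟨le_rfl, ((tr_of_aut α).img_top).symm, fun P f hf => ?_, fun P' f' hf' => ?_⟩
  · rw [img_tr_of_aut α hf.le]
    exact Helper87.invariance_fun hinv hf.le hf hα
  · rw [symm_img_tr_of_aut α hf'.le]
    have := Helper87.invariance_fun hinv hf'.le hf' ((F.autGroup V).inv_mem hα)
    rwa [inv_inv] at this

/-- a map of `F` defined on all of `S` is an automorphism; the image of `F` under it is `F` -/
theorem eq_of_rel_self {S R : Subgroup Ω} [Finite S] {F : FusionSystem S} {E : FusionSystem R}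
    {γ κ : Ω → Ω} (h : Tr S R γ κ) (hγ : Mor F S γ) (hr : Rel h F E) :
    ∃ e : R = S, e ▸ E = F := by
  have hRS : R ≤ S := by
    intro y hy
    rw [← h.right y hy]
    exact hγ.mem (h.inv y hy)
  have hcard : Nat.card R = Nat.card S := by
    rw [← h.card_img le_rfl, h.img_top]
  have e : R = S := Subgroup.eq_of_le_of_card_ge hRS hcard.ge
  subst e
  refine ⟨rfl, ?_⟩
  have hiso : Iso F R R γ := Helper87.iso_of_card_le hγ le_rfl (fun x hx => h.map x hx) le_rfl
  obtain ⟨g, hg, e1, e2⟩ := hiso.symm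
  have hκ : Mor F R κ := by
    refine hg.1.congr (fun y hy => ?_)
    have h1 : γ (g y) = γ (κ y) := by rw [e2 y hy, h.right y hy]
    exact h.inj (hg.map_mem hy) (h.inv y hy) h1
  have key : ∀ (P : Subgroup Ω) (f : Ω → Ω), Mor E P f ↔ Mor F P f := by
    intro P f
    constructor
    · intro hm
      have hP : P ≤ R := hm.le
      have h1 := hr.bwd _ _ hm
      have hκP : ∀ x ∈ P, κ x ∈ h.symm.img P := fun x hx =>
        ⟨h.inv x (hP hx), by rw [h.right x (hP hx)]; exact hx⟩
      have h2 := ((hκ.restrict hP).comp h1 hκP).comp hγ (fun x hx => h1.mem (hκP x hx))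
      refine h2.congr (fun x hx => ?_)
      show γ (κ (f (γ (κ x)))) = f x
      rw [h.right x (hP hx), h.right _ (hm.mem hx)]
    · intro hm
      have hP : P ≤ R := hm.le
      refine hr.mor_of' hP (fun y hy => hm.mem hy) ?_
      have hκPR : h.symm.img P ≤ R := h.symm.img_le P
      have h1 := ((hγ.restrict hκPR).comp hm (fun x hx => hx.2)).comp hκ
        (fun x hx => hm.mem hx.2)
      exact h1
  apply fusionSystem_ext
  intro P
  ext φ
  rw [Helper87.mem_hom_iff_mor, Helper87.mem_hom_iff_mor]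
  exact key P _

/-- **the image of a subnormal subsystem under a map of `F` is subnormal** -/
theorem subnormal_image {p : ℕ} {T S : Subgroup Ω} {C : FusionSystem T} {F : FusionSystem S}
    (hsn : C.IsSubnormalIn F p) :
    ∀ (_ : Fact p.Prime) (_ : Finite S) (_ : IsPGroup p S) (_ : F.IsSaturated p)
      (γ κ : Ω → Ω) (R : Subgroup Ω) (E : FusionSystem R) (h : Tr T R γ κ),
      Mor F T γ → Rel h C E → E.IsSubnormalIn F p := by
  induction hsn with
  | refl F p =>
    intro hp hfin hS hF γ κ R E h hγ hr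
    obtain ⟨e, he⟩ := eq_of_rel_self h hγ hr
    subst e
    subst he
    exact IsSubnormalIn.refl _ _
  | step h1 h2 ih =>
    rename_i T V S C D F p
    intro hp hfin hS hF γ κ R E h hγ hr
    have hinv : D.IsInvariantIn F := h2.1.2.2
    have hTV : T ≤ V := T5.le_of_subnormal h1
    have hVS : V ≤ S := hinv.2.1.1
    have hfinV : Finite V :=
      Finite.of_injective (Subgroup.inclusion hVS) (Subgroup.inclusion_injective hVS)
    have hfinT : Finite T :=
      Finite.of_injective (Subgroup.inclusion hTV) (Subgroup.inclusion_injective hTV)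
    have hV : IsPGroup p V := hS.to_le hVS
    obtain ⟨α, hα, γ₀, hγ₀, e⟩ := Helper87.frattini_fun hinv hTV hγ
    have hγ₀V : ∀ x ∈ T, γ₀ x ∈ V := fun x hx => hγ₀.mem hx
    -- the transport datum for `γ₀`
    have h₀ : Tr T hγ₀.image γ₀ (fun y => κ (extAut α y)) := by
      refine ⟨fun x hx => ⟨x, hx, rfl⟩, fun x hx y hy => hγ₀.map_mul hx hy, ?_, ?_, ?_⟩
      · rintro y ⟨x, hx, rfl⟩
        show κ (extAut α (γ₀ x)) ∈ T
        rw [← e x hx, h.left x hx]
        exact hx
      · intro x hx
        show κ (extAut α (γ₀ x)) = x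
        rw [← e x hx, h.left x hx]
      · rintro y ⟨x, hx, rfl⟩
        show γ₀ (κ (extAut α (γ₀ x))) = γ₀ x
        rw [← e x hx, h.left x hx]
    obtain ⟨C₀, hrel₀⟩ := exists_push' h₀ C le_rfl (h₀.img_top).symm
    have hC₀ : C₀.IsSubnormalIn D p := ih hp hfinV hV h2.1.1 γ₀ _ _ C₀ h₀ hγ₀ hrel₀
    have hDD : Rel (tr_of_aut α) D D := rel_of_aut_invariant hinv hα
    have hR₀V : hγ₀.image ≤ V := by
      rintro y ⟨x, hx, rfl⟩
      exact hγ₀V x hx
    have hRV : R ≤ V := by
      intro y hy
      rw [← h.right y hy, e _ (h.inv y hy)]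
      exact Helper87.extAut_mem_self α (hγ₀V _ (h.inv y hy))
    have hC₀E : Rel (tr_of_aut α) C₀ E := by
      refine (hrel₀.symm.trans hr).congr (tr_of_aut α) hR₀V hRV ?_ ?_
      · rintro y ⟨x, hx, rfl⟩
        show extAut α (γ₀ x) = γ (κ (extAut α (γ₀ x)))
        rw [← e x hx, h.left x hx]
      · intro y hy
        show extAut α⁻¹ y = γ₀ (κ y)
        have h3 : y = extAut α (γ₀ (κ y)) := by
          rw [← e _ (h.inv y hy), h.right y hy]
        conv_lhs => rw [h3]
        exact Helper87.extAut_inv_left α (hγ₀V _ (h.inv y hy))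
    have hEsn : E.IsSubnormalIn D p := T5.subnormal hC₀ hp hfinV hV E D hC₀E hDD
    exact IsSubnormalIn.step hEsn h2

end Cfsg.Agent.Helper84.T7
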