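import Mathlib
import Cfsg.Prelude.Def_FusionSystem
import Cfsg.Prelude.Def_FusionComponents
import Cfsg.Agent.Lib.Helper84.FusT7

/-!
# Automorphisms of a fusion system permute its components and fix its layer
-/

set_option autoImplicit false

namespace Cfsg.Agent.Helper84.T8

open Cfsg Cfsg.FusionSystem
open Cfsg.Agent.Helper87 (Mor Iso extFun extAut extHom)
open Cfsg.Agent.Helper84.T1 Cfsg.Agent.Helper84.T2 Cfsg.Agent.Helper84.T3
open Cfsg.Agent.Helper84.T7 (tr_of_aut)

universe u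
variable {Ω : Type u} [Group Ω] {S : Subgroup Ω}

theorem imageAlong_eq_img (α : MulAut S) (P : Subgroup Ω) :
    imageAlong (S.subtype.comp α.toMonoidHom) P = (tr_of_aut α).img P := by
  ext y
  rw [Helper87.mem_imageAlong_iff]
  constructor
  · rintro ⟨x, hx, hxP, rfl⟩
    rw [Helper87.extHom_mem _ hx]
    have : (S.subtype.comp α.toMonoidHom) ⟨x, hx⟩ = extAut α x := by
      rw [Helper87.extAut_mem α hx]; rfl
    rw [this]
    exact (tr_of_aut α).map_mem_img hxP hx
  · rintro ⟨hy, hy'⟩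
    refine ⟨extAut α⁻¹ y, Helper87.extAut_mem_self _ hy, hy', ?_⟩
    rw [Helper87.extHom_mem _ (Helper87.extAut_mem_self _ hy)]
    have : (S.subtype.comp α.toMonoidHom) ⟨extAut α⁻¹ y, Helper87.extAut_mem_self _ hy⟩
        = extAut α (extAut α⁻¹ y) := by
      rw [Helper87.extAut_mem α (Helper87.extAut_mem_self _ hy)]; rfl
    rw [this, Helper87.extAut_inv_right α hy]

/-- a morphism of fusion systems given by an automorphism, at function level -/
theorem mor_of_isMorphism {F : FusionSystem S} (α : MulAut S)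
    (hα : F.IsMorphism F (S.subtype.comp α.toMonoidHom)) {P : Subgroup Ω} {f : Ω → Ω}
    (hf : Mor F P f) :
    Mor F ((tr_of_aut α).img P) (fun y => extAut α (f (extAut α⁻¹ y))) := by
  obtain ⟨φ, hφ, eφ⟩ := hf
  obtain ⟨φ', hφ', hP, hφS, hP', hind⟩ := hα.2 P φ hφ
  have e := imageAlong_eq_img α P
  refine ⟨(MonoidHom.comp φ' (Subgroup.inclusion e.ge)), ?_, fun y => ?_⟩
  · have : (MonoidHom.comp φ' (Subgroup.inclusion e.ge)) ∈
        F.Hom ((tr_of_aut α).img P) := by
      have h1 := Helper87.mor_of_mem hφ'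
      rw [Helper87.mem_hom_iff_mor]
      have h2 : Mor F ((tr_of_aut α).img P) (extFun φ') := by
        rw [← e]; exact h1
      refine h2.congr (fun y hy => ?_)
      rw [Helper87.extFun_mem _ hy, Helper87.extFun_mem φ' (e.ge hy)]
      rfl
    exact this
  · have hy : (y : Ω) ∈ (tr_of_aut α).img P := y.2
    have hκy : extAut α⁻¹ (y : Ω) ∈ P := hy.2
    have h1 := hind ⟨_, hκy⟩
    have hκyS : extAut α⁻¹ (y : Ω) ∈ S := hP hκy
    have h2 : (S.subtype.comp α.toMonoidHom) ⟨extAut α⁻¹ (y : Ω), hκyS⟩ = (y : Ω) := by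
      show ((α ⟨extAut α⁻¹ (y : Ω), hκyS⟩ : S) : Ω) = y
      rw [← Helper87.extAut_mem α hκyS, Helper87.extAut_inv_right α hy.1]
    have h3 : (⟨(S.subtype.comp α.toMonoidHom) ⟨extAut α⁻¹ (y : Ω), hκyS⟩, hP' ⟨_, hκy⟩⟩ :
        ↥(imageAlong (S.subtype.comp α.toMonoidHom) P)) = Subgroup.inclusion e.ge y :=
      Subtype.ext h2
    rw [h3] at h1
    show φ' (Subgroup.inclusion e.ge y) = extAut α (f (extAut α⁻¹ (y : Ω)))
    rw [h1, ← eφ ⟨_, hκy⟩]
    show ((α ⟨φ ⟨_, hκy⟩, _⟩ : S) : Ω) = _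
    rw [← Helper87.extAut_mem α (hφS ⟨_, hκy⟩)]

/-- an automorphism of the fusion system `F` as a relation of `F` with itself -/
theorem rel_of_isMorphism {F : FusionSystem S} (α : MulAut S)
    (hα : F.IsMorphism F (S.subtype.comp α.toMonoidHom))
    (hα' : F.IsMorphism F (S.subtype.comp (α⁻¹ : MulAut S).toMonoidHom)) :
    Rel (tr_of_aut α) F F := by
  refine ⟨le_rfl, ((tr_of_aut α).img_top).symm, fun P f hf => mor_of_isMorphism α hα hf,
    fun P' f' hf' => ?_⟩
  have h1 := mor_of_isMorphism α⁻¹ hα' hf'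
  have e : (tr_of_aut α⁻¹).img P' = (tr_of_aut α).symm.img P' := by
    ext y
    constructor
    · rintro ⟨hy, hy'⟩
      rw [inv_inv] at hy'
      exact ⟨hy, hy'⟩
    · rintro ⟨hy, hy'⟩
      refine ⟨hy, ?_⟩
      rw [inv_inv]
      exact hy'
  rw [e] at h1
  rw [inv_inv] at h1
  exact h1

/-- the image of the layer under an automorphism of `F` contains the layer -/
theorem layer_le_push [Finite S] {p : ℕ} [Fact p.Prime] (hS : IsPGroup p S)
    {F : FusionSystem S}
    {θ κ : Ω → Ω} (h : Tr S S θ κ) (hFF : Rel h F F) {T T' : Subgroup Ω}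
    {E : FusionSystem T} (hE : E.IsLayerOf F p) {E' : FusionSystem T'} (hr : Rel h E E') :
    E.IsSubsystemOf E' := by
  have hE'n : E'.IsNormalIn F p := T4.normalIn hS hr hFF hE.1
  refine hE.2.2 T' E' hE'n (fun V C hC => ?_)
  have hVS : V ≤ S := T5.le_of_subnormal hC.1
  have hfinV : Finite V :=
    Finite.of_injective (Subgroup.inclusion hVS) (Subgroup.inclusion_injective hVS)
  obtain ⟨C₀, hrC⟩ := exists_push h.symm C hVS
  have hC₀sn : C₀.IsSubnormalIn F p :=
    T5.subnormal hC.1 inferInstance inferInstance hS C₀ F hrC hFF.symm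
  have hC₀q : C₀.Quasisimple p := T6.quasisimple (hS.to_le hVS) hrC hC.2
  have hsub : C₀.IsSubsystemOf E := hE.2.1 _ C₀ ⟨hC₀sn, hC₀q⟩
  exact Rel.subsystem hrC.symm hr hsub

/-- the layer is carried to itself by every automorphism of `F` -/
theorem layer_push [Finite S] {p : ℕ} [Fact p.Prime] (hS : IsPGroup p S)
    {F : FusionSystem S}
    {θ κ : Ω → Ω} (h : Tr S S θ κ) (hFF : Rel h F F) {T T' : Subgroup Ω}
    {E : FusionSystem T} (hE : E.IsLayerOf F p) {E' : FusionSystem T'} (hr : Rel h E E') :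
    T' = T ∧ E'.IsSubsystemOf E := by
  have hTS : T ≤ S := hE.1.1.2.2.2.1.1
  have hfinT : Finite T :=
    Finite.of_injective (Subgroup.inclusion hTS) (Subgroup.inclusion_injective hTS)
  have h1 : E.IsSubsystemOf E' := layer_le_push hS h hFF hE hr
  obtain ⟨E₀, hr₀⟩ := exists_push h.symm E hTS
  have h2 : E.IsSubsystemOf E₀ := layer_le_push hS h.symm hFF.symm hE hr₀
  have h3 : E'.IsSubsystemOf E := Rel.subsystem hr hr₀.symm h2
  exact ⟨le_antisymm (Cfsg.Agent.S5203.le_of_sub h3) (Cfsg.Agent.S5203.le_of_sub h1), h3⟩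

end Cfsg.Agent.Helper84.T8
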