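import Mathlib

/-!
# A fixed point lemma: making an element commute with a `q`-element modulo a `p`-group
-/

set_option autoImplicit false

namespace Cfsg.Agent.Helper84.Z8

variable {Γ : Type*} [Group Γ]

/-- the elements normalizing `W` and commuting with `a` modulo `W` -/
def commMod (W : Subgroup Γ) (a : Γ) : Subgroup Γ where
  carrier := {g | (∀ w ∈ W, g * w * g⁻¹ ∈ W) ∧ (∀ w ∈ W, g⁻¹ * w * g ∈ W) ∧
    a⁻¹ * g * a * g⁻¹ ∈ W}
  one_mem' := by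
    refine ⟨fun w hw => by simpa using hw, fun w hw => by simpa using hw, ?_⟩
    simp [W.one_mem]
  mul_mem' := by
    rintro g h ⟨hg1, hg2, hg3⟩ ⟨hh1, hh2, hh3⟩
    refine ⟨fun w hw => ?_, fun w hw => ?_, ?_⟩
    · have : g * h * w * (g * h)⁻¹ = g * (h * w * h⁻¹) * g⁻¹ := by group
      rw [this]
      exact hg1 _ (hh1 w hw)
    · have : (g * h)⁻¹ * w * (g * h) = h⁻¹ * (g⁻¹ * w * g) * h := by group
      rw [this]
      exact hh2 _ (hg2 w hw)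
    · have : a⁻¹ * (g * h) * a * (g * h)⁻¹ =
          (a⁻¹ * g * a * g⁻¹) * (g * (a⁻¹ * h * a * h⁻¹) * g⁻¹) := by group
      rw [this]
      exact W.mul_mem hg3 (hg1 _ hh3)
  inv_mem' := by
    rintro g ⟨hg1, hg2, hg3⟩
    refine ⟨fun w hw => ?_, fun w hw => ?_, ?_⟩
    · have := hg2 w hw
      simpa using this
    · have := hg1 w hw
      simpa using this
    · have : a⁻¹ * g⁻¹ * a * g⁻¹⁻¹ = g⁻¹ * (a⁻¹ * g * a * g⁻¹)⁻¹ * g := by group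
      rw [this]
      exact hg2 _ (W.inv_mem hg3)

/-- the twisted conjugation action on `W` -/
@[reducible] def twist (W : Subgroup Γ) (a : Γ) : MulAction (commMod W a) W where
  smul g w := ⟨a⁻¹ * (g : Γ) * a * (w : Γ) * (g : Γ)⁻¹, by
    have : a⁻¹ * (g : Γ) * a * (w : Γ) * (g : Γ)⁻¹ =
        (a⁻¹ * (g : Γ) * a * (g : Γ)⁻¹) * ((g : Γ) * (w : Γ) * (g : Γ)⁻¹) := by group
    rw [this]
    exact W.mul_mem g.2.2.2 (g.2.1 _ w.2)⟩
  one_smul w := by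
    apply Subtype.ext
    show a⁻¹ * ((1 : commMod W a) : Γ) * a * (w : Γ) * ((1 : commMod W a) : Γ)⁻¹ = w
    simp
  mul_smul g h w := by
    apply Subtype.ext
    show a⁻¹ * ((g * h : commMod W a) : Γ) * a * (w : Γ) * ((g * h : commMod W a) : Γ)⁻¹ =
      a⁻¹ * (g : Γ) * a * (a⁻¹ * (h : Γ) * a * (w : Γ) * (h : Γ)⁻¹) * (g : Γ)⁻¹
    rw [Subgroup.coe_mul]
    group

/-- **fixed point lemma**: if `ψ` has `q`-power order, normalizes the finite `p`-group `W`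
(`q ≠ p`) and commutes with `a` modulo `W`, then `ψ` commutes with some element of `a W` -/
theorem exists_commuting {p q : ℕ} [hp : Fact p.Prime] [hq : Fact q.Prime] (hqp : q ≠ p)
    (W : Subgroup Γ) [Finite W] (hW : IsPGroup p W) (ψ a : Γ) {k : ℕ} (hψ : ψ ^ (q ^ k) = 1)
    (hψW : ∀ w ∈ W, ψ * w * ψ⁻¹ ∈ W) (hψW' : ∀ w ∈ W, ψ⁻¹ * w * ψ ∈ W)
    (ha : a⁻¹ * ψ * a * ψ⁻¹ ∈ W) : ∃ w ∈ W, ψ * (a * w) * ψ⁻¹ = a * w := by
  let ψ' : commMod W a := ⟨ψ, hψW, hψW', ha⟩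
  let _ := twist W a
  have hQ : IsPGroup q (Subgroup.zpowers ψ') := by
    rintro ⟨β, hβ⟩
    obtain ⟨j, rfl⟩ := Subgroup.mem_zpowers_iff.1 hβ
    refine ⟨k, Subtype.ext ?_⟩
    show (ψ' ^ j) ^ (q ^ k) = 1
    have h1 : ψ' ^ (q ^ k) = 1 := Subtype.ext (by
      show (ψ' : Γ) ^ (q ^ k) = 1
      exact hψ)
    rw [← zpow_natCast, ← zpow_mul, mul_comm, zpow_mul, zpow_natCast, h1, one_zpow]
  obtain ⟨n, hn⟩ := IsPGroup.iff_card.1 hW
  have hnd : ¬ q ∣ Nat.card W := by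
    rw [hn]
    intro hdvd
    exact hqp ((Nat.prime_dvd_prime_iff_eq hq.out hp.out).mp (hq.out.dvd_of_dvd_pow hdvd))
  obtain ⟨w, hw⟩ := hQ.nonempty_fixed_point_of_prime_not_dvd_card W hnd
  refine ⟨w, w.2, ?_⟩
  have h1 := hw ⟨ψ', Subgroup.mem_zpowers ψ'⟩
  have h2 : a⁻¹ * ψ * a * (w : Γ) * ψ⁻¹ = w := congrArg Subtype.val h1
  calc ψ * (a * w) * ψ⁻¹ = a * (a⁻¹ * ψ * a * (w : Γ) * ψ⁻¹) := by group
    _ = a * w := by rw [h2]

end Cfsg.Agent.Helper84.Z8
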