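import Mathlib
import Cfsg.Prelude.Def_FusionSystem
import Cfsg.Agent.Lib.Helper84.FusZ7
import Cfsg.Agent.Lib.Helper84.FusZ8

/-!
# `E` centralizes the commutators of `C_S(T)` with `p'`-automorphisms trivial on `T`
-/

set_option autoImplicit false

namespace Cfsg.Agent.Helper84.Z9

open Cfsg Cfsg.FusionSystem
open Cfsg.Agent.Helper87 (Mor Iso extFun extAut)
open Cfsg.Agent.Helper84.Z5 Cfsg.Agent.Helper84.Z7 Cfsg.Agent.Helper84.Z8

variable {Ω : Type*} [Group Ω] {S T U : Subgroup Ω}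

/-- automorphisms of `V` moving every element inside its coset of `P` -/
def tmod (V P : Subgroup Ω) : Subgroup (MulAut V) where
  carrier := {ξ | ∀ v : V, (v : Ω)⁻¹ * ((ξ v : V) : Ω) ∈ P}
  one_mem' := fun v => by simp [P.one_mem]
  mul_mem' := by
    intro a b ha hb v
    rw [MulAut.mul_apply]
    have h1 := hb v
    have h2 := ha (b v)
    have : (v : Ω)⁻¹ * ((a (b v) : V) : Ω) =
        ((v : Ω)⁻¹ * ((b v : V) : Ω)) * (((b v : V) : Ω)⁻¹ * ((a (b v) : V) : Ω)) := by group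
    rw [this]
    exact P.mul_mem h1 h2
  inv_mem' := by
    intro a ha v
    have h1 := ha (a⁻¹ v)
    rw [MulAut.apply_inv_self] at h1
    have : (v : Ω)⁻¹ * ((a⁻¹ v : V) : Ω) = (((a⁻¹ v : V) : Ω)⁻¹ * (v : Ω))⁻¹ := by group
    rw [this]
    exact P.inv_mem h1

theorem mem_tmod {V P : Subgroup Ω} {ξ : MulAut V} :
    ξ ∈ tmod V P ↔ ∀ v : V, (v : Ω)⁻¹ * ((ξ v : V) : Ω) ∈ P := Iff.rfl

theorem tmod_conj {V P : Subgroup Ω} {t a : MulAut V} (ht : t ∈ stabIn V P)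
    (ha : a ∈ tmod V P) : t * a * t⁻¹ ∈ tmod V P := by
  intro v
  rw [MulAut.mul_apply, MulAut.mul_apply]
  set w := t⁻¹ v with hw
  have hv : v = t w := by rw [hw, MulAut.apply_inv_self]
  have hz : ((w⁻¹ * a w : V) : Ω) ∈ P := by simpa using ha w
  have h2 : t (a w) = v * t (w⁻¹ * a w) := by
    calc t (a w) = t (w * (w⁻¹ * a w)) := by rw [mul_inv_cancel_left]
      _ = v * t (w⁻¹ * a w) := by rw [map_mul, ← hv]
  rw [h2, Subgroup.coe_mul, inv_mul_cancel_left]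
  exact (ht _).mp hz

theorem mem_unipIn_of {V P : Subgroup Ω} {ξ : MulAut V} (h1 : ξ ∈ fixIn V P)
    (h2 : ξ ∈ tmod V P) : ξ ∈ unipIn V P := ⟨h1, h2⟩

variable {F : FusionSystem S} {E : FusionSystem T} {p : ℕ} {F₀ : FusionSystem U}

/-- **the commuting extension**: an automorphism of a centric fully normalized `P ≤ T` in `E`
extends to `P ⟨y⟩` fixing `y`, for `y = a₀⁻¹ ψ(a₀)` a commutator of `C_S(T)` with a `q`-automorphism
`ψ` trivial on `T` -/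
theorem fix_comm [Finite S] [hp : Fact p.Prime] (hS : IsPGroup p S) (h : Env F E p U F₀)
    {q k : ℕ} [hq : Fact q.Prime] (hqp : q ≠ p) {R : Subgroup Ω} (hTR : T ≤ R) (hRU : R ≤ U)
    {ψ : Ω → Ω} (hψ : Iso F₀ R R ψ) (hψT : ∀ t ∈ T, ψ t = t)
    (hψk : ∀ x ∈ R, ψ^[q ^ k] x = x) {P : Subgroup Ω} (hfn : E.IsFullyNormalized P)
    (hcen : E.IsCentric P) {α : MulAut P} (hα : α ∈ E.autGroup P) {a₀ : Ω}
    (ha₀ : a₀ ∈ R ⊓ centralizerIn S T) :
    ∃ g, Mor F₀ (P ⊔ Subgroup.zpowers (a₀⁻¹ * ψ a₀)) g ∧ (∀ x ∈ P, g x = extAut α x) ∧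
      g (a₀⁻¹ * ψ a₀) = a₀⁻¹ * ψ a₀ := by
  classical
  have hPT : P ≤ T := hfn.1
  have hfinU : Finite U := Helper87.finite_of_le h.hUS
  have hCP : centralizerIn T P ≤ P := hcen.2 P (Helper87.isConj_refl hPT)
  have hAC : R ⊓ centralizerIn S T ≤ centralizerIn S T := inf_le_right
  have hAR : R ⊓ centralizerIn S T ≤ R := inf_le_left
  have hVR : P ⊔ (R ⊓ centralizerIn S T) ≤ R := sup_le (hPT.trans hTR) hAR
  have hVU : P ⊔ (R ⊓ centralizerIn S T) ≤ U := hVR.trans hRU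
  have hPV : P ≤ P ⊔ (R ⊓ centralizerIn S T) := le_sup_left
  have hAV : R ⊓ centralizerIn S T ≤ P ⊔ (R ⊓ centralizerIn S T) := le_sup_right
  have hVPC : P ⊔ (R ⊓ centralizerIn S T) ≤ P ⊔ centralizerIn S T := sup_le_sup_left hAC P
  have hfinV : Finite ↥(P ⊔ (R ⊓ centralizerIn S T)) := Helper87.finite_of_le hVU
  have hfinP : Finite P := Helper87.finite_of_le (hPT.trans h.hTU)
  have hPp : IsPGroup p P := hS.to_le ((hPT.trans h.hTU).trans h.hUS)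
  -- `Z(T) ≤ P`
  have hZ : ∀ z, z ∈ T → z ∈ centralizerIn S T → z ∈ P := fun z hzT hzC =>
    hCP ⟨hzT, Env.cen_le_centralizer hPT hzC⟩
  have hVT : (P ⊔ (R ⊓ centralizerIn S T)) ⊓ T = P := by
    apply le_antisymm
    · intro v hv
      obtain ⟨x, hx, c, hc, rfl⟩ := mem_sup_cen hPT (hVPC hv.1)
      have hcT : c ∈ T := by
        have h1 : c = x⁻¹ * (x * c) := by group
        rw [h1]
        exact T.mul_mem (T.inv_mem (hPT hx)) hv.2
      exact P.mul_mem hx (hZ c hcT hc)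
    · exact le_inf hPV hPT
  -- `ψ` stabilizes `A = R ∩ C_S(T)` and `V = P A`
  have hψA : ∀ c ∈ R ⊓ centralizerIn S T, ψ c ∈ R ⊓ centralizerIn S T := by
    intro c hc
    refine ⟨hψ.map_mem hc.1, Subgroup.mem_inf.mpr ⟨h.hUS (hRU (hψ.map_mem hc.1)), ?_⟩⟩
    rw [Subgroup.mem_centralizer_iff]
    intro t ht
    have h1 := Subgroup.mem_centralizer_iff.mp hc.2.2 t ht
    calc t * ψ c = ψ t * ψ c := by rw [hψT t ht]
      _ = ψ (t * c) := (hψ.1.map_mul (hTR ht) hc.1).symm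
      _ = ψ (c * t) := by rw [h1]
      _ = ψ c * ψ t := hψ.1.map_mul hc.1 (hTR ht)
      _ = ψ c * t := by rw [hψT t ht]
  have hψVm : Mor F₀ (P ⊔ (R ⊓ centralizerIn S T)) ψ := hψ.1.restrict hVR
  have hψVmaps : ∀ v ∈ P ⊔ (R ⊓ centralizerIn S T), ψ v ∈ P ⊔ (R ⊓ centralizerIn S T) :=
    mor_map_sup hψVm (fun x hx => by rw [hψT x (hPT hx)]; exact hPV hx)
      (fun c hc => hAV (hψA c hc))
  have hψV : Iso F₀ (P ⊔ (R ⊓ centralizerIn S T)) (P ⊔ (R ⊓ centralizerIn S T)) ψ :=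
    Helper87.iso_of_card_le hψVm hVU hψVmaps le_rfl
  -- the good extension of `α`
  obtain ⟨a, ha, ea, ca⟩ := h.good_ext hS hfn hcen hα
  have haP : ∀ x ∈ P, a x ∈ P := fun x hx => by
    rw [ea x hx]; exact Helper87.extAut_mem_self α hx
  have hPle : P ≤ P ⊔ centralizerIn S T := le_sup_left
  have hCle : centralizerIn S T ≤ P ⊔ centralizerIn S T := le_sup_right
  have hca : ∀ c ∈ centralizerIn S T, c⁻¹ * a c ∈ P := by
    intro c hc
    refine hCP ⟨ca c hc, ?_⟩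
    have h1 : a c ∈ Subgroup.centralizer (P : Set Ω) := by
      rw [Subgroup.mem_centralizer_iff]
      intro y hy
      obtain ⟨x, hx, hxy⟩ := Helper87.extAut_surj α hy
      rw [← hxy, ← ea x hx, ← ha.map_mul (hPle hx) (hCle hc), ← ha.map_mul (hCle hc) (hPle hx),
        Subgroup.mem_centralizer_iff.mp (Env.cen_le_centralizer hPT hc) x hx]
    exact Subgroup.mul_mem _ (Subgroup.inv_mem _ (Env.cen_le_centralizer hPT hc)) h1
  have hamod : ∀ v ∈ P ⊔ centralizerIn S T, v⁻¹ * a v ∈ P := by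
    intro v hv
    obtain ⟨x, hx, c, hc, rfl⟩ := mem_sup_cen hPT hv
    have h1 : x⁻¹ * a x ∈ P := P.mul_mem (P.inv_mem hx) (haP x hx)
    have h2 := Subgroup.mem_centralizer_iff.mp (Env.cen_le_centralizer hPT hc) _ h1
    rw [ha.map_mul (hPle hx) (hCle hc)]
    have h3 : (x * c)⁻¹ * (a x * a c) = c⁻¹ * (x⁻¹ * a x * c) * (c⁻¹ * a c) := by group
    rw [h3, h2]
    have h4 : c⁻¹ * (c * (x⁻¹ * a x)) * (c⁻¹ * a c) = x⁻¹ * a x * (c⁻¹ * a c) := by group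
    rw [h4]
    exact P.mul_mem h1 (hca c hc)
  have haVm : Mor F₀ (P ⊔ (R ⊓ centralizerIn S T)) a := ha.restrict hVPC
  have haVmaps : ∀ v ∈ P ⊔ (R ⊓ centralizerIn S T), a v ∈ P ⊔ (R ⊓ centralizerIn S T) := by
    intro v hv
    have h1 : a v = v * (v⁻¹ * a v) := by group
    rw [h1]
    exact Subgroup.mul_mem _ hv (hPV (hamod v (hVPC hv)))
  have haV : Iso F₀ (P ⊔ (R ⊓ centralizerIn S T)) (P ⊔ (R ⊓ centralizerIn S T)) a :=
    Helper87.iso_of_card_le haVm hVU haVmaps le_rfl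
  -- the groups of automorphisms
  have hstabV : F₀.autGroup (P ⊔ (R ⊓ centralizerIn S T)) ≤
      stabIn (P ⊔ (R ⊓ centralizerIn S T)) P := by
    have := autGroup_le_stabIn_inf h.hsc hVU
    rwa [hVT] at this
  have hψfix : (hψV.equiv : MulAut ↥(P ⊔ (R ⊓ centralizerIn S T))) ∈
      fixIn (P ⊔ (R ⊓ centralizerIn S T)) P := by
    intro x hx
    apply Subtype.ext
    rw [hψV.equiv_apply]
    exact hψT _ (hPT hx)
  have hψstab := fixIn_le_stabIn _ _ hψfix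
  have hatmod : (haV.equiv : MulAut ↥(P ⊔ (R ⊓ centralizerIn S T))) ∈
      tmod (P ⊔ (R ⊓ centralizerIn S T)) P := by
    intro v
    rw [haV.equiv_apply]
    exact hamod v (hVPC v.2)
  have hastab := hstabV haV.equiv_mem_autGroup
  have hWp : IsPGroup p ↥(F₀.autGroup (P ⊔ (R ⊓ centralizerIn S T)) ⊓
      unipIn (P ⊔ (R ⊓ centralizerIn S T)) P) :=
    (unipIn_isPGroup hPp).to_le inf_le_right
  have hψk' : (hψV.equiv : MulAut ↥(P ⊔ (R ⊓ centralizerIn S T))) ^ (q ^ k) = 1 := by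
    ext v
    rw [equiv_pow_apply hψV (q ^ k) v]
    exact hψk _ (hVR v.2)
  have hN := stabIn_le_normalizer_unipIn _ _ hψstab
  have hψW : ∀ w ∈ F₀.autGroup (P ⊔ (R ⊓ centralizerIn S T)) ⊓
      unipIn (P ⊔ (R ⊓ centralizerIn S T)) P, hψV.equiv * w * (hψV.equiv)⁻¹ ∈
      F₀.autGroup (P ⊔ (R ⊓ centralizerIn S T)) ⊓ unipIn (P ⊔ (R ⊓ centralizerIn S T)) P := by
    intro w hw
    refine ⟨Subgroup.mul_mem _ (Subgroup.mul_mem _ hψV.equiv_mem_autGroup hw.1)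
      (Subgroup.inv_mem _ hψV.equiv_mem_autGroup), ?_⟩
    exact (Subgroup.mem_normalizer_iff.mp hN w).mp hw.2
  have hψW' : ∀ w ∈ F₀.autGroup (P ⊔ (R ⊓ centralizerIn S T)) ⊓
      unipIn (P ⊔ (R ⊓ centralizerIn S T)) P, (hψV.equiv)⁻¹ * w * hψV.equiv ∈
      F₀.autGroup (P ⊔ (R ⊓ centralizerIn S T)) ⊓ unipIn (P ⊔ (R ⊓ centralizerIn S T)) P := by
    intro w hw
    refine ⟨Subgroup.mul_mem _ (Subgroup.mul_mem _ (Subgroup.inv_mem _ hψV.equiv_mem_autGroup) hw.1)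
      hψV.equiv_mem_autGroup, ?_⟩
    have := (Subgroup.mem_normalizer_iff.mp (Subgroup.inv_mem _ hN) w).mp hw.2
    rwa [inv_inv] at this
  have ha' : (haV.equiv)⁻¹ * hψV.equiv * haV.equiv * (hψV.equiv)⁻¹ ∈
      F₀.autGroup (P ⊔ (R ⊓ centralizerIn S T)) ⊓ unipIn (P ⊔ (R ⊓ centralizerIn S T)) P := by
    refine ⟨Subgroup.mul_mem _ (Subgroup.mul_mem _ (Subgroup.mul_mem _
      (Subgroup.inv_mem _ haV.equiv_mem_autGroup) hψV.equiv_mem_autGroup) haV.equiv_mem_autGroup)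
      (Subgroup.inv_mem _ hψV.equiv_mem_autGroup), mem_unipIn_of ?_ ?_⟩
    · intro x hx
      rw [MulAut.mul_apply, MulAut.mul_apply, MulAut.mul_apply,
        (fixIn _ _).inv_mem hψfix x hx, hψfix _ ((hastab x).mp hx), MulAut.inv_apply_self]
    · have h1 : (haV.equiv)⁻¹ * hψV.equiv * haV.equiv * (hψV.equiv)⁻¹ =
          (haV.equiv)⁻¹ * (hψV.equiv * haV.equiv * (hψV.equiv)⁻¹) := by group
      rw [h1]
      exact Subgroup.mul_mem _ (Subgroup.inv_mem _ hatmod) (tmod_conj hψstab hatmod)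
  obtain ⟨w, hw, hcomm⟩ := exists_commuting hqp _ hWp hψV.equiv haV.equiv hψk' hψW hψW' ha'
  -- the commuting extension
  have hξF : haV.equiv * w ∈ F₀.autGroup (P ⊔ (R ⊓ centralizerIn S T)) :=
    Subgroup.mul_mem _ haV.equiv_mem_autGroup hw.1
  have hξtmod : haV.equiv * w ∈ tmod (P ⊔ (R ⊓ centralizerIn S T)) P :=
    Subgroup.mul_mem _ hatmod hw.2.2
  have hcomm' : hψV.equiv * (haV.equiv * w) = haV.equiv * w * hψV.equiv :=
    mul_inv_eq_iff_eq_mul.mp hcomm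
  have hξm : Mor F₀ (P ⊔ (R ⊓ centralizerIn S T)) (extAut (haV.equiv * w)) :=
    (Helper87.mem_autGroup_iff hVU).mp hξF
  have ha₀V : a₀ ∈ P ⊔ (R ⊓ centralizerIn S T) := hAV ha₀
  have hyA : a₀⁻¹ * ψ a₀ ∈ R ⊓ centralizerIn S T :=
    Subgroup.mul_mem _ (Subgroup.inv_mem _ ha₀) (hψA a₀ ha₀)
  have hyV : a₀⁻¹ * ψ a₀ ∈ P ⊔ (R ⊓ centralizerIn S T) := hAV hyA
  refine ⟨extAut (haV.equiv * w), hξm.restrict (sup_le hPV ?_), fun x hx => ?_, ?_⟩
  · rw [Subgroup.zpowers_le]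
    exact hyV
  · rw [Helper87.extAut_mem _ (hPV hx), MulAut.mul_apply, hw.2.1 ⟨x, hPV hx⟩ hx,
      haV.equiv_apply, ea x hx]
  · -- the commutator is fixed
    set a₀' : ↥(P ⊔ (R ⊓ centralizerIn S T)) := ⟨a₀, ha₀V⟩ with ha₀'
    set ξ := haV.equiv * w with hξ
    set ψ' := hψV.equiv with hψ'
    have hr : ((a₀'⁻¹ * ξ a₀' : ↥(P ⊔ (R ⊓ centralizerIn S T))) : Ω) ∈ P := by
      have := hξtmod a₀'
      simpa using this
    have h1 : ξ (ψ' a₀') = ψ' (ξ a₀') := by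
      have := congrArg (fun f => f a₀') hcomm'
      simp only [MulAut.mul_apply] at this
      exact this.symm
    have h2 : ξ a₀' = a₀' * (a₀'⁻¹ * ξ a₀') := by group
    have h3 : ψ' (a₀'⁻¹ * ξ a₀') = a₀'⁻¹ * ξ a₀' := hψfix _ hr
    have h4 : ξ (a₀'⁻¹ * ψ' a₀') = (a₀'⁻¹ * ξ a₀')⁻¹ * (a₀'⁻¹ * ψ' a₀') * (a₀'⁻¹ * ξ a₀') := by
      rw [map_mul, map_inv, h1]
      conv_lhs => rw [h2, map_mul, h3]
      group
    have hy' : ((a₀'⁻¹ * ψ' a₀' : ↥(P ⊔ (R ⊓ centralizerIn S T))) : Ω) = a₀⁻¹ * ψ a₀ := by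
      rw [Subgroup.coe_mul, Subgroup.coe_inv, hψV.equiv_apply]
    have h5 : ξ (a₀'⁻¹ * ψ' a₀') = a₀'⁻¹ * ψ' a₀' := by
      rw [h4]
      apply Subtype.ext
      rw [Subgroup.coe_mul, Subgroup.coe_mul, Subgroup.coe_inv, hy']
      have hcen' := Subgroup.mem_centralizer_iff.mp
        (Env.cen_le_centralizer hPT hyA.2) _ hr
      rw [mul_assoc, ← hcen']
      group
    rw [Helper87.extAut_mem _ hyV]
    have h6 : (⟨a₀⁻¹ * ψ a₀, hyV⟩ : ↥(P ⊔ (R ⊓ centralizerIn S T))) = a₀'⁻¹ * ψ' a₀' :=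
      Subtype.ext hy'.symm
    rw [h6, h5, hy']

end Cfsg.Agent.Helper84.Z9
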