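import Mathlib
import Cfsg.Prelude.Def_FusionSystem
import Cfsg.Agent.Lib.Helper84.FusZ9
import Cfsg.Agent.Lib.Helper86.CoprimeAut

/-!
# If the centralizer of `E` in `S` lies in `T`, then `E` has `p`-power index in the envelope
-/

set_option autoImplicit false

namespace Cfsg.Agent.Helper84.Z10

open Cfsg Cfsg.FusionSystem
open Cfsg.Agent.Helper87 (Mor Iso extFun extAut)
open Cfsg.Agent.Helper84.Z5 Cfsg.Agent.Helper84.Z7 Cfsg.Agent.Helper84.Z8 Cfsg.Agent.Helper84.Z9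

variable {Ω : Type*} [Group Ω] {S T U : Subgroup Ω}
variable {F : FusionSystem S} {E : FusionSystem T} {p : ℕ} {F₀ : FusionSystem U}

theorem fix_zpowers {P : Subgroup Ω} {y : Ω} {g : Ω → Ω}
    (hg : Mor F (P ⊔ Subgroup.zpowers y) g) (hy : g y = y) :
    ∀ z ∈ Subgroup.zpowers y, g z = z := by
  intro z hz
  obtain ⟨n, rfl⟩ := Subgroup.mem_zpowers_iff.1 hz
  obtain ⟨φ, -, e⟩ := hg
  have hyY : y ∈ P ⊔ Subgroup.zpowers y :=
    (le_sup_right : Subgroup.zpowers y ≤ _) (Subgroup.mem_zpowers y)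
  have h1 : (⟨y ^ n, (le_sup_right : Subgroup.zpowers y ≤ P ⊔ Subgroup.zpowers y) hz⟩ :
      ↥(P ⊔ Subgroup.zpowers y)) = (⟨y, hyY⟩ : ↥(P ⊔ Subgroup.zpowers y)) ^ n := by
    apply Subtype.ext
    simp
  have h2 := e ⟨y ^ n, (le_sup_right : Subgroup.zpowers y ≤ P ⊔ Subgroup.zpowers y) hz⟩
  have h3 := e ⟨y, hyY⟩
  simp only at h2 h3
  rw [← h2, h1, map_zpow, h3, hy]

/-- the hypothesis that the centralizer of `E` in `S` lies in `T` -/
def CenHyp (F : FusionSystem S) (E : FusionSystem T) : Prop :=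
  ∀ Y : Subgroup Ω, Y ≤ centralizerIn S T →
    (∀ C : FusionSystem (centralizerIn S Y), F.IsCentralizerSystem Y C → E.IsSubsystemOf C) →
    Y ≤ T

/-- commutators of `C_S(T)` with `q`-automorphisms trivial on `T` lie in `T` -/
theorem comm_mem_T [Finite S] [hp : Fact p.Prime] (hS : IsPGroup p S) (h : Env F E p U F₀)
    (hCE : CenHyp F E) {q k : ℕ} [hq : Fact q.Prime] (hqp : q ≠ p) {R : Subgroup Ω}
    (hTR : T ≤ R) (hRU : R ≤ U) {ψ : Ω → Ω} (hψ : Iso F₀ R R ψ) (hψT : ∀ t ∈ T, ψ t = t)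
    (hψk : ∀ x ∈ R, ψ^[q ^ k] x = x) {a₀ : Ω} (ha₀ : a₀ ∈ R ⊓ centralizerIn S T) :
    a₀⁻¹ * ψ a₀ ∈ T := by
  have hTS : T ≤ S := h.hTU.trans h.hUS
  have hfinT : Finite T := Helper87.finite_of_le hTS
  have hT : IsPGroup p T := hS.to_le hTS
  -- `ψ a₀ ∈ C_S(T)`
  have hψa : ψ a₀ ∈ centralizerIn S T := by
    refine Subgroup.mem_inf.mpr ⟨h.hUS (hRU (hψ.map_mem ha₀.1)), ?_⟩
    rw [Subgroup.mem_centralizer_iff]
    intro t ht
    have h1 := Subgroup.mem_centralizer_iff.mp ha₀.2.2 t ht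
    calc t * ψ a₀ = ψ t * ψ a₀ := by rw [hψT t ht]
      _ = ψ (t * a₀) := (hψ.1.map_mul (hTR ht) ha₀.1).symm
      _ = ψ (a₀ * t) := by rw [h1]
      _ = ψ a₀ * ψ t := hψ.1.map_mul ha₀.1 (hTR ht)
      _ = ψ a₀ * t := by rw [hψT t ht]
  have hyC : a₀⁻¹ * ψ a₀ ∈ centralizerIn S T :=
    Subgroup.mul_mem _ (Subgroup.inv_mem _ ha₀.2) hψa
  have hYC : Subgroup.zpowers (a₀⁻¹ * ψ a₀) ≤ centralizerIn S T := by
    rw [Subgroup.zpowers_le]; exact hyC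
  refine hCE _ hYC ?_ (Subgroup.mem_zpowers _)
  intro C' hC' P φ hφ
  rw [hC' P]
  have hPT : P ≤ T := (E.le_of_mem hφ).1
  have hTcen : T ≤ centralizerIn S (Subgroup.zpowers (a₀⁻¹ * ψ a₀)) := by
    intro t ht
    refine Subgroup.mem_inf.mpr ⟨hTS ht, ?_⟩
    rw [Subgroup.mem_centralizer_iff]
    intro z hz
    exact (Subgroup.mem_centralizer_iff.mp (hYC hz).2 t ht).symm
  -- Alperin's theorem in `E`
  have halp := Helper87.alperin hT h.satE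
    (fun P f => ∃ g, Mor F (P ⊔ Subgroup.zpowers (a₀⁻¹ * ψ a₀)) g ∧ (∀ x ∈ P, g x = f x) ∧
      ∀ z ∈ Subgroup.zpowers (a₀⁻¹ * ψ a₀), g z = z)
    ⟨fun {P f f'} ⟨g, hg, e1, e2⟩ hff => ⟨g, hg, fun x hx => (e1 x hx).trans (hff x hx), e2⟩,
     fun {P Q f} _ ⟨g, hg, e1, e2⟩ hQP =>
      ⟨g, hg.restrict (sup_le_sup_right hQP _), fun x hx => e1 x (hQP hx), e2⟩,
     fun {P Q f g'} _ _ hfQ ⟨g₁, hg₁, e1, e2⟩ ⟨g₂, hg₂, e1', e2'⟩ => by
      refine ⟨fun x => g₂ (g₁ x), hg₁.comp hg₂ ?_, fun x hx => ?_, fun z hz => ?_⟩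
      · exact mor_map_sup hg₁
          (fun x hx => by rw [e1 x hx]; exact (le_sup_left : Q ≤ _) (hfQ x hx))
          (fun z hz => by rw [e2 z hz]; exact (le_sup_right : Subgroup.zpowers _ ≤ _) hz)
      · show g₂ (g₁ x) = g' (f x)
        rw [e1 x hx, e1' _ (hfQ x hx)]
      · show g₂ (g₁ z) = z
        rw [e2 z hz, e2' z hz]⟩
    (fun R' hfn hcen _ α hα => by
      obtain ⟨g, hg, e1, e2⟩ := fix_comm hS h hqp hTR hRU hψ hψT hψk hfn hcen hα ha₀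
      have hgF := Helper87.Mor.of_subsystem h.sub hg
      exact ⟨g, hgF, e1, fix_zpowers hgF e2⟩)
  obtain ⟨g, hg, e1, e2⟩ := halp P (extFun φ) (Helper87.mor_of_mem hφ)
  obtain ⟨ψh, hψh, eψ⟩ := hg
  refine ⟨h.sub P (h.subE P hφ), hPT.trans hTcen, fun x => hTcen ((E.le_of_mem hφ).2 x), ψh, hψh,
    fun x => ?_, fun z => ?_⟩
  · have := eψ (Subgroup.inclusion le_sup_left x)
    rw [this]
    show g (x : Ω) = φ x
    rw [e1 x x.2, Helper87.extFun_apply]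
  · have := eψ (Subgroup.inclusion le_sup_right z)
    rw [this]
    exact e2 z z.2

/-- automorphisms of `q`-power order in `F₀` act trivially modulo `T` -/
theorem aut_mod_T [Finite S] [hp : Fact p.Prime] (hS : IsPGroup p S) (h : Env F E p U F₀)
    (hCE : CenHyp F E) {q k : ℕ} (hq : q.Prime) (hqp : q ≠ p) {P₁ : Subgroup Ω} (hP₁ : P₁ ≤ U)
    {β : MulAut P₁} (hβ : β ∈ F₀.autGroup P₁) (hβk : β ^ (q ^ k) = 1) :
    ∀ x : P₁, (x : Ω)⁻¹ * ((β x : P₁) : Ω) ∈ T := by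
  have : Fact q.Prime := ⟨hq⟩
  have hfinU : Finite U := Helper87.finite_of_le h.hUS
  have hU : IsPGroup p U := hS.to_le h.hUS
  have hf : Mor F₀ P₁ (extAut β) := (Helper87.mem_autGroup_iff hP₁).mp hβ
  obtain ⟨γ, hγ, eγ⟩ := Cfsg.Agent.Helper85.exists_liftMod hU h.sat h.hsc P₁ _ hf
  have hTR : T ≤ P₁ ⊔ T := le_sup_right
  have hPR : P₁ ≤ P₁ ⊔ T := le_sup_left
  have hRU : P₁ ⊔ T ≤ U := sup_le hP₁ h.hTU
  have hγT : ∀ t ∈ T, γ t ∈ T := fun t ht => sc_mem h.hsc hγ (hTR ht) ht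
  have hisoT : Iso F₀ T T γ := Helper87.iso_of_card_le (hγ.restrict hTR) h.hTU hγT le_rfl
  obtain ⟨b, hb, eb, cb⟩ := h.ext _ (h.aut hisoT.equiv_mem_autGroup)
  have hisob := HasExt.iso hb eb cb
  obtain ⟨b', hb', hl, hr⟩ := hisob.symm
  have hTW : T ≤ T ⊔ centralizerIn S T := le_sup_left
  have hCW : centralizerIn S T ≤ T ⊔ centralizerIn S T := le_sup_right
  have hbmod : ∀ z ∈ T ⊔ centralizerIn S T, z⁻¹ * b z ∈ T := by
    intro z hz
    obtain ⟨t, ht, c, hc, rfl⟩ := mem_sup_cen (le_refl T) hz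
    have hbt : b t ∈ T := by
      rw [eb t ht]; exact Helper87.extAut_mem_self _ ht
    have h1 : t⁻¹ * b t ∈ T := T.mul_mem (T.inv_mem ht) hbt
    have h2 := Subgroup.mem_centralizer_iff.mp hc.2 _ h1
    rw [hb.map_mul (hTW ht) (hCW hc)]
    have h3 : (t * c)⁻¹ * (b t * b c) = c⁻¹ * (t⁻¹ * b t * c) * (c⁻¹ * b c) := by group
    rw [h3, h2]
    have h4 : c⁻¹ * (c * (t⁻¹ * b t)) * (c⁻¹ * b c) = t⁻¹ * b t * (c⁻¹ * b c) := by group
    rw [h4]
    exact T.mul_mem h1 (cb c hc)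
  have hb'mod : ∀ y ∈ T ⊔ centralizerIn S T, (b' y)⁻¹ * y ∈ T := by
    intro y hy
    have := hbmod (b' y) (hb'.map_mem hy)
    rwa [hr y hy] at this
  have hγW : ∀ x ∈ P₁ ⊔ T, γ x ∈ T ⊔ centralizerIn S T := fun x hx => h.le (hγ.mem hx)
  have hγ₂ : Mor F₀ (P₁ ⊔ T) (fun x => b' (γ x)) := hγ.comp hb'.1 hγW
  have hγ₂T : ∀ t ∈ T, b' (γ t) = t := by
    intro t ht
    have h1 : b t = γ t := by
      rw [eb t ht]
      exact Helper87.extAut_equiv hisoT ht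
    rw [← h1]
    exact hl t (hTW ht)
  have hγ₂mod : ∀ x ∈ P₁, (extAut β x)⁻¹ * b' (γ x) ∈ T := by
    intro x hx
    have h1 := eγ x hx
    have h2 := T.inv_mem (hb'mod (γ x) (hγW x (hPR hx)))
    have h3 : (extAut β x)⁻¹ * b' (γ x) =
        (extAut β x)⁻¹ * γ x * ((b' (γ x))⁻¹ * γ x)⁻¹ := by group
    rw [h3]
    exact T.mul_mem h1 h2
  have hγ₂maps : ∀ x ∈ P₁ ⊔ T, b' (γ x) ∈ P₁ ⊔ T := by
    refine mor_map_sup hγ₂ (fun x hx => ?_) (fun t ht => ?_)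
    · have h1 : b' (γ x) = extAut β x * ((extAut β x)⁻¹ * b' (γ x)) := by group
      rw [h1]
      exact Subgroup.mul_mem _ (hPR (Helper87.extAut_mem_self β hx)) (hTR (hγ₂mod x hx))
    · rw [hγ₂T t ht]; exact hTR ht
  have hiso₂ : Iso F₀ (P₁ ⊔ T) (P₁ ⊔ T) (fun x => b' (γ x)) :=
    Helper87.iso_of_card_le hγ₂ hRU hγ₂maps le_rfl
  -- take a power of `q`-power order
  have hfinR : Finite ↥(P₁ ⊔ T) := Helper87.finite_of_le hRU
  have hn0 : orderOf (hiso₂.equiv : MulAut ↥(P₁ ⊔ T)) ≠ 0 := (orderOf_pos _).ne'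
  obtain ⟨e, m, hm, hnm⟩ := Nat.exists_eq_pow_mul_and_not_dvd hn0 q hq.ne_one
  have hcop : (q ^ k).Coprime m :=
    Nat.Coprime.pow_left k ((Nat.Prime.coprime_iff_not_dvd hq).mpr hm)
  obtain ⟨j, hj1, hj0⟩ := Nat.chineseRemainder hcop 1 0
  have hmj : m ∣ j := (Nat.modEq_zero_iff_dvd).mp hj0
  have hψ := iso_iterate hiso₂ j
  have hψT : ∀ t ∈ T, (fun x => b' (γ x))^[j] t = t := fun t ht =>
    Function.iterate_fixed (f := fun x => b' (γ x)) (hγ₂T t ht) j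
  have hψk : ∀ x ∈ P₁ ⊔ T, ((fun x => b' (γ x))^[j])^[q ^ e] x = x := by
    intro x hx
    rw [← Function.iterate_mul]
    have hdvd : orderOf (hiso₂.equiv : MulAut ↥(P₁ ⊔ T)) ∣ j * q ^ e := by
      rw [hnm, mul_comm j]
      exact Nat.mul_dvd_mul dvd_rfl hmj
    have h1 : (hiso₂.equiv : MulAut ↥(P₁ ⊔ T)) ^ (j * q ^ e) = 1 :=
      orderOf_dvd_iff_pow_eq_one.mp hdvd
    have h2 := equiv_pow_apply hiso₂ (j * q ^ e) ⟨x, hx⟩
    rw [h1] at h2
    exact h2.symm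
  have hfixT : ∀ (i : ℕ), ∀ t ∈ T, (fun x => b' (γ x))^[i] t = t := fun i t ht =>
    Function.iterate_fixed (hγ₂T t ht) i
  have hiter : ∀ i : ℕ, ∀ x ∈ P₁, ((extAut β)^[i] x)⁻¹ * (fun x => b' (γ x))^[i] x ∈ T := by
    intro i
    induction i with
    | zero => intro x _; simp [T.one_mem]
    | succ i ih =>
      intro x hx
      rw [Function.iterate_succ_apply, Function.iterate_succ_apply]
      have hfx : extAut β x ∈ P₁ := Helper87.extAut_mem_self β hx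
      have ht := hγ₂mod x hx
      have h1 : b' (γ x) = extAut β x * ((extAut β x)⁻¹ * b' (γ x)) := by group
      rw [h1, (iso_iterate hiso₂ i).1.map_mul (hPR hfx) (hTR ht),
        hfixT i _ ht, ← mul_assoc]
      exact T.mul_mem (ih _ hfx) ht
  have hβj : ∀ x ∈ P₁, (extAut β)^[j] x = extAut β x := by
    intro x hx
    rw [extAut_iterate β j hx, Helper87.extAut_mem β hx]
    have h3 : β ^ j = β ^ 1 := by
      rw [pow_eq_pow_iff_modEq]
      exact hj1.of_dvd (orderOf_dvd_of_pow_eq_one hβk)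
    rw [h3, pow_one]
  have hmain := fun a₀ ha₀ => comm_mem_T hS h hCE (q := q) (k := e) hqp hTR hRU hψ hψT hψk
    (a₀ := a₀) ha₀
  intro x
  obtain ⟨t, ht, c, hc, hxtc⟩ := mem_sup_cen (le_refl T) (h.le (hP₁ x.2))
  have hcR : c ∈ (P₁ ⊔ T) ⊓ centralizerIn S T := by
    refine ⟨?_, hc⟩
    have h1 : c = t⁻¹ * (x : Ω) := by rw [hxtc]; group
    rw [h1]
    exact Subgroup.mul_mem _ (Subgroup.inv_mem _ (hTR ht)) (hPR x.2)
  have h1 := hmain c hcR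
  have h2 : (x : Ω)⁻¹ * (fun x => b' (γ x))^[j] (x : Ω) ∈ T := by
    rw [hxtc, hψ.1.map_mul (hTR ht) hcR.1, hψT t ht]
    have h3 : (t * c)⁻¹ * (t * (fun x => b' (γ x))^[j] c) = c⁻¹ * (fun x => b' (γ x))^[j] c := by
      group
    rw [h3]
    exact h1
  have h4 := hiter j x x.2
  rw [hβj x x.2, Helper87.extAut_apply] at h4
  have h5 : (x : Ω)⁻¹ * ((β x : P₁) : Ω) = (x : Ω)⁻¹ * (fun x => b' (γ x))^[j] (x : Ω) *
      (((β x : P₁) : Ω)⁻¹ * (fun x => b' (γ x))^[j] (x : Ω))⁻¹ := by group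
  rw [h5]
  exact T.mul_mem h2 (T.inv_mem h4)

/-- the hyperfocal subgroup of the envelope lies in `T` -/
theorem hyp_le [Finite S] [hp : Fact p.Prime] (hS : IsPGroup p S) (h : Env F E p U F₀)
    (hCE : CenHyp F E) : F₀.hyperfocalSubgroup p ≤ T := by
  have hfinU : Finite U := Helper87.finite_of_le h.hUS
  apply Helper87.hyperfocal_le
  intro P hP α hα hcop
  have hfinP : Finite P := Helper87.finite_of_le hP
  have h1 := Cfsg.Agent.Helper86.mem_closure_primePow (p := p) (⟨α, hα⟩ : F₀.autGroup P) (by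
    rw [← Subgroup.orderOf_coe]; exact hcop)
  have hle : Subgroup.closure {g : F₀.autGroup P | ∃ q k : ℕ, q.Prime ∧ q ≠ p ∧ g ^ (q ^ k) = 1} ≤
      (tmod P T).comap (F₀.autGroup P).subtype := by
    rw [Subgroup.closure_le]
    rintro g ⟨q, k, hq, hqp, hg⟩
    have hg' : (g : MulAut P) ^ (q ^ k) = 1 := by
      have := congrArg Subtype.val hg
      simpa using this
    exact aut_mod_T hS h hCE hq hqp hP g.2 hg'
  exact hle h1

/-- **`E` has `p`-power index in the envelope** -/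
theorem ppower_of_env [Finite S] [hp : Fact p.Prime] (hS : IsPGroup p S) (h : Env F E p U F₀)
    (hCE : CenHyp F E) : E.HasPPowerIndexIn F₀ p := by
  refine ⟨h.subE, hyp_le hS h hCE, fun P hP => ?_⟩
  rintro _ ⟨b, -, rfl⟩
  rw [Helper87.mem_autGroup_iff hP]
  exact h.mor_E hP ((Helper87.mem_autGroup_iff (hP.trans h.hTU)).mp b.2)

end Cfsg.Agent.Helper84.Z10
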