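import Mathlib
import Cfsg.Agent.Lib.Helper13.AutPSLSylow

/-!
# Matrix facts for the fusion system of `PSL_n(q)` in the defining characteristic, part 1

The normalizer of the unitriangular group consists of upper triangular matrices; upper triangular
matrices of determinant one are products of a diagonal matrix and a unitriangular one.
-/

set_option autoImplicit false
set_option linter.unusedSectionVars false
set_option linter.unusedSimpArgs false
set_option linter.unusedVariables false

namespace Cfsg.Agent.Helper84.PslMat1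

open Matrix Cfsg.Agent.Helper13.AutPSLTv Cfsg.Agent.Helper13.AutPSLSylow

variable {n : ℕ} {F : Type*} [Field F]

local notation "SLn" => Matrix.SpecialLinearGroup (Fin n) F
local notation "PSLn" => Matrix.ProjectiveSpecialLinearGroup (Fin n) F
local notation "Mn" => Matrix (Fin n) (Fin n) F
local notation "Vn" => Fin n → F

/-- the standard basis vector -/
abbrev ee (i : Fin n) : Vn := Pi.single i (1 : F)

theorem dot_ee (x : Vn) (i : Fin n) : x ⬝ᵥ (ee i : Vn) = x i := by
  simp [ee]

theorem ee_dot (x : Vn) (i : Fin n) : (ee i : Vn) ⬝ᵥ x = x i := by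
  simp [ee]

theorem isUT_mulVec_first (hn : 0 < n) {u : Mn} (hu : IsUT u) :
    u *ᵥ (ee ⟨0, hn⟩ : Vn) = ee ⟨0, hn⟩ := by
  funext k
  rw [Matrix.mulVec_single_one]
  show u k ⟨0, hn⟩ = _
  rw [hu k ⟨0, hn⟩ (Fin.mk_le_of_le_val (Nat.zero_le _))]
  simp [ee, Pi.single_apply]

/-- a scalar multiple of a unitriangular matrix that is a transvection is the matrix itself -/
theorem smul_eq_one_of_UT (hn : 0 < n) {v ψ : Vn} (hψv : ψ ⬝ᵥ v = 0) (c : F) {u : Mn}
    (hu : IsUT u) {r : F} (h : tvm v ψ c = r • u) : r = 1 := by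
  have h1 : tvm v ψ c *ᵥ (ee ⟨0, hn⟩ : Vn) = (r • u) *ᵥ (ee ⟨0, hn⟩ : Vn) := by rw [h]
  rw [tvm_mulVec, Matrix.smul_mulVec, isUT_mulVec_first hn hu] at h1
  have h2 := congrArg (fun x => ψ ⬝ᵥ x) h1
  simp only [dotProduct_add, dotProduct_smul, hψv, smul_eq_mul, mul_zero, add_zero] at h2
  by_cases h0 : ψ ⬝ᵥ (ee ⟨0, hn⟩ : Vn) = 0
  · rw [h0, mul_zero, zero_smul, add_zero] at h1
    have h3 := congrFun h1 ⟨0, hn⟩
    simp [ee] at h3
    exact h3.symm
  · have h3 : (r - 1) * (ψ ⬝ᵥ (ee ⟨0, hn⟩ : Vn)) = 0 := by rw [sub_mul, one_mul, ← h2, sub_self]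
    rcases mul_eq_zero.1 h3 with h4 | h4
    · exact sub_eq_zero.1 h4
    · exact absurd h4 h0

/-- matrices of `SL_n` that differ by a scalar have the same image in `PSL_n` -/
theorem mk_eq_of_smul {s t : SLn} {r : F} (h : (t : Mn) = r • (s : Mn)) :
    (QuotientGroup.mk s : PSLn) = QuotientGroup.mk t := by
  rw [QuotientGroup.eq, Matrix.SpecialLinearGroup.mem_center_iff]
  have hdet : r ^ (Fintype.card (Fin n)) = 1 := by
    have h1 := congrArg Matrix.det h
    rw [Matrix.det_smul, t.2, s.2, mul_one] at h1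
    exact h1.symm
  refine ⟨r, hdet, ?_⟩
  rw [Matrix.SpecialLinearGroup.coe_mul, h, Matrix.mul_smul, coe_inv_mul_coe]
  ext i j
  simp [Matrix.scalar_apply, Matrix.smul_apply, Matrix.diagonal_apply, Matrix.one_apply]

/-- a matrix conjugating elementary upper transvections into unitriangular matrices is upper
triangular -/
theorem upper_of_conj (g : Mn)
    (h : ∀ a i : Fin n, a < i → ∃ u' : Mn, IsUT u' ∧ g * tvm (ee a) (ee i) 1 = u' * g) :
    ∀ i j : Fin n, j < i → g i j = 0 := by
  have key : ∀ d : ℕ, ∀ i : Fin n, n - i.val = d → ∀ j : Fin n, j < i → g i j = 0 := by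
    intro d
    induction d using Nat.strong_induction_on with
    | _ d ih =>
      intro i hi a ha
      obtain ⟨u', hu', e⟩ := h a i ha
      have e1 := congrFun (congrFun e i) i
      rw [tvm_single_eq, Matrix.mul_add, Matrix.mul_one, Matrix.mul_smul, Matrix.add_apply,
        Matrix.smul_apply, mul_single_one_apply, if_pos rfl, one_smul] at e1
      have e2 : (u' * g) i i = g i i := by
        rw [Matrix.mul_apply, Finset.sum_eq_single i]
        · rw [hu' i i le_rfl, if_pos rfl, one_mul]
        · intro k _ hki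
          rcases lt_or_gt_of_ne hki with hlt | hgt
          · rw [hu' i k hlt.le, if_neg (Ne.symm hki), zero_mul]
          · have hk : n - k.val < d := by
              have : i.val < k.val := hgt
              have := k.2
              omega
            rw [ih (n - k.val) hk k rfl i hgt, mul_zero]
        · intro h'
          exact absurd (Finset.mem_univ i) h'
      rw [e2] at e1
      exact add_eq_left.1 e1
  intro i j hji
  exact key _ i rfl j hji

/-- an element of `SL_n` whose image normalizes the image of the unitriangular group is upper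
triangular -/
theorem upper_of_normalizer [Finite F] (hn : 0 < n) (g : SLn)
    (hg : (QuotientGroup.mk g : PSLn) ∈ Subgroup.normalizer ((UTbar n F : Subgroup PSLn) : Set PSLn)) :
    ∀ i j : Fin n, j < i → (g : Mn) i j = 0 := by
  apply upper_of_conj
  intro a i hai
  have hu : tv (ee a) (ee i) (1 : F) ∈ UT n F := tv_single_mem_UT hai 1
  have h1 : (QuotientGroup.mk g : PSLn) * QuotientGroup.mk (tv (ee a) (ee i) (1 : F)) *
      (QuotientGroup.mk g : PSLn)⁻¹ ∈ UTbar n F :=
    (Subgroup.mem_normalizer_iff.1 hg _).1 (mem_UTbar.2 ⟨_, hu, rfl⟩)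
  obtain ⟨u', hu', e⟩ := mem_UTbar.1 h1
  have e' : (QuotientGroup.mk u' : PSLn) =
      QuotientGroup.mk (g * tv (ee a) (ee i) (1 : F) * g⁻¹) := by
    rw [e]; rfl
  obtain ⟨r, hr⟩ := exists_smul_of_mk_eq e'
  have hfl : (ee i : Vn) ⬝ᵥ (ee a : Vn) = 0 := by
    rw [ee_dot]
    simp [ee, Pi.single_apply, hai.ne']
  rw [conj_tv g hfl, tv_coe (by rw [conj_flag]; exact hfl)] at hr
  have hr1 : r = 1 := smul_eq_one_of_UT hn (by rw [conj_flag]; exact hfl) 1 hu' hr
  rw [hr1, one_smul] at hr
  refine ⟨(u' : Mn), hu', ?_⟩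
  rw [← hr, ← mul_tvm_mul (ee a) (ee i) (1 : F) (coe_mul_coe_inv g), Matrix.mul_assoc,
    coe_inv_mul_coe, Matrix.mul_one]

end Cfsg.Agent.Helper84.PslMat1
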