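import Mathlib
import Cfsg.Agent.Lib.Helper84.PslMat1

/-!
# Matrix facts for the fusion system of `PSL_n(q)`, part 2: the diagonal torus
-/

set_option autoImplicit false
set_option linter.unusedSectionVars false
set_option linter.unusedSimpArgs false
set_option linter.unusedVariables false

namespace Cfsg.Agent.Helper84.PslMat2

open Matrix Cfsg.Agent.Helper13.AutPSLTv Cfsg.Agent.Helper13.AutPSLSylow
open Cfsg.Agent.Helper84.PslMat1

variable {n : ℕ} {F : Type*} [Field F]

local notation "SLn" => Matrix.SpecialLinearGroup (Fin n) F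
local notation "PSLn" => Matrix.ProjectiveSpecialLinearGroup (Fin n) F
local notation "Mn" => Matrix (Fin n) (Fin n) F
local notation "Vn" => Fin n → F

/-- the diagonal parameters of determinant one -/
def T1 (n : ℕ) (F : Type*) [Field F] : Subgroup (Fin n → Fˣ) where
  carrier := {t | ∏ i, t i = 1}
  one_mem' := by simp
  mul_mem' := by
    intro a b ha hb
    simp only [Set.mem_ofPred_eq, Pi.mul_apply] at ha hb ⊢
    rw [Finset.prod_mul_distrib, ha, hb, one_mul]
  inv_mem' := by
    intro a ha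
    simp only [Set.mem_ofPred_eq, Pi.inv_apply] at ha ⊢
    rw [Finset.prod_inv_distrib, ha, inv_one]

theorem mem_T1 {t : Fin n → Fˣ} : t ∈ T1 n F ↔ ∏ i, t i = 1 := Iff.rfl

/-- the diagonal matrix of `SL_n` -/
def dg (t : T1 n F) : SLn :=
  ⟨Matrix.diagonal (fun i => ((t.1 i : Fˣ) : F)), by
    rw [Matrix.det_diagonal]
    have := t.2
    rw [mem_T1] at this
    have h2 := congrArg (fun x : Fˣ => (x : F)) this
    simpa using h2⟩

theorem dg_coe (t : T1 n F) : ((dg t : SLn) : Mn) = Matrix.diagonal (fun i => ((t.1 i : Fˣ) : F)) :=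
  rfl

theorem dg_mul (s t : T1 n F) : dg (s * t) = dg s * dg t := by
  apply Subtype.ext
  rw [Matrix.SpecialLinearGroup.coe_mul, dg_coe, dg_coe, dg_coe, Matrix.diagonal_mul_diagonal]
  congr 1

theorem dg_one : dg (1 : T1 n F) = 1 := by
  apply Subtype.ext
  rw [dg_coe, Matrix.SpecialLinearGroup.coe_one]
  simp

/-- `dg` as a homomorphism -/
def dgHom : T1 n F →* SLn where
  toFun := dg
  map_one' := dg_one
  map_mul' := dg_mul

theorem dgHom_apply (t : T1 n F) : dgHom t = dg t := rfl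

theorem dg_inv (t : T1 n F) : dg t⁻¹ = (dg t)⁻¹ := map_inv dgHom t

/-- a diagonal matrix normalizes the unitriangular group -/
theorem dg_conj_UT [Finite F] (t : T1 n F) {u : SLn} (hu : u ∈ UT n F) :
    dg t * u * (dg t)⁻¹ ∈ UT n F := by
  rw [← dg_inv]
  intro i j hji
  show ((dg t * u * dg t⁻¹ : SLn) : Mn) i j = _
  rw [Matrix.SpecialLinearGroup.coe_mul, Matrix.SpecialLinearGroup.coe_mul, dg_coe, dg_coe,
    Matrix.mul_diagonal, Matrix.diagonal_mul, hu i j hji]
  by_cases hij : i = j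
  · subst hij
    rw [if_pos rfl]
    show ((t.1 i : Fˣ) : F) * 1 * (((t⁻¹ : T1 n F).1 i : Fˣ) : F) = 1
    have : ((t⁻¹ : T1 n F).1 i : Fˣ) = (t.1 i)⁻¹ := rfl
    rw [this, mul_one, Units.mul_inv]
  · rw [if_neg hij, mul_zero, zero_mul]

/-- an upper triangular matrix of determinant one is diagonal times unitriangular -/
theorem upper_decomp [Finite F] (g : SLn) (hg : ∀ i j : Fin n, j < i → (g : Mn) i j = 0) :
    ∃ (t : T1 n F) (u : SLn), u ∈ UT n F ∧ g = dg t * u := by
  have hdet : ∏ i, (g : Mn) i i = 1 := by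
    rw [← Matrix.det_of_isUpperTriangular (M := (g : Mn)) (fun i j hij => hg i j hij)]
    exact g.2
  have hne : ∀ i, (g : Mn) i i ≠ 0 := by
    intro i h0
    have h1 : ∏ i, (g : Mn) i i = 0 := Finset.prod_eq_zero (Finset.mem_univ i) h0
    rw [h1] at hdet
    exact zero_ne_one hdet
  let t0 : Fin n → Fˣ := fun i => Units.mk0 _ (hne i)
  have ht0 : t0 ∈ T1 n F := by
    rw [mem_T1]
    apply Units.ext
    rw [Units.coe_prod]
    simpa [t0] using hdet
  refine ⟨⟨t0, ht0⟩, (dg ⟨t0, ht0⟩)⁻¹ * g, ?_, by group⟩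
  rw [← dg_inv]
  intro i j hji
  show ((dg (⟨t0, ht0⟩ : T1 n F)⁻¹ * g : SLn) : Mn) i j = _
  rw [Matrix.SpecialLinearGroup.coe_mul, dg_coe, Matrix.diagonal_mul]
  have hinv : (((⟨t0, ht0⟩ : T1 n F)⁻¹).1 i : Fˣ) = (t0 i)⁻¹ := rfl
  rw [hinv]
  by_cases hij : i = j
  · subst hij
    rw [if_pos rfl]
    show ((t0 i)⁻¹ : Fˣ) * (g : Mn) i i = 1
    have : (g : Mn) i i = ((t0 i : Fˣ) : F) := rfl
    rw [this, Units.inv_mul]
  · rw [if_neg hij, hg i j (lt_of_le_of_ne hji (Ne.symm hij)), mul_zero]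

/-- the diagonal parameter with `s⁻¹` at `j` and `s` at `k` -/
def EE (j k : Fin n) (hjk : j ≠ k) (s : Fˣ) : T1 n F :=
  ⟨Pi.mulSingle j s⁻¹ * Pi.mulSingle k s, by
    rw [mem_T1]
    simp only [Pi.mul_apply]
    rw [Finset.prod_mul_distrib, Finset.prod_pi_mulSingle', Finset.prod_pi_mulSingle']
    simp⟩

theorem EE_apply (j k : Fin n) (hjk : j ≠ k) (s : Fˣ) (m : Fin n) :
    (EE j k hjk s : T1 n F).1 m = if m = j then s⁻¹ else if m = k then s else 1 := by
  show (Pi.mulSingle j s⁻¹ * Pi.mulSingle k s : Fin n → Fˣ) m = _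
  rw [Pi.mul_apply, Pi.mulSingle_apply, Pi.mulSingle_apply]
  by_cases h1 : m = j
  · have h2 : m ≠ k := fun e => hjk (h1.symm.trans e)
    simp [h1, hjk]
  · by_cases h2 : m = k
    · subst h2
      simp [h1]
    · simp [h1, h2]

/-- every diagonal parameter is a product of the elementary ones based at `i0` -/
theorem T1_decomp (i0 : Fin n) (t : T1 n F) :
    t = ∏ j ∈ (Finset.univ.erase i0).attach,
      EE i0 j.1 (Finset.ne_of_mem_erase j.2).symm (t.1 j.1) := by
  apply Subtype.ext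
  funext m
  rw [Subgroup.val_finsetProd, Finset.prod_apply]
  simp only [EE_apply]
  by_cases hm : m = i0
  · subst hm
    simp only [if_true]
    rw [Finset.prod_attach (Finset.univ.erase m) (fun j => (t.1 j)⁻¹), Finset.prod_inv_distrib]
    have h1 := t.2
    rw [mem_T1, ← Finset.mul_prod_erase Finset.univ _ (Finset.mem_univ m)] at h1
    exact eq_inv_of_mul_eq_one_left h1
  · simp only [if_neg hm]
    have hmem : m ∈ Finset.univ.erase i0 := Finset.mem_erase.2 ⟨hm, Finset.mem_univ m⟩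
    rw [Finset.prod_eq_single (⟨m, hmem⟩ : {x // x ∈ Finset.univ.erase i0})]
    · simp
    · intro b _ hb
      have : m ≠ b.1 := fun e => hb (Subtype.ext e.symm)
      simp [this]
    · intro h
      exact absurd (Finset.mem_attach _ _) h

end Cfsg.Agent.Helper84.PslMat2
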