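import Mathlib
import Cfsg.Agent.Lib.Helper84.PslMat2

/-!
# Matrix facts for the fusion system of `PSL_n(q)`, part 3: elementary transvections
-/

set_option autoImplicit false
set_option linter.unusedSectionVars false
set_option linter.unusedSimpArgs false
set_option linter.unusedVariables false

namespace Cfsg.Agent.Helper84.PslMat3

open Matrix Cfsg.Agent.Helper13.AutPSLTv Cfsg.Agent.Helper13.AutPSLSylow
open Cfsg.Agent.Helper84.PslMat1 Cfsg.Agent.Helper84.PslMat2

variable {n : ℕ} {F : Type*} [Field F]

local notation "SLn" => Matrix.SpecialLinearGroup (Fin n) F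
local notation "PSLn" => Matrix.ProjectiveSpecialLinearGroup (Fin n) F
local notation "Mn" => Matrix (Fin n) (Fin n) F
local notation "Vn" => Fin n → F

theorem ee_flag {j k : Fin n} (hjk : j ≠ k) : (ee k : Vn) ⬝ᵥ (ee j : Vn) = 0 := by
  rw [ee_dot]
  simp [ee, Pi.single_apply, hjk.symm]

/-- the action of an elementary transvection on a vector -/
theorem tvm_ee_mulVec (j k : Fin n) (c : F) (x : Vn) (m : Fin n) :
    (tvm (ee j) (ee k) c *ᵥ x) m = x m + if m = j then c * x k else 0 := by
  rw [tvm_mulVec, ee_dot]
  simp only [Pi.add_apply, Pi.smul_apply, ee, Pi.single_apply, smul_eq_mul]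
  by_cases h : m = j
  · simp [h]
  · simp [h]

/-- the torus element `diag(s⁻¹ at j, s at k)` is a product of four elementary transvections -/
theorem dg_EE_eq (j k : Fin n) (hjk : j ≠ k) (s : Fˣ) :
    dg (EE j k hjk s) = tv (ee j) (ee k) ((s : F)⁻¹ - 1) * tv (ee k) (ee j) 1 *
      tv (ee j) (ee k) ((s : F) - 1) * tv (ee k) (ee j) (-(s : F)⁻¹) := by
  apply Subtype.ext
  rw [Matrix.SpecialLinearGroup.coe_mul, Matrix.SpecialLinearGroup.coe_mul,
    Matrix.SpecialLinearGroup.coe_mul, tv_coe (ee_flag hjk), tv_coe (ee_flag hjk.symm),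
    tv_coe (ee_flag hjk), tv_coe (ee_flag hjk.symm), dg_coe]
  apply Matrix.mulVec_injective
  funext x
  funext m
  rw [← Matrix.mulVec_mulVec, ← Matrix.mulVec_mulVec, ← Matrix.mulVec_mulVec,
    Matrix.mulVec_diagonal, EE_apply]
  simp only [tvm_ee_mulVec]
  have hs : (s : F) ≠ 0 := s.ne_zero
  by_cases h1 : m = j
  · subst h1
    simp only [if_true, if_neg hjk, if_neg hjk.symm]
    push_cast
    field_simp
    ring
  · by_cases h2 : m = k
    · subst h2
      simp only [if_true, if_neg hjk, if_neg hjk.symm, if_neg h1]
      field_simp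
      ring
    · simp only [if_neg h1, if_neg h2, if_neg hjk, if_neg hjk.symm]
      simp

/-- powers of a transvection -/
theorem tv_pow {u φ : Vn} (h : φ ⬝ᵥ u = 0) (c : F) (k : ℕ) : tv u φ c ^ k = tv u φ (k * c) := by
  induction k with
  | zero => simp [tv_zero]
  | succ k ih =>
    rw [pow_succ, ih, tv_mul h]
    congr 1
    push_cast
    ring

theorem tv_pow_char (p : ℕ) [CharP F p] (u φ : Vn) (c : F) : tv u φ c ^ p = 1 := by
  by_cases h : φ ⬝ᵥ u = 0
  · rw [tv_pow h, CharP.cast_eq_zero, zero_mul, tv_zero]
  · unfold tv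
    rw [dif_neg h, one_pow]

theorem exists_orderOf_eq_pow {G : Type*} [Group G] {p : ℕ} [hp : Fact p.Prime] {x : G}
    (h : x ^ p = 1) : ∃ m : ℕ, orderOf x = p ^ m := by
  rcases (Nat.dvd_prime hp.out).1 (orderOf_dvd_of_pow_eq_one h) with h1 | h1
  · exact ⟨0, by rw [h1, pow_zero]⟩
  · exact ⟨1, by rw [h1, pow_one]⟩

/-! ### generation of the unitriangular group -/

/-- the support of a unitriangular matrix above the diagonal -/
noncomputable def usupp (u : Mn) : Finset (Fin n × Fin n) := by
  classical
  exact Finset.univ.filter (fun q => q.1 < q.2 ∧ u q.1 q.2 ≠ 0)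

theorem mem_usupp (u : Mn) (q : Fin n × Fin n) : q ∈ usupp u ↔ q.1 < q.2 ∧ u q.1 q.2 ≠ 0 := by
  classical
  unfold usupp
  simp

theorem UT_le_of_elementary [Finite F] (H : Subgroup SLn)
    (hH : ∀ i j : Fin n, i < j → ∀ c : F, tv (ee i) (ee j) c ∈ H) : UT n F ≤ H := by
  classical
  have key : ∀ d : ℕ, ∀ u : SLn, u ∈ UT n F → (usupp (u : Mn)).card = d → u ∈ H := by
    intro d
    induction d using Nat.strong_induction_on with
    | _ d ih =>
      intro u hu hd
      by_cases hempty : usupp (u : Mn) = ∅
      · have : u = 1 := by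
          apply Subtype.ext
          ext a b
          rw [Matrix.SpecialLinearGroup.coe_one, Matrix.one_apply]
          rcases le_or_gt b a with hba | hab
          · exact hu a b hba
          · rw [if_neg hab.ne]
            by_contra hne
            have : (a, b) ∈ usupp (u : Mn) := (mem_usupp _ _).2 ⟨hab, hne⟩
            rw [hempty] at this
            exact absurd this (Finset.notMem_empty _)
        rw [this]
        exact H.one_mem
      · obtain ⟨q, hq, hmax⟩ := Finset.exists_max_image (usupp (u : Mn)) (fun q => q.1)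
          (Finset.nonempty_iff_ne_empty.2 hempty)
        obtain ⟨i, j⟩ := q
        have hq' := (mem_usupp _ _).1 hq
        have hij : i < j := hq'.1
        have hne : (u : Mn) i j ≠ 0 := hq'.2
        -- row j is trivial
        have hrow : ∀ b : Fin n, (u : Mn) j b = if j = b then 1 else 0 := by
          intro b
          rcases le_or_gt b j with hbj | hjb
          · exact hu j b hbj
          · rw [if_neg hjb.ne]
            by_contra hne'
            have h1 : (j, b) ∈ usupp (u : Mn) := (mem_usupp _ _).2 ⟨hjb, hne'⟩
            have h2 := hmax (j, b) h1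
            exact absurd (lt_of_lt_of_le hij h2) (lt_irrefl _)
        set c : F := (u : Mn) i j with hc
        set u' : SLn := tv (ee i) (ee j) (-c) * u with hu'
        have hentry : ∀ a b : Fin n, (u' : Mn) a b =
            (u : Mn) a b + if a = i ∧ b = j then -c else 0 := by
          intro a b
          rw [hu', Matrix.SpecialLinearGroup.coe_mul, tv_coe (ee_flag hij.ne), tvm_single_eq,
            Matrix.add_mul, Matrix.one_mul, Matrix.smul_mul, Matrix.add_apply, Matrix.smul_apply,
            single_one_mul_apply, hrow b]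
          by_cases ha : a = i
          · by_cases hb : j = b
            · subst hb
              simp [ha]
            · have hb' : ¬ b = j := fun e => hb e.symm
              simp [ha, hb, hb']
          · simp [ha]
        have hu'UT : u' ∈ UT n F := by
          rw [hu']
          exact (UT n F).mul_mem (tv_single_mem_UT hij _) hu
        have hsupp : usupp (u' : Mn) = (usupp (u : Mn)).erase (i, j) := by
          ext ⟨a, b⟩
          rw [Finset.mem_erase, mem_usupp, mem_usupp, hentry]
          by_cases hab : a = i ∧ b = j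
          · obtain ⟨rfl, rfl⟩ := hab
            simp [hc]
          · have : (a, b) ≠ (i, j) := by
              intro e
              exact hab ⟨congrArg Prod.fst e, congrArg Prod.snd e⟩
            simp [hab, this]
        have hcard : (usupp (u' : Mn)).card < d := by
          rw [hsupp, Finset.card_erase_of_mem hq, hd]
          have : 0 < d := by
            rw [← hd]
            exact Finset.card_pos.2 ⟨_, hq⟩
          omega
        have h1 : u' ∈ H := ih _ hcard u' hu'UT rfl
        have h2 : u = tv (ee i) (ee j) c * u' := by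
          rw [hu', ← mul_assoc, tv_mul (ee_flag hij.ne), add_neg_cancel, tv_zero, one_mul]
        rw [h2]
        exact H.mul_mem (hH i j hij c) h1
  intro u hu
  exact key _ u hu rfl

/-! ### centralizers of the groups of transvections with a common axis or centre -/

/-- a matrix commuting with all transvections with axis `e_m^⊥` -/
theorem cent_axis (hn : 2 ≤ n) (M : Mn) (m : Fin n) (hdet : M.det ≠ 0)
    (h : ∀ j : Fin n, j ≠ m → M * tvm (ee j) (ee m) 1 = tvm (ee j) (ee m) 1 * M) :
    ∃ (r : F) (w : Vn), r ≠ 0 ∧ w m = 0 ∧ M = r • tvm w (ee m) 1 := by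
  -- entrywise consequences
  have h1 : ∀ j : Fin n, j ≠ m → ∀ a b : Fin n,
      (if b = m then M a j else 0) = if a = j then M m b else 0 := by
    intro j hj a b
    have e := congrFun (congrFun (h j hj) a) b
    rw [tvm_single_eq, Matrix.mul_add, Matrix.add_mul, Matrix.mul_one, Matrix.one_mul,
      Matrix.mul_smul, Matrix.smul_mul, Matrix.add_apply, Matrix.add_apply, Matrix.smul_apply,
      Matrix.smul_apply, mul_single_one_apply, single_one_mul_apply, one_smul, one_smul] at e
    exact add_left_cancel e
  -- some index other than m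
  obtain ⟨j0, hj0⟩ : ∃ j0 : Fin n, j0 ≠ m := by
    by_cases hm : m = ⟨0, by omega⟩
    · exact ⟨⟨1, by omega⟩, by rw [hm]; intro e; simp [Fin.ext_iff] at e⟩
    · exact ⟨⟨0, by omega⟩, fun e => hm e.symm⟩
  have hcol : ∀ j : Fin n, j ≠ m → ∀ a : Fin n, M a j = if a = j then M m m else 0 := by
    intro j hj a
    have := h1 j hj a m
    rw [if_pos rfl] at this
    exact this
  have hrow : ∀ b : Fin n, b ≠ m → M m b = 0 := by
    intro b hb
    have := h1 j0 hj0 j0 b
    rw [if_neg hb, if_pos rfl] at this
    exact this.symm
  have hr : M m m ≠ 0 := by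
    intro h0
    apply hdet
    apply Matrix.det_eq_zero_of_row_eq_zero m
    intro b
    by_cases hb : b = m
    · rw [hb, h0]
    · exact hrow b hb
  refine ⟨M m m, fun a => if a = m then 0 else (M m m)⁻¹ * M a m, hr, by simp, ?_⟩
  ext a b
  rw [Matrix.smul_apply, tvm, Matrix.add_apply, Matrix.smul_apply, vecMulVec_apply, Matrix.one_apply]
  simp only [ee, Pi.single_apply, smul_eq_mul]
  by_cases hb : b = m
  · subst hb
    by_cases ha : a = b
    · subst ha
      simp
    · simp only [if_neg ha, if_true]
      field_simp
      ring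
  · rw [hcol b hb a]
    by_cases ha : a = b
    · subst ha
      simp [hb]
    · simp [ha, hb]

theorem tvm_transpose (u φ : Vn) (c : F) : (tvm u φ c)ᵀ = tvm φ u c := by
  unfold tvm
  rw [Matrix.transpose_add, Matrix.transpose_one, Matrix.transpose_smul]
  congr 2
  ext a b
  simp [vecMulVec_apply, mul_comm]

/-- a matrix commuting with all transvections with centre `e_m` -/
theorem cent_centre (hn : 2 ≤ n) (M : Mn) (m : Fin n) (hdet : M.det ≠ 0)
    (h : ∀ j : Fin n, j ≠ m → M * tvm (ee m) (ee j) 1 = tvm (ee m) (ee j) 1 * M) :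
    ∃ (r : F) (w : Vn), r ≠ 0 ∧ w m = 0 ∧ M = r • tvm (ee m) w 1 := by
  obtain ⟨r, w, hr, hw, e⟩ := cent_axis hn Mᵀ m (by rw [Matrix.det_transpose]; exact hdet)
    (fun j hj => by
      have := congrArg Matrix.transpose (h j hj)
      rw [Matrix.transpose_mul, Matrix.transpose_mul, tvm_transpose] at this
      exact this.symm)
  refine ⟨r, w, hr, hw, ?_⟩
  have := congrArg Matrix.transpose e
  rw [Matrix.transpose_transpose, Matrix.transpose_smul, tvm_transpose] at this
  exact this

end Cfsg.Agent.Helper84.PslMat3
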