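import Mathlib
import Cfsg.Agent.Lib.Helper84.PslMat3
import Cfsg.Agent.Lib.Helper84.PslGrp

/-!
# The two abelian unipotent radicals `AX`, `CE` in `SL_n` and their images in `PSL_n`
-/

set_option autoImplicit false
set_option linter.unusedSectionVars false
set_option linter.unusedSimpArgs false
set_option linter.unusedVariables false

namespace Cfsg.Agent.Helper84.PslSub1

open Matrix Cfsg.Agent.Helper13.AutPSLTv Cfsg.Agent.Helper13.AutPSLSylow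
open Cfsg.Agent.Helper84.PslMat1 Cfsg.Agent.Helper84.PslMat2 Cfsg.Agent.Helper84.PslMat3
open Cfsg.Agent.Helper84.PslGrp

variable {n : ℕ} {F : Type*} [Field F]

local notation "SLn" => Matrix.SpecialLinearGroup (Fin n) F
local notation "PSLn" => Matrix.ProjectiveSpecialLinearGroup (Fin n) F
local notation "Mn" => Matrix (Fin n) (Fin n) F
local notation "Vn" => Fin n → F

/-- the projection `SL_n → PSL_n` -/
abbrev prj : SLn →* PSLn := QuotientGroup.mk' (Subgroup.center SLn)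

theorem tv_mul_axis {w w' φ : Vn} (hw : φ ⬝ᵥ w = 0) (hw' : φ ⬝ᵥ w' = 0) :
    tv w φ (1 : F) * tv w' φ 1 = tv (w + w') φ 1 := by
  have h3 : φ ⬝ᵥ (w + w') = 0 := by rw [dotProduct_add, hw, hw', add_zero]
  apply Subtype.ext
  rw [Matrix.SpecialLinearGroup.coe_mul, tv_coe hw, tv_coe hw', tv_coe h3, tvm_mul_tvm, hw',
    mul_zero, zero_smul, add_zero]
  unfold tvm
  rw [one_smul, one_smul, one_smul, Matrix.add_vecMulVec, add_assoc]

theorem tv_mul_centre {u ψ ψ' : Vn} (hψ : ψ ⬝ᵥ u = 0) (hψ' : ψ' ⬝ᵥ u = 0) :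
    tv u ψ (1 : F) * tv u ψ' 1 = tv u (ψ + ψ') 1 := by
  have h3 : (ψ + ψ') ⬝ᵥ u = 0 := by rw [add_dotProduct, hψ, hψ', add_zero]
  apply Subtype.ext
  rw [Matrix.SpecialLinearGroup.coe_mul, tv_coe hψ, tv_coe hψ', tv_coe h3, tvm_mul_tvm, hψ,
    mul_zero, zero_smul, add_zero]
  unfold tvm
  rw [one_smul, one_smul, one_smul, Matrix.vecMulVec_add, add_assoc]

theorem tv_neg_left {w φ : Vn} (hw : φ ⬝ᵥ w = 0) : (tv w φ (1 : F))⁻¹ = tv (-w) φ 1 := by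
  rw [tv_inv hw, ← neg_one_smul F w, tv_smul_left hw, mul_one]

theorem tv_neg_right {u ψ : Vn} (hψ : ψ ⬝ᵥ u = 0) : (tv u ψ (1 : F))⁻¹ = tv u (-ψ) 1 := by
  rw [tv_inv hψ, ← neg_one_smul F ψ, tv_smul_right hψ, mul_one]

/-- the transvections with axis `ker φ` -/
def AX (φ : Vn) : Subgroup SLn where
  carrier := {g | ∃ w : Vn, φ ⬝ᵥ w = 0 ∧ g = tv w φ 1}
  one_mem' := ⟨0, by simp, (tv_zero_left φ 1).symm⟩
  mul_mem' := by
    rintro a b ⟨w, hw, rfl⟩ ⟨w', hw', rfl⟩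
    exact ⟨w + w', by rw [dotProduct_add, hw, hw', add_zero], tv_mul_axis hw hw'⟩
  inv_mem' := by
    rintro a ⟨w, hw, rfl⟩
    exact ⟨-w, by rw [dotProduct_neg, hw, neg_zero], tv_neg_left hw⟩

/-- the transvections with centre `u` -/
def CE (u : Vn) : Subgroup SLn where
  carrier := {g | ∃ ψ : Vn, ψ ⬝ᵥ u = 0 ∧ g = tv u ψ 1}
  one_mem' := ⟨0, by simp, (tv_zero_right u 1).symm⟩
  mul_mem' := by
    rintro a b ⟨ψ, hψ, rfl⟩ ⟨ψ', hψ', rfl⟩
    exact ⟨ψ + ψ', by rw [add_dotProduct, hψ, hψ', add_zero], tv_mul_centre hψ hψ'⟩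
  inv_mem' := by
    rintro a ⟨ψ, hψ, rfl⟩
    exact ⟨-ψ, by rw [neg_dotProduct, hψ, neg_zero], tv_neg_right hψ⟩

theorem mem_AX {φ : Vn} {g : SLn} : g ∈ AX φ ↔ ∃ w : Vn, φ ⬝ᵥ w = 0 ∧ g = tv w φ 1 := Iff.rfl

theorem mem_CE {u : Vn} {g : SLn} : g ∈ CE u ↔ ∃ ψ : Vn, ψ ⬝ᵥ u = 0 ∧ g = tv u ψ 1 := Iff.rfl

theorem vecMul_inv_of (g : SLn) (φ : Vn) (h : φ ᵥ* (g : Mn) = φ) :
    φ ᵥ* ((g⁻¹ : SLn) : Mn) = φ := by
  conv_lhs => rw [← h]
  rw [Matrix.vecMul_vecMul, coe_mul_coe_inv, Matrix.vecMul_one]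

theorem mulVec_inv_of (g : SLn) (u : Vn) (h : (g : Mn) *ᵥ u = u) :
    ((g⁻¹ : SLn) : Mn) *ᵥ u = u := by
  conv_lhs => rw [← h]
  rw [Matrix.mulVec_mulVec, coe_inv_mul_coe, Matrix.one_mulVec]

theorem AX_conj_mem (g : SLn) (φ : Vn) (hφ : φ ᵥ* ((g⁻¹ : SLn) : Mn) = φ) {x : SLn}
    (hx : x ∈ AX φ) : g * x * g⁻¹ ∈ AX φ := by
  obtain ⟨w, hw, rfl⟩ := hx
  refine ⟨(g : Mn) *ᵥ w, ?_, ?_⟩
  · have := conj_flag g w φ
    rw [hφ] at this
    rw [this]
    exact hw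
  · rw [conj_tv g hw, hφ]

theorem AX_normalizer (g : SLn) (φ : Vn) (h : φ ᵥ* (g : Mn) = φ) :
    g ∈ Subgroup.normalizer ((AX φ : Subgroup SLn) : Set SLn) := by
  apply mem_normalizer_of_conj_mem
  · intro x hx
    exact AX_conj_mem g φ (vecMul_inv_of g φ h) hx
  · intro x hx
    have := AX_conj_mem g⁻¹ φ (by rw [inv_inv]; exact h) hx
    rwa [inv_inv] at this

theorem CE_conj_mem (g : SLn) (u : Vn) (hu : (g : Mn) *ᵥ u = u) {x : SLn}
    (hx : x ∈ CE u) : g * x * g⁻¹ ∈ CE u := by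
  obtain ⟨ψ, hψ, rfl⟩ := hx
  refine ⟨ψ ᵥ* ((g⁻¹ : SLn) : Mn), ?_, ?_⟩
  · have := conj_flag g u ψ
    rw [hu] at this
    rw [this]
    exact hψ
  · rw [conj_tv g hψ, hu]

theorem CE_normalizer (g : SLn) (u : Vn) (h : (g : Mn) *ᵥ u = u) :
    g ∈ Subgroup.normalizer ((CE u : Subgroup SLn) : Set SLn) := by
  apply mem_normalizer_of_conj_mem
  · intro x hx
    exact CE_conj_mem g u h hx
  · intro x hx
    have := CE_conj_mem g⁻¹ u (mulVec_inv_of g u h) hx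
    rwa [inv_inv] at this

/-- transvections fixing a covector -/
theorem tv_fix_row {u ψ φ : Vn} (h : ψ ⬝ᵥ u = 0) (hφ : φ ⬝ᵥ u = 0) (c : F) :
    φ ᵥ* ((tv u ψ c : SLn) : Mn) = φ := by
  rw [tv_coe h, vecMul_tvm, hφ, mul_zero, zero_smul, add_zero]

/-- transvections fixing a vector -/
theorem tv_fix_col {u ψ v : Vn} (h : ψ ⬝ᵥ u = 0) (hv : ψ ⬝ᵥ v = 0) (c : F) :
    ((tv u ψ c : SLn) : Mn) *ᵥ v = v := by
  rw [tv_coe h, tvm_mulVec, hv, mul_zero, zero_smul, add_zero]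

theorem UT_fix_last [Finite F] {il : Fin n} (hl : ∀ i, i ≤ il) {u : SLn} (hu : u ∈ UT n F) :
    (ee il : Vn) ᵥ* (u : Mn) = ee il := by
  funext b
  rw [Matrix.single_one_vecMul]
  show (u : Mn) il b = _
  rw [hu il b (hl b)]
  simp [ee, Pi.single_apply, eq_comm]

theorem UT_fix_first [Finite F] {i0 : Fin n} (h0 : ∀ i, i0 ≤ i) {u : SLn} (hu : u ∈ UT n F) :
    (u : Mn) *ᵥ (ee i0 : Vn) = ee i0 := by
  funext k
  rw [Matrix.mulVec_single_one]
  show (u : Mn) k i0 = _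
  rw [hu k i0 (h0 k)]
  simp [ee, Pi.single_apply]

theorem AX_le_UT [Finite F] {il : Fin n} (hl : ∀ i, i ≤ il) : AX (ee il : Vn) ≤ UT n F := by
  rintro g ⟨w, hw, rfl⟩
  rw [ee_dot] at hw
  intro a b hba
  have hfl : (ee il : Vn) ⬝ᵥ w = 0 := by rw [ee_dot]; exact hw
  rw [tv_coe hfl]
  unfold tvm
  rw [Matrix.add_apply, Matrix.smul_apply, vecMulVec_apply, Matrix.one_apply, one_smul]
  by_cases hab : a = b
  · subst hab
    rw [if_pos rfl]
    by_cases ha : a = il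
    · rw [ha, hw, zero_mul, add_zero]
    · simp [ee, Pi.single_apply, ha]
  · rw [if_neg hab]
    have hb : b ≠ il := by
      intro e
      rw [e] at hba
      exact hab ((le_antisymm (hl a) hba).trans e.symm)
    simp [ee, Pi.single_apply, hb]

theorem CE_le_UT [Finite F] {i0 : Fin n} (h0 : ∀ i, i0 ≤ i) : CE (ee i0 : Vn) ≤ UT n F := by
  rintro g ⟨ψ, hψ, rfl⟩
  have hψ0 : ψ i0 = 0 := by
    have := hψ
    rwa [dot_ee] at this
  intro a b hba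
  rw [tv_coe hψ]
  unfold tvm
  rw [Matrix.add_apply, Matrix.smul_apply, vecMulVec_apply, Matrix.one_apply, one_smul]
  by_cases hab : a = b
  · subst hab
    rw [if_pos rfl]
    by_cases ha : a = i0
    · rw [ha, hψ0, mul_zero, add_zero]
    · simp [ee, Pi.single_apply, ha]
  · rw [if_neg hab]
    have ha : a ≠ i0 := by
      intro e
      rw [e] at hba
      exact hab (e.trans (le_antisymm (h0 b) hba))
    simp [ee, Pi.single_apply, ha]

/-- commuting in `PSL_n` with a transvection lying in `UT` implies commuting in `SL_n` -/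
theorem comm_of_prj_comm [Finite F] (hn : 0 < n) (g r : SLn) (hr : r ∈ UT n F) {v ψ : Vn}
    (hfl : ψ ⬝ᵥ v = 0) (c : F) (hr' : r = tv v ψ c)
    (hcomm : (prj r : PSLn) * prj g = prj g * prj r) :
    (g : Mn) * (r : Mn) = (r : Mn) * (g : Mn) := by
  have h1 : (QuotientGroup.mk r : PSLn) = QuotientGroup.mk (g * r * g⁻¹) := by
    show prj r = prj (g * r * g⁻¹)
    rw [map_mul, map_mul, map_inv, ← hcomm]
    group
  obtain ⟨ρ, hρ⟩ := exists_smul_of_mk_eq h1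
  have hρ' := hρ
  rw [hr', conj_tv g hfl, tv_coe (by rw [conj_flag]; exact hfl), ← hr'] at hρ'
  have hρ1 : ρ = 1 := smul_eq_one_of_UT hn (by rw [conj_flag]; exact hfl) c hr hρ'
  rw [hρ1, one_smul] at hρ
  have h2 : g * r * g⁻¹ = r := Subtype.ext hρ
  have h3 : g * r = r * g := mul_inv_eq_iff_eq_mul.1 h2
  have := congrArg (fun x : SLn => (x : Mn)) h3
  simpa [Matrix.SpecialLinearGroup.coe_mul] using this

theorem centralizer_AX_le [Finite F] (hn : 2 ≤ n) {il : Fin n} (hl : ∀ i, i ≤ il) :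
    Subgroup.centralizer (((AX (ee il : Vn)).map prj : Subgroup PSLn) : Set PSLn) ≤
      (AX (ee il : Vn)).map prj := by
  intro x hx
  obtain ⟨g, rfl⟩ := QuotientGroup.mk_surjective x
  have hcomm : ∀ j : Fin n, j ≠ il →
      (g : Mn) * tvm (ee j) (ee il) 1 = tvm (ee j) (ee il) 1 * (g : Mn) := by
    intro j hj
    have hjl : j < il := lt_of_le_of_ne (hl j) hj
    have hfl : (ee il : Vn) ⬝ᵥ (ee j : Vn) = 0 := ee_flag hj
    have hmem : tv (ee j) (ee il) (1 : F) ∈ AX (ee il : Vn) := ⟨ee j, hfl, rfl⟩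
    have h1 := Subgroup.mem_centralizer_iff.1 hx (prj (tv (ee j) (ee il) (1 : F)))
      (Subgroup.mem_map_of_mem _ hmem)
    have := comm_of_prj_comm (by omega) g (tv (ee j) (ee il) (1 : F))
      (tv_single_mem_UT hjl 1) hfl 1 rfl h1
    rwa [tv_coe hfl] at this
  obtain ⟨r, w, hr, hw, e⟩ := cent_axis hn (g : Mn) il (by rw [g.2]; exact one_ne_zero) hcomm
  have hfl : (ee il : Vn) ⬝ᵥ w = 0 := by rw [ee_dot]; exact hw
  refine ⟨tv w (ee il) 1, ⟨w, hfl, rfl⟩, ?_⟩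
  show (QuotientGroup.mk (tv w (ee il) (1 : F)) : PSLn) = QuotientGroup.mk g
  apply mk_eq_of_smul (r := r)
  rw [tv_coe hfl]
  exact e

theorem centralizer_CE_le [Finite F] (hn : 2 ≤ n) {i0 : Fin n} (h0 : ∀ i, i0 ≤ i) :
    Subgroup.centralizer (((CE (ee i0 : Vn)).map prj : Subgroup PSLn) : Set PSLn) ≤
      (CE (ee i0 : Vn)).map prj := by
  intro x hx
  obtain ⟨g, rfl⟩ := QuotientGroup.mk_surjective x
  have hcomm : ∀ j : Fin n, j ≠ i0 →
      (g : Mn) * tvm (ee i0) (ee j) 1 = tvm (ee i0) (ee j) 1 * (g : Mn) := by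
    intro j hj
    have hjl : i0 < j := lt_of_le_of_ne (h0 j) (Ne.symm hj)
    have hfl : (ee j : Vn) ⬝ᵥ (ee i0 : Vn) = 0 := ee_flag (Ne.symm hj)
    have hmem : tv (ee i0) (ee j) (1 : F) ∈ CE (ee i0 : Vn) := ⟨ee j, hfl, rfl⟩
    have h1 := Subgroup.mem_centralizer_iff.1 hx (prj (tv (ee i0) (ee j) (1 : F)))
      (Subgroup.mem_map_of_mem _ hmem)
    have := comm_of_prj_comm (by omega) g (tv (ee i0) (ee j) (1 : F))
      (tv_single_mem_UT hjl 1) hfl 1 rfl h1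
    rwa [tv_coe hfl] at this
  obtain ⟨r, w, hr, hw, e⟩ := cent_centre hn (g : Mn) i0 (by rw [g.2]; exact one_ne_zero) hcomm
  have hfl : w ⬝ᵥ (ee i0 : Vn) = 0 := by rw [dot_ee]; exact hw
  refine ⟨tv (ee i0) w 1, ⟨w, hfl, rfl⟩, ?_⟩
  show (QuotientGroup.mk (tv (ee i0) w (1 : F)) : PSLn) = QuotientGroup.mk g
  apply mk_eq_of_smul (r := r)
  rw [tv_coe hfl]
  exact e

end Cfsg.Agent.Helper84.PslSub1
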