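import Mathlib
import Cfsg.Agent.Lib.Helper84.PslSub1
import Cfsg.Agent.Lib.Helper84.PslCrit
import Cfsg.Agent.Lib.Helper84.FusO7
import Cfsg.Agent.Lib.Helper87.FusionAlperin

/-!
# The fusion system of `PSL_n(q)` (`n ≥ 3`) in the defining characteristic is simple
-/

set_option autoImplicit false
set_option linter.unusedSectionVars false
set_option linter.unusedSimpArgs false
set_option linter.unusedVariables false

namespace Cfsg.Agent.Helper84.PslSub2

open Cfsg Matrix Cfsg.Agent.Helper13.AutPSLTv Cfsg.Agent.Helper13.AutPSLSylow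
open Cfsg.Agent.Helper84.PslMat1 Cfsg.Agent.Helper84.PslMat2 Cfsg.Agent.Helper84.PslMat3
open Cfsg.Agent.Helper84.PslGrp Cfsg.Agent.Helper84.PslSub1

variable {n : ℕ} {F : Type*} [Field F]

local notation "SLn" => Matrix.SpecialLinearGroup (Fin n) F
local notation "PSLn" => Matrix.ProjectiveSpecialLinearGroup (Fin n) F
local notation "Mn" => Matrix (Fin n) (Fin n) F
local notation "Vn" => Fin n → F

theorem prj_mem_UTbar [Finite F] {u : SLn} (hu : u ∈ UT n F) : (prj u : PSLn) ∈ UTbar n F :=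
  mem_UTbar.2 ⟨u, hu, rfl⟩

theorem prj_dg_normalizer [Finite F] (t : T1 n F) :
    (prj (dg t) : PSLn) ∈ Subgroup.normalizer ((UTbar n F : Subgroup PSLn) : Set PSLn) := by
  apply mem_normalizer_of_conj_mem
  · intro x hx
    obtain ⟨u, hu, rfl⟩ := mem_UTbar.1 hx
    have : (prj (dg t) : PSLn) * QuotientGroup.mk u * (prj (dg t))⁻¹ =
        prj (dg t * u * (dg t)⁻¹) := by
      rw [map_mul, map_mul, map_inv]; rfl
    rw [this]
    exact prj_mem_UTbar (dg_conj_UT t hu)
  · intro x hx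
    obtain ⟨u, hu, rfl⟩ := mem_UTbar.1 hx
    have : (prj (dg t) : PSLn)⁻¹ * QuotientGroup.mk u * prj (dg t) =
        prj (dg t⁻¹ * u * (dg t⁻¹)⁻¹) := by
      rw [dg_inv, inv_inv, map_mul, map_mul, map_inv]; rfl
    rw [this]
    exact prj_mem_UTbar (dg_conj_UT t⁻¹ hu)

section main

variable [Fintype F] {p : ℕ} [Fact p.Prime] [CharP F p]

/-- the generating set of the simplicity criterion -/
def GenSet (S : Sylow p PSLn) : Set PSLn :=
  {k | k ∈ Subgroup.normalizer ((S : Subgroup PSLn) : Set PSLn) ∧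
    ∃ R : Subgroup PSLn, (groupFusionSystem (S : Subgroup PSLn)).IsFullyNormalized R ∧
      (groupFusionSystem (S : Subgroup PSLn)).IsCentric R ∧
      k ∈ Subgroup.closure {g : PSLn | g ∈ Subgroup.normalizer (R : Set PSLn) ∧
        ∃ m : ℕ, orderOf g = p ^ m}}

theorem prj_tv_pelement (u φ : Vn) (c : F) : ∃ m : ℕ, orderOf (prj (tv u φ c) : PSLn) = p ^ m := by
  apply exists_orderOf_eq_pow
  rw [← map_pow, tv_pow_char p, map_one]

/-- torus elements in the Levi complement of a good subgroup belong to the generating set -/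
theorem gen_mem (S : Sylow p PSLn) (hS : (S : Subgroup PSLn) = UTbar n F) (R : Subgroup SLn)
    (hfn : (groupFusionSystem (S : Subgroup PSLn)).IsFullyNormalized (R.map prj))
    (hcen : (groupFusionSystem (S : Subgroup PSLn)).IsCentric (R.map prj))
    {j k : Fin n} (hjk : j ≠ k)
    (hN1 : ∀ c : F, tv (ee j) (ee k) c ∈ Subgroup.normalizer ((R : Subgroup SLn) : Set SLn))
    (hN2 : ∀ c : F, tv (ee k) (ee j) c ∈ Subgroup.normalizer ((R : Subgroup SLn) : Set SLn))
    (s : Fˣ) : (prj (dg (EE j k hjk s)) : PSLn) ∈ GenSet S := by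
  refine ⟨by rw [hS]; exact prj_dg_normalizer _, R.map prj, hfn, hcen, ?_⟩
  have hgen : ∀ (u φ : Vn) (c : F),
      tv u φ c ∈ Subgroup.normalizer ((R : Subgroup SLn) : Set SLn) →
      (prj (tv u φ c) : PSLn) ∈ Subgroup.closure {g : PSLn |
        g ∈ Subgroup.normalizer ((R.map prj : Subgroup PSLn) : Set PSLn) ∧
          ∃ m : ℕ, orderOf g = p ^ m} := by
    intro u φ c h
    apply Subgroup.subset_closure
    exact ⟨Subgroup.le_normalizer_map prj (Subgroup.mem_map_of_mem prj h), prj_tv_pelement u φ c⟩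
  rw [dg_EE_eq, map_mul, map_mul, map_mul]
  exact Subgroup.mul_mem _ (Subgroup.mul_mem _ (Subgroup.mul_mem _ (hgen _ _ _ (hN1 _))
    (hgen _ _ _ (hN2 _))) (hgen _ _ _ (hN1 _))) (hgen _ _ _ (hN2 _))

/-! ### the three indices -/

/-- the first index -/
def i0 (hn : 3 ≤ n) : Fin n := ⟨0, by omega⟩
/-- the second index -/
def im (hn : 3 ≤ n) : Fin n := ⟨1, by omega⟩
/-- the last index -/
def il (hn : 3 ≤ n) : Fin n := ⟨n - 1, by omega⟩

theorem i0_le (hn : 3 ≤ n) (i : Fin n) : i0 hn ≤ i := by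
  rw [Fin.le_def]; exact Nat.zero_le _

theorem le_il (hn : 3 ≤ n) (i : Fin n) : i ≤ il hn := by
  rw [Fin.le_def]; show i.val ≤ n - 1; omega

theorem i0_ne_im (hn : 3 ≤ n) : i0 hn ≠ im hn := by
  intro e; have := congrArg Fin.val e; simp [i0, im] at this

theorem im_ne_il (hn : 3 ≤ n) : im hn ≠ il hn := by
  intro e; have := congrArg Fin.val e; simp only [im, il] at this; omega

theorem i0_ne_il (hn : 3 ≤ n) : i0 hn ≠ il hn := by
  intro e; have := congrArg Fin.val e; simp only [i0, il] at this; omega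

theorem EE_mul_EE {j k l : Fin n} (hjk : j ≠ k) (hkl : k ≠ l) (hjl : j ≠ l) (s : Fˣ) :
    (EE j k hjk s : T1 n F) * EE k l hkl s = EE j l hjl s := by
  apply Subtype.ext
  funext m
  show (EE j k hjk s : T1 n F).1 m * (EE k l hkl s : T1 n F).1 m = (EE j l hjl s : T1 n F).1 m
  rw [EE_apply, EE_apply, EE_apply]
  by_cases h1 : m = j
  · subst h1
    simp [hjk, hjl]
  · by_cases h2 : m = k
    · subst h2
      simp [h1, hkl]
    · by_cases h3 : m = l
      · subst h3
        simp [h1, h2]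
      · simp [h1, h2, h3]

/-! ### the good subgroups -/

theorem AX_map_le (hn : 3 ≤ n) : (AX (ee (il hn) : Vn)).map prj ≤ UTbar n F :=
  Subgroup.map_mono (AX_le_UT (le_il hn))

theorem CE_map_le (hn : 3 ≤ n) : (CE (ee (i0 hn) : Vn)).map prj ≤ UTbar n F :=
  Subgroup.map_mono (CE_le_UT (i0_le hn))

theorem AX_fn (hn : 3 ≤ n) (S : Sylow p PSLn) (hS : (S : Subgroup PSLn) = UTbar n F) :
    (groupFusionSystem (S : Subgroup PSLn)).IsFullyNormalized
      ((AX (ee (il hn) : Vn)).map prj) := by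
  apply fullyNormalized_of_normal S
  · rw [hS]; exact AX_map_le hn
  · rw [hS]
    refine le_trans (Subgroup.map_mono ?_) (Subgroup.le_normalizer_map prj)
    intro u hu
    exact AX_normalizer u _ (UT_fix_last (le_il hn) hu)

theorem CE_fn (hn : 3 ≤ n) (S : Sylow p PSLn) (hS : (S : Subgroup PSLn) = UTbar n F) :
    (groupFusionSystem (S : Subgroup PSLn)).IsFullyNormalized
      ((CE (ee (i0 hn) : Vn)).map prj) := by
  apply fullyNormalized_of_normal S
  · rw [hS]; exact CE_map_le hn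
  · rw [hS]
    refine le_trans (Subgroup.map_mono ?_) (Subgroup.le_normalizer_map prj)
    intro u hu
    exact CE_normalizer u _ (UT_fix_first (i0_le hn) hu)

theorem AX_cen (hn : 3 ≤ n) (S : Sylow p PSLn) (hS : (S : Subgroup PSLn) = UTbar n F) :
    (groupFusionSystem (S : Subgroup PSLn)).IsCentric ((AX (ee (il hn) : Vn)).map prj) :=
  centric_of_centralizer_le (by rw [hS]; exact AX_map_le hn)
    (centralizer_AX_le (by omega) (le_il hn))

theorem CE_cen (hn : 3 ≤ n) (S : Sylow p PSLn) (hS : (S : Subgroup PSLn) = UTbar n F) :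
    (groupFusionSystem (S : Subgroup PSLn)).IsCentric ((CE (ee (i0 hn) : Vn)).map prj) :=
  centric_of_centralizer_le (by rw [hS]; exact CE_map_le hn)
    (centralizer_CE_le (by omega) (i0_le hn))

theorem genA (hn : 3 ≤ n) (S : Sylow p PSLn) (hS : (S : Subgroup PSLn) = UTbar n F)
    {j k : Fin n} (hjk : j ≠ k) (hj : j ≠ il hn) (hk : k ≠ il hn) (s : Fˣ) :
    (prj (dg (EE j k hjk s)) : PSLn) ∈ GenSet S :=
  gen_mem S hS _ (AX_fn hn S hS) (AX_cen hn S hS) hjk
    (fun c => AX_normalizer _ _ (tv_fix_row (ee_flag hjk) (ee_flag hj) c))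
    (fun c => AX_normalizer _ _ (tv_fix_row (ee_flag hjk.symm) (ee_flag hk) c)) s

theorem genB (hn : 3 ≤ n) (S : Sylow p PSLn) (hS : (S : Subgroup PSLn) = UTbar n F)
    {j k : Fin n} (hjk : j ≠ k) (hj : j ≠ i0 hn) (hk : k ≠ i0 hn) (s : Fˣ) :
    (prj (dg (EE j k hjk s)) : PSLn) ∈ GenSet S :=
  gen_mem S hS _ (CE_fn hn S hS) (CE_cen hn S hS) hjk
    (fun c => CE_normalizer _ _ (tv_fix_col (ee_flag hjk) (ee_flag hk.symm) c))
    (fun c => CE_normalizer _ _ (tv_fix_col (ee_flag hjk.symm) (ee_flag hj.symm) c)) s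

theorem gen_i0 (hn : 3 ≤ n) (S : Sylow p PSLn) (hS : (S : Subgroup PSLn) = UTbar n F)
    {j : Fin n} (hj : i0 hn ≠ j) (s : Fˣ) :
    (prj (dg (EE (i0 hn) j hj s)) : PSLn) ∈ Subgroup.closure (GenSet S) := by
  by_cases hjl : j = il hn
  · subst hjl
    rw [← EE_mul_EE (i0_ne_im hn) (im_ne_il hn) hj s, dg_mul, map_mul]
    exact Subgroup.mul_mem _
      (Subgroup.subset_closure (genA hn S hS _ (i0_ne_il hn) (im_ne_il hn) s))
      (Subgroup.subset_closure (genB hn S hS _ (i0_ne_im hn).symm (i0_ne_il hn).symm s))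
  · exact Subgroup.subset_closure (genA hn S hS _ (i0_ne_il hn) hjl s)

/-- `N_G(S)` is generated by the generating set -/
theorem normalizer_le_closure (hn : 3 ≤ n) (S : Sylow p PSLn)
    (hS : (S : Subgroup PSLn) = UTbar n F) :
    ∀ x ∈ Subgroup.normalizer ((S : Subgroup PSLn) : Set PSLn), x ∈ Subgroup.closure (GenSet S) := by
  intro x hx
  obtain ⟨g, rfl⟩ := QuotientGroup.mk_surjective x
  rw [hS] at hx
  have hup := upper_of_normalizer (by omega) g hx
  obtain ⟨t, u, hu, rfl⟩ := upper_decomp g hup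
  show (prj (dg t * u) : PSLn) ∈ _
  rw [map_mul]
  apply Subgroup.mul_mem
  · have e := T1_decomp (i0 hn) t
    have hmem : ∀ t' : T1 n F, t' = ∏ j ∈ (Finset.univ.erase (i0 hn)).attach,
        EE (i0 hn) j.1 (Finset.ne_of_mem_erase j.2).symm (t.1 j.1) →
        t' ∈ (Subgroup.closure (GenSet S)).comap ((prj : SLn →* PSLn).comp dgHom) := by
      intro t' ht'
      rw [ht']
      apply Subgroup.prod_mem
      intro j _
      exact gen_i0 hn S hS _ _
    exact hmem t e
  · apply Subgroup.subset_closure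
    have huS : (prj u : PSLn) ∈ (S : Subgroup PSLn) := by rw [hS]; exact prj_mem_UTbar hu
    refine ⟨Subgroup.le_normalizer huS, (S : Subgroup PSLn),
      Cfsg.Agent.Helper87.fullyNormalized_self _, Cfsg.Agent.Helper84.isCentric_top _, ?_⟩
    apply Subgroup.subset_closure
    refine ⟨Subgroup.le_normalizer huS, ?_⟩
    obtain ⟨k, hk⟩ := S.isPGroup' ⟨prj u, huS⟩
    have hk' : (prj u : PSLn) ^ p ^ k = 1 := by
      have := congrArg Subtype.val hk
      simpa using this
    obtain ⟨m, -, hm⟩ := (Nat.dvd_prime_pow (Fact.out : p.Prime)).1 (orderOf_dvd_of_pow_eq_one hk')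
    exact ⟨m, hm⟩

/-! ### strongly closed subgroups -/

theorem dg_EE_mulVec (hn : 3 ≤ n) (s : Fˣ) :
    ((dg (EE (i0 hn) (im hn) (i0_ne_im hn) s) : SLn) : Mn) *ᵥ (ee (i0 hn) : Vn) =
      ((s : F)⁻¹) • (ee (i0 hn) : Vn) := by
  funext m
  rw [dg_coe, Matrix.mulVec_diagonal, EE_apply]
  simp only [Pi.smul_apply, ee, Pi.single_apply, smul_eq_mul]
  by_cases h : m = i0 hn
  · simp [h]
  · simp [h]

theorem vecMul_dg_EE_inv (hn : 3 ≤ n) (s : Fˣ) :
    (ee (il hn) : Vn) ᵥ* (((dg (EE (i0 hn) (im hn) (i0_ne_im hn) s))⁻¹ : SLn) : Mn) =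
      ee (il hn) := by
  funext m
  rw [← dg_inv, dg_coe, Matrix.vecMul_diagonal]
  have hinv : ((EE (i0 hn) (im hn) (i0_ne_im hn) s : T1 n F)⁻¹).1 m =
      ((EE (i0 hn) (im hn) (i0_ne_im hn) s : T1 n F).1 m)⁻¹ := rfl
  rw [hinv, EE_apply]
  simp only [ee, Pi.single_apply]
  by_cases h : m = il hn
  · subst h
    simp [(i0_ne_il hn).symm, (im_ne_il hn).symm]
  · simp [h]

/-- a nontrivial strongly closed subgroup of `S` is `S` -/
theorem stronglyClosed_eq (hn : 3 ≤ n) (S : Sylow p PSLn) (hS : (S : Subgroup PSLn) = UTbar n F)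
    {T : Subgroup PSLn} (hT : (groupFusionSystem (S : Subgroup PSLn)).StronglyClosed T)
    (hT1 : T ≠ ⊥) : T = (S : Subgroup PSLn) := by
  have hn0 : 0 < n := by omega
  obtain ⟨z, hzT, hz1, hzc⟩ := exists_central_of_stronglyClosed S.isPGroup' hT hT1
  have hzS : z ∈ UTbar n F := by rw [← hS]; exact hT.1 hzT
  obtain ⟨c, hc⟩ := (zUT_iff hn0 (i0_le hn) (le_il hn) (i0_ne_il hn) z).1
    ⟨hzS, fun y hy => hzc y (by rw [hS]; exact hy)⟩
  have hc0 : c ≠ 0 := by
    rintro rfl
    rw [tv_zero] at hc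
    exact hz1 hc
  have hfl0 : (ee (il hn) : Vn) ⬝ᵥ (ee (i0 hn) : Vn) = 0 := ee_flag (i0_ne_il hn)
  -- all central transvections belong to T
  have step1 : ∀ c' : F, (prj (tv (ee (i0 hn)) (ee (il hn)) c') : PSLn) ∈ T := by
    intro c'
    by_cases hc' : c' = 0
    · rw [hc', tv_zero, map_one]; exact T.one_mem
    · set s : Fˣ := Units.mk0 (c / c') (div_ne_zero hc0 hc') with hs
      set D : SLn := dg (EE (i0 hn) (im hn) (i0_ne_im hn) s) with hD
      have hconj : D * tv (ee (i0 hn)) (ee (il hn)) c * D⁻¹ = tv (ee (i0 hn)) (ee (il hn)) c' := by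
        rw [conj_tv D hfl0, hD, dg_EE_mulVec, vecMul_dg_EE_inv, tv_smul_left hfl0]
        congr 1
        rw [hs]
        simp only [Units.val_mk0]
        field_simp
      have hmem : (prj D : PSLn) * z * (prj D)⁻¹ ∈ (S : Subgroup PSLn) := by
        rw [hS, hc]
        have : (prj D : PSLn) * QuotientGroup.mk (tv (ee (i0 hn)) (ee (il hn)) c) * (prj D)⁻¹ =
            prj (D * tv (ee (i0 hn)) (ee (il hn)) c * D⁻¹) := by
          rw [map_mul, map_mul, map_inv]; rfl
        rw [this, hconj]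
        exact prj_mem_UTbar (tv_single_mem_UT (lt_of_le_of_ne (i0_le hn _) (i0_ne_il hn)) c')
      have h2 := conj_mem_of_stronglyClosed hT hzT (prj D) hmem
      have : (prj D : PSLn) * z * (prj D)⁻¹ = prj (tv (ee (i0 hn)) (ee (il hn)) c') := by
        rw [hc, ← hconj, map_mul, map_mul, map_inv]; rfl
      rwa [this] at h2
  -- all transvections of S belong to T
  have step2 : ∀ (v ψ : Vn) (d : F), IsFlag v ψ → (prj (tv v ψ d) : PSLn) ∈ UTbar n F →
      (prj (tv v ψ d) : PSLn) ∈ T := by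
    intro v ψ d hf hmemS
    obtain ⟨g, a, b, ha, hb, e1, e2⟩ := flagConj_all hn (single_flag (i0_ne_il hn)) hf
    obtain ⟨-, h3⟩ := conj_tv_of_flagConj (single_flag (i0_ne_il hn)) ha hb e1 e2 (d / (a * b))
    have h4 : a * b * (d / (a * b)) = d := by field_simp
    rw [h4] at h3
    have h5 : (prj g : PSLn) * prj (tv (ee (i0 hn)) (ee (il hn)) (d / (a * b))) * (prj g)⁻¹ =
        prj (tv v ψ d) := by
      rw [← h3, map_mul, map_mul, map_inv]
    have h6 := conj_mem_of_stronglyClosed hT (step1 (d / (a * b))) (prj g)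
      (by rw [h5, hS]; exact hmemS)
    rwa [h5] at h6
  apply le_antisymm hT.1
  rw [hS]
  show (UT n F).map prj ≤ T
  rw [Subgroup.map_le_iff_le_comap]
  apply UT_le_of_elementary
  intro i j hij d
  rw [Subgroup.mem_comap]
  exact step2 _ _ d (single_flag hij.ne) (prj_mem_UTbar (tv_single_mem_UT hij d))

/-- the fusion system of `PSL_n(q)` on the unitriangular Sylow subgroup is simple -/
theorem psl_simple_UT (hn : 3 ≤ n) (S : Sylow p PSLn) (hS : (S : Subgroup PSLn) = UTbar n F) :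
    (groupFusionSystem (S : Subgroup PSLn)).IsSimple p := by
  apply Cfsg.Agent.Helper84.PslCrit.simple_crit S
  · intro h
    have hmem : (prj (tv (ee (i0 hn)) (ee (il hn)) (1 : F)) : PSLn) ∈ (S : Subgroup PSLn) := by
      rw [hS]
      exact prj_mem_UTbar (tv_single_mem_UT (lt_of_le_of_ne (i0_le hn _) (i0_ne_il hn)) 1)
    rw [h, Subgroup.mem_bot] at hmem
    have h2 : (QuotientGroup.mk (tv (ee (i0 hn)) (ee (il hn)) (1 : F)) : PSLn) =
        QuotientGroup.mk (tv (ee (i0 hn)) (ee (il hn)) (0 : F)) := by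
      rw [tv_zero]; exact hmem
    exact one_ne_zero (tv_param_eq_of_mk_eq (by omega) (single_flag (i0_ne_il hn)) h2)
  · intro T hT
    by_cases h : T = ⊥
    · exact Or.inl h
    · exact Or.inr (stronglyClosed_eq hn S hS hT h)
  · exact normalizer_le_closure hn S hS

/-- the fusion system of `PSL_n(q)`, `n ≥ 3`, on any Sylow `p`-subgroup is simple -/
theorem psl_simple (hn : 3 ≤ n) (S : Sylow p PSLn) :
    (groupFusionSystem (S : Subgroup PSLn)).IsSimple p := by
  obtain ⟨f, -, hF⟩ := FiniteField.card F p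
  have hf : 1 ≤ (f : ℕ) := f.2
  exact simple_of_sylow (UTsylow hF hf (by omega)) S
    (psl_simple_UT hn _ (coe_UTsylow hF hf _))

end main

end Cfsg.Agent.Helper84.PslSub2
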