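import Mathlib
import Cfsg.Agent.S0774
import Cfsg.Agent.Lib.Lead.SpCard
import Cfsg.Agent.Lib.Helper84.PslMat3

/-!
# The unitriangular Sylow subgroup of `Sp_{2m}(F)` in block form

`lev P = diag(P, P⁻ᵀ)` (Levi of the Siegel parabolic), `sieg Y = [[1, Y], [0, 1]]` (`Y` symmetric),
`U0 = lev(UT) · sieg(Sym)`, of order `q^(m^2)`, a Sylow `p`-subgroup.
-/

set_option autoImplicit false
set_option linter.unusedSectionVars false
set_option linter.unusedSimpArgs false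
set_option linter.unusedVariables false

namespace Cfsg.Agent.Helper84.PspA

open Matrix Cfsg.Agent.Helper13.AutPSLTv Cfsg.Agent.Helper13.AutPSLSylow
open Cfsg.Agent.Helper84.PslMat1 Cfsg.Agent.Helper84.PslMat2 Cfsg.Agent.Helper84.PslMat3

variable {m : ℕ} {F : Type*} [Field F]

local notation "Sp" => Matrix.symplecticGroup (Fin m) F
local notation "SLm" => Matrix.SpecialLinearGroup (Fin m) F
local notation "Mm" => Matrix (Fin m) (Fin m) F
local notation "M2" => Matrix (Fin m ⊕ Fin m) (Fin m ⊕ Fin m) F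

/-! ### the Levi embedding -/

/-- the matrix `diag(P, P⁻ᵀ)` -/
def levM (P : SLm) : M2 := fromBlocks (P : Mm) 0 0 ((P⁻¹ : SLm) : Mm)ᵀ

theorem levM_mem (P : SLm) : levM P ∈ Matrix.symplecticGroup (Fin m) F := by
  rw [levM, SymplecticGroup.fromBlocks_mem_iff]
  refine ⟨by simp, by simp, ?_⟩
  rw [Matrix.transpose_zero, Matrix.zero_mul, sub_zero, ← Matrix.transpose_mul, coe_inv_mul_coe,
    Matrix.transpose_one]

theorem levM_mul (P Q : SLm) : levM (P * Q) = levM P * levM Q := by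
  unfold levM
  rw [Matrix.fromBlocks_multiply, _root_.mul_inv_rev, Matrix.SpecialLinearGroup.coe_mul,
    Matrix.SpecialLinearGroup.coe_mul, Matrix.transpose_mul]
  simp

theorem levM_one : levM (1 : SLm) = 1 := by
  unfold levM
  rw [inv_one, Matrix.SpecialLinearGroup.coe_one, Matrix.transpose_one, Matrix.fromBlocks_one]

/-- the Levi embedding `SL_m → Sp_{2m}` -/
def lev : SLm →* Sp where
  toFun P := ⟨levM P, levM_mem P⟩
  map_one' := Subtype.ext levM_one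
  map_mul' P Q := Subtype.ext (levM_mul P Q)

theorem lev_val (P : SLm) : (lev P : Sp).val = levM P := rfl

/-! ### the Siegel elements -/

/-- the matrix `[[1, Y], [0, 1]]` -/
def siegM (Y : Mm) : M2 := fromBlocks 1 Y 0 1

theorem siegM_mem {Y : Mm} (hY : Yᵀ = Y) : siegM Y ∈ Matrix.symplecticGroup (Fin m) F := by
  rw [siegM, SymplecticGroup.fromBlocks_mem_iff]
  refine ⟨by simp, by simp [hY], by simp⟩

open Classical in
/-- the Siegel element of `Sp_{2m}` (the identity if `Y` is not symmetric) -/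
noncomputable def sieg (Y : Mm) : Sp :=
  if h : Yᵀ = Y then ⟨siegM Y, siegM_mem h⟩ else 1

theorem sieg_val {Y : Mm} (hY : Yᵀ = Y) : (sieg Y : Sp).val = siegM Y := by
  unfold sieg
  rw [dif_pos hY]

theorem siegM_mul (Y Y' : Mm) : siegM Y * siegM Y' = siegM (Y + Y') := by
  unfold siegM
  rw [Matrix.fromBlocks_multiply]
  simp [add_comm]

theorem sieg_mul {Y Y' : Mm} (hY : Yᵀ = Y) (hY' : Y'ᵀ = Y') :
    sieg Y * sieg Y' = sieg (Y + Y') := by
  have h3 : (Y + Y')ᵀ = Y + Y' := by rw [Matrix.transpose_add, hY, hY']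
  apply Subtype.ext
  show (sieg Y : Sp).val * (sieg Y' : Sp).val = _
  rw [sieg_val hY, sieg_val hY', sieg_val h3, siegM_mul]

theorem sieg_zero : sieg (0 : Mm) = (1 : Sp) := by
  apply Subtype.ext
  rw [sieg_val (by simp)]
  show siegM 0 = 1
  unfold siegM
  exact Matrix.fromBlocks_one

theorem sieg_inv {Y : Mm} (hY : Yᵀ = Y) : (sieg Y : Sp)⁻¹ = sieg (-Y) := by
  have h2 : (-Y)ᵀ = -Y := by rw [Matrix.transpose_neg, hY]
  apply inv_eq_of_mul_eq_one_right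
  rw [sieg_mul hY h2, add_neg_cancel, sieg_zero]

theorem conj_symm {Y : Mm} (hY : Yᵀ = Y) (P : Mm) : (P * Y * Pᵀ)ᵀ = P * Y * Pᵀ := by
  rw [Matrix.transpose_mul, Matrix.transpose_mul, Matrix.transpose_transpose, hY, Matrix.mul_assoc]

/-- conjugation of Siegel elements by Levi elements -/
theorem lev_mul_sieg (P : SLm) {Y : Mm} (hY : Yᵀ = Y) :
    lev P * sieg Y = sieg ((P : Mm) * Y * (P : Mm)ᵀ) * lev P := by
  apply Subtype.ext
  show (lev P : Sp).val * (sieg Y : Sp).val = (sieg _ : Sp).val * (lev P : Sp).val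
  rw [sieg_val hY, sieg_val (conj_symm hY _), lev_val]
  unfold levM siegM
  rw [Matrix.fromBlocks_multiply, Matrix.fromBlocks_multiply]
  have h1 : (P : Mm)ᵀ * ((P⁻¹ : SLm) : Mm)ᵀ = 1 := by
    rw [← Matrix.transpose_mul, coe_inv_mul_coe, Matrix.transpose_one]
  congr 1
  · simp
  · rw [Matrix.zero_mul, add_zero, Matrix.one_mul, zero_add, Matrix.mul_assoc, Matrix.mul_assoc,
      h1, Matrix.mul_one]
  · simp
  · simp

theorem conj_lev_sieg (P : SLm) {Y : Mm} (hY : Yᵀ = Y) :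
    lev P * sieg Y * (lev P)⁻¹ = sieg ((P : Mm) * Y * (P : Mm)ᵀ) := by
  rw [lev_mul_sieg P hY, mul_assoc, mul_inv_cancel, mul_one]

/-! ### the unitriangular subgroup -/

theorem toBlocks_mul (A B : M2) :
    (A * B).toBlocks₂₁ = A.toBlocks₂₁ * B.toBlocks₁₁ + A.toBlocks₂₂ * B.toBlocks₂₁ ∧
    (A * B).toBlocks₁₁ = A.toBlocks₁₁ * B.toBlocks₁₁ + A.toBlocks₁₂ * B.toBlocks₂₁ := by
  have h : A * B = fromBlocks (A.toBlocks₁₁ * B.toBlocks₁₁ + A.toBlocks₁₂ * B.toBlocks₂₁)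
      (A.toBlocks₁₁ * B.toBlocks₁₂ + A.toBlocks₁₂ * B.toBlocks₂₂)
      (A.toBlocks₂₁ * B.toBlocks₁₁ + A.toBlocks₂₂ * B.toBlocks₂₁)
      (A.toBlocks₂₁ * B.toBlocks₁₂ + A.toBlocks₂₂ * B.toBlocks₂₂) := by
    conv_lhs => rw [← Matrix.fromBlocks_toBlocks A, ← Matrix.fromBlocks_toBlocks B,
      Matrix.fromBlocks_multiply]
  rw [h, Matrix.toBlocks_fromBlocks₂₁, Matrix.toBlocks_fromBlocks₁₁]
  exact ⟨rfl, rfl⟩

variable (m F) in
/-- the unitriangular elements as a submonoid -/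
def U0mon : Submonoid (Matrix.symplecticGroup (Fin m) F) where
  carrier := {g | g.val.toBlocks₂₁ = 0 ∧ IsUT g.val.toBlocks₁₁}
  one_mem' := by
    refine ⟨?_, ?_⟩
    · show (1 : M2).toBlocks₂₁ = 0
      rw [← Matrix.fromBlocks_one, Matrix.toBlocks_fromBlocks₂₁]
    · show IsUT (1 : M2).toBlocks₁₁
      rw [← Matrix.fromBlocks_one, Matrix.toBlocks_fromBlocks₁₁]
      exact isUT_one
  mul_mem' := by
    rintro a b ⟨ha1, ha2⟩ ⟨hb1, hb2⟩
    obtain ⟨e1, e2⟩ := toBlocks_mul a.val b.val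
    refine ⟨?_, ?_⟩
    · show (a.val * b.val).toBlocks₂₁ = 0
      rw [e1, ha1, hb1, Matrix.zero_mul, Matrix.mul_zero, add_zero]
    · show IsUT (a.val * b.val).toBlocks₁₁
      rw [e2, hb1, Matrix.mul_zero, add_zero]
      exact ha2.mul hb2

variable (m F) in
/-- the unitriangular subgroup of `Sp_{2m}` -/
def U0 [Finite F] : Subgroup (Matrix.symplecticGroup (Fin m) F) where
  toSubmonoid := U0mon m F
  inv_mem' := by
    intro g hg
    have h1 : g⁻¹ = g ^ (orderOf g - 1) := by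
      apply inv_eq_of_mul_eq_one_right
      rw [← pow_succ', Nat.sub_add_cancel (orderOf_pos g), pow_orderOf_eq_one]
    rw [h1]
    exact (U0mon m F).pow_mem hg _

theorem mem_U0 [Finite F] {g : Sp} :
    g ∈ U0 m F ↔ g.val.toBlocks₂₁ = 0 ∧ IsUT g.val.toBlocks₁₁ := Iff.rfl

theorem lev_mem_U0 [Finite F] {P : SLm} (hP : P ∈ UT m F) : lev P ∈ U0 m F := by
  rw [mem_U0, lev_val]
  unfold levM
  rw [Matrix.toBlocks_fromBlocks₂₁, Matrix.toBlocks_fromBlocks₁₁]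
  exact ⟨rfl, hP⟩

theorem sieg_mem_U0 [Finite F] (Y : Mm) : sieg Y ∈ U0 m F := by
  by_cases hY : Yᵀ = Y
  · rw [mem_U0, sieg_val hY]
    unfold siegM
    rw [Matrix.toBlocks_fromBlocks₂₁, Matrix.toBlocks_fromBlocks₁₁]
    exact ⟨rfl, isUT_one⟩
  · unfold sieg
    rw [dif_neg hY]
    exact (U0 m F).one_mem

/-- the block form of a product `lev P * sieg Y` -/
theorem lev_sieg_val (P : SLm) {Y : Mm} (hY : Yᵀ = Y) :
    (lev P * sieg Y : Sp).val =
      fromBlocks (P : Mm) ((P : Mm) * Y) 0 ((P⁻¹ : SLm) : Mm)ᵀ := by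
  show (lev P : Sp).val * (sieg Y : Sp).val = _
  rw [sieg_val hY, lev_val]
  unfold levM siegM
  rw [Matrix.fromBlocks_multiply]
  simp

/-- every element of `U0` is `lev P * sieg Y` -/
theorem exists_lev_sieg [Finite F] {g : Sp} (hg : g ∈ U0 m F) :
    ∃ (P : SLm) (Y : Mm), P ∈ UT m F ∧ Yᵀ = Y ∧ g = lev P * sieg Y := by
  obtain ⟨h21, hUT⟩ := mem_U0.1 hg
  have hB : g ∈ (⨅ k : Fin m, Cfsg.stabilizing (Cfsg.spToMat m F) {v : Fin m ⊕ Fin m → F |
      (∀ i : Fin m, (k : ℕ) < (i : ℕ) → v (Sum.inl i) = 0) ∧ ∀ i : Fin m, v (Sum.inr i) = 0}) := by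
    rw [Cfsg.Agent.S0774.mem_borel_iff]
    refine ⟨h21, fun i j hji => ?_⟩
    rw [hUT i j hji.le, if_neg hji.ne']
  obtain ⟨⟨⟨Pm, hP1, hP2⟩, ⟨Ym, hYm⟩⟩, hPY⟩ := Cfsg.Agent.S0774.psi_bijective.2 ⟨g, hB⟩
  have hval : g.val = fromBlocks Pm (Pm * Ym) 0 (Pmᵀ)⁻¹ := by
    have := congrArg (fun x => x.val.val) hPY
    exact this.symm
  have hA : g.val.toBlocks₁₁ = Pm := by rw [hval, Matrix.toBlocks_fromBlocks₁₁]
  have hPUT : IsUT Pm := by rw [← hA]; exact hUT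
  have hdet : Pm.det = 1 := by
    rw [Matrix.det_of_isUpperTriangular (M := Pm) (fun i j hij => hP1 i j hij)]
    apply Finset.prod_eq_one
    intro i _
    rw [hPUT i i le_rfl, if_pos rfl]
  refine ⟨⟨Pm, hdet⟩, Ym, hPUT, hYm, ?_⟩
  apply Subtype.ext
  have e := lev_sieg_val (⟨Pm, hdet⟩ : SLm) hYm
  rw [e, hval]
  congr 1
  show (Pmᵀ)⁻¹ = (((⟨Pm, hdet⟩ : SLm)⁻¹ : SLm) : Mm)ᵀ
  rw [← Matrix.transpose_nonsing_inv]
  congr 1
  exact Matrix.inv_eq_left_inv (coe_inv_mul_coe (⟨Pm, hdet⟩ : SLm))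

theorem lev_sieg_mem_U0 [Finite F] {P : SLm} (hP : P ∈ UT m F) (Y : Mm) :
    lev P * sieg Y ∈ U0 m F :=
  (U0 m F).mul_mem (lev_mem_U0 hP) (sieg_mem_U0 Y)

/-- the blocks of an element of `U0` -/
theorem U0_blocks [Finite F] {g : Sp} (hg : g ∈ U0 m F) :
    ∃ (A B D : Mm), g.val = fromBlocks A B 0 D ∧ IsUT A ∧ IsUT Dᵀ := by
  obtain ⟨P, Y, hP, hY, rfl⟩ := exists_lev_sieg hg
  refine ⟨_, _, _, lev_sieg_val P hY, hP, ?_⟩
  rw [Matrix.transpose_transpose]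
  exact (UT m F).inv_mem hP

/-! ### the order of `U0` -/

theorem card_U0 [Fintype F] {q : ℕ} (hF : Fintype.card F = q) :
    Nat.card (U0 m F) = q ^ (m ^ 2) := by
  have hbij : Function.Bijective
      (fun x : (UT m F) × Cfsg.Agent.S0774.Sy F m =>
        (⟨lev (x.1 : SLm) * sieg x.2.val, lev_sieg_mem_U0 x.1.2 _⟩ : U0 m F)) := by
    constructor
    · rintro ⟨P, Y⟩ ⟨P', Y'⟩ h
      have h1 := congrArg (fun x : U0 m F => (x : Sp).val) h
      simp only at h1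
      rw [lev_sieg_val _ Y.2, lev_sieg_val _ Y'.2, Matrix.fromBlocks_inj] at h1
      obtain ⟨hP, hPY, -, -⟩ := h1
      have hP' : P = P' := Subtype.ext (Subtype.ext hP)
      subst hP'
      have hY : Y.val = Y'.val := by
        have := congrArg (fun M => (((P : SLm)⁻¹ : SLm) : Mm) * M) hPY
        simp only [← Matrix.mul_assoc, coe_inv_mul_coe, Matrix.one_mul] at this
        exact this
      rw [Prod.mk.injEq]
      exact ⟨rfl, Subtype.ext hY⟩
    · rintro ⟨g, hg⟩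
      obtain ⟨P, Y, hP, hY, rfl⟩ := exists_lev_sieg hg
      exact ⟨(⟨P, hP⟩, ⟨Y, hY⟩), rfl⟩
  rw [← Nat.card_congr (Equiv.ofBijective _ hbij), Nat.card_prod, card_UT,
    Cfsg.Agent.S0774.card_Sy hF, hF, ← pow_add]
  congr 1
  have h2 : 2 ∣ m * (m - 1) := (Nat.even_mul_pred_self m).two_dvd
  obtain ⟨k, hk⟩ := h2
  rw [hk, Nat.mul_div_cancel_left k (by norm_num : 0 < 2)]
  rcases m with _ | m'
  · simp at hk ⊢
    omega
  · have : (m' + 1) ^ 2 = (m' + 1) * (m' + 1 - 1) + (m' + 1) := by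
      simp only [Nat.add_sub_cancel]
      ring
    rw [this, hk]
    ring

/-- `U0` is a Sylow `p`-subgroup of `Sp_{2m}(F)` -/
theorem exists_sylow_U0 [Fintype F] (p : ℕ) [Fact p.Prime] [CharP F p] :
    ∃ S : Sylow p Sp, (S : Subgroup Sp) = U0 m F := by
  obtain ⟨f, -, hF⟩ := FiniteField.card F p
  have hcard : Nat.card (U0 m F) = p ^ ((f : ℕ) * m ^ 2) := by
    rw [card_U0 hF, ← pow_mul]
  have hP : IsPGroup p (U0 m F) := IsPGroup.of_card hcard
  have hidx : ¬ p ∣ (U0 m F).index := by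
    have h1 := (U0 m F).card_mul_index
    rw [Cfsg.Agent.Lead.card_symplecticGroup m, Nat.card_eq_fintype_card (α := F), card_U0 hF,
      hF] at h1
    have hq : 0 < (p ^ (f : ℕ)) ^ (m ^ 2) := pow_pos (pow_pos (Fact.out : p.Prime).pos _) _
    have h2 : (U0 m F).index = ∏ i ∈ Finset.range m, ((p ^ (f : ℕ)) ^ (2 * (i + 1)) - 1) :=
      Nat.eq_of_mul_eq_mul_left hq h1
    rw [h2]
    intro hdvd
    obtain ⟨i, -, hi⟩ := (Prime.dvd_finsetProd_iff (Nat.Prime.prime (Fact.out : p.Prime)) _).1 hdvd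
    have h3 : p ∣ (p ^ (f : ℕ)) ^ (2 * (i + 1)) := by
      apply dvd_pow _ (by omega)
      exact dvd_pow_self p (PNat.ne_zero f)
    have h4 : 1 ≤ (p ^ (f : ℕ)) ^ (2 * (i + 1)) := Nat.one_le_pow _ _ (pow_pos (Fact.out : p.Prime).pos _)
    have h5 : p ∣ 1 := by
      have := Nat.dvd_sub h3 hi
      rwa [Nat.sub_sub_self h4] at this
    exact (Fact.out : p.Prime).one_lt.ne' (Nat.dvd_one.1 h5)
  exact ⟨hP.toSylow hidx, IsPGroup.toSylow_coe hP hidx⟩

end Cfsg.Agent.Helper84.PspA
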