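import Mathlib
import Cfsg.Agent.Lib.Helper84.PspA
import Cfsg.Agent.Lib.Helper84.SpRoot
import Cfsg.Agent.Lib.Helper5.SpAut5
import Cfsg.Agent.Lib.Helper84.PslGrp

/-!
# Vector-level description of the unitriangular Sylow subgroup of `Sp_{2m}(F)`

Actions of the Levi and Siegel elements on vectors, bridging identities with symplectic
transvections and Eichler elements, the pointwise stabilizer `fixW` of the standard Lagrangian.
-/

set_option autoImplicit false
set_option linter.unusedSectionVars false
set_option linter.unusedSimpArgs false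
set_option linter.unusedVariables false

namespace Cfsg.Agent.Helper84.PspB

open Matrix Cfsg Cfsg.Agent.Helper13 Cfsg.Agent.Helper13.AutPSLTv Cfsg.Agent.Helper13.AutPSLSylow
open Cfsg.Agent.Helper84.PslMat1 Cfsg.Agent.Helper84.PslMat2 Cfsg.Agent.Helper84.PslMat3
open Cfsg.Agent.Helper84.PspA Cfsg.Agent.Helper84.SpRoot Cfsg.Agent.Helper5.SpAut

variable {m : ℕ} {F : Type*} [Field F]

local notation "Sp" => Matrix.symplecticGroup (Fin m) F
local notation "SLm" => Matrix.SpecialLinearGroup (Fin m) F
local notation "Mm" => Matrix (Fin m) (Fin m) F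
local notation "V2" => Fin m ⊕ Fin m → F

/-- the basis vectors `e_i` -/
abbrev be (i : Fin m) : V2 := Pi.single (Sum.inl i) (1 : F)

/-- the basis vectors `f_i` -/
abbrev bf (i : Fin m) : V2 := Pi.single (Sum.inr i) (1 : F)

theorem form_be (x : V2) (i : Fin m) : Cfsg.sympForm m F x (be i) = x (Sum.inr i) :=
  sympForm_single_inl' x i

theorem form_bf (x : V2) (i : Fin m) : Cfsg.sympForm m F x (bf i) = - x (Sum.inl i) :=
  sympForm_single_inr' x i

theorem be_form (x : V2) (i : Fin m) : Cfsg.sympForm m F (be i) x = - x (Sum.inr i) := by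
  rw [sympForm_swap, form_be]

theorem bf_form (x : V2) (i : Fin m) : Cfsg.sympForm m F (bf i) x = x (Sum.inl i) := by
  rw [sympForm_swap, form_bf, neg_neg]

theorem be_ne_zero (i : Fin m) : (be i : V2) ≠ 0 := by
  intro h
  have := congrFun h (Sum.inl i)
  simp at this

theorem bf_ne_zero (i : Fin m) : (bf i : V2) ≠ 0 := by
  intro h
  have := congrFun h (Sum.inr i)
  simp at this

/-! ### actions on vectors -/

theorem lev_act (P : SLm) (x : V2) :
    (lev P : Sp).val *ᵥ x =
      Sum.elim ((P : Mm) *ᵥ (x ∘ Sum.inl)) (((P⁻¹ : SLm) : Mm)ᵀ *ᵥ (x ∘ Sum.inr)) := by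
  rw [lev_val, levM, Matrix.fromBlocks_mulVec]
  simp

theorem sieg_act {Y : Mm} (hY : Yᵀ = Y) (x : V2) :
    (sieg Y : Sp).val *ᵥ x = Sum.elim (x ∘ Sum.inl + Y *ᵥ (x ∘ Sum.inr)) (x ∘ Sum.inr) := by
  rw [sieg_val hY, siegM, Matrix.fromBlocks_mulVec]
  simp

/-- the column of a matrix as the image of a basis vector -/
theorem col_eq (g : Sp) (a : Fin m ⊕ Fin m) (j : Fin m) :
    g.val a (Sum.inl j) = (g.val *ᵥ (be j : V2)) a := by
  rw [Matrix.mulVec_single_one]
  rfl

/-! ### bridging identities -/

theorem sieg_single_diag (i : Fin m) (c : F) :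
    (sieg (Matrix.single i i c : Mm) : Sp) = sympT (be i) c := by
  apply sp_ext
  intro x
  rw [sieg_act (Matrix.transpose_single i i c), sympT_act, form_be]
  funext a
  rcases a with a | a
  · simp only [Sum.elim_inl, Pi.add_apply, Function.comp_apply, Pi.smul_apply, smul_eq_mul]
    rw [Matrix.single_mulVec_eq]
    simp [Pi.single_apply]
  · simp [Pi.single_apply]

theorem sieg_single_off (j k : Fin m) (c : F) :
    (sieg (Matrix.single j k c + Matrix.single k j c : Mm) : Sp) =
      eich (be j) (c • (be k : V2)) 0 := by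
  have hsym : (Matrix.single j k c + Matrix.single k j c : Mm)ᵀ =
      Matrix.single j k c + Matrix.single k j c := by
    rw [Matrix.transpose_add, Matrix.transpose_single, Matrix.transpose_single, add_comm]
  have h0 : Cfsg.sympForm m F (c • (be k : V2)) (be j) = 0 := by
    rw [form_be]
    simp
  apply sp_ext
  intro x
  rw [sieg_act hsym, eich_act h0, form_be, sympForm_smul_right, form_be]
  funext a
  rcases a with a | a
  · simp only [Sum.elim_inl, Pi.add_apply, Function.comp_apply, Pi.smul_apply, smul_eq_mul]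
    rw [Matrix.add_mulVec, Matrix.single_mulVec_eq, Matrix.single_mulVec_eq]
    simp [Pi.single_apply]
    split_ifs <;> ring
  · simp [Pi.single_apply]

theorem lev_tv {j k : Fin m} (hjk : j ≠ k) (c : F) :
    (lev (tv (ee j) (ee k) c) : Sp) = eich (be j) ((-c) • (bf k : V2)) 0 := by
  have hfl : (ee k : Fin m → F) ⬝ᵥ (ee j : Fin m → F) = 0 := ee_flag hjk
  have h0 : Cfsg.sympForm m F ((-c) • (bf k : V2)) (be j) = 0 := by
    rw [form_be]
    simp [Pi.single_apply, hjk]
  apply sp_ext
  intro x
  rw [lev_act, eich_act h0, form_be, sympForm_smul_right, form_bf, tv_inv hfl, tv_coe hfl,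
    tv_coe hfl, tvm_transpose]
  funext a
  rcases a with a | a
  · simp only [Sum.elim_inl, Pi.add_apply, Pi.smul_apply, smul_eq_mul]
    rw [tvm_ee_mulVec]
    simp [Pi.single_apply]
  · simp only [Sum.elim_inr, Pi.add_apply, Pi.smul_apply, smul_eq_mul]
    rw [tvm_ee_mulVec]
    simp [Pi.single_apply]
    split_ifs <;> ring

/-- an Eichler element with zero parameter is a product of three transvections -/
theorem eich_eq_sympT_prod {v u : V2} (h : Cfsg.sympForm m F u v = 0) :
    eich v u 0 = sympT (v + u) 1 * sympT v (-1) * sympT u (-1) := by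
  have h' : Cfsg.sympForm m F v u = 0 := orth_symm h
  apply sp_ext
  intro x
  rw [eich_act h, mul_act, mul_act, sympT_act, sympT_act, sympT_act]
  simp only [sympForm_add_left, sympForm_add_right, sympForm_smul_left, sympForm_self, h, h']
  module

/-! ### the standard Lagrangian and its pointwise stabilizer -/

/-- membership in the standard Lagrangian `W = ⟨e_i⟩` -/
def InW (w : V2) : Prop := ∀ i : Fin m, w (Sum.inr i) = 0

theorem inW_be (j : Fin m) : InW (be j : V2) := by
  intro i
  simp

theorem inW_add {w w' : V2} (hw : InW w) (hw' : InW w') : InW (w + w') := by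
  intro i
  rw [Pi.add_apply, hw i, hw' i, add_zero]

theorem inW_smul (a : F) {w : V2} (hw : InW w) : InW (a • w) := by
  intro i
  rw [Pi.smul_apply, hw i, smul_zero]

theorem inW_decomp {w : V2} (hw : InW w) : w = ∑ j : Fin m, w (Sum.inl j) • (be j : V2) := by
  funext a
  rw [Finset.sum_apply]
  rcases a with a | a
  · rw [Finset.sum_eq_single a]
    · simp
    · intro b _ hb
      simp [Pi.single_apply, hb.symm]
    · intro h
      exact absurd (Finset.mem_univ a) h
  · rw [hw a]
    symm
    apply Finset.sum_eq_zero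
    intro b _
    simp

theorem form_inW {w w' : V2} (hw : InW w) (hw' : InW w') : Cfsg.sympForm m F w w' = 0 := by
  rw [inW_decomp hw']
  have : ∀ s : Finset (Fin m), Cfsg.sympForm m F w (∑ j ∈ s, w' (Sum.inl j) • (be j : V2)) = 0 := by
    intro s
    induction s using Finset.induction_on with
    | empty => rw [Finset.sum_empty, sympForm_zero_right]
    | insert a s ha ih =>
      rw [Finset.sum_insert ha, sympForm_add_right, ih, sympForm_smul_right, form_be, hw a,
        mul_zero, add_zero]
  exact this _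

variable (m F) in
/-- the pointwise stabilizer of the standard Lagrangian (the Siegel unipotent radical) -/
def fixW : Subgroup (Matrix.symplecticGroup (Fin m) F) where
  carrier := {g | ∀ j : Fin m, g.val *ᵥ (be j : Fin m ⊕ Fin m → F) = be j}
  one_mem' := fun j => one_act _
  mul_mem' := by
    intro a b ha hb j
    rw [mul_act, hb j, ha j]
  inv_mem' := by
    intro a ha j
    have h1 := inv_mulVec_mulVec a (be j : Fin m ⊕ Fin m → F)
    rw [ha j] at h1
    exact h1

theorem mem_fixW {g : Sp} : g ∈ fixW m F ↔ ∀ j : Fin m, g.val *ᵥ (be j : V2) = be j := Iff.rfl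

theorem fixW_act {g : Sp} (hg : g ∈ fixW m F) {w : V2} (hw : InW w) : g.val *ᵥ w = w := by
  conv_lhs => rw [inW_decomp hw]
  conv_rhs => rw [inW_decomp hw]
  rw [Matrix.mulVec_sum]
  apply Finset.sum_congr rfl
  intro j _
  rw [Matrix.mulVec_smul, hg j]

theorem fixW_le_U0 [Finite F] : fixW m F ≤ U0 m F := by
  intro g hg
  rw [mem_U0]
  constructor
  · ext i j
    show g.val (Sum.inr i) (Sum.inl j) = 0
    rw [col_eq, hg j]
    simp
  · intro i j hji
    show g.val (Sum.inl i) (Sum.inl j) = _
    rw [col_eq, hg j]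
    simp [Pi.single_apply]

theorem sympT_mem_fixW {w : V2} (hw : InW w) (c : F) : sympT w c ∈ fixW m F := by
  intro j
  rw [sympT_act, form_inW (inW_be j) hw, mul_zero, zero_smul, add_zero]

theorem sympT_mem_U0 [Finite F] {w : V2} (hw : InW w) (c : F) : sympT w c ∈ U0 m F :=
  fixW_le_U0 (sympT_mem_fixW hw c)

/-- a symplectic matrix preserving `W` in both directions normalizes `fixW` -/
theorem mem_normalizer_fixW {g : Sp} (h1 : ∀ w : V2, InW w → InW (g.val *ᵥ w))
    (h2 : ∀ w : V2, InW w → InW ((g⁻¹).val *ᵥ w)) :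
    g ∈ Subgroup.normalizer ((fixW m F : Subgroup Sp) : Set Sp) := by
  apply Cfsg.Agent.Helper84.PslGrp.mem_normalizer_of_conj_mem
  · intro r hr j
    rw [mul_act, mul_act, fixW_act hr (h2 _ (inW_be j)), mulVec_inv_mulVec]
  · intro r hr j
    rw [mul_act, mul_act, fixW_act hr (h1 _ (inW_be j)), inv_mulVec_mulVec]

theorem U0_inW [Finite F] {g : Sp} (hg : g ∈ U0 m F) {w : V2} (hw : InW w) :
    InW (g.val *ᵥ w) := by
  intro i
  rw [Cfsg.Agent.S0774.mulVec_inr]
  have hC : ∀ j, g.val (Sum.inr i) (Sum.inl j) = 0 := by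
    intro j
    have := congrFun (congrFun (mem_U0.1 hg).1 i) j
    exact this
  simp [hC, hw _]

theorem U0_le_normalizer_fixW [Finite F] :
    U0 m F ≤ Subgroup.normalizer ((fixW m F : Subgroup Sp) : Set Sp) := by
  intro g hg
  exact mem_normalizer_fixW (fun w hw => U0_inW hg hw)
    (fun w hw => U0_inW ((U0 m F).inv_mem hg) hw)

theorem lev_inW (P : SLm) {w : V2} (hw : InW w) : InW ((lev P : Sp).val *ᵥ w) := by
  intro i
  rw [lev_act]
  have : w ∘ Sum.inr = 0 := by
    funext a
    exact hw a
  simp [this]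

theorem lev_mem_normalizer_fixW (P : SLm) :
    (lev P : Sp) ∈ Subgroup.normalizer ((fixW m F : Subgroup Sp) : Set Sp) := by
  apply mem_normalizer_fixW (fun w hw => lev_inW P hw)
  intro w hw
  rw [← map_inv]
  exact lev_inW _ hw

theorem U0_le_stab [Finite F] (hm : 0 < m) : U0 m F ≤ stab (be ⟨0, hm⟩ : V2) := by
  intro g hg
  rw [mem_stab]
  funext a
  rw [← col_eq]
  rcases a with a | a
  · have := (mem_U0.1 hg).2 a ⟨0, hm⟩ (Fin.mk_le_of_le_val (Nat.zero_le _))
    simp only [Pi.single_apply, Sum.inl.injEq]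
    exact this
  · have := congrFun (congrFun (mem_U0.1 hg).1 a) ⟨0, hm⟩
    simp only [Pi.single_apply]
    rw [if_neg (by simp)]
    exact this

end Cfsg.Agent.Helper84.PspB
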