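import Mathlib
import Cfsg.Agent.Lib.Helper84.PspB

/-!
# The normalizer of the unitriangular Sylow subgroup of `Sp_{2m}(F)` is upper triangular
-/

set_option autoImplicit false
set_option linter.unusedSectionVars false
set_option linter.unusedSimpArgs false
set_option linter.unusedVariables false

namespace Cfsg.Agent.Helper84.PspC

open Matrix Cfsg Cfsg.Agent.Helper13 Cfsg.Agent.Helper13.AutPSLTv Cfsg.Agent.Helper13.AutPSLSylow
open Cfsg.Agent.Helper84.PslMat1 Cfsg.Agent.Helper84.PslMat2 Cfsg.Agent.Helper84.PslMat3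
open Cfsg.Agent.Helper84.PspA Cfsg.Agent.Helper84.SpRoot Cfsg.Agent.Helper5.SpAut
open Cfsg.Agent.Helper84.PspB

variable {m : ℕ} {F : Type*} [Field F]

local notation "Sp" => Matrix.symplecticGroup (Fin m) F
local notation "SLm" => Matrix.SpecialLinearGroup (Fin m) F
local notation "Mm" => Matrix (Fin m) (Fin m) F
local notation "M2" => Matrix (Fin m ⊕ Fin m) (Fin m ⊕ Fin m) F
local notation "V2" => Fin m ⊕ Fin m → F

/-- a central element of `p`-power order is trivial -/
theorem central_pow_eq_one (hm : 0 < m) {p : ℕ} [hp : Fact p.Prime] [CharP F p] {ζ : Sp}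
    (hζ : ζ ∈ Subgroup.center Sp) (k : ℕ) (h : ζ ^ (p ^ k) = 1) : ζ = 1 := by
  have : Nonempty (Fin m) := ⟨⟨0, hm⟩⟩
  rcases Cfsg.Agent.Helper5.center_sp_subset ζ hζ with h1 | h1
  · exact h1
  · by_cases hp2 : p = 2
    · subst hp2
      rw [h1, Cfsg.Agent.Helper5.spNegOne_eq_one_iff]
      exact CharTwo.neg_eq (1 : F)
    · have hsq : ζ ^ 2 = 1 := by
        rw [h1, pow_two]
        apply Subtype.ext
        show (-1 : M2) * (-1) = 1
        simp
      have hd2 : orderOf ζ ∣ 2 := orderOf_dvd_of_pow_eq_one hsq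
      have hdp : orderOf ζ ∣ p ^ k := orderOf_dvd_of_pow_eq_one h
      have hcop : Nat.Coprime 2 (p ^ k) :=
        Nat.Coprime.pow_right k ((Nat.coprime_primes Nat.prime_two hp.out).2 (Ne.symm hp2))
      have h1' : orderOf ζ = 1 :=
        Nat.Coprime.eq_one_of_dvd (Nat.Coprime.coprime_dvd_left hd2 hcop) hdp
      exact orderOf_eq_one_iff.1 h1'

/-- a `p`-element of `Sp` whose image lies in the image of `U0` lies in `U0` -/
theorem mem_U0_of_mk_mem [Fintype F] (hm : 0 < m) {p : ℕ} [Fact p.Prime] [CharP F p] {y : Sp}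
    {k : ℕ} (hy : y ^ (p ^ k) = 1)
    (hmem : QuotientGroup.mk' (Subgroup.center Sp) y ∈
      (U0 m F).map (QuotientGroup.mk' (Subgroup.center Sp))) : y ∈ U0 m F := by
  obtain ⟨u', hu', e⟩ := hmem
  obtain ⟨P, hP⟩ := exists_sylow_U0 (m := m) (F := F) p
  obtain ⟨j, hj⟩ := P.isPGroup' ⟨u', by rw [hP]; exact hu'⟩
  have hj' : u' ^ (p ^ j) = 1 := by
    have := congrArg Subtype.val hj
    simpa using this
  have e' : (QuotientGroup.mk u' : Sp ⧸ Subgroup.center Sp) = QuotientGroup.mk y := e
  have hζ : u'⁻¹ * y ∈ Subgroup.center Sp := QuotientGroup.eq.1 e'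
  have hyζ : y = u' * (u'⁻¹ * y) := by group
  have hcomm : Commute u' (u'⁻¹ * y) := Subgroup.mem_center_iff.1 hζ u'
  have h1 : (u'⁻¹ * y) ^ (p ^ (k + j)) = 1 := by
    have h2 : y ^ (p ^ (k + j)) = 1 := by rw [pow_add, pow_mul, hy, one_pow]
    have h3 : u' ^ (p ^ (k + j)) = 1 := by rw [pow_add, mul_comm, pow_mul, hj', one_pow]
    have h4 := hcomm.mul_pow (p ^ (k + j))
    rw [← hyζ, h2, h3, one_mul] at h4
    exact h4.symm
  have h5 := central_pow_eq_one hm hζ (k + j) h1
  rw [h5, mul_one] at hyζ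
  rw [hyζ]
  exact hu'

/-- a matrix conjugating suitable unipotent elements into `ρ`-unitriangular matrices is
`ρ`-upper triangular -/
theorem upper_of_conj_gen {ι : Type*} [Fintype ι] [DecidableEq ι] (ρ : ι → ℕ) (g : Matrix ι ι F)
    (h : ∀ a i : ι, ρ a < ρ i → ∃ u u' : Matrix ι ι F,
      (∀ x y, ρ y ≤ ρ x → u' x y = if x = y then 1 else 0) ∧
      (∀ x, u x i = (if x = i then 1 else 0) + (if x = a then 1 else 0)) ∧ g * u = u' * g) :
    ∀ i j : ι, ρ j < ρ i → g i j = 0 := by
  obtain ⟨B, hB⟩ : ∃ B : ℕ, ∀ i, ρ i ≤ B :=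
    ⟨Finset.univ.sup ρ, fun i => Finset.le_sup (Finset.mem_univ i)⟩
  have key : ∀ d : ℕ, ∀ i : ι, B - ρ i = d → ∀ j : ι, ρ j < ρ i → g i j = 0 := by
    intro d
    induction d using Nat.strong_induction_on with
    | _ d ih =>
      intro i hi a ha
      obtain ⟨u, u', hu', hu, e⟩ := h a i ha
      have e1 := congrFun (congrFun e i) i
      have e2 : (g * u) i i = g i i + g i a := by
        rw [Matrix.mul_apply]
        simp only [hu, mul_add, Finset.sum_add_distrib, mul_ite, mul_one, mul_zero,
          Finset.sum_ite_eq', Finset.mem_univ, if_true]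
      have e3 : (u' * g) i i = g i i := by
        rw [Matrix.mul_apply, Finset.sum_eq_single i]
        · rw [hu' i i le_rfl, if_pos rfl, one_mul]
        · intro k _ hki
          by_cases hk : ρ k ≤ ρ i
          · rw [hu' i k hk, if_neg (Ne.symm hki), zero_mul]
          · push Not at hk
            have hk' : B - ρ k < d := by
              have := hB k
              omega
            rw [ih (B - ρ k) hk' k rfl i hk, mul_zero]
        · intro h'
          exact absurd (Finset.mem_univ i) h'
      rw [e2, e3] at e1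
      exact add_eq_left.1 e1
  intro i j hji
  exact key _ i rfl j hji

variable (m) in
/-- the rank function ordering the basis `e_0 < ... < e_{m-1} < f_{m-1} < ... < f_0` -/
def rk : Fin m ⊕ Fin m → ℕ :=
  Sum.elim (fun i : Fin m => (i : ℕ)) (fun i : Fin m => 2 * m - 1 - (i : ℕ))

theorem rk_inl (i : Fin m) : rk m (Sum.inl i) = (i : ℕ) := rfl

theorem rk_inr (i : Fin m) : rk m (Sum.inr i) = 2 * m - 1 - (i : ℕ) := rfl

/-- elements of `U0` are unitriangular for the rank order -/
theorem U0_rk_unitri [Finite F] {u : Sp} (hu : u ∈ U0 m F) :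
    ∀ x y, rk m y ≤ rk m x → u.val x y = if x = y then 1 else 0 := by
  obtain ⟨A, B, D, e, hA, hD⟩ := U0_blocks hu
  rw [e]
  rintro (i | i) (j | j) h
  · rw [rk_inl, rk_inl] at h
    rw [Matrix.fromBlocks_apply₁₁, hA i j (Fin.le_def.2 h)]
    simp
  · rw [rk_inl, rk_inr] at h
    have := i.2
    have := j.2
    omega
  · rw [Matrix.fromBlocks_apply₂₁]
    simp
  · rw [rk_inr, rk_inr] at h
    have hi := i.2
    have hj := j.2
    have hij : i ≤ j := Fin.le_def.2 (by omega)
    rw [Matrix.fromBlocks_apply₂₂]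
    have := hD j i hij
    rw [Matrix.transpose_apply] at this
    rw [this]
    simp [eq_comm]

/-- the witnesses for the triangularity criterion -/
theorem exists_witness [Finite F] (a i : Fin m ⊕ Fin m) (h : rk m a < rk m i) :
    ∃ w : Sp, w ∈ U0 m F ∧
      ∀ x, w.val x i = (if x = i then 1 else 0) + (if x = a then 1 else 0) := by
  rcases i with k | k
  · rcases a with j | j
    · -- both left
      rw [rk_inl, rk_inl] at h
      have hjk : j < k := Fin.lt_def.2 h
      have hfl : (ee k : Fin m → F) ⬝ᵥ (ee j : Fin m → F) = 0 := ee_flag hjk.ne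
      refine ⟨lev (tv (ee j) (ee k) 1), lev_mem_U0 (tv_single_mem_UT hjk 1), ?_⟩
      intro x
      rw [lev_val, levM, tv_coe hfl]
      rcases x with r | r
      · rw [Matrix.fromBlocks_apply₁₁, tvm_single_apply]
        simp
      · rw [Matrix.fromBlocks_apply₂₁]
        simp
    · rw [rk_inl, rk_inr] at h
      have := k.2
      have := j.2
      omega
  · rcases a with j | j
    · -- mixed: a Siegel element
      have hsym : (Matrix.of fun r s : Fin m =>
          if (r = j ∧ s = k) ∨ (r = k ∧ s = j) then (1 : F) else 0)ᵀ =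
          Matrix.of fun r s : Fin m => if (r = j ∧ s = k) ∨ (r = k ∧ s = j) then (1 : F) else 0 := by
        ext r s
        simp only [Matrix.transpose_apply, Matrix.of_apply]
        congr 1
        apply propext
        constructor
        · rintro (⟨h1, h2⟩ | ⟨h1, h2⟩)
          · exact Or.inr ⟨h2, h1⟩
          · exact Or.inl ⟨h2, h1⟩
        · rintro (⟨h1, h2⟩ | ⟨h1, h2⟩)
          · exact Or.inr ⟨h2, h1⟩
          · exact Or.inl ⟨h2, h1⟩
      refine ⟨sieg (Matrix.of fun r s : Fin m =>
          if (r = j ∧ s = k) ∨ (r = k ∧ s = j) then (1 : F) else 0), sieg_mem_U0 _, ?_⟩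
      intro x
      rw [sieg_val hsym, siegM]
      rcases x with r | r
      · rw [Matrix.fromBlocks_apply₁₂, Matrix.of_apply]
        by_cases hrj : r = j
        · simp [hrj]
        · have : ¬ ((r = j ∧ k = k) ∨ (r = k ∧ k = j)) := by
            rintro (⟨h1, -⟩ | ⟨h1, h2⟩)
            · exact hrj h1
            · exact hrj (h1.trans h2)
          rw [if_neg this]
          simp [hrj]
      · rw [Matrix.fromBlocks_apply₂₂, Matrix.one_apply]
        simp
    · -- both right
      rw [rk_inr, rk_inr] at h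
      have hk := k.2
      have hj := j.2
      have hkj : k < j := Fin.lt_def.2 (by omega)
      have hfl : (ee j : Fin m → F) ⬝ᵥ (ee k : Fin m → F) = 0 := ee_flag hkj.ne
      refine ⟨lev (tv (ee k) (ee j) (-1)), lev_mem_U0 (tv_single_mem_UT hkj (-1)), ?_⟩
      intro x
      rw [lev_val, levM, tv_inv hfl, neg_neg, tv_coe hfl, tv_coe hfl]
      rcases x with r | r
      · rw [Matrix.fromBlocks_apply₁₂]
        simp
      · rw [Matrix.fromBlocks_apply₂₂, Matrix.transpose_apply, tvm_single_apply]
        simp [eq_comm]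

/-- an element normalizing `U0` is upper triangular for the rank order -/
theorem upper_of_normalizes [Finite F] (g : Sp) (hg : ∀ u ∈ U0 m F, g * u * g⁻¹ ∈ U0 m F) :
    ∀ i j, rk m j < rk m i → g.val i j = 0 := by
  apply upper_of_conj_gen (rk m)
  intro a i hai
  obtain ⟨w, hw, hcol⟩ := exists_witness (F := F) a i hai
  refine ⟨w.val, (g * w * g⁻¹).val, U0_rk_unitri (hg w hw), hcol, ?_⟩
  rw [← Submonoid.coe_mul, ← Submonoid.coe_mul]
  congr 1
  group

end Cfsg.Agent.Helper84.PspC
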