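import Mathlib
import Cfsg.Agent.Lib.Helper84.PspC

/-!
# The diagonal torus of `Sp_{2m}(F)` and the Borel decomposition of the normalizer of `U0`
-/

set_option autoImplicit false
set_option linter.unusedSectionVars false
set_option linter.unusedSimpArgs false
set_option linter.unusedVariables false

namespace Cfsg.Agent.Helper84.PspD

open Matrix Cfsg Cfsg.Agent.Helper13 Cfsg.Agent.Helper13.AutPSLTv Cfsg.Agent.Helper13.AutPSLSylow
open Cfsg.Agent.Helper84.PslMat1 Cfsg.Agent.Helper84.PslMat2 Cfsg.Agent.Helper84.PslMat3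
open Cfsg.Agent.Helper84.PspA Cfsg.Agent.Helper84.SpRoot Cfsg.Agent.Helper5.SpAut
open Cfsg.Agent.Helper84.PspB Cfsg.Agent.Helper84.PspC Cfsg.Agent.Helper83

variable {m : ℕ} {F : Type*} [Field F]

local notation "Sp" => Matrix.symplecticGroup (Fin m) F
local notation "SLm" => Matrix.SpecialLinearGroup (Fin m) F
local notation "Mm" => Matrix (Fin m) (Fin m) F
local notation "M2" => Matrix (Fin m ⊕ Fin m) (Fin m ⊕ Fin m) F
local notation "V2" => Fin m ⊕ Fin m → F

/-! ### the torus -/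

/-- the diagonal matrix `diag(t, t⁻¹)` -/
def dspM (t : Fin m → Fˣ) : M2 :=
  fromBlocks (Matrix.diagonal fun i => ((t i : Fˣ) : F)) 0 0
    (Matrix.diagonal fun i => (((t i)⁻¹ : Fˣ) : F))

theorem dspM_mem (t : Fin m → Fˣ) : dspM t ∈ Matrix.symplecticGroup (Fin m) F := by
  rw [dspM, SymplecticGroup.fromBlocks_mem_iff]
  refine ⟨by simp, by simp, ?_⟩
  rw [Matrix.transpose_zero, Matrix.zero_mul, sub_zero, Matrix.diagonal_transpose,
    Matrix.diagonal_mul_diagonal, ← Matrix.diagonal_one]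
  congr 1
  funext i
  simp

theorem dspM_mul (s t : Fin m → Fˣ) : dspM (s * t) = dspM s * dspM t := by
  have hA : (Matrix.diagonal fun i => (((s * t) i : Fˣ) : F)) =
      Matrix.diagonal (fun i => ((s i : Fˣ) : F) * ((t i : Fˣ) : F)) := rfl
  have hD : (Matrix.diagonal fun i => ((((s * t) i)⁻¹ : Fˣ) : F)) =
      Matrix.diagonal (fun i => (((s i)⁻¹ : Fˣ) : F) * (((t i)⁻¹ : Fˣ) : F)) := by
    congr 1
    funext i
    simp [mul_comm]
  unfold dspM
  rw [Matrix.fromBlocks_multiply, hA, hD]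
  simp only [Matrix.zero_mul, Matrix.mul_zero, add_zero, zero_add, Matrix.diagonal_mul_diagonal]

theorem dspM_one : dspM (1 : Fin m → Fˣ) = 1 := by
  unfold dspM
  simp [Matrix.fromBlocks_one]

/-- the torus of `Sp_{2m}` -/
def dsp : (Fin m → Fˣ) →* Sp where
  toFun t := ⟨dspM t, dspM_mem t⟩
  map_one' := Subtype.ext dspM_one
  map_mul' s t := Subtype.ext (dspM_mul s t)

theorem dsp_val (t : Fin m → Fˣ) : (dsp t : Sp).val = dspM t := rfl

theorem dsp_act (t : Fin m → Fˣ) (x : V2) :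
    (dsp t : Sp).val *ᵥ x =
      Sum.elim (fun i => ((t i : Fˣ) : F) * x (Sum.inl i))
        (fun i => (((t i)⁻¹ : Fˣ) : F) * x (Sum.inr i)) := by
  rw [dsp_val, dspM, Matrix.fromBlocks_mulVec]
  funext a
  rcases a with a | a
  · simp [Matrix.mulVec_diagonal]
  · simp [Matrix.mulVec_diagonal]

theorem dsp_inW (t : Fin m → Fˣ) {w : V2} (hw : InW w) : InW ((dsp t : Sp).val *ᵥ w) := by
  intro i
  rw [dsp_act]
  simp [hw i]

/-- the torus normalizes `U0` -/
theorem dsp_conj_U0 [Finite F] (t : Fin m → Fˣ) {u : Sp} (hu : u ∈ U0 m F) :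
    dsp t * u * (dsp t)⁻¹ ∈ U0 m F := by
  obtain ⟨A, B, D, e, hA, hD⟩ := U0_blocks hu
  rw [← map_inv, mem_U0]
  have hval : (dsp t * u * dsp t⁻¹ : Sp).val = dspM t * u.val * dspM t⁻¹ := rfl
  rw [hval, e]
  unfold dspM
  rw [Matrix.fromBlocks_multiply, Matrix.fromBlocks_multiply]
  simp only [Matrix.zero_mul, Matrix.mul_zero, add_zero, zero_add, Matrix.toBlocks_fromBlocks₂₁,
    Matrix.toBlocks_fromBlocks₁₁]
  refine ⟨trivial, ?_⟩
  intro i j hji
  rw [Matrix.mul_diagonal, Matrix.diagonal_mul, hA i j hji]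
  by_cases hij : i = j
  · subst hij
    simp
  · simp [hij]

theorem dsp_mem_normalizer_U0 [Finite F] (t : Fin m → Fˣ) :
    (dsp t : Sp) ∈ Subgroup.normalizer ((U0 m F : Subgroup Sp) : Set Sp) := by
  apply Cfsg.Agent.Helper84.PslGrp.mem_normalizer_of_conj_mem
  · intro x hx
    exact dsp_conj_U0 t hx
  · intro x hx
    have := dsp_conj_U0 t⁻¹ hx
    rwa [map_inv, inv_inv] at this

/-- the Levi image of a diagonal matrix is a torus element -/
theorem lev_dg (τ : T1 m F) : (lev (dg τ) : Sp) = dsp τ.1 := by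
  apply Subtype.ext
  rw [lev_val, levM, dsp_val, dspM, ← dg_inv, dg_coe, dg_coe, Matrix.diagonal_transpose]
  rfl

/-! ### the Borel decomposition -/

/-- an element normalizing `U0` is the product of a torus element and an element of `U0` -/
theorem normalizer_decomp [Finite F] (g : Sp) (hg : ∀ u ∈ U0 m F, g * u * g⁻¹ ∈ U0 m F) :
    ∃ (t : Fin m → Fˣ) (u : Sp), u ∈ U0 m F ∧ g = dsp t * u := by
  have hup := upper_of_normalizes g hg
  have hC : g.val.toBlocks₂₁ = 0 := by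
    ext i j
    show g.val (Sum.inr i) (Sum.inl j) = 0
    apply hup
    rw [rk_inl, rk_inr]
    have := i.2
    have := j.2
    omega
  have hAup : ∀ i j : Fin m, j < i → g.val.toBlocks₁₁ i j = 0 := by
    intro i j hji
    show g.val (Sum.inl i) (Sum.inl j) = 0
    apply hup
    rw [rk_inl, rk_inl]
    exact Fin.lt_def.1 hji
  have hgb : g.val = fromBlocks g.val.toBlocks₁₁ g.val.toBlocks₁₂ 0 g.val.toBlocks₂₂ := by
    conv_lhs => rw [← Matrix.fromBlocks_toBlocks g.val, hC]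
  have hdet : g.val.toBlocks₁₁.det ≠ 0 := by
    have h1 : g.val.det ≠ 0 := (SymplecticGroup.symplectic_det g.2).ne_zero
    rw [hgb, Matrix.det_fromBlocks_zero₂₁] at h1
    exact left_ne_zero_of_mul h1
  have hne : ∀ i, g.val.toBlocks₁₁ i i ≠ 0 := by
    intro i h0
    apply hdet
    rw [Matrix.det_of_isUpperTriangular (M := g.val.toBlocks₁₁) (fun i j hij => hAup i j hij)]
    exact Finset.prod_eq_zero (Finset.mem_univ i) h0
  let t0 : Fin m → Fˣ := fun i => Units.mk0 _ (hne i)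
  refine ⟨t0, (dsp t0)⁻¹ * g, ?_, by group⟩
  rw [← map_inv, mem_U0]
  have hval : (dsp t0⁻¹ * g : Sp).val = dspM t0⁻¹ * g.val := rfl
  rw [hval]
  conv_lhs => rw [hgb]
  conv_rhs => rw [hgb]
  unfold dspM
  rw [Matrix.fromBlocks_multiply]
  simp only [Matrix.zero_mul, Matrix.mul_zero, add_zero, zero_add, Matrix.toBlocks_fromBlocks₂₁,
    Matrix.toBlocks_fromBlocks₁₁]
  refine ⟨trivial, ?_⟩
  intro i j hji
  rw [Matrix.diagonal_mul]
  by_cases hij : i = j
  · subst hij
    rw [if_pos rfl]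
    show (((t0⁻¹ : Fin m → Fˣ) i : Fˣ) : F) * g.val.toBlocks₁₁ i i = 1
    have h1 : ((t0⁻¹ : Fin m → Fˣ) i : Fˣ) = (t0 i)⁻¹ := rfl
    have h2 : g.val.toBlocks₁₁ i i = ((t0 i : Fˣ) : F) := rfl
    rw [h1, h2, Units.inv_mul]
  · rw [if_neg hij, hAup i j (lt_of_le_of_ne hji (Ne.symm hij)), mul_zero]

/-! ### rank one subgroups -/

theorem hpr (i : Fin m) : Cfsg.sympForm m F (bf i : V2) (be i) = 1 := by
  rw [form_be]
  simp

/-- the diagonal matrix of `SL₂` -/
def dSL (s : Fˣ) : Matrix.SpecialLinearGroup (Fin 2) F :=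
  ⟨!![((s : F))⁻¹, 0; 0, (s : F)], by simp [Matrix.det_fin_two]⟩

theorem dSL_eq (s : Fˣ) :
    dSL s = uSL ((s : F)⁻¹ - 1) * lSL 1 * uSL ((s : F) - 1) * lSL (-(s : F)⁻¹) := by
  have hs : (s : F) ≠ 0 := s.ne_zero
  apply sl2_ext <;>
    simp [dSL, Matrix.mul_apply, Fin.sum_univ_two] <;> field_simp <;> ring

theorem dsp_mulSingle_eq_phi (i : Fin m) (s : Fˣ) :
    (dsp (Pi.mulSingle i s) : Sp) = phi (hpr i) (dSL s) := by
  apply sp_ext
  intro x
  rw [dsp_act, phi_act, form_be, form_bf]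
  funext a
  rcases a with a | a
  · by_cases ha : a = i
    · subst ha
      simp [dSL, Pi.single_apply]
      ring
    · simp [dSL, Pi.single_apply, Pi.mulSingle_apply, ha]
  · by_cases ha : a = i
    · subst ha
      simp [dSL, Pi.single_apply]
      ring
    · simp [dSL, Pi.single_apply, Pi.mulSingle_apply, ha]

/-- the rank one torus elements are products of four transvections -/
theorem dsp_mulSingle_prod (i : Fin m) (s : Fˣ) :
    (dsp (Pi.mulSingle i s) : Sp) =
      sympT (bf i) (-((s : F)⁻¹ - 1)) * sympT (be i) 1 * sympT (bf i) (-((s : F) - 1)) *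
        sympT (be i) (-(s : F)⁻¹) := by
  rw [dsp_mulSingle_eq_phi, dSL_eq, map_mul, map_mul, map_mul, phi_uSL, phi_uSL, phi_lSL, phi_lSL]

/-- the Weyl matrix of `SL₂` -/
def wSL : Matrix.SpecialLinearGroup (Fin 2) F :=
  ⟨!![0, 1; -1, 0], by simp [Matrix.det_fin_two]⟩

/-- the Weyl element `e_i ↦ f_i`, `f_i ↦ -e_i` -/
noncomputable def wk (i : Fin m) : Sp := phi (hpr i) wSL

theorem wk_be (i : Fin m) : (wk i : Sp).val *ᵥ (be i : V2) = bf i := by
  rw [wk, phi_act, sympForm_self, form_bf]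
  simp [wSL]

theorem wk_fix (i : Fin m) {x : V2} (h1 : x (Sum.inl i) = 0) (h2 : x (Sum.inr i) = 0) :
    (wk i : Sp).val *ᵥ x = x := by
  rw [wk, phi_act, form_be, form_bf, h1, h2]
  simp

end Cfsg.Agent.Helper84.PspD
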