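import Mathlib
import Cfsg.Agent.Lib.Helper84.PspD
import Cfsg.Agent.Lib.Helper84.PslCrit
import Cfsg.Agent.Lib.Helper84.FusO7
import Cfsg.Agent.Lib.Helper87.FusionAlperin

/-!
# The fusion system of `PSp_{2m}(q)` in the defining characteristic: generation of `N_G(S)`
-/

set_option autoImplicit false
set_option linter.unusedSectionVars false
set_option linter.unusedSimpArgs false
set_option linter.unusedVariables false

namespace Cfsg.Agent.Helper84.PspE

open Matrix Cfsg Cfsg.Agent.Helper13 Cfsg.Agent.Helper13.AutPSLTv Cfsg.Agent.Helper13.AutPSLSylow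
open Cfsg.Agent.Helper84.PslMat1 Cfsg.Agent.Helper84.PslMat2 Cfsg.Agent.Helper84.PslMat3
open Cfsg.Agent.Helper84.PspA Cfsg.Agent.Helper84.SpRoot Cfsg.Agent.Helper5.SpAut
open Cfsg.Agent.Helper84.PspB Cfsg.Agent.Helper84.PspC Cfsg.Agent.Helper84.PspD
open Cfsg.Agent.Helper84.PslGrp

variable {m : ℕ} {F : Type*} [Field F]

local notation "Sp" => Matrix.symplecticGroup (Fin m) F
local notation "SLm" => Matrix.SpecialLinearGroup (Fin m) F
local notation "Mm" => Matrix (Fin m) (Fin m) F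
local notation "M2" => Matrix (Fin m ⊕ Fin m) (Fin m ⊕ Fin m) F
local notation "V2" => Fin m ⊕ Fin m → F
local notation "PSpm" => Cfsg.PSp m F

/-- the projection `Sp → PSp` -/
abbrev pj : Sp →* PSpm := QuotientGroup.mk' (Subgroup.center Sp)

theorem pj_surjective : Function.Surjective (pj : Sp →* PSpm) := QuotientGroup.mk'_surjective _

theorem pj_eq_one_iff {g : Sp} : (pj g : PSpm) = 1 ↔ g ∈ Subgroup.center Sp :=
  QuotientGroup.eq_one_iff g

theorem pj_conj (g x : Sp) : (pj g : PSpm) * pj x * (pj g)⁻¹ = pj (g * x * g⁻¹) := by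
  rw [map_mul, map_mul, map_inv]

theorem pj_eq_one_of_stab (hm : 0 < m) {g : Sp} {v : V2} (hv : v ≠ 0) (hg : g ∈ stab v)
    (h : (pj g : PSpm) = 1) : g = 1 :=
  center_inf_stab hm hv (pj_eq_one_iff.1 h) hg

theorem pj_spNegOne (g : Sp) :
    (pj (Cfsg.Agent.Helper5.spNegOne (Fin m) F * g) : PSpm) = pj g := by
  rw [map_mul, pj_eq_one_iff.2 Cfsg.Agent.Helper5.spNegOne_mem_center, one_mul]

theorem spNegOne_act (g : Sp) (x : V2) :
    (Cfsg.Agent.Helper5.spNegOne (Fin m) F * g).val *ᵥ x = -(g.val *ᵥ x) := by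
  rw [mul_act]
  show (-1 : M2) *ᵥ (g.val *ᵥ x) = _
  rw [Matrix.neg_mulVec, Matrix.one_mulVec]

/-- an element with a fixed or negated vector has a representative fixing the vector -/
theorem exists_fix_rep {g : Sp} {v : V2} (h : g.val *ᵥ v = v ∨ g.val *ᵥ v = -v) :
    ∃ g' : Sp, (pj g' : PSpm) = pj g ∧ g'.val *ᵥ v = v := by
  rcases h with h | h
  · exact ⟨g, rfl, h⟩
  · refine ⟨Cfsg.Agent.Helper5.spNegOne (Fin m) F * g, pj_spNegOne g, ?_⟩
    rw [spNegOne_act, h, neg_neg]

/-- an element commuting modulo the centre with a transvection fixes or negates its vector -/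
theorem fix_or_neg (hm : 0 < m) {g : Sp} {v : V2} (hv : v ≠ 0)
    (h : (pj (sympT v 1) : PSpm) * pj g = pj g * pj (sympT v 1)) :
    g.val *ᵥ v = v ∨ g.val *ᵥ v = -v := by
  have h1 : (pj (sympT (g.val *ᵥ v) 1) : PSpm) = pj (sympT v 1) := by
    rw [← conj_sympT, ← pj_conj, ← h]
    group
  have h2 : (pj (sympT (g.val *ᵥ v) 1) : PSpm) ∈ Tb v := by
    rw [h1]
    exact Subgroup.mem_map_of_mem _ (sympT_mem_T v 1)
  obtain ⟨a, ha⟩ := mem_span_of_mk_mem_Tb hm (act_ne_zero g hv) h2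
  rw [ha, sympT_smul, one_mul] at h1
  have h3 : (sympT v 1)⁻¹ * sympT v (a ^ 2) = sympT v (a ^ 2 - 1) := by
    rw [sympT_inv, sympT_mul]
    congr 1
    ring
  have h4 : (pj (sympT v (a ^ 2 - 1)) : PSpm) = 1 := by
    rw [← h3, map_mul, map_inv, h1, inv_mul_cancel]
  have h5 : sympT v (a ^ 2 - 1) = 1 := by
    apply pj_eq_one_of_stab hm hv _ h4
    exact Q_le_stab v (sympT_mem_Q v _)
  have h6 : a ^ 2 - 1 = 0 := (sympT_eq_one_iff hv).1 h5
  have h7 : (a - 1) * (a + 1) = 0 := by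
    rw [← h6]
    ring
  rcases mul_eq_zero.1 h7 with h8 | h8
  · left
    rw [ha, sub_eq_zero.1 h8, one_smul]
  · right
    rw [ha, eq_neg_of_add_eq_zero_left h8, neg_smul, one_smul]

section main

variable [Fintype F] {p : ℕ} [Fact p.Prime] [CharP F p]

theorem sympT_pow_char (p : ℕ) [CharP F p] (w : V2) (c : F) : (sympT w c : Sp) ^ p = 1 := by
  have h0 : Cfsg.sympForm m F (0 : V2) w = 0 := sympForm_zero_left w
  rw [← eich_zero_eq_sympT, eich_pow h0, smul_zero, nsmul_eq_mul, CharP.cast_eq_zero, zero_mul,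
    eich_one]

theorem pj_pelement {k : Sp} (h : k ^ p = 1) : ∃ n : ℕ, orderOf (pj k : PSpm) = p ^ n := by
  apply exists_orderOf_eq_pow
  rw [← map_pow, h, map_one]

theorem U0_pow (p : ℕ) [Fact p.Prime] [CharP F p] {u : Sp} (hu : u ∈ U0 m F) :
    ∃ k : ℕ, u ^ (p ^ k) = 1 := by
  obtain ⟨P, hP⟩ := exists_sylow_U0 (m := m) (F := F) p
  obtain ⟨j, hj⟩ := P.isPGroup' ⟨u, by rw [hP]; exact hu⟩
  refine ⟨j, ?_⟩
  have := congrArg Subtype.val hj
  simpa using this

theorem Q_le_U0 (p : ℕ) [Fact p.Prime] [CharP F p] (hm : 0 < m) :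
    Q (be ⟨0, hm⟩ : V2) ≤ U0 m F := by
  obtain ⟨P, hP⟩ := exists_sylow_U0 (m := m) (F := F) p
  rw [← hP]
  apply Q_le_sylow (be_ne_zero _) P
  rw [hP]
  exact U0_le_stab hm

/-- the image of `U0` in `PSp` -/
def U0bar (m : ℕ) (F : Type*) [Field F] [Finite F] : Subgroup (Cfsg.PSp m F) :=
  (U0 m F).map (QuotientGroup.mk' (Subgroup.center (Matrix.symplecticGroup (Fin m) F)))

theorem pj_mem_U0bar {u : Sp} (hu : u ∈ U0 m F) : (pj u : PSpm) ∈ U0bar m F :=
  Subgroup.mem_map_of_mem _ hu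

/-- an element of `Sp` whose image normalizes `U0bar` normalizes `U0` -/
theorem conj_mem_U0_of_normalizer (p : ℕ) [Fact p.Prime] [CharP F p] (hm : 0 < m) {g : Sp}
    (hg : (pj g : PSpm) ∈ Subgroup.normalizer ((U0bar m F : Subgroup PSpm) : Set PSpm))
    {u : Sp} (hu : u ∈ U0 m F) : g * u * g⁻¹ ∈ U0 m F := by
  obtain ⟨k, hk⟩ := U0_pow p hu
  apply mem_U0_of_mk_mem (p := p) hm (k := k)
  · rw [conj_pow, hk, mul_one, mul_inv_cancel]
  · have := (Subgroup.mem_normalizer_iff.1 hg (pj u)).1 (pj_mem_U0bar hu)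
    rw [pj_conj] at this
    exact this

theorem pj_dsp_normalizer (t : Fin m → Fˣ) :
    (pj (dsp t) : PSpm) ∈ Subgroup.normalizer ((U0bar m F : Subgroup PSpm) : Set PSpm) :=
  Subgroup.le_normalizer_map pj (Subgroup.mem_map_of_mem pj (dsp_mem_normalizer_U0 t))

/-- the generating set of the simplicity criterion -/
def GenSet (S : Sylow p PSpm) : Set PSpm :=
  {k | k ∈ Subgroup.normalizer ((S : Subgroup PSpm) : Set PSpm) ∧
    ∃ R : Subgroup PSpm, (groupFusionSystem (S : Subgroup PSpm)).IsFullyNormalized R ∧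
      (groupFusionSystem (S : Subgroup PSpm)).IsCentric R ∧
      k ∈ Subgroup.closure {g : PSpm | g ∈ Subgroup.normalizer (R : Set PSpm) ∧
        ∃ n : ℕ, orderOf g = p ^ n}}

/-! ### the first good subgroup: the radical of the stabilizer of `e_0` -/

theorem QA_fn (hm : 0 < m) (S : Sylow p PSpm) (hS : (S : Subgroup PSpm) = U0bar m F) :
    (groupFusionSystem (S : Subgroup PSpm)).IsFullyNormalized
      ((Q (be ⟨0, hm⟩ : V2)).map pj) := by
  apply fullyNormalized_of_normal S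
  · rw [hS]
    exact Subgroup.map_mono (Q_le_U0 p hm)
  · rw [hS]
    refine le_trans (Subgroup.map_mono ?_) (Subgroup.le_normalizer_map pj)
    exact (U0_le_stab hm).trans (stab_le_normalizer_Q _)

theorem QA_cen (hm : 0 < m) (S : Sylow p PSpm) (hS : (S : Subgroup PSpm) = U0bar m F) :
    (groupFusionSystem (S : Subgroup PSpm)).IsCentric ((Q (be ⟨0, hm⟩ : V2)).map pj) := by
  apply centric_of_centralizer_le
  · rw [hS]
    exact Subgroup.map_mono (Q_le_U0 p hm)
  · intro x hx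
    rw [Subgroup.mem_centralizer_iff] at hx
    obtain ⟨g, rfl⟩ := pj_surjective x
    have hv : (be ⟨0, hm⟩ : V2) ≠ 0 := be_ne_zero _
    have h1 := hx (pj (sympT (be ⟨0, hm⟩) 1))
      (Subgroup.mem_map_of_mem pj (sympT_mem_Q _ _))
    obtain ⟨g', hg', hfix⟩ := exists_fix_rep (fix_or_neg hm hv h1)
    rw [← hg']
    apply Subgroup.mem_map_of_mem
    apply mem_Q_of_commute hv hfix
    intro w hw
    have h2 := hx (pj (eich (be ⟨0, hm⟩) w 0)) (Subgroup.mem_map_of_mem pj (eich_mem_Q hw 0))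
    rw [← hg'] at h2
    have hst : eich (be ⟨0, hm⟩ : V2) w 0 ∈ stab (be ⟨0, hm⟩ : V2) :=
      Q_le_stab _ (eich_mem_Q hw 0)
    have h3 : g' * eich (be ⟨0, hm⟩ : V2) w 0 * g'⁻¹ * (eich (be ⟨0, hm⟩ : V2) w 0)⁻¹ = 1 := by
      apply pj_eq_one_of_stab hm hv
      · exact (stab _).mul_mem ((stab _).mul_mem ((stab _).mul_mem hfix hst)
          ((stab _).inv_mem hfix)) ((stab _).inv_mem hst)
      · rw [map_mul, map_mul, map_mul, map_inv, map_inv, ← h2]
        group
    calc g' * eich (be ⟨0, hm⟩ : V2) w 0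
        = (g' * eich (be ⟨0, hm⟩ : V2) w 0 * g'⁻¹ * (eich (be ⟨0, hm⟩ : V2) w 0)⁻¹) *
          (eich (be ⟨0, hm⟩ : V2) w 0 * g') := by group
      _ = eich (be ⟨0, hm⟩ : V2) w 0 * g' := by rw [h3, one_mul]

/-! ### the second good subgroup: the Siegel radical -/

theorem QB_fn (S : Sylow p PSpm) (hS : (S : Subgroup PSpm) = U0bar m F) :
    (groupFusionSystem (S : Subgroup PSpm)).IsFullyNormalized ((fixW m F).map pj) := by
  apply fullyNormalized_of_normal S
  · rw [hS]
    exact Subgroup.map_mono fixW_le_U0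
  · rw [hS]
    exact le_trans (Subgroup.map_mono U0_le_normalizer_fixW) (Subgroup.le_normalizer_map pj)

theorem QB_cen (hm : 0 < m) (S : Sylow p PSpm) (hS : (S : Subgroup PSpm) = U0bar m F) :
    (groupFusionSystem (S : Subgroup PSpm)).IsCentric ((fixW m F).map pj) := by
  apply centric_of_centralizer_le
  · rw [hS]
    exact Subgroup.map_mono fixW_le_U0
  · intro x hx
    rw [Subgroup.mem_centralizer_iff] at hx
    obtain ⟨g, rfl⟩ := pj_surjective x
    have hcomm : ∀ w : V2, InW w →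
        (pj (sympT w 1) : PSpm) * pj g = pj g * pj (sympT w 1) := fun w hw =>
      hx _ (Subgroup.mem_map_of_mem pj (sympT_mem_fixW hw 1))
    have hv : (be ⟨0, hm⟩ : V2) ≠ 0 := be_ne_zero _
    obtain ⟨g', hg', hfix⟩ := exists_fix_rep (fix_or_neg hm hv (hcomm _ (inW_be _)))
    rw [← hg'] at hcomm ⊢
    apply Subgroup.mem_map_of_mem
    intro j
    by_cases hj : j = ⟨0, hm⟩
    · subst hj
      exact hfix
    have hj' : (⟨0, hm⟩ : Fin m) ≠ j := fun e => hj e.symm
    have e1 : (be ⟨0, hm⟩ : V2) (Sum.inl j) = 0 := by simp [Pi.single_apply, hj]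
    have e2 : (be j : V2) (Sum.inl j) = 1 := by simp
    have e3 : (be ⟨0, hm⟩ : V2) (Sum.inl ⟨0, hm⟩) = 1 := by simp
    have e4 : (be j : V2) (Sum.inl ⟨0, hm⟩) = 0 := by simp [Pi.single_apply, hj']
    rcases fix_or_neg hm (be_ne_zero j) (hcomm _ (inW_be j)) with h | h
    · exact h
    · have hne : (be ⟨0, hm⟩ + be j : V2) ≠ 0 := by
        intro h0
        have h3 := congrFun h0 (Sum.inl ⟨0, hm⟩)
        rw [Pi.add_apply, e3, e4, Pi.zero_apply, add_zero] at h3
        exact one_ne_zero h3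
      have hneg : (-1 : F) = 1 := by
        rcases fix_or_neg hm hne (hcomm _ (inW_add (inW_be _) (inW_be j))) with h2 | h2
        · rw [Matrix.mulVec_add, hfix, h] at h2
          have h3 := congrFun h2 (Sum.inl j)
          rw [Pi.add_apply, Pi.add_apply, Pi.neg_apply, e1, e2] at h3
          linear_combination h3
        · rw [Matrix.mulVec_add, hfix, h] at h2
          have h3 := congrFun h2 (Sum.inl ⟨0, hm⟩)
          rw [Pi.add_apply, Pi.neg_apply, Pi.neg_apply, Pi.add_apply, e3, e4] at h3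
          linear_combination -h3
      rw [h, ← neg_one_smul F (be j : V2), hneg, one_smul]

/-! ### the torus elements belong to the generating set -/

theorem sympT_stab {v w : V2} (h : Cfsg.sympForm m F v w = 0) (c : F) : sympT w c ∈ stab v := by
  rw [mem_stab, sympT_act, h, mul_zero, zero_smul, add_zero]

theorem genA (hm : 0 < m) (S : Sylow p PSpm) (hS : (S : Subgroup PSpm) = U0bar m F)
    {i : Fin m} (hi : i ≠ ⟨0, hm⟩) (s : Fˣ) :
    (pj (dsp (Pi.mulSingle i s)) : PSpm) ∈ GenSet S := by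
  refine ⟨by rw [hS]; exact pj_dsp_normalizer _, _, QA_fn hm S hS, QA_cen hm S hS, ?_⟩
  have hgen : ∀ (w : V2) (c : F), Cfsg.sympForm m F (be ⟨0, hm⟩ : V2) w = 0 →
      (pj (sympT w c) : PSpm) ∈ Subgroup.closure {g : PSpm |
        g ∈ Subgroup.normalizer (((Q (be ⟨0, hm⟩ : V2)).map pj : Subgroup PSpm) : Set PSpm) ∧
          ∃ n : ℕ, orderOf g = p ^ n} := by
    intro w c h
    apply Subgroup.subset_closure
    refine ⟨Subgroup.le_normalizer_map pj (Subgroup.mem_map_of_mem pj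
      (stab_le_normalizer_Q _ (sympT_stab h c))), pj_pelement (sympT_pow_char p w c)⟩
  have h1 : Cfsg.sympForm m F (be ⟨0, hm⟩ : V2) (bf i) = 0 := by
    rw [form_bf]
    simp [Pi.single_apply, hi]
  have h2 : Cfsg.sympForm m F (be ⟨0, hm⟩ : V2) (be i) = 0 := by
    rw [form_be]
    simp
  rw [dsp_mulSingle_prod, map_mul, map_mul, map_mul]
  exact Subgroup.mul_mem _ (Subgroup.mul_mem _ (Subgroup.mul_mem _ (hgen _ _ h1)
    (hgen _ _ h2)) (hgen _ _ h1)) (hgen _ _ h2)

theorem genB (hm : 0 < m) (S : Sylow p PSpm) (hS : (S : Subgroup PSpm) = U0bar m F)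
    {j k : Fin m} (hjk : j ≠ k) (s : Fˣ) :
    (pj (lev (dg (EE j k hjk s))) : PSpm) ∈ GenSet S := by
  refine ⟨by rw [hS, lev_dg]; exact pj_dsp_normalizer _, _, QB_fn S hS, QB_cen hm S hS, ?_⟩
  have hgen : ∀ (u φ : Fin m → F) (c : F),
      (pj (lev (tv u φ c)) : PSpm) ∈ Subgroup.closure {g : PSpm |
        g ∈ Subgroup.normalizer (((fixW m F).map pj : Subgroup PSpm) : Set PSpm) ∧
          ∃ n : ℕ, orderOf g = p ^ n} := by
    intro u φ c
    apply Subgroup.subset_closure
    refine ⟨Subgroup.le_normalizer_map pj (Subgroup.mem_map_of_mem pj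
      (lev_mem_normalizer_fixW _)), pj_pelement ?_⟩
    rw [← map_pow, tv_pow_char p, map_one]
  rw [dg_EE_eq, map_mul, map_mul, map_mul, map_mul, map_mul, map_mul]
  exact Subgroup.mul_mem _ (Subgroup.mul_mem _ (Subgroup.mul_mem _ (hgen _ _ _)
    (hgen _ _ _)) (hgen _ _ _)) (hgen _ _ _)

theorem lev_dg_EE {j k : Fin m} (hjk : j ≠ k) (s : Fˣ) :
    (lev (dg (EE j k hjk s)) : Sp) = dsp (Pi.mulSingle j s⁻¹ * Pi.mulSingle k s) := by
  rw [lev_dg]
  rfl

/-- `N_G(S)` is generated by the generating set -/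
theorem normalizer_le_closure (hm : 2 ≤ m) (S : Sylow p PSpm)
    (hS : (S : Subgroup PSpm) = U0bar m F) :
    ∀ x ∈ Subgroup.normalizer ((S : Subgroup PSpm) : Set PSpm), x ∈ Subgroup.closure (GenSet S) := by
  have hm0 : 0 < m := by omega
  intro x hx
  obtain ⟨g, rfl⟩ := pj_surjective x
  rw [hS] at hx
  obtain ⟨t, u, hu, rfl⟩ := normalizer_decomp g
    (fun u hu => conj_mem_U0_of_normalizer p hm0 hx hu)
  rw [map_mul]
  apply Subgroup.mul_mem
  · -- the torus part
    let i1 : Fin m := ⟨1, by omega⟩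
    have hsingle : ∀ (i : Fin m) (s : Fˣ), (Pi.mulSingle i s : Fin m → Fˣ) ∈
        (Subgroup.closure (GenSet S)).comap ((pj : Sp →* PSpm).comp dsp) := by
      intro i s
      rw [Subgroup.mem_comap]
      show (pj (dsp (Pi.mulSingle i s)) : PSpm) ∈ _
      by_cases hi : i = ⟨0, hm0⟩
      · have h01 : i1 ≠ ⟨0, hm0⟩ := by
          intro e
          have := congrArg Fin.val e
          simp [i1] at this
        have e1 : (Pi.mulSingle i s : Fin m → Fˣ) =
            (Pi.mulSingle i1 s⁻¹ * Pi.mulSingle i s) * Pi.mulSingle i1 s := by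
          funext a
          simp only [Pi.mul_apply, Pi.mulSingle_apply]
          by_cases h1 : a = i1
          · have h2 : a ≠ i := by rw [h1, hi]; exact h01
            have h3 : i1 ≠ i := by rw [hi]; exact h01
            simp [h1, h3]
          · simp [h1]
        rw [e1, map_mul, map_mul, hi, ← lev_dg_EE h01 s]
        exact Subgroup.mul_mem _ (Subgroup.subset_closure (genB hm0 S hS h01 s))
          (Subgroup.subset_closure (genA hm0 S hS h01 s))
      · exact Subgroup.subset_closure (genA hm0 S hS hi s)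
    have ht : t ∈ (Subgroup.closure (GenSet S)).comap ((pj : Sp →* PSpm).comp dsp) := by
      rw [← Finset.univ_prod_mulSingle t]
      apply Subgroup.prod_mem
      intro i _
      exact hsingle i (t i)
    exact ht
  · apply Subgroup.subset_closure
    have huS : (pj u : PSpm) ∈ (S : Subgroup PSpm) := by rw [hS]; exact pj_mem_U0bar hu
    refine ⟨Subgroup.le_normalizer huS, (S : Subgroup PSpm),
      Cfsg.Agent.Helper87.fullyNormalized_self _, Cfsg.Agent.Helper84.isCentric_top _, ?_⟩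
    apply Subgroup.subset_closure
    refine ⟨Subgroup.le_normalizer huS, ?_⟩
    obtain ⟨k, hk⟩ := S.isPGroup' ⟨pj u, huS⟩
    have hk' : (pj u : PSpm) ^ p ^ k = 1 := by
      have := congrArg Subtype.val hk
      simpa using this
    obtain ⟨n, -, hn⟩ := (Nat.dvd_prime_pow (Fact.out : p.Prime)).1 (orderOf_dvd_of_pow_eq_one hk')
    exact ⟨n, hn⟩

end main

end Cfsg.Agent.Helper84.PspE
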