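import Mathlib
import Cfsg.Agent.Lib.Helper84.PspE

/-!
# The fusion system of `PSp_{2m}(q)` in the defining characteristic: strongly closed subgroups
-/

set_option autoImplicit false
set_option linter.unusedSectionVars false
set_option linter.unusedSimpArgs false
set_option linter.unusedVariables false

namespace Cfsg.Agent.Helper84.PspF

open Matrix Cfsg Cfsg.Agent.Helper13 Cfsg.Agent.Helper13.AutPSLTv Cfsg.Agent.Helper13.AutPSLSylow
open Cfsg.Agent.Helper84.PslMat1 Cfsg.Agent.Helper84.PslMat2 Cfsg.Agent.Helper84.PslMat3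
open Cfsg.Agent.Helper84.PspA Cfsg.Agent.Helper84.SpRoot Cfsg.Agent.Helper5.SpAut
open Cfsg.Agent.Helper84.PspB Cfsg.Agent.Helper84.PspC Cfsg.Agent.Helper84.PspD
open Cfsg.Agent.Helper84.PspE Cfsg.Agent.Helper84.PslGrp

variable {m : ℕ} {F : Type*} [Field F]

local notation "Sp" => Matrix.symplecticGroup (Fin m) F
local notation "SLm" => Matrix.SpecialLinearGroup (Fin m) F
local notation "Mm" => Matrix (Fin m) (Fin m) F
local notation "M2" => Matrix (Fin m ⊕ Fin m) (Fin m ⊕ Fin m) F
local notation "V2" => Fin m ⊕ Fin m → F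
local notation "PSpm" => Cfsg.PSp m F

/-! ### Eichler algebra -/

theorem eich_inv {v u : V2} (h : Cfsg.sympForm m F u v = 0) (c : F) :
    (eich v u c)⁻¹ = eich v (-u) (-c) := by
  have h' : Cfsg.sympForm m F (-u) v = 0 := by rw [sympForm_neg_left, h, neg_zero]
  rw [inv_eq_iff_mul_eq_one, eich_mul h h', sympForm_neg_left, sympForm_self]
  have : c + -c + -0 = (0 : F) := by ring
  rw [this, add_neg_cancel, eich_one]

theorem eich_mul_inv {v u : V2} (h : Cfsg.sympForm m F u v = 0) (c c' : F) :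
    eich v u c * (eich v u c')⁻¹ = sympT v (c - c') := by
  have h' : Cfsg.sympForm m F (-u) v = 0 := by rw [sympForm_neg_left, h, neg_zero]
  rw [eich_inv h, eich_mul h h', sympForm_neg_left, sympForm_self, add_neg_cancel,
    ← eich_zero_eq_sympT]
  congr 1
  ring

section closed

variable [Finite F]

/-- the closure property of the preimage of a strongly closed subgroup -/
def SC (K : Subgroup Sp) : Prop :=
  ∀ x ∈ K, ∀ g : Sp, g * x * g⁻¹ ∈ U0 m F → g * x * g⁻¹ ∈ K

/-- first step: conjugating by a transvection of the stabilizer -/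
theorem P1 {K : Subgroup Sp} {v : V2} (hQ : Q v ≤ U0 m F) (hK : SC K) {u : V2} {c : F}
    (hu : Cfsg.sympForm m F u v = 0) (hx : eich v u c ∈ K) {w : V2}
    (hw : Cfsg.sympForm m F w v = 0) (d : F) :
    eich v ((d * Cfsg.sympForm m F u w) • w) (d * Cfsg.sympForm m F u w ^ 2) ∈ K := by
  have hvw : Cfsg.sympForm m F v w = 0 := orth_symm hw
  have hsw : Cfsg.sympForm m F ((d * Cfsg.sympForm m F u w) • w) v = 0 := by
    rw [sympForm_smul_left, hw, mul_zero]
  have husw : Cfsg.sympForm m F (u + (d * Cfsg.sympForm m F u w) • w) v = 0 := by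
    rw [sympForm_add_left, hu, hsw, add_zero]
  have hconj : sympT w d * eich v u c * (sympT w d)⁻¹ =
      eich v (u + (d * Cfsg.sympForm m F u w) • w) c := by
    rw [conj_eich _ hu, sympT_act, sympT_act, hvw, mul_zero, zero_smul, add_zero]
  have h1 : eich v (u + (d * Cfsg.sympForm m F u w) • w) c ∈ K := by
    rw [← hconj]
    apply hK _ hx
    rw [hconj]
    exact hQ (eich_mem_Q husw c)
  have h2 := K.mul_mem (K.inv_mem hx) h1
  have hnu : Cfsg.sympForm m F (-u) v = 0 := by rw [sympForm_neg_left, hu, neg_zero]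
  rw [eich_inv hu, eich_mul hnu husw] at h2
  have e1 : -u + (u + (d * Cfsg.sympForm m F u w) • w) = (d * Cfsg.sympForm m F u w) • w := by
    abel
  have e2 : -c + c + Cfsg.sympForm m F (u + (d * Cfsg.sympForm m F u w) • w) (-u) =
      d * Cfsg.sympForm m F u w ^ 2 := by
    rw [sympForm_neg_right, sympForm_add_left, sympForm_self, sympForm_smul_left,
      sympForm_swap w u]
    ring
  rw [e1, e2] at h2
  exact h2

theorem P2 {K : Subgroup Sp} {v : V2} (hQ : Q v ≤ U0 m F) (hK : SC K) {u : V2} {c : F}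
    (hu : Cfsg.sympForm m F u v = 0) (hx : eich v u c ∈ K) {w : V2}
    (hw : Cfsg.sympForm m F w v = 0) (hβ : Cfsg.sympForm m F u w ≠ 0) :
    eich v w (Cfsg.sympForm m F u w) ∈ K := by
  have h := P1 hQ hK hu hx hw (Cfsg.sympForm m F u w)⁻¹
  have e1 : (Cfsg.sympForm m F u w)⁻¹ * Cfsg.sympForm m F u w = 1 := inv_mul_cancel₀ hβ
  have e2 : (Cfsg.sympForm m F u w)⁻¹ * Cfsg.sympForm m F u w ^ 2 = Cfsg.sympForm m F u w := by
    field_simp
  rw [e1, e2, one_smul] at h
  exact h

/-- two-term combination -/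
theorem P3 {K : Subgroup Sp} {v : V2} (hQ : Q v ≤ U0 m F) (hK : SC K) {u : V2} {c : F}
    (hu : Cfsg.sympForm m F u v = 0) (hx : eich v u c ∈ K) {w1 w2 : V2}
    (hw1 : Cfsg.sympForm m F w1 v = 0) (hw2 : Cfsg.sympForm m F w2 v = 0)
    (hβ1 : Cfsg.sympForm m F u w1 ≠ 0) (hβ2 : Cfsg.sympForm m F u w2 ≠ 0)
    (hβ3 : Cfsg.sympForm m F u (w1 + w2) ≠ 0) :
    sympT v (Cfsg.sympForm m F w2 w1) ∈ K := by
  have hw3 : Cfsg.sympForm m F (w1 + w2) v = 0 := by rw [sympForm_add_left, hw1, hw2, add_zero]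
  have h1 := P2 hQ hK hu hx hw1 hβ1
  have h2 := P2 hQ hK hu hx hw2 hβ2
  have h3 := P2 hQ hK hu hx hw3 hβ3
  have h4 := K.mul_mem (K.mul_mem h1 h2) (K.inv_mem h3)
  rw [eich_mul hw1 hw2, sympForm_add_right, eich_mul_inv hw3] at h4
  have e : Cfsg.sympForm m F u w1 + Cfsg.sympForm m F u w2 + Cfsg.sympForm m F w2 w1 -
      (Cfsg.sympForm m F u w1 + Cfsg.sympForm m F u w2) = Cfsg.sympForm m F w2 w1 := by ring
  rw [e] at h4
  exact h4

/-- three-term combination -/
theorem P4 {K : Subgroup Sp} {v : V2} (hQ : Q v ≤ U0 m F) (hK : SC K) {u : V2} {c : F}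
    (hu : Cfsg.sympForm m F u v = 0) (hx : eich v u c ∈ K) {w1 w2 w3 : V2}
    (hw1 : Cfsg.sympForm m F w1 v = 0) (hw2 : Cfsg.sympForm m F w2 v = 0)
    (hw3 : Cfsg.sympForm m F w3 v = 0)
    (hβ1 : Cfsg.sympForm m F u w1 ≠ 0) (hβ2 : Cfsg.sympForm m F u w2 ≠ 0)
    (hβ3 : Cfsg.sympForm m F u w3 ≠ 0)
    (hβ4 : Cfsg.sympForm m F u (w1 + w2 + w3) ≠ 0) :
    sympT v (Cfsg.sympForm m F w2 w1 + Cfsg.sympForm m F w3 (w1 + w2)) ∈ K := by
  have hw12 : Cfsg.sympForm m F (w1 + w2) v = 0 := by rw [sympForm_add_left, hw1, hw2, add_zero]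
  have hw4 : Cfsg.sympForm m F (w1 + w2 + w3) v = 0 := by
    rw [sympForm_add_left, hw12, hw3, add_zero]
  have h1 := P2 hQ hK hu hx hw1 hβ1
  have h2 := P2 hQ hK hu hx hw2 hβ2
  have h3 := P2 hQ hK hu hx hw3 hβ3
  have h4 := P2 hQ hK hu hx hw4 hβ4
  have h5 := K.mul_mem (K.mul_mem (K.mul_mem h1 h2) h3) (K.inv_mem h4)
  rw [eich_mul hw1 hw2, eich_mul hw12 hw3, eich_mul_inv hw4] at h5
  convert h5 using 2
  simp only [sympForm_add_right]
  ring

/-- a nontrivial element of `K ∩ Q(v)` produces a nontrivial transvection of `K` -/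
theorem exists_transvection [Fintype F] {K : Subgroup Sp} (hm : 2 ≤ m) (hex : m = 2 → 3 ≤ Fintype.card F)
    {v : V2} (hv : v ≠ 0) (hQ : Q v ≤ U0 m F) (hK : SC K) {x : Sp} (hxQ : x ∈ Q v)
    (hxK : x ∈ K) (hx1 : x ≠ 1) : ∃ c : F, c ≠ 0 ∧ sympT v c ∈ K := by
  obtain ⟨u, c, hu, rfl⟩ := exists_eich_of_mem_Q hv hxQ
  by_cases hind : ∃ a : F, u = a • v
  · obtain ⟨a, rfl⟩ := hind
    rw [eich_smul_self] at hxK hx1
    refine ⟨2 * a + c, ?_, hxK⟩
    intro h0
    rw [h0, sympT_zero] at hx1
    exact hx1 rfl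
  · push Not at hind
    obtain ⟨z, hz1, hz2⟩ := exists_sep hv hind
    have hzv : Cfsg.sympForm m F z v = 0 := orth_symm hz2
    by_cases hlam : ∃ l : F, l ≠ 0 ∧ l ≠ -1
    · obtain ⟨l, hl0, hl1⟩ := hlam
      refine ⟨1, one_ne_zero, ?_⟩
      have hw2 : Cfsg.sympForm m F (u + l • z) v = 0 := by
        rw [sympForm_add_left, sympForm_smul_left, hu, hzv, mul_zero, add_zero]
      have hβ1 : Cfsg.sympForm m F u z ≠ 0 := by rw [hz1]; exact one_ne_zero
      have hβ2 : Cfsg.sympForm m F u (u + l • z) ≠ 0 := by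
        rw [sympForm_add_right, sympForm_self, sympForm_smul_right, hz1, zero_add, mul_one]
        exact hl0
      have hβ3 : Cfsg.sympForm m F u (z + (u + l • z)) ≠ 0 := by
        rw [sympForm_add_right, sympForm_add_right, sympForm_self, sympForm_smul_right, hz1,
          zero_add, mul_one]
        intro h0
        apply hl1
        linear_combination h0
      have h := P3 hQ hK hu hxK hzv hw2 hβ1 hβ2 hβ3
      rw [sympForm_add_left, sympForm_smul_left, sympForm_self, hz1, mul_zero, add_zero] at h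
      exact h
    · push Not at hlam
      have h11 : (1 : F) = -1 := hlam 1 one_ne_zero
      have h2 : (2 : F) = 0 := by linear_combination h11
      have hcard : Fintype.card F ≤ 2 := by
        classical
        have hsub : (Finset.univ : Finset F) ⊆ {0, -1} := by
          intro y _
          by_cases hy : y = 0
          · simp [hy]
          · simp [hlam y hy]
        calc Fintype.card F = (Finset.univ : Finset F).card := rfl
          _ ≤ ({0, -1} : Finset F).card := Finset.card_le_card hsub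
          _ ≤ 2 := Finset.card_le_two
      have hm3 : 3 ≤ m := by
        rcases Nat.lt_or_ge 2 m with h | h
        · exact h
        · have := hex (le_antisymm h hm)
          omega
      obtain ⟨a, b, hab, hav, hau, hbv, hbu⟩ := exists_hyp_pair_perp hm3 (orth_symm hu) hv hind
      have hua : Cfsg.sympForm m F u a = 0 := orth_symm hau
      have hub : Cfsg.sympForm m F u b = 0 := orth_symm hbu
      have hw2 : Cfsg.sympForm m F (z + a) v = 0 := by rw [sympForm_add_left, hzv, hav, add_zero]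
      have hw3 : Cfsg.sympForm m F (z + b) v = 0 := by rw [sympForm_add_left, hzv, hbv, add_zero]
      have hβ1 : Cfsg.sympForm m F u z ≠ 0 := by rw [hz1]; exact one_ne_zero
      have hβ2 : Cfsg.sympForm m F u (z + a) ≠ 0 := by
        rw [sympForm_add_right, hz1, hua, add_zero]; exact one_ne_zero
      have hβ3 : Cfsg.sympForm m F u (z + b) ≠ 0 := by
        rw [sympForm_add_right, hz1, hub, add_zero]; exact one_ne_zero
      have hβ4 : Cfsg.sympForm m F u (z + (z + a) + (z + b)) ≠ 0 := by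
        simp only [sympForm_add_right, hz1, hua, hub, add_zero]
        intro h0
        have : (1 : F) = 0 := by linear_combination h0 - h2
        exact one_ne_zero this
      have h := P4 hQ hK hu hxK hzv hw2 hw3 hβ1 hβ2 hβ3 hβ4
      have hza : Cfsg.sympForm m F z a = - Cfsg.sympForm m F a z := sympForm_swap z a
      have hba : Cfsg.sympForm m F b a = -1 := by rw [sympForm_swap, hab]
      have e : Cfsg.sympForm m F (z + a) z + Cfsg.sympForm m F (z + b) (z + (z + a)) = -1 := by
        simp only [sympForm_add_left, sympForm_add_right, sympForm_self, hza, hba]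
        linear_combination (Cfsg.sympForm m F b z) * h2
      rw [e] at h
      exact ⟨-1, neg_ne_zero.2 one_ne_zero, h⟩

end closed

end Cfsg.Agent.Helper84.PspF
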