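import Mathlib
import Cfsg.Agent.Lib.Helper84.PspF

/-!
# The fusion system of `PSp_{2m}(q)` in the defining characteristic is simple
-/

set_option autoImplicit false
set_option linter.unusedSectionVars false
set_option linter.unusedSimpArgs false
set_option linter.unusedVariables false

namespace Cfsg.Agent.Helper84.PspG

open Matrix Cfsg Cfsg.Agent.Helper13 Cfsg.Agent.Helper13.AutPSLTv Cfsg.Agent.Helper13.AutPSLSylow
open Cfsg.Agent.Helper84.PslMat1 Cfsg.Agent.Helper84.PslMat2 Cfsg.Agent.Helper84.PslMat3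
open Cfsg.Agent.Helper84.PspA Cfsg.Agent.Helper84.SpRoot Cfsg.Agent.Helper5.SpAut
open Cfsg.Agent.Helper84.PspB Cfsg.Agent.Helper84.PspC Cfsg.Agent.Helper84.PspD
open Cfsg.Agent.Helper84.PspE Cfsg.Agent.Helper84.PspF Cfsg.Agent.Helper84.PslGrp

variable {m : ℕ} {F : Type*} [Field F]

local notation "Sp" => Matrix.symplecticGroup (Fin m) F
local notation "SLm" => Matrix.SpecialLinearGroup (Fin m) F
local notation "Mm" => Matrix (Fin m) (Fin m) F
local notation "M2" => Matrix (Fin m ⊕ Fin m) (Fin m ⊕ Fin m) F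
local notation "V2" => Fin m ⊕ Fin m → F
local notation "PSpm" => Cfsg.PSp m F

section closed

variable [Fintype F]

/-- from one nontrivial transvection along `v` to all of them -/
theorem sympT_all {K : Subgroup Sp} {p : ℕ} [Fact p.Prime] [CharP F p] (hK : SC K) {v : V2}
    (hv : v ≠ 0) (hvW : InW v) {c0 : F} (hc0 : c0 ≠ 0) (h : sympT v c0 ∈ K) :
    ∀ d : F, sympT v d ∈ K := by
  have hsq : ∀ d a : F, sympT v d ∈ K → sympT v (d * a ^ 2) ∈ K := by
    intro d a hd
    by_cases ha : a = 0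
    · have : d * a ^ 2 = 0 := by rw [ha]; ring
      rw [this, sympT_zero]
      exact K.one_mem
    · have hav : a • v ≠ 0 := smul_ne_zero ha hv
      obtain ⟨g, hg⟩ := exists_symp_map hv hav
      have hconj : g * sympT v d * g⁻¹ = sympT v (d * a ^ 2) := by
        rw [conj_sympT, hg, sympT_smul]
      rw [← hconj]
      apply hK _ hd
      rw [hconj]
      exact sympT_mem_U0 hvW _
  have hadd : ∀ d d' : F, sympT v d ∈ K → sympT v d' ∈ K → sympT v (d + d') ∈ K := by
    intro d d' h1 h2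
    rw [← sympT_mul]
    exact K.mul_mem h1 h2
  have hneg : ∀ d : F, sympT v d ∈ K → sympT v (-d) ∈ K := by
    intro d h1
    rw [← sympT_inv]
    exact K.inv_mem h1
  intro d
  by_cases h2 : (2 : F) = 0
  · have hp2 : p = 2 := by
      have h3 : ((2 : ℕ) : F) = 0 := by exact_mod_cast h2
      have := (CharP.cast_eq_zero_iff F p 2).1 h3
      exact (Nat.prime_dvd_prime_iff_eq Fact.out Nat.prime_two).1 this
    have hchar : ringChar F = 2 := by
      rw [← hp2]
      exact ringChar.eq F p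
    obtain ⟨r, hr⟩ := FiniteField.isSquare_of_char_two hchar (d / c0)
    have e : d = c0 * r ^ 2 := by
      rw [pow_two, ← hr]
      field_simp
    rw [e]
    exact hsq c0 r h
  · have e : d = c0 * ((d / c0 + 1) / 2) ^ 2 + -(c0 * ((d / c0 - 1) / 2) ^ 2) := by
      field_simp
      ring
    rw [e]
    exact hadd _ _ (hsq c0 _ h) (hneg _ (hsq c0 _ h))

/-- all transvections along vectors of the standard Lagrangian -/
theorem sympT_W_all {K : Subgroup Sp} (hK : SC K) {v : V2} (hv : v ≠ 0)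
    (hall : ∀ d : F, sympT v d ∈ K) {w : V2} (hw : InW w) (d : F) : sympT w d ∈ K := by
  by_cases hw0 : w = 0
  · rw [hw0, sympT_zero_vec]
    exact K.one_mem
  · obtain ⟨g, hg⟩ := exists_symp_map hv hw0
    have hconj : g * sympT v d * g⁻¹ = sympT w d := by rw [conj_sympT, hg]
    rw [← hconj]
    apply hK _ (hall d)
    rw [hconj]
    exact sympT_mem_U0 hw d

theorem eich_W {K : Subgroup Sp} (hW : ∀ w : V2, InW w → ∀ d : F, sympT w d ∈ K) (j k : Fin m)
    (c : F) : eich (be j) (c • (be k : V2)) 0 ∈ K := by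
  have h0 : Cfsg.sympForm m F (c • (be k : V2)) (be j) = 0 := by
    rw [form_be]
    simp
  rw [eich_eq_sympT_prod h0]
  exact K.mul_mem (K.mul_mem (hW _ (inW_add (inW_be j) (inW_smul c (inW_be k))) 1)
    (hW _ (inW_be j) _)) (hW _ (inW_smul c (inW_be k)) _)

theorem lev_tv_mem {K : Subgroup Sp} (hK : SC K)
    (hW : ∀ w : V2, InW w → ∀ d : F, sympT w d ∈ K) {j k : Fin m} (hjk : j < k) (c : F) :
    (lev (tv (ee j) (ee k) c) : Sp) ∈ K := by
  have hne : j ≠ k := hjk.ne
  have h0 : Cfsg.sympForm m F ((-c) • (be k : V2)) (be j) = 0 := by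
    rw [form_be]
    simp
  have h1 : (be j : V2) (Sum.inl k) = 0 := by simp [Pi.single_apply, hne.symm]
  have h2 : (be j : V2) (Sum.inr k) = 0 := by simp
  have hconj : wk k * eich (be j) ((-c) • (be k : V2)) 0 * (wk k)⁻¹ =
      lev (tv (ee j) (ee k) c) := by
    rw [conj_eich _ h0, lev_tv hne, Matrix.mulVec_smul, wk_be, wk_fix k h1 h2]
  rw [← hconj]
  apply hK _ (eich_W hW j k (-c))
  rw [hconj]
  exact lev_mem_U0 (tv_single_mem_UT hjk c)

theorem sieg_mem {K : Subgroup Sp} (hW : ∀ w : V2, InW w → ∀ d : F, sympT w d ∈ K) (Y : Mm)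
    (hY : Yᵀ = Y) : (sieg Y : Sp) ∈ K := by
  have hsymm : ∀ M : Mm, (M + Mᵀ)ᵀ = M + Mᵀ := by
    intro M
    rw [Matrix.transpose_add, Matrix.transpose_transpose, add_comm]
  have hoff : ∀ M : Mm, (sieg (M + Mᵀ) : Sp) ∈ K := by
    intro M
    induction M using Matrix.induction_on' with
    | h_zero =>
      rw [Matrix.transpose_zero, add_zero, sieg_zero]
      exact K.one_mem
    | h_add p q hp hq =>
      have e : p + q + (p + q)ᵀ = (p + pᵀ) + (q + qᵀ) := by
        rw [Matrix.transpose_add]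
        abel
      rw [e, ← sieg_mul (hsymm p) (hsymm q)]
      exact K.mul_mem hp hq
    | h_std_basis i j x =>
      rw [Matrix.transpose_single, sieg_single_off]
      exact eich_W hW i j x
  have hdiag : ∀ (s : Finset (Fin m)) (d : Fin m → F),
      (∑ i ∈ s, Matrix.single i i (d i) : Mm)ᵀ = ∑ i ∈ s, Matrix.single i i (d i) ∧
        (sieg (∑ i ∈ s, Matrix.single i i (d i) : Mm) : Sp) ∈ K := by
    intro s d
    induction s using Finset.induction_on with
    | empty =>
      rw [Finset.sum_empty, Matrix.transpose_zero, sieg_zero]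
      exact ⟨rfl, K.one_mem⟩
    | insert a s ha ih =>
      rw [Finset.sum_insert ha]
      refine ⟨by rw [Matrix.transpose_add, Matrix.transpose_single, ih.1], ?_⟩
      rw [← sieg_mul (Matrix.transpose_single a a (d a)) ih.1, sieg_single_diag]
      exact K.mul_mem (hW _ (inW_be a) _) ih.2
  have hdec : Y = ((Matrix.of fun i j : Fin m => if i < j then Y i j else 0) +
      (Matrix.of fun i j : Fin m => if i < j then Y i j else 0)ᵀ) +
      Matrix.diagonal (fun i => Y i i) := by
    ext i j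
    simp only [Matrix.add_apply, Matrix.transpose_apply, Matrix.of_apply, Matrix.diagonal_apply]
    rcases lt_trichotomy i j with h | h | h
    · rw [if_pos h, if_neg (not_lt.2 h.le), if_neg h.ne, add_zero, add_zero]
    · subst h
      rw [if_neg (lt_irrefl _), if_pos rfl, add_zero, zero_add]
    · have hsym := congrFun (congrFun hY i) j
      rw [Matrix.transpose_apply] at hsym
      rw [if_neg (not_lt.2 h.le), if_pos h, if_neg h.ne', add_zero, zero_add, hsym]
  rw [congrArg sieg hdec, ← sieg_mul (hsymm _) (Matrix.diagonal_transpose _)]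
  apply K.mul_mem (hoff _)
  rw [← Matrix.sum_single_eq_diagonal]
  exact (hdiag Finset.univ _).2

theorem U0_le {K : Subgroup Sp} (hK : SC K) (hW : ∀ w : V2, InW w → ∀ d : F, sympT w d ∈ K) :
    U0 m F ≤ K := by
  intro g hg
  obtain ⟨P, Y, hP, hY, rfl⟩ := exists_lev_sieg hg
  apply K.mul_mem
  · have h1 : UT m F ≤ K.comap lev :=
      UT_le_of_elementary _ (fun i j hij c => Subgroup.mem_comap.2 (lev_tv_mem hK hW hij c))
    exact h1 hP
  · exact sieg_mem hW Y hY

variable {p : ℕ} [Fact p.Prime] [CharP F p]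

/-- a nontrivial strongly closed subgroup of `S` is `S` -/
theorem stronglyClosed_eq (hm : 2 ≤ m) (hex : m = 2 → 3 ≤ Fintype.card F) (S : Sylow p PSpm)
    (hS : (S : Subgroup PSpm) = U0bar m F) {T : Subgroup PSpm}
    (hT : (groupFusionSystem (S : Subgroup PSpm)).StronglyClosed T) (hT1 : T ≠ ⊥) :
    T = (S : Subgroup PSpm) := by
  have hm0 : 0 < m := by omega
  have hK : SC (T.comap (pj : Sp →* PSpm)) := by
    intro x hx g hmem
    have h1 : (pj g : PSpm) * pj x * (pj g)⁻¹ ∈ (S : Subgroup PSpm) := by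
      rw [pj_conj, hS]
      exact pj_mem_U0bar hmem
    have h2 := conj_mem_of_stronglyClosed hT (Subgroup.mem_comap.1 hx) (pj g) h1
    rw [pj_conj] at h2
    exact Subgroup.mem_comap.2 h2
  obtain ⟨z, hzT, hz1, hzc⟩ := exists_central_of_stronglyClosed S.isPGroup' hT hT1
  have hzS : z ∈ U0bar m F := by rw [← hS]; exact hT.1 hzT
  obtain ⟨z0, hz0U, rfl⟩ := hzS
  obtain ⟨P, hP⟩ := exists_sylow_U0 (m := m) (F := F) p
  have hZP : z0 ∈ ZP (P : Subgroup Sp) := by
    rw [mem_ZP, hP]
    refine ⟨hz0U, fun u hu => ?_⟩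
    have h1 := hzc (pj u) (by rw [hS]; exact pj_mem_U0bar hu)
    have h2 : (z0 * u)⁻¹ * (u * z0) = 1 := by
      apply pj_eq_one_of_stab hm0 (be_ne_zero ⟨0, hm0⟩)
        (U0_le_stab hm0 ((U0 m F).mul_mem ((U0 m F).inv_mem ((U0 m F).mul_mem hz0U hu))
          ((U0 m F).mul_mem hu hz0U)))
      have h1' : (pj z0 : PSpm) * pj u = pj u * pj z0 := h1
      rw [map_mul, map_inv, map_mul, map_mul, h1', inv_mul_cancel]
    exact (inv_mul_eq_one.1 h2).symm
  have hzQ : z0 ∈ Q (be ⟨0, hm0⟩ : V2) :=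
    ZP_le_Q (be_ne_zero _) P (by rw [hP]; exact U0_le_stab hm0) hZP
  have hz01 : z0 ≠ 1 := by
    rintro rfl
    exact hz1 (map_one _)
  obtain ⟨c0, hc0, hc0K⟩ := exists_transvection hm hex (be_ne_zero _) (Q_le_U0 p hm0) hK hzQ
    (Subgroup.mem_comap.2 hzT) hz01
  have hall := sympT_all (p := p) hK (be_ne_zero _) (inW_be _) hc0 hc0K
  have hW : ∀ w : V2, InW w → ∀ d : F, sympT w d ∈ T.comap (pj : Sp →* PSpm) :=
    fun w hw d => sympT_W_all hK (be_ne_zero _) hall hw d
  have hU := U0_le hK hW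
  apply le_antisymm hT.1
  rw [hS]
  exact Subgroup.map_le_iff_le_comap.2 hU

/-- the fusion system of `PSp_{2m}(q)` on the standard Sylow subgroup is simple -/
theorem psp_simple_U0 (hm : 2 ≤ m) (hex : m = 2 → 3 ≤ Fintype.card F) (S : Sylow p PSpm)
    (hS : (S : Subgroup PSpm) = U0bar m F) :
    (groupFusionSystem (S : Subgroup PSpm)).IsSimple p := by
  have hm0 : 0 < m := by omega
  apply Cfsg.Agent.Helper84.PslCrit.simple_crit S
  · intro h
    have hmem : (pj (sympT (be ⟨0, hm0⟩ : V2) 1) : PSpm) ∈ (S : Subgroup PSpm) := by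
      rw [hS]
      exact pj_mem_U0bar (sympT_mem_U0 (inW_be _) 1)
    rw [h, Subgroup.mem_bot] at hmem
    have h1 := pj_eq_one_of_stab hm0 (be_ne_zero ⟨0, hm0⟩) (Q_le_stab _ (sympT_mem_Q _ _)) hmem
    exact one_ne_zero ((sympT_eq_one_iff (be_ne_zero ⟨0, hm0⟩)).1 h1)
  · intro T hT
    by_cases h : T = ⊥
    · exact Or.inl h
    · exact Or.inr (stronglyClosed_eq hm hex S hS hT h)
  · exact normalizer_le_closure hm S hS

/-- the fusion system of `PSp_{2m}(q)` on any Sylow `p`-subgroup is simple -/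
theorem psp_simple (hm : 2 ≤ m) (hex : m = 2 → 3 ≤ Fintype.card F) (S : Sylow p PSpm) :
    (groupFusionSystem (S : Subgroup PSpm)).IsSimple p := by
  obtain ⟨P, hP⟩ := exists_sylow_U0 (m := m) (F := F) p
  have hS0 : ((P.mapSurjective (pj_surjective (m := m) (F := F)) : Sylow p PSpm) :
      Subgroup PSpm) = U0bar m F := by
    rw [Sylow.coe_mapSurjective, hP]
    rfl
  exact simple_of_sylow _ S (psp_simple_U0 hm hex _ hS0)

end closed

end Cfsg.Agent.Helper84.PspG
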