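import Mathlib
import Cfsg.Prelude.Def_Classical

/-!
# The special unitary group of the antidiagonal Hermitian form (model for `PSU_n(q)`)

`hermJ n F q u v = Σ_i u_i * (v_{n-1-i})^q`; for this form the upper unitriangular matrices of
`SUJ n F q` form a Sylow `p`-subgroup.
-/

set_option autoImplicit false

namespace Cfsg.Agent.Helper84.PsuDef

open Matrix

/-- the antidiagonal Hermitian form `Σ_i u_i * (v_{n-1-i})^q` -/
def hermJ (n : ℕ) (F : Type*) [Field F] (q : ℕ) (u v : Fin n → F) : F :=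
  ∑ i, u i * (v (Fin.rev i)) ^ q

/-- the special unitary group of the antidiagonal Hermitian form -/
def SUJ (n : ℕ) (F : Type*) [Field F] (q : ℕ) : Subgroup (Matrix.SpecialLinearGroup (Fin n) F) :=
  Cfsg.preserving (Cfsg.slToMat n F) (hermJ n F q)

/-- the projective special unitary group of the antidiagonal Hermitian form -/
abbrev PSUJ (n : ℕ) (F : Type*) [Field F] (q : ℕ) : Type _ :=
  SUJ n F q ⧸ Subgroup.center (SUJ n F q)

theorem mem_SUJ {n : ℕ} {F : Type*} [Field F] {q : ℕ} (g : Matrix.SpecialLinearGroup (Fin n) F) :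
    g ∈ SUJ n F q ↔ ∀ u v : Fin n → F,
      hermJ n F q (Cfsg.slToMat n F g *ᵥ u) (Cfsg.slToMat n F g *ᵥ v) = hermJ n F q u v :=
  Iff.rfl

end Cfsg.Agent.Helper84.PsuDef
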