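import Mathlib
import Cfsg.Agent.Lib.Helper84.PsuDef
import Cfsg.Agent.Lib.Helper13.HermStd
import Cfsg.Agent.Lib.Helper84.PslMat3

/-!
# The antidiagonal Hermitian form and the unitary Eichler elements of `SUJ`
-/

set_option autoImplicit false
set_option linter.unusedSectionVars false
set_option linter.unusedSimpArgs false
set_option linter.unusedVariables false

namespace Cfsg.Agent.Helper84.PsuA

open Matrix Cfsg Cfsg.Agent.Helper13 Cfsg.Agent.Helper13.AutPSLTv
open Cfsg.Agent.Helper84.PsuDef Cfsg.Agent.Helper84.PslMat1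

variable {n : ℕ} {F : Type*} [Field F] [Fintype F] {q : ℕ}

/-! ### basis vectors -/

theorem ee_same (k : Fin n) : (ee k : Fin n → F) k = 1 := Pi.single_eq_same k 1

theorem ee_ne {k r : Fin n} (h : r ≠ k) : (ee k : Fin n → F) r = 0 := Pi.single_eq_of_ne h 1

theorem ee_apply (k r : Fin n) : (ee k : Fin n → F) r = if r = k then 1 else 0 := by
  by_cases h : r = k
  · rw [if_pos h, h, ee_same]
  · rw [if_neg h, ee_ne h]

/-! ### the form -/

theorem hJ_add_left (u v w : Fin n → F) :
    hermJ n F q (u + v) w = hermJ n F q u w + hermJ n F q v w := by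
  unfold hermJ
  rw [← Finset.sum_add_distrib]
  exact Finset.sum_congr rfl (fun i _ => by rw [Pi.add_apply, add_mul])

theorem hJ_smul_left (a : F) (u w : Fin n → F) :
    hermJ n F q (a • u) w = a * hermJ n F q u w := by
  unfold hermJ
  rw [Finset.mul_sum]
  exact Finset.sum_congr rfl (fun i _ => by rw [Pi.smul_apply, smul_eq_mul, mul_assoc])

theorem hJ_zero_left (w : Fin n → F) : hermJ n F q 0 w = 0 := by
  unfold hermJ
  exact Finset.sum_eq_zero (fun i _ => by rw [Pi.zero_apply, zero_mul])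

theorem hJ_neg_left (u w : Fin n → F) : hermJ n F q (-u) w = -hermJ n F q u w := by
  have := hJ_smul_left (q := q) (-1 : F) u w
  rwa [neg_one_smul, neg_one_mul] at this

theorem hJ_sub_left (u v w : Fin n → F) :
    hermJ n F q (u - v) w = hermJ n F q u w - hermJ n F q v w := by
  rw [sub_eq_add_neg, hJ_add_left, hJ_neg_left, ← sub_eq_add_neg]

section withF

variable (hF : Fintype.card F = q ^ 2)

include hF

theorem hJ_add_right (u v w : Fin n → F) :
    hermJ n F q u (v + w) = hermJ n F q u v + hermJ n F q u w := by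
  unfold hermJ
  rw [← Finset.sum_add_distrib]
  refine Finset.sum_congr rfl (fun i _ => ?_)
  have := (frobQ hF).map_add (v (Fin.rev i)) (w (Fin.rev i))
  simp only [frobQ_apply] at this
  rw [Pi.add_apply, this, mul_add]

theorem hJ_smul_right (a : F) (u w : Fin n → F) :
    hermJ n F q u (a • w) = frobQ hF a * hermJ n F q u w := by
  unfold hermJ
  rw [Finset.mul_sum]
  refine Finset.sum_congr rfl (fun i _ => ?_)
  rw [Pi.smul_apply, smul_eq_mul, mul_pow, frobQ_apply]
  ring

theorem hJ_zero_right (u : Fin n → F) : hermJ n F q u 0 = 0 := by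
  have := hJ_smul_right hF (0 : F) u 0
  rwa [zero_smul, map_zero, zero_mul] at this

theorem hJ_neg_right (u w : Fin n → F) : hermJ n F q u (-w) = -hermJ n F q u w := by
  have := hJ_smul_right hF (-1 : F) u w
  rwa [neg_one_smul, map_neg, map_one, neg_one_mul] at this

theorem hJ_sub_right (u v w : Fin n → F) :
    hermJ n F q u (v - w) = hermJ n F q u v - hermJ n F q u w := by
  rw [sub_eq_add_neg, hJ_add_right hF, hJ_neg_right hF, ← sub_eq_add_neg]

theorem hJ_conj (u v : Fin n → F) : hermJ n F q v u = frobQ hF (hermJ n F q u v) := by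
  unfold hermJ
  rw [map_sum, ← Equiv.sum_comp Fin.revPerm]
  refine Finset.sum_congr rfl (fun i _ => ?_)
  rw [Fin.revPerm_apply, Fin.rev_rev, map_mul, frobQ_apply, frobQ_apply]
  have : (v (Fin.rev i) ^ q) ^ q = v (Fin.rev i) := frobQ_frobQ hF _
  rw [this, mul_comm]

theorem hJ_ee_right (x : Fin n → F) (k : Fin n) : hermJ n F q x (ee k) = x (Fin.rev k) := by
  unfold hermJ
  rw [Finset.sum_eq_single (Fin.rev k)]
  · rw [Fin.rev_rev, ee_same, one_pow, mul_one]
  · intro i _ hi
    have : Fin.rev i ≠ k := fun h => hi (by rw [← h, Fin.rev_rev])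
    rw [ee_ne this, zero_pow (q_pos hF).ne', mul_zero]
  · intro h
    exact absurd (Finset.mem_univ _) h

theorem hJ_ee_left (x : Fin n → F) (k : Fin n) :
    hermJ n F q (ee k) x = frobQ hF (x (Fin.rev k)) := by
  rw [hJ_conj hF, hJ_ee_right hF]

theorem hJ_ee_ee (j k : Fin n) :
    hermJ n F q (ee j : Fin n → F) (ee k) = if j = Fin.rev k then 1 else 0 := by
  rw [hJ_ee_right hF]
  by_cases h : j = Fin.rev k
  · rw [if_pos h, h, ee_same]
  · rw [if_neg h, ee_ne (Ne.symm h)]

/-- the covector of `x ↦ ⟨x, u⟩` -/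
noncomputable def cov (u : Fin n → F) : Fin n → F := fun i => frobQ hF (u (Fin.rev i))

theorem cov_dot (u x : Fin n → F) : cov hF u ⬝ᵥ x = hermJ n F q x u := by
  unfold cov hermJ dotProduct
  refine Finset.sum_congr rfl (fun i _ => ?_)
  show frobQ hF (u (Fin.rev i)) * x i = x i * u (Fin.rev i) ^ q
  rw [frobQ_apply, mul_comm]

end withF

/-! ### the action of the group -/

/-- the matrix of an element of `SUJ` -/
def mt (g : SUJ n F q) : Matrix (Fin n) (Fin n) F :=
  (g : Matrix.SpecialLinearGroup (Fin n) F).val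

theorem mt_mul (g h : SUJ n F q) : mt (g * h) = mt g * mt h := rfl

theorem mt_one : mt (1 : SUJ n F q) = 1 := rfl

theorem mt_inv_mul (g : SUJ n F q) : mt g⁻¹ * mt g = 1 := by
  rw [← mt_mul, inv_mul_cancel, mt_one]

theorem mt_mul_inv (g : SUJ n F q) : mt g * mt g⁻¹ = 1 := by
  rw [← mt_mul, mul_inv_cancel, mt_one]

theorem mt_injective : Function.Injective (mt : SUJ n F q → Matrix (Fin n) (Fin n) F) := by
  intro g h hgh
  apply Subtype.ext
  apply Subtype.ext
  exact hgh

theorem act_mul (g h : SUJ n F q) (x : Fin n → F) :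
    mt (g * h) *ᵥ x = mt g *ᵥ (mt h *ᵥ x) := by
  rw [mt_mul, Matrix.mulVec_mulVec]

theorem act_one (x : Fin n → F) : mt (1 : SUJ n F q) *ᵥ x = x := by
  rw [mt_one, Matrix.one_mulVec]

theorem act_inv_act (g : SUJ n F q) (x : Fin n → F) : mt g⁻¹ *ᵥ (mt g *ᵥ x) = x := by
  rw [Matrix.mulVec_mulVec, mt_inv_mul, Matrix.one_mulVec]

theorem act_act_inv (g : SUJ n F q) (x : Fin n → F) : mt g *ᵥ (mt g⁻¹ *ᵥ x) = x := by
  rw [Matrix.mulVec_mulVec, mt_mul_inv, Matrix.one_mulVec]

theorem su_ext {g h : SUJ n F q} (H : ∀ x : Fin n → F, mt g *ᵥ x = mt h *ᵥ x) : g = h := by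
  apply mt_injective
  apply Matrix.mulVec_injective
  funext x
  exact H x

theorem pres (g : SUJ n F q) (u v : Fin n → F) :
    hermJ n F q (mt g *ᵥ u) (mt g *ᵥ v) = hermJ n F q u v :=
  g.2 u v

theorem hJ_act_left (g : SUJ n F q) (x y : Fin n → F) :
    hermJ n F q (mt g *ᵥ x) y = hermJ n F q x (mt g⁻¹ *ᵥ y) := by
  rw [← pres g x (mt g⁻¹ *ᵥ y), act_act_inv]

theorem hJ_act_right (g : SUJ n F q) (x y : Fin n → F) :
    hermJ n F q x (mt g *ᵥ y) = hermJ n F q (mt g⁻¹ *ᵥ x) y := by
  rw [← pres g (mt g⁻¹ *ᵥ x) y, act_act_inv]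

theorem act_ee (g : SUJ n F q) (k r : Fin n) : (mt g *ᵥ (ee k : Fin n → F)) r = mt g r k := by
  rw [Matrix.mulVec_single_one]
  rfl

theorem act_pow_eigen (g : SUJ n F q) {x : Fin n → F} {c : F} (h : mt g *ᵥ x = c • x) (k : ℕ) :
    mt (g ^ k) *ᵥ x = c ^ k • x := by
  induction k with
  | zero => rw [pow_zero, pow_zero, act_one, one_smul]
  | succ k ih => rw [pow_succ, act_mul, h, Matrix.mulVec_smul, ih, smul_smul, pow_succ, mul_comm]

theorem act_fix_inv (g : SUJ n F q) {x : Fin n → F} (h : mt g *ᵥ x = x) : mt g⁻¹ *ᵥ x = x := by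
  have := act_inv_act g x
  rwa [h] at this

end Cfsg.Agent.Helper84.PsuA
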