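import Mathlib
import Cfsg.Agent.Lib.Helper84.PsuA

/-!
# Unitary Eichler elements of `SUJ`

`E(u,w,t) : x ↦ x + ⟨x,u⟩ w - ⟨x,w⟩ u + t ⟨x,u⟩ u` for `u` isotropic, `w ⟂ u` and
`t + σ t + ⟨w,w⟩ = 0`.
-/

set_option autoImplicit false
set_option linter.unusedSectionVars false
set_option linter.unusedSimpArgs false
set_option linter.unusedVariables false

namespace Cfsg.Agent.Helper84.PsuB

open Matrix Cfsg Cfsg.Agent.Helper13 Cfsg.Agent.Helper13.AutPSLTv
open Cfsg.Agent.Helper84.PsuDef Cfsg.Agent.Helper84.PslMat1 Cfsg.Agent.Helper84.PsuA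

variable {n : ℕ} {F : Type*} [Field F] [Fintype F] {q : ℕ}

/-- admissible parameters of an Eichler element -/
structure Adm (hF : Fintype.card F = q ^ 2) (u w : Fin n → F) (t : F) : Prop where
  iso : hermJ n F q u u = 0
  orth : hermJ n F q w u = 0
  tr : t + frobQ hF t + hermJ n F q w w = 0

variable (hF : Fintype.card F = q ^ 2)

theorem Adm.orth' {hF : Fintype.card F = q ^ 2} {u w : Fin n → F} {t : F} (h : Adm hF u w t) :
    hermJ n F q u w = 0 := by
  rw [hJ_conj hF, h.orth, map_zero]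

/-- the underlying element of `SL_n` -/
noncomputable def eichSL (u w : Fin n → F) (t : F) : Matrix.SpecialLinearGroup (Fin n) F :=
  tv (w + t • u) (cov hF u) 1 * tv (-u) (cov hF w) 1

theorem eichSL_act {u w : Fin n → F} {t : F} (h : Adm hF u w t) (x : Fin n → F) :
    (eichSL hF u w t).val *ᵥ x =
      x + hermJ n F q x u • w - hermJ n F q x w • u + (t * hermJ n F q x u) • u := by
  have h1 : cov hF u ⬝ᵥ (w + t • u) = 0 := by
    rw [cov_dot, hJ_add_left, hJ_smul_left, h.orth, h.iso, mul_zero, add_zero]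
  have h2 : cov hF w ⬝ᵥ (-u) = 0 := by
    rw [cov_dot, hJ_neg_left, h.orth', neg_zero]
  unfold eichSL
  rw [Matrix.SpecialLinearGroup.coe_mul, ← Matrix.mulVec_mulVec, tv_coe h1, tv_coe h2,
    tvm_mulVec, tvm_mulVec, cov_dot, cov_dot, hJ_add_left, hJ_smul_left, hJ_neg_left, h.iso]
  module

theorem eichSL_mem {u w : Fin n → F} {t : F} (h : Adm hF u w t) :
    eichSL hF u w t ∈ SUJ n F q := by
  intro x y
  show hermJ n F q ((eichSL hF u w t).val *ᵥ x) ((eichSL hF u w t).val *ᵥ y) = hermJ n F q x y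
  rw [eichSL_act hF h, eichSL_act hF h]
  simp only [hJ_add_left, hJ_sub_left, hJ_smul_left, hJ_add_right hF, hJ_sub_right hF,
    hJ_smul_right hF, map_mul, h.iso, h.orth, h.orth']
  rw [hJ_conj hF y u, hJ_conj hF y w]
  linear_combination (hermJ n F q x u * frobQ hF (hermJ n F q y u)) * h.tr

open Classical in
/-- the Eichler element `E(u,w,t)` (the identity for non-admissible parameters) -/
noncomputable def eich (u w : Fin n → F) (t : F) : SUJ n F q :=
  if h : Adm hF u w t then ⟨eichSL hF u w t, eichSL_mem hF h⟩ else 1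

theorem eich_act {u w : Fin n → F} {t : F} (h : Adm hF u w t) (x : Fin n → F) :
    mt (eich hF u w t) *ᵥ x =
      x + hermJ n F q x u • w - hermJ n F q x w • u + (t * hermJ n F q x u) • u := by
  unfold eich
  rw [dif_pos h]
  exact eichSL_act hF h x

theorem adm_mul {u w w' : Fin n → F} {t t' : F} (h : Adm hF u w t) (h' : Adm hF u w' t') :
    Adm hF u (w + w') (t + t' - hermJ n F q w' w) := by
  refine ⟨h.iso, by rw [hJ_add_left, h.orth, h'.orth, add_zero], ?_⟩
  simp only [hJ_add_left, hJ_add_right hF, map_add, map_sub]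
  rw [← hJ_conj hF w' w]
  linear_combination h.tr + h'.tr

theorem eich_mul {u w w' : Fin n → F} {t t' : F} (h : Adm hF u w t) (h' : Adm hF u w' t') :
    eich hF u w t * eich hF u w' t' = eich hF u (w + w') (t + t' - hermJ n F q w' w) := by
  apply su_ext
  intro x
  rw [act_mul, eich_act hF h', eich_act hF h, eich_act hF (adm_mul hF h h')]
  simp only [hJ_add_left, hJ_sub_left, hJ_smul_left, hJ_add_right hF, h.iso, h.orth, h'.orth,
    h.orth', h'.orth']
  module

theorem adm_zero {u : Fin n → F} (hu : hermJ n F q u u = 0) : Adm hF u 0 0 :=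
  ⟨hu, hJ_zero_left _, by rw [map_zero, hJ_zero_left, add_zero, add_zero]⟩

theorem eich_zero {u : Fin n → F} (hu : hermJ n F q u u = 0) : eich hF u 0 0 = 1 := by
  apply su_ext
  intro x
  rw [eich_act hF (adm_zero hF hu), act_one, hJ_zero_right hF]
  simp

theorem adm_inv {u w : Fin n → F} {t : F} (h : Adm hF u w t) : Adm hF u (-w) (frobQ hF t) := by
  refine ⟨h.iso, by rw [hJ_neg_left, h.orth, neg_zero], ?_⟩
  rw [frobQ_frobQ, hJ_neg_left, hJ_neg_right hF, neg_neg]
  linear_combination h.tr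

theorem eich_inv {u w : Fin n → F} {t : F} (h : Adm hF u w t) :
    (eich hF u w t)⁻¹ = eich hF u (-w) (frobQ hF t) := by
  rw [inv_eq_iff_mul_eq_one, eich_mul hF h (adm_inv hF h)]
  have e1 : w + -w = 0 := add_neg_cancel w
  have e2 : t + frobQ hF t - hermJ n F q (-w) w = 0 := by
    rw [hJ_neg_left]
    linear_combination h.tr
  rw [e1, e2, eich_zero hF h.iso]

theorem adm_conj (g : SUJ n F q) {u w : Fin n → F} {t : F} (h : Adm hF u w t) :
    Adm hF (mt g *ᵥ u) (mt g *ᵥ w) t :=
  ⟨by rw [pres, h.iso], by rw [pres, h.orth], by rw [pres]; exact h.tr⟩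

theorem conj_eich (g : SUJ n F q) {u w : Fin n → F} {t : F} (h : Adm hF u w t) :
    g * eich hF u w t * g⁻¹ = eich hF (mt g *ᵥ u) (mt g *ᵥ w) t := by
  apply su_ext
  intro x
  rw [act_mul, act_mul, eich_act hF h, eich_act hF (adm_conj hF g h)]
  simp only [Matrix.mulVec_add, Matrix.mulVec_sub, Matrix.mulVec_smul, act_act_inv]
  rw [hJ_act_left g⁻¹ x u, hJ_act_left g⁻¹ x w, inv_inv]

theorem eich_fix {u w : Fin n → F} {t : F} (h : Adm hF u w t) {x : Fin n → F}
    (h1 : hermJ n F q x u = 0) (h2 : hermJ n F q x w = 0) : mt (eich hF u w t) *ᵥ x = x := by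
  rw [eich_act hF h, h1, h2]
  simp

/-! ### transvections -/

theorem adm_tv {u : Fin n → F} (hu : hermJ n F q u u = 0) {t : F} (ht : t + frobQ hF t = 0) :
    Adm hF u 0 t :=
  ⟨hu, hJ_zero_left _, by rw [hJ_zero_left, add_zero]; exact ht⟩

theorem tvJ_act {u : Fin n → F} (hu : hermJ n F q u u = 0) {t : F} (ht : t + frobQ hF t = 0)
    (x : Fin n → F) : mt (eich hF u 0 t) *ᵥ x = x + (t * hermJ n F q x u) • u := by
  rw [eich_act hF (adm_tv hF hu ht), hJ_zero_right hF]
  simp

theorem tvJ_mul {u : Fin n → F} (hu : hermJ n F q u u = 0) {t t' : F}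
    (ht : t + frobQ hF t = 0) (ht' : t' + frobQ hF t' = 0) :
    eich hF u 0 t * eich hF u 0 t' = eich hF u 0 (t + t') := by
  rw [eich_mul hF (adm_tv hF hu ht) (adm_tv hF hu ht'), hJ_zero_left, sub_zero, add_zero]

theorem tvJ_pow {u : Fin n → F} (hu : hermJ n F q u u = 0) {t : F} (ht : t + frobQ hF t = 0)
    (k : ℕ) : eich hF u 0 t ^ k = eich hF u 0 (k * t) := by
  induction k with
  | zero => rw [pow_zero, Nat.cast_zero, zero_mul, eich_zero hF hu]
  | succ k ih =>
    have hk : (k : F) * t + frobQ hF ((k : F) * t) = 0 := by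
      rw [map_mul, map_natCast]
      linear_combination (k : F) * ht
    rw [pow_succ, ih, tvJ_mul hF hu hk ht]
    congr 1
    push_cast
    ring

theorem tvJ_pow_char (p : ℕ) [CharP F p] {u : Fin n → F} (hu : hermJ n F q u u = 0) {t : F}
    (ht : t + frobQ hF t = 0) : eich hF u 0 t ^ p = 1 := by
  rw [tvJ_pow hF hu ht, CharP.cast_eq_zero, zero_mul, eich_zero hF hu]

theorem eich_pow {u w : Fin n → F} {t : F} (h : Adm hF u w t) (k : ℕ) :
    ∃ t' : F, Adm hF u (k • w) t' ∧ eich hF u w t ^ k = eich hF u (k • w) t' := by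
  induction k with
  | zero =>
    refine ⟨0, ?_, ?_⟩
    · rw [zero_smul]; exact adm_zero hF h.iso
    · rw [pow_zero, zero_smul, eich_zero hF h.iso]
  | succ k ih =>
    obtain ⟨t', h', e⟩ := ih
    refine ⟨t' + t - hermJ n F q w (k • w), ?_, ?_⟩
    · have := adm_mul hF h' h
      rwa [← succ_nsmul] at this
    · rw [pow_succ, e, eich_mul hF h' h, ← succ_nsmul]

theorem eich_pow_char_sq (p : ℕ) [CharP F p] {u w : Fin n → F} {t : F} (h : Adm hF u w t) :
    eich hF u w t ^ (p ^ 2) = 1 := by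
  obtain ⟨t', h', e⟩ := eich_pow hF h p
  have hz : p • w = 0 := by
    rw [← Nat.cast_smul_eq_nsmul F, CharP.cast_eq_zero, zero_smul]
  rw [hz] at h' e
  have ht' : t' + frobQ hF t' = 0 := by
    have := h'.tr
    rwa [hJ_zero_left, add_zero] at this
  rw [pow_two, pow_mul, e, tvJ_pow_char hF p h.iso ht']

/-- rescaling the vector of a transvection -/
theorem tvJ_smul {u : Fin n → F} (hu : hermJ n F q u u = 0) {t : F} (ht : t + frobQ hF t = 0)
    (a : F) : eich hF (a • u) 0 t = eich hF u 0 (t * (a * frobQ hF a)) := by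
  have hu' : hermJ n F q (a • u) (a • u) = 0 := by
    rw [hJ_smul_left, hJ_smul_right hF, hu, mul_zero, mul_zero]
  have ht' : t * (a * frobQ hF a) + frobQ hF (t * (a * frobQ hF a)) = 0 := by
    rw [map_mul, map_mul, frobQ_frobQ]
    linear_combination (a * frobQ hF a) * ht
  apply su_ext
  intro x
  rw [tvJ_act hF hu' ht, tvJ_act hF hu ht', hJ_smul_right hF, smul_smul]
  congr 2
  ring

end Cfsg.Agent.Helper84.PsuB
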