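import Mathlib
import Cfsg.Agent.Lib.Helper84.PsuB

/-!
# The upper unitriangular subgroup `U0` of `SUJ` and its normalizer
-/

set_option autoImplicit false
set_option linter.unusedSectionVars false
set_option linter.unusedSimpArgs false
set_option linter.unusedVariables false

namespace Cfsg.Agent.Helper84.PsuC

open Matrix Cfsg Cfsg.Agent.Helper13 Cfsg.Agent.Helper13.AutPSLTv Cfsg.Agent.Helper13.AutPSLSylow
open Cfsg.Agent.Helper84.PsuDef Cfsg.Agent.Helper84.PslMat1 Cfsg.Agent.Helper84.PsuA
open Cfsg.Agent.Helper84.PsuB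

variable {n : ℕ} {F : Type*} [Field F] [Fintype F] {q : ℕ}

/-! ### facts on the field -/

section field

variable (hF : Fintype.card F = q ^ 2)

include hF

theorem exists_tz : ∃ θ : F, θ ≠ 0 ∧ θ + frobQ hF θ = 0 := by
  obtain ⟨a, ha⟩ : ∃ a : F, frobQ hF a ≠ a := by
    by_contra hcon
    push Not at hcon
    exact frobQ_ne_id hF (RingHom.ext hcon)
  refine ⟨a - frobQ hF a, sub_ne_zero.2 (Ne.symm ha), ?_⟩
  rw [map_sub, frobQ_frobQ]
  ring

theorem exists_tr (s : F) (hs : frobQ hF s = s) : ∃ a : F, a + frobQ hF a = s :=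
  trace_surj_involution (frobQ hF) (frobQ_ne_id hF) (frobQ_frobQ hF) s hs

theorem hJ_self_fix (w : Fin n → F) : frobQ hF (hermJ n F q w w) = hermJ n F q w w :=
  (hJ_conj hF w w).symm

theorem exists_adm_t {u w : Fin n → F} (h1 : hermJ n F q u u = 0) (h2 : hermJ n F q w u = 0) :
    ∃ t : F, Adm hF u w t := by
  obtain ⟨t, ht⟩ := exists_tr hF (-hermJ n F q w w) (by rw [map_neg, hJ_self_fix hF])
  exact ⟨t, h1, h2, by rw [ht]; ring⟩

end field

theorem pow_p_eq_one {p : ℕ} [Fact p.Prime] [CharP F p] {a : F} {k : ℕ} (h : a ^ (p ^ k) = 1) :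
    a = 1 := by
  have h1 : (a - 1) ^ (p ^ k) = 0 := by rw [sub_pow_char_pow, h, one_pow, sub_self]
  exact sub_eq_zero.1 (pow_eq_zero_iff (pow_ne_zero k (Fact.out : p.Prime).ne_zero) |>.1 h1)

/-! ### the subgroup `U0` -/

variable (n F q) in
/-- the upper unitriangular matrices of `SUJ` -/
def U0 : Subgroup (SUJ n F q) := (UT n F).subgroupOf (SUJ n F q)

theorem mem_U0 {g : SUJ n F q} : g ∈ U0 n F q ↔ IsUT (mt g) := Iff.rfl

theorem mem_U0_iff_act {g : SUJ n F q} : g ∈ U0 n F q ↔
    ∀ c r : Fin n, c ≤ r → (mt g *ᵥ (ee c : Fin n → F)) r = if r = c then 1 else 0 := by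
  rw [mem_U0]
  constructor
  · intro h c r hcr
    rw [act_ee]
    exact h r c hcr
  · intro h r c hcr
    rw [← act_ee]
    exact h c r hcr

theorem UT_isPGroup (p : ℕ) [Fact p.Prime] [CharP F p] : IsPGroup p (UT n F) := by
  obtain ⟨k, -, hk⟩ := FiniteField.card F p
  apply IsPGroup.of_card (n := (k : ℕ) * (n * (n - 1) / 2))
  rw [card_UT, hk, pow_mul]

theorem U0_isPGroup (p : ℕ) [Fact p.Prime] [CharP F p] : IsPGroup p (U0 n F q) :=
  (UT_isPGroup p).comap_subtype

theorem U0_pow (p : ℕ) [Fact p.Prime] [CharP F p] {u : SUJ n F q} (hu : u ∈ U0 n F q) :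
    ∃ k : ℕ, u ^ (p ^ k) = 1 := by
  obtain ⟨k, hk⟩ := U0_isPGroup (n := n) (F := F) (q := q) p ⟨u, hu⟩
  refine ⟨k, ?_⟩
  have := congrArg Subtype.val hk
  simpa using this

section withF

variable (hF : Fintype.card F = q ^ 2)

include hF

theorem ee_iso {k : Fin n} (hk : k ≠ Fin.rev k) : hermJ n F q (ee k : Fin n → F) (ee k) = 0 := by
  rw [hJ_ee_ee hF, if_neg hk]

/-- Eichler elements along `e_k` in the first half with `w` supported below `k'` lie in `U0` -/
theorem eich_mem_U0 {k : Fin n} {w : Fin n → F} {t : F} (h : Adm hF (ee k) w t)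
    (hk : k < Fin.rev k) (hw : ∀ i, Fin.rev k ≤ i → w i = 0) :
    eich hF (ee k) w t ∈ U0 n F q := by
  rw [mem_U0_iff_act]
  intro c r hcr
  rw [eich_act hF h]
  simp only [Pi.add_apply, Pi.sub_apply, Pi.smul_apply, smul_eq_mul, hJ_ee_ee hF,
    hJ_ee_left hF]
  by_cases hc : c = Fin.rev k
  · have hr : Fin.rev k ≤ r := hc ▸ hcr
    have hrk : r ≠ k := fun e => absurd (e ▸ hr) (not_le.2 hk)
    rw [if_pos hc, hw r hr, ee_ne hrk, ee_apply]
    ring
  · rw [if_neg hc]
    by_cases hrk : r = k
    · have : Fin.rev k ≤ Fin.rev c := Fin.rev_le_rev.2 (hrk ▸ hcr)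
      rw [hw _ this, map_zero, ee_apply]
      ring
    · rw [ee_ne hrk, ee_apply]
      ring

end withF

/-! ### upper triangular matrices -/

/-- upper triangular matrices -/
def IsUp (M : Matrix (Fin n) (Fin n) F) : Prop := ∀ i j : Fin n, j < i → M i j = 0

theorem IsUp.mul {A B : Matrix (Fin n) (Fin n) F} (hA : IsUp A) (hB : IsUp B) :
    IsUp (A * B) ∧ ∀ i, (A * B) i i = A i i * B i i := by
  constructor
  · intro i j hji
    rw [Matrix.mul_apply]
    apply Finset.sum_eq_zero
    intro l _
    by_cases hl : l < i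
    · rw [hA i l hl, zero_mul]
    · push Not at hl
      rw [hB l j (lt_of_lt_of_le hji hl), mul_zero]
  · intro i
    rw [Matrix.mul_apply, Finset.sum_eq_single i]
    · intro l _ hli
      rcases lt_or_gt_of_ne hli with h | h
      · rw [hA i l h, zero_mul]
      · rw [hB l i h, mul_zero]
    · intro h
      exact absurd (Finset.mem_univ _) h

theorem isUp_one : IsUp (1 : Matrix (Fin n) (Fin n) F) := by
  intro i j hji
  rw [Matrix.one_apply_ne hji.ne']

theorem IsUp.pow {A : Matrix (Fin n) (Fin n) F} (hA : IsUp A) (k : ℕ) :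
    IsUp (A ^ k) ∧ ∀ i, (A ^ k) i i = A i i ^ k := by
  induction k with
  | zero =>
    refine ⟨by rw [pow_zero]; exact isUp_one, fun i => ?_⟩
    rw [pow_zero, pow_zero, Matrix.one_apply_eq]
  | succ k ih =>
    obtain ⟨h1, h2⟩ := ih
    have := h1.mul hA
    refine ⟨by rw [pow_succ]; exact this.1, fun i => ?_⟩
    rw [pow_succ, this.2, h2, pow_succ]

theorem isUT_of_isUp {A : Matrix (Fin n) (Fin n) F} (hA : IsUp A) (hd : ∀ i, A i i = 1) :
    IsUT A := by
  intro i j hji
  rcases eq_or_lt_of_le hji with h | h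
  · rw [h, if_pos rfl, hd]
  · rw [if_neg h.ne', hA i j h]

theorem isUp_of_isUT {A : Matrix (Fin n) (Fin n) F} (hA : IsUT A) : IsUp A := by
  intro i j hji
  rw [hA i j hji.le, if_neg hji.ne']

/-- triangularity from witnesses -/
theorem upper_of_witness (g : Matrix (Fin n) (Fin n) F)
    (h : ∀ a i : Fin n, a < i → ∃ (u u' : Matrix (Fin n) (Fin n) F) (c : F), c ≠ 0 ∧ IsUT u' ∧
      (∀ x, a < x → u x i = if x = i then 1 else 0) ∧ u a i = c ∧ g * u = u' * g) :
    IsUp g := by
  have key : ∀ d : ℕ, ∀ i : Fin n, n - (i : ℕ) = d → ∀ e : ℕ, ∀ a : Fin n, (a : ℕ) = e → a < i →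
      g i a = 0 := by
    intro d
    induction d using Nat.strong_induction_on with
    | _ d ih =>
      intro i hi e
      induction e using Nat.strong_induction_on with
      | _ e ih2 =>
        intro a hae hai
        obtain ⟨u, u', c, hc, hu', hu, huc, e1⟩ := h a i hai
        have e2 := congrFun (congrFun e1 i) i
        have e3 : (g * u) i i = g i i + g i a * c := by
          rw [Matrix.mul_apply, ← Finset.add_sum_erase _ _ (Finset.mem_univ i),
            Finset.sum_eq_single a]
          · rw [hu i hai, if_pos rfl, mul_one, huc]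
          · intro x hx hxa
            rcases lt_or_gt_of_ne hxa with hlt | hgt
            · have : (x : ℕ) < e := by rw [← hae]; exact hlt
              rw [ih2 (x : ℕ) this x rfl (lt_trans hlt hai), zero_mul]
            · rw [hu x hgt, if_neg (Finset.ne_of_mem_erase hx), mul_zero]
          · intro ha
            exact absurd (Finset.mem_erase.2 ⟨hai.ne, Finset.mem_univ _⟩) ha
        have e4 : (u' * g) i i = g i i := by
          rw [Matrix.mul_apply, Finset.sum_eq_single i]
          · rw [hu' i i le_rfl, if_pos rfl, one_mul]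
          · intro k _ hki
            by_cases hk : k ≤ i
            · rw [hu' i k hk, if_neg (Ne.symm hki), zero_mul]
            · push Not at hk
              have hk' : n - (k : ℕ) < d := by
                have h1 : (i : ℕ) < (k : ℕ) := hk
                have := k.2
                omega
              rw [ih (n - (k : ℕ)) hk' k rfl (i : ℕ) i rfl hk, mul_zero]
          · intro h'
            exact absurd (Finset.mem_univ i) h'
        rw [e3, e4] at e2
        have e5 : g i a * c = 0 := add_eq_left.1 e2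
        exact (mul_eq_zero.1 e5).resolve_right hc
  intro i a hai
  exact key _ i rfl _ a rfl hai

section withF

variable (hF : Fintype.card F = q ^ 2)

include hF

/-- witnesses in `U0` -/
theorem exists_witness (a i : Fin n) (hai : a < i) :
    ∃ w : SUJ n F q, w ∈ U0 n F q ∧ ∃ c : F, c ≠ 0 ∧
      (∀ x, a < x → mt w x i = if x = i then 1 else 0) ∧ mt w a i = c := by
  by_cases hi : i = Fin.rev a
  · -- the transvection along `e_a`
    obtain ⟨θ, hθ0, hθ⟩ := exists_tz hF
    have ha : a < Fin.rev a := hi ▸ hai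
    have hiso := ee_iso (n := n) (F := F) hF ha.ne
    have hadm := adm_tv hF hiso hθ
    refine ⟨eich hF (ee a) 0 θ, eich_mem_U0 hF hadm ha (fun _ _ => rfl), θ, hθ0, ?_, ?_⟩
    · intro x hx
      rw [← act_ee, tvJ_act hF hiso hθ, hJ_ee_ee hF, if_pos hi]
      simp only [Pi.add_apply, Pi.smul_apply, smul_eq_mul]
      rw [ee_ne hx.ne', ee_apply]
      ring
    · rw [← act_ee, tvJ_act hF hiso hθ, hJ_ee_ee hF, if_pos hi]
      simp only [Pi.add_apply, Pi.smul_apply, smul_eq_mul]
      rw [ee_ne hai.ne, ee_same]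
      ring
  · by_cases ha : a < Fin.rev a
    · have hiso := ee_iso (n := n) (F := F) hF ha.ne
      have horth : hermJ n F q (ee (Fin.rev i) : Fin n → F) (ee a) = 0 := by
        rw [hJ_ee_ee hF, if_neg]
        intro e
        exact hai.ne (Fin.rev_inj.1 e).symm
      obtain ⟨t, hadm⟩ := exists_adm_t hF hiso horth
      have hmem : eich hF (ee a) (ee (Fin.rev i)) t ∈ U0 n F q := by
        apply eich_mem_U0 hF hadm ha
        intro x hx
        apply ee_ne
        intro e
        have h1 : Fin.rev i < Fin.rev a := Fin.rev_lt_rev.2 hai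
        rw [← e] at h1
        exact absurd hx (not_le.2 h1)
      have hcol : mt (eich hF (ee a) (ee (Fin.rev i)) t) *ᵥ (ee i : Fin n → F) =
          ee i - ee a := by
        rw [eich_act hF hadm, hJ_ee_ee hF, if_neg hi, hJ_ee_ee hF, Fin.rev_rev, if_pos rfl]
        simp
      refine ⟨_, hmem, -1, by simp, ?_, ?_⟩
      · intro x hx
        rw [← act_ee, hcol, Pi.sub_apply, ee_ne hx.ne', ee_apply, sub_zero]
      · rw [← act_ee, hcol, Pi.sub_apply, ee_ne hai.ne, ee_same, zero_sub]
    · push Not at ha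
      have h1 : Fin.rev i < Fin.rev a := Fin.rev_lt_rev.2 hai
      have h2 : Fin.rev i < a := lt_of_lt_of_le h1 ha
      have h3 : Fin.rev i < i := lt_trans h2 hai
      have hk : Fin.rev i < Fin.rev (Fin.rev i) := by rw [Fin.rev_rev]; exact h3
      have hiso := ee_iso (n := n) (F := F) hF hk.ne
      have horth : hermJ n F q (ee a : Fin n → F) (ee (Fin.rev i)) = 0 := by
        rw [hJ_ee_ee hF, Fin.rev_rev, if_neg hai.ne]
      obtain ⟨t, hadm⟩ := exists_adm_t hF hiso horth
      have hmem : eich hF (ee (Fin.rev i)) (ee a) t ∈ U0 n F q := by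
        apply eich_mem_U0 hF hadm hk
        intro x hx
        rw [Fin.rev_rev] at hx
        exact ee_ne (lt_of_lt_of_le hai hx).ne'
      have hcol : mt (eich hF (ee (Fin.rev i)) (ee a) t) *ᵥ (ee i : Fin n → F) =
          ee i + ee a + (t - hermJ n F q (ee i : Fin n → F) (ee a)) • ee (Fin.rev i) := by
        rw [eich_act hF hadm, hJ_ee_ee hF, Fin.rev_rev, if_pos rfl]
        module
      refine ⟨_, hmem, 1, one_ne_zero, ?_, ?_⟩
      · intro x hx
        rw [← act_ee, hcol]
        simp only [Pi.add_apply, Pi.smul_apply, smul_eq_mul]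
        rw [ee_ne hx.ne', ee_ne (lt_trans h2 hx).ne', ee_apply]
        ring
      · rw [← act_ee, hcol]
        simp only [Pi.add_apply, Pi.smul_apply, smul_eq_mul]
        rw [ee_ne hai.ne, ee_same, ee_ne h2.ne']
        ring

/-- an element normalizing `U0` is upper triangular -/
theorem upper_of_normalizes (g : SUJ n F q) (hg : ∀ u ∈ U0 n F q, g * u * g⁻¹ ∈ U0 n F q) :
    IsUp (mt g) := by
  apply upper_of_witness
  intro a i hai
  obtain ⟨w, hw, c, hc, h1, h2⟩ := exists_witness hF a i hai
  refine ⟨mt w, mt (g * w * g⁻¹), c, hc, mem_U0.1 (hg w hw), h1, h2, ?_⟩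
  rw [← mt_mul, ← mt_mul]
  congr 1
  group

end withF

end Cfsg.Agent.Helper84.PsuC
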