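import Mathlib
import Cfsg.Agent.Lib.Helper84.PsuC
import Cfsg.Agent.Lib.Helper84.PslGrp
import Cfsg.Agent.S3751

/-!
# `U0` is a Sylow subgroup of `SUJ`; the centre of `SUJ`
-/

set_option autoImplicit false
set_option linter.unusedSectionVars false
set_option linter.unusedSimpArgs false
set_option linter.unusedVariables false

namespace Cfsg.Agent.Helper84.PsuD

open Matrix Cfsg Cfsg.Agent.Helper13 Cfsg.Agent.Helper13.AutPSLTv Cfsg.Agent.Helper13.AutPSLSylow
open Cfsg.Agent.Helper84.PsuDef Cfsg.Agent.Helper84.PslMat1 Cfsg.Agent.Helper84.PslMat2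
open Cfsg.Agent.Helper84.PsuA Cfsg.Agent.Helper84.PsuB Cfsg.Agent.Helper84.PsuC
open Cfsg.Agent.Helper84.PslGrp

variable {n : ℕ} {F : Type*} [Field F] [Fintype F] {q : ℕ}

/-! ### upper triangular elements normalize `U0` -/

theorem up_conj_mem {g : SUJ n F q} (hg : IsUp (mt g)) {u : SUJ n F q} (hu : u ∈ U0 n F q) :
    g * u * g⁻¹ ∈ U0 n F q ∧ g⁻¹ * u * g ∈ U0 n F q := by
  obtain ⟨t, v, hv, e⟩ := upper_decomp (g : Matrix.SpecialLinearGroup (Fin n) F) hg
  have hu' : (u : Matrix.SpecialLinearGroup (Fin n) F) ∈ UT n F := hu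
  constructor
  · show ((g * u * g⁻¹ : SUJ n F q) : Matrix.SpecialLinearGroup (Fin n) F) ∈ UT n F
    have e1 : ((g * u * g⁻¹ : SUJ n F q) : Matrix.SpecialLinearGroup (Fin n) F) =
        dg t * (v * (u : Matrix.SpecialLinearGroup (Fin n) F) * v⁻¹) * (dg t)⁻¹ := by
      rw [Subgroup.coe_mul, Subgroup.coe_mul, Subgroup.coe_inv, e]
      group
    rw [e1]
    exact dg_conj_UT t ((UT n F).mul_mem ((UT n F).mul_mem hv hu') ((UT n F).inv_mem hv))
  · show ((g⁻¹ * u * g : SUJ n F q) : Matrix.SpecialLinearGroup (Fin n) F) ∈ UT n F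
    have e1 : ((g⁻¹ * u * g : SUJ n F q) : Matrix.SpecialLinearGroup (Fin n) F) =
        v⁻¹ * (dg t⁻¹ * (u : Matrix.SpecialLinearGroup (Fin n) F) * (dg t⁻¹)⁻¹) * v := by
      rw [Subgroup.coe_mul, Subgroup.coe_mul, Subgroup.coe_inv, e, dg_inv]
      group
    rw [e1]
    exact (UT n F).mul_mem ((UT n F).mul_mem ((UT n F).inv_mem hv) (dg_conj_UT t⁻¹ hu')) hv

theorem up_mem_normalizer {g : SUJ n F q} (hg : IsUp (mt g)) :
    g ∈ Subgroup.normalizer ((U0 n F q : Subgroup (SUJ n F q)) : Set (SUJ n F q)) :=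
  mem_normalizer_of_conj_mem _ g (fun _ hu => (up_conj_mem hg hu).1)
    (fun _ hu => (up_conj_mem hg hu).2)

theorem prod_diag (g : SUJ n F q) (hg : IsUp (mt g)) : ∏ i, mt g i i = 1 := by
  have h1 : (mt g).det = 1 := (g : Matrix.SpecialLinearGroup (Fin n) F).2
  rw [← h1]
  symm
  apply Matrix.det_of_isUpperTriangular
  intro i j hji
  exact hg i j hji

section withF

variable (hF : Fintype.card F = q ^ 2)

include hF

theorem frobQ_eq_one {x : F} (h : frobQ hF x = 1) : x = 1 := by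
  have := congrArg (frobQ hF) h
  rwa [frobQ_frobQ, map_one] at this

/-- the diagonal of an upper triangular element -/
theorem diag_rel {g : SUJ n F q} (hg : IsUp (mt g)) (j : Fin n) :
    mt g j j * frobQ hF (mt g (Fin.rev j) (Fin.rev j)) = 1 := by
  have h1 := pres g (ee j : Fin n → F) (ee (Fin.rev j))
  rw [hJ_ee_ee hF, Fin.rev_rev, if_pos rfl] at h1
  unfold hermJ at h1
  rw [Finset.sum_eq_single j] at h1
  · rw [act_ee, act_ee] at h1
    rw [frobQ_apply]
    exact h1
  · intro i _ hij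
    rw [act_ee, act_ee]
    rcases lt_or_gt_of_ne hij with h | h
    · rw [hg (Fin.rev i) (Fin.rev j) (Fin.rev_lt_rev.2 h), zero_pow (q_pos hF).ne', mul_zero]
    · rw [hg i j h, zero_mul]
  · intro h
    exact absurd (Finset.mem_univ _) h

/-- an upper triangular element with trivial diagonal on the first half lies in `U0` -/
theorem mem_U0_of_up {g : SUJ n F q} (hg : IsUp (mt g))
    (hd : ∀ j : Fin n, j < Fin.rev j → mt g j j = 1) : g ∈ U0 n F q := by
  rw [mem_U0]
  apply isUT_of_isUp hg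
  have hd2 : ∀ j : Fin n, Fin.rev j < j → mt g j j = 1 := by
    intro j hj
    have h1 := diag_rel hF hg (Fin.rev j)
    rw [Fin.rev_rev, hd (Fin.rev j) (by rw [Fin.rev_rev]; exact hj), one_mul] at h1
    exact frobQ_eq_one hF h1
  intro j
  rcases lt_trichotomy j (Fin.rev j) with h | h | h
  · exact hd j h
  · have h1 := prod_diag g hg
    rw [Finset.prod_eq_single j] at h1
    · exact h1
    · intro i _ hij
      rcases lt_trichotomy i (Fin.rev i) with h' | h' | h'
      · exact hd i h'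
      · exfalso
        apply hij
        apply Fin.ext
        have e1 := congrArg Fin.val h
        have e2 := congrArg Fin.val h'
        rw [Fin.val_rev] at e1 e2
        omega
      · exact hd2 i h'
    · intro h'
      exact absurd (Finset.mem_univ _) h'
  · exact hd2 j h

end withF

/-- a `p`-element which is upper triangular lies in `U0` -/
theorem mem_U0_of_up_pow (hF : Fintype.card F = q ^ 2) {p : ℕ} [Fact p.Prime] [CharP F p]
    {g : SUJ n F q} (hg : IsUp (mt g)) {k : ℕ} (hk : g ^ (p ^ k) = 1) : g ∈ U0 n F q := by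
  apply mem_U0_of_up hF hg
  intro j _
  have h1 := (hg.pow (p ^ k)).2 j
  have h2 : mt g ^ (p ^ k) = 1 := by
    have : ∀ m : ℕ, mt (g ^ m) = mt g ^ m := by
      intro m
      induction m with
      | zero => rfl
      | succ m ih => rw [pow_succ, pow_succ, mt_mul, ih]
    rw [← this, hk, mt_one]
  rw [h2, Matrix.one_apply_eq] at h1
  exact pow_p_eq_one h1.symm

/-- `U0` is a Sylow `p`-subgroup of `SUJ` -/
theorem exists_sylow_U0 (hF : Fintype.card F = q ^ 2) (p : ℕ) [Fact p.Prime] [CharP F p] :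
    ∃ P : Sylow p (SUJ n F q), (P : Subgroup (SUJ n F q)) = U0 n F q := by
  obtain ⟨P, hP⟩ := (U0_isPGroup (n := n) (F := F) (q := q) p).exists_le_sylow
  refine ⟨P, ?_⟩
  by_contra hne
  have hlt : U0 n F q < (P : Subgroup (SUJ n F q)) := lt_of_le_of_ne hP (Ne.symm hne)
  obtain ⟨x, hxP, hxU, hxN⟩ := Cfsg.Agent.S3751.exists_normalizer_mem P.isPGroup' hlt
  apply hxU
  have hup : IsUp (mt x) := by
    apply upper_of_normalizes hF
    intro u hu
    exact (Subgroup.mem_normalizer_iff.1 hxN u).1 hu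
  obtain ⟨k, hk⟩ := P.isPGroup' ⟨x, hxP⟩
  have hk' : x ^ (p ^ k) = 1 := by
    have := congrArg Subtype.val hk
    simpa using this
  exact mem_U0_of_up_pow hF hup hk'

/-! ### the centre -/

theorem eq_one_of_fix_basis {g : SUJ n F q}
    (h : ∀ j : Fin n, mt g *ᵥ (ee j : Fin n → F) = ee j) : g = 1 := by
  apply mt_injective
  rw [mt_one]
  ext r c
  rw [← act_ee, h c, Matrix.one_apply, ee_apply]

section centre

variable (hF : Fintype.card F = q ^ 2)

include hF

/-- a central element fixing `e_0` is trivial -/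
theorem central_fix (hn : 2 ≤ n) {z : SUJ n F q} (hz : z ∈ Subgroup.center (SUJ n F q))
    (h0 : mt z *ᵥ (ee ⟨0, by omega⟩ : Fin n → F) = ee ⟨0, by omega⟩) : z = 1 := by
  set i0 : Fin n := ⟨0, by omega⟩ with hi0
  have hr0 : i0 ≠ Fin.rev i0 := by
    intro e
    have := congrArg Fin.val e
    rw [Fin.val_rev] at this
    simp only [hi0] at this
    omega
  have hiso : hermJ n F q (ee (Fin.rev i0) : Fin n → F) (ee (Fin.rev i0)) = 0 := by
    rw [hJ_ee_ee hF, Fin.rev_rev, if_neg (Ne.symm hr0)]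
  have hfix : ∀ g : SUJ n F q, mt z *ᵥ (mt g *ᵥ (ee i0 : Fin n → F)) = mt g *ᵥ ee i0 := by
    intro g
    rw [← act_mul, ← Subgroup.mem_center_iff.1 hz g, act_mul, h0]
  -- `z` fixes `e_{0'}`
  obtain ⟨θ, hθ0, hθ⟩ := exists_tz hF
  have h1 : mt z *ᵥ (ee (Fin.rev i0) : Fin n → F) = ee (Fin.rev i0) := by
    have := hfix (eich hF (ee (Fin.rev i0)) 0 θ)
    rw [tvJ_act hF hiso hθ, hJ_ee_ee hF, Fin.rev_rev, if_pos rfl, mul_one, Matrix.mulVec_add,
      Matrix.mulVec_smul, h0, add_right_inj] at this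
    exact smul_right_injective _ hθ0 this
  apply eq_one_of_fix_basis
  intro j
  by_cases hj0 : j = i0
  · rw [hj0]; exact h0
  by_cases hj1 : j = Fin.rev i0
  · rw [hj1]; exact h1
  have horth : hermJ n F q (ee j : Fin n → F) (ee (Fin.rev i0)) = 0 := by
    rw [hJ_ee_ee hF, Fin.rev_rev, if_neg hj0]
  obtain ⟨t, hadm⟩ := exists_adm_t hF hiso horth
  have := hfix (eich hF (ee (Fin.rev i0)) (ee j) t)
  rw [eich_act hF hadm, hJ_ee_ee hF, Fin.rev_rev, if_pos rfl, hJ_ee_ee hF,
    if_neg (fun e => hj1 (by rw [e, Fin.rev_rev]))] at this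
  simp only [Matrix.mulVec_add, Matrix.mulVec_sub, Matrix.mulVec_smul, h0, h1, one_smul,
    zero_smul, sub_zero, mul_one] at this
  have e2 : mt z *ᵥ (ee j : Fin n → F) = ee j := by
    have e3 := add_left_cancel (add_right_cancel this)
    exact e3
  exact e2

/-- a central element of `p`-power order is trivial -/
theorem central_pow_eq_one (hn : 2 ≤ n) {p : ℕ} [Fact p.Prime] [CharP F p] {z : SUJ n F q}
    (hz : z ∈ Subgroup.center (SUJ n F q)) {k : ℕ} (hk : z ^ (p ^ k) = 1) : z = 1 := by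
  set i0 : Fin n := ⟨0, by omega⟩ with hi0
  have hr0 : i0 ≠ Fin.rev i0 := by
    intro e
    have := congrArg Fin.val e
    rw [Fin.val_rev] at this
    simp only [hi0] at this
    omega
  have hiso : hermJ n F q (ee i0 : Fin n → F) (ee i0) = 0 := by
    rw [hJ_ee_ee hF, if_neg hr0]
  obtain ⟨θ, hθ0, hθ⟩ := exists_tz hF
  have hadm := adm_tv hF hiso hθ
  have hc := conj_eich hF z hadm
  have hcomm : z * eich hF (ee i0) 0 θ * z⁻¹ = eich hF (ee i0) 0 θ := by
    rw [← Subgroup.mem_center_iff.1 hz, mul_inv_cancel_right]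
  rw [hcomm, Matrix.mulVec_zero] at hc
  have h1 := congrArg (fun g : SUJ n F q => mt g *ᵥ (ee (Fin.rev i0) : Fin n → F)) hc
  beta_reduce at h1
  have hiso' : hermJ n F q (mt z *ᵥ (ee i0 : Fin n → F)) (mt z *ᵥ ee i0) = 0 := by
    rw [pres, hiso]
  rw [tvJ_act hF hiso hθ, tvJ_act hF hiso' hθ, hJ_ee_ee hF, if_pos rfl, mul_one,
    add_right_inj] at h1
  set c := hermJ n F q (ee (Fin.rev i0) : Fin n → F) (mt z *ᵥ ee i0) with hc'
  have h2 : (ee i0 : Fin n → F) = c • (mt z *ᵥ ee i0) := by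
    have h3 : θ • (ee i0 : Fin n → F) = θ • (c • (mt z *ᵥ ee i0)) := by
      rw [h1, smul_smul]
    exact smul_right_injective _ hθ0 h3
  have hc0 : c ≠ 0 := by
    intro e
    rw [e, zero_smul] at h2
    have := congrFun h2 i0
    rw [ee_same] at this
    exact one_ne_zero this
  have h4 : mt z *ᵥ (ee i0 : Fin n → F) = c⁻¹ • ee i0 := by
    rw [h2, smul_smul, inv_mul_cancel₀ hc0, one_smul]
    rw [← h2]
  have h5 := act_pow_eigen z h4 (p ^ k)
  rw [hk, act_one] at h5
  have h6 : (c⁻¹) ^ (p ^ k) = 1 := by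
    have := congrFun h5 i0
    rw [Pi.smul_apply, ee_same, smul_eq_mul, mul_one] at this
    exact this.symm
  have h7 : c⁻¹ = 1 := pow_p_eq_one h6
  rw [h7, one_smul] at h4
  exact central_fix hF hn hz h4

end centre

end Cfsg.Agent.Helper84.PsuD
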