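import Mathlib
import Cfsg.Agent.Lib.Helper84.PsuD
import Cfsg.Agent.Lib.Helper84.PslCrit
import Cfsg.Agent.Lib.Helper84.FusO7
import Cfsg.Agent.Lib.Helper87.FusionAlperin

/-!
# The projection `SUJ → PSUJ`, the image of `U0` and the generating set
-/

set_option autoImplicit false
set_option linter.unusedSectionVars false
set_option linter.unusedSimpArgs false
set_option linter.unusedVariables false

namespace Cfsg.Agent.Helper84.PsuE

open Matrix Cfsg Cfsg.Agent.Helper13 Cfsg.Agent.Helper13.AutPSLTv Cfsg.Agent.Helper13.AutPSLSylow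
open Cfsg.Agent.Helper84.PsuDef Cfsg.Agent.Helper84.PslMat1 Cfsg.Agent.Helper84.PslMat2
open Cfsg.Agent.Helper84.PslMat3
open Cfsg.Agent.Helper84.PsuA Cfsg.Agent.Helper84.PsuB Cfsg.Agent.Helper84.PsuC
open Cfsg.Agent.Helper84.PsuD Cfsg.Agent.Helper84.PslGrp
open scoped Pointwise

/-! ### a generic centricity criterion -/

theorem centric_of_lift {G G' : Type*} [Group G] [Group G'] (π : G →* G') {p : ℕ}
    (U R : Subgroup G) (hRU : R ≤ U) (hU : ∀ u ∈ U, ∃ k : ℕ, u ^ (p ^ k) = 1)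
    (hπ : Function.Surjective π)
    (hcen : ∀ y : G, (∃ k : ℕ, y ^ (p ^ k) = 1) → (∀ r ∈ R, π y * π r = π r * π y) → y ∈ R) :
    (groupFusionSystem (U.map π)).IsCentric (R.map π) := by
  rw [Cfsg.Agent.Helper33.isCentric_groupFusionSystem_iff]
  refine ⟨Subgroup.map_mono hRU, fun g' _ x' hx' => ?_⟩
  obtain ⟨g, rfl⟩ := hπ g'
  obtain ⟨hx1, hx2⟩ := hx'
  obtain ⟨x, hxU, rfl⟩ := hx1
  rw [Cfsg.Agent.Helper33.mem_conj_smul]
  have e1 : (π g)⁻¹ * π x * π g = π (g⁻¹ * x * g) := by rw [map_mul, map_mul, map_inv]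
  rw [e1]
  apply Subgroup.mem_map_of_mem
  apply hcen
  · obtain ⟨k, hk⟩ := hU x hxU
    refine ⟨k, ?_⟩
    have : g⁻¹ * x * g = g⁻¹ * x * g⁻¹⁻¹ := by rw [inv_inv]
    rw [this, conj_pow, hk, mul_one, inv_inv, inv_mul_cancel]
  · intro r hr
    have hx2' := Subgroup.mem_centralizer_iff.1 hx2
    have h1 := hx2' (π g * π r * (π g)⁻¹)
      (Cfsg.Agent.Helper33.conj_mem_conj_smul (Subgroup.mem_map_of_mem π hr))
    rw [← e1]
    calc (π g)⁻¹ * π x * π g * π r = (π g)⁻¹ * (π x * (π g * π r * (π g)⁻¹)) * π g := by group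
      _ = (π g)⁻¹ * ((π g * π r * (π g)⁻¹) * π x) * π g := by rw [h1]
      _ = π r * ((π g)⁻¹ * π x * π g) := by group

variable {n : ℕ} {F : Type*} [Field F] [Fintype F] {q : ℕ}

/-- the projection `SUJ → PSUJ` -/
abbrev pj : SUJ n F q →* PSUJ n F q := QuotientGroup.mk' (Subgroup.center (SUJ n F q))

theorem pj_surjective : Function.Surjective (pj : SUJ n F q →* PSUJ n F q) :=
  QuotientGroup.mk'_surjective _

theorem pj_eq_one_iff {g : SUJ n F q} :
    (pj g : PSUJ n F q) = 1 ↔ g ∈ Subgroup.center (SUJ n F q) :=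
  QuotientGroup.eq_one_iff g

theorem pj_conj (g x : SUJ n F q) :
    (pj g : PSUJ n F q) * pj x * (pj g)⁻¹ = pj (g * x * g⁻¹) := by
  rw [map_mul, map_mul, map_inv]

variable (n F q) in
/-- the image of `U0` in `PSUJ` -/
def U0bar : Subgroup (PSUJ n F q) := (U0 n F q).map pj

theorem pj_mem_U0bar {u : SUJ n F q} (hu : u ∈ U0 n F q) : (pj u : PSUJ n F q) ∈ U0bar n F q :=
  Subgroup.mem_map_of_mem _ hu

section main

variable (hF : Fintype.card F = q ^ 2) {p : ℕ} [Fact p.Prime] [CharP F p]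

include hF

/-- an element of the centre fixing `e_0` is trivial -/
theorem pj_eq_one_of_fix (hn : 2 ≤ n) {g : SUJ n F q} (h : (pj g : PSUJ n F q) = 1)
    (h0 : mt g *ᵥ (ee ⟨0, by omega⟩ : Fin n → F) = ee ⟨0, by omega⟩) : g = 1 :=
  central_fix hF hn (pj_eq_one_iff.1 h) h0

/-- commuting modulo the centre with a `p`-element means commuting -/
theorem comm_of_pj_comm (hn : 2 ≤ n) {y r : SUJ n F q} {b : ℕ} (hr : r ^ (p ^ b) = 1)
    (h : (pj y : PSUJ n F q) * pj r = pj r * pj y) : y * r = r * y := by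
  have hz : y * r * y⁻¹ * r⁻¹ ∈ Subgroup.center (SUJ n F q) := by
    rw [← pj_eq_one_iff, map_mul, map_mul, map_mul, map_inv, map_inv, h]
    group
  have hcomm : Commute (y * r * y⁻¹ * r⁻¹) r := Subgroup.mem_center_iff.1 hz r |>.symm
  have h1 : (y * r * y⁻¹ * r⁻¹ * r) ^ (p ^ b) = 1 := by
    rw [inv_mul_cancel_right, conj_pow, hr, mul_one, mul_inv_cancel]
  rw [hcomm.mul_pow, hr, mul_one] at h1
  have h2 := central_pow_eq_one hF hn hz h1
  calc y * r = (y * r * y⁻¹ * r⁻¹) * (r * y) := by group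
    _ = r * y := by rw [h2, one_mul]

/-- a `p`-element whose image lies in the image of `U0` lies in `U0` -/
theorem mem_U0_of_mk_mem (hn : 2 ≤ n) {y : SUJ n F q} {k : ℕ} (hy : y ^ (p ^ k) = 1)
    (hmem : (pj y : PSUJ n F q) ∈ U0bar n F q) : y ∈ U0 n F q := by
  obtain ⟨u', hu', e⟩ := hmem
  obtain ⟨j, hj'⟩ := U0_pow (q := q) p hu'
  have e' : (QuotientGroup.mk u' : PSUJ n F q) = QuotientGroup.mk y := e
  have hζ : u'⁻¹ * y ∈ Subgroup.center (SUJ n F q) := QuotientGroup.eq.1 e'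
  have hyζ : y = u' * (u'⁻¹ * y) := by group
  have hcomm : Commute u' (u'⁻¹ * y) := Subgroup.mem_center_iff.1 hζ u'
  have h1 : (u'⁻¹ * y) ^ (p ^ (k + j)) = 1 := by
    have h2 : y ^ (p ^ (k + j)) = 1 := by rw [pow_add, pow_mul, hy, one_pow]
    have h3 : u' ^ (p ^ (k + j)) = 1 := by rw [pow_add, mul_comm, pow_mul, hj', one_pow]
    have h4 := hcomm.mul_pow (p ^ (k + j))
    rw [← hyζ, h2, h3, one_mul] at h4
    exact h4.symm
  have h5 := central_pow_eq_one hF hn hζ h1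
  rw [hyζ, h5, mul_one]
  exact hu'

/-- an element of `SUJ` whose image normalizes `U0bar` normalizes `U0` -/
theorem conj_mem_U0_of_normalizer (p : ℕ) [Fact p.Prime] [CharP F p] (hn : 2 ≤ n) {g : SUJ n F q}
    (hg : (pj g : PSUJ n F q) ∈
      Subgroup.normalizer ((U0bar n F q : Subgroup (PSUJ n F q)) : Set (PSUJ n F q)))
    {u : SUJ n F q} (hu : u ∈ U0 n F q) : g * u * g⁻¹ ∈ U0 n F q := by
  obtain ⟨k, hk⟩ := U0_pow (q := q) p hu
  apply mem_U0_of_mk_mem (p := p) hF hn (k := k)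
  · rw [conj_pow, hk, mul_one, mul_inv_cancel]
  · have := (Subgroup.mem_normalizer_iff.1 hg (pj u)).1 (pj_mem_U0bar hu)
    rw [pj_conj] at this
    exact this

/-- an element whose image normalizes `U0bar` is upper triangular -/
theorem up_of_normalizer (p : ℕ) [Fact p.Prime] [CharP F p] (hn : 2 ≤ n) {g : SUJ n F q}
    (hg : (pj g : PSUJ n F q) ∈
      Subgroup.normalizer ((U0bar n F q : Subgroup (PSUJ n F q)) : Set (PSUJ n F q))) :
    IsUp (mt g) :=
  upper_of_normalizes hF g (fun _ hu => conj_mem_U0_of_normalizer hF p hn hg hu)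

omit hF in
theorem pj_up_normalizer {g : SUJ n F q} (hg : IsUp (mt g)) :
    (pj g : PSUJ n F q) ∈
      Subgroup.normalizer ((U0bar n F q : Subgroup (PSUJ n F q)) : Set (PSUJ n F q)) :=
  Subgroup.le_normalizer_map pj (Subgroup.mem_map_of_mem pj (up_mem_normalizer hg))

omit hF in
theorem pj_pelement {k : SUJ n F q} {b : ℕ} (h : k ^ (p ^ b) = 1) :
    ∃ m : ℕ, orderOf (pj k : PSUJ n F q) = p ^ m := by
  have h1 : (pj k : PSUJ n F q) ^ (p ^ b) = 1 := by rw [← map_pow, h, map_one]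
  obtain ⟨m, -, hm⟩ := (Nat.dvd_prime_pow (Fact.out : p.Prime)).1 (orderOf_dvd_of_pow_eq_one h1)
  exact ⟨m, hm⟩

theorem pj_eich_pelement {u w : Fin n → F} {t : F} (h : Adm hF u w t) :
    ∃ m : ℕ, orderOf (pj (eich hF u w t) : PSUJ n F q) = p ^ m :=
  pj_pelement (eich_pow_char_sq hF p h)

end main

variable {p : ℕ} [Fact p.Prime]

/-- the generating set of the simplicity criterion -/
def GenSet (S : Sylow p (PSUJ n F q)) : Set (PSUJ n F q) :=
  {k | k ∈ Subgroup.normalizer ((S : Subgroup (PSUJ n F q)) : Set (PSUJ n F q)) ∧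
    ∃ R : Subgroup (PSUJ n F q),
      (groupFusionSystem (S : Subgroup (PSUJ n F q))).IsFullyNormalized R ∧
      (groupFusionSystem (S : Subgroup (PSUJ n F q))).IsCentric R ∧
      k ∈ Subgroup.closure {g : PSUJ n F q | g ∈ Subgroup.normalizer (R : Set (PSUJ n F q)) ∧
        ∃ m : ℕ, orderOf g = p ^ m}}

/-- elements of `S` belong to the generating set -/
theorem mem_GenSet_of_mem (S : Sylow p (PSUJ n F q)) {x : PSUJ n F q}
    (hx : x ∈ (S : Subgroup (PSUJ n F q))) : x ∈ GenSet S := by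
  refine ⟨Subgroup.le_normalizer hx, (S : Subgroup (PSUJ n F q)),
    Cfsg.Agent.Helper87.fullyNormalized_self _, Cfsg.Agent.Helper84.isCentric_top _, ?_⟩
  apply Subgroup.subset_closure
  refine ⟨Subgroup.le_normalizer hx, ?_⟩
  obtain ⟨k, hk⟩ := S.isPGroup' ⟨x, hx⟩
  have hk' : x ^ p ^ k = 1 := by
    have := congrArg Subtype.val hk
    simpa using this
  obtain ⟨m, -, hm⟩ := (Nat.dvd_prime_pow (Fact.out : p.Prime)).1 (orderOf_dvd_of_pow_eq_one hk')
  exact ⟨m, hm⟩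

end Cfsg.Agent.Helper84.PsuE
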