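import Mathlib
import Cfsg.Agent.Lib.Helper84.PsuE

/-!
# The two good subgroups `Q0` and `RB` of `U0`
-/

set_option autoImplicit false
set_option linter.unusedSectionVars false
set_option linter.unusedSimpArgs false
set_option linter.unusedVariables false

namespace Cfsg.Agent.Helper84.PsuF

open Matrix Cfsg Cfsg.Agent.Helper13 Cfsg.Agent.Helper13.AutPSLTv Cfsg.Agent.Helper13.AutPSLSylow
open Cfsg.Agent.Helper84.PsuDef Cfsg.Agent.Helper84.PslMat1 Cfsg.Agent.Helper84.PslMat2
open Cfsg.Agent.Helper84.PslMat3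
open Cfsg.Agent.Helper84.PsuA Cfsg.Agent.Helper84.PsuB Cfsg.Agent.Helper84.PsuC
open Cfsg.Agent.Helper84.PsuD Cfsg.Agent.Helper84.PsuE Cfsg.Agent.Helper84.PslGrp

variable {n : ℕ} {F : Type*} [Field F] [Fintype F] {q : ℕ}

/-! ### indices -/

/-- the first index -/
def i0 (hn : 4 ≤ n) : Fin n := ⟨0, by omega⟩

/-- the second index -/
def i1 (hn : 4 ≤ n) : Fin n := ⟨1, by omega⟩

theorem i0_lt_rev (hn : 4 ≤ n) : i0 hn < Fin.rev (i0 hn) := by
  simp only [Fin.lt_def, Fin.val_rev, i0]; omega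

theorem i1_lt_rev (hn : 4 ≤ n) : i1 hn < Fin.rev (i1 hn) := by
  simp only [Fin.lt_def, Fin.val_rev, i1]; omega

theorem i0_lt_i1 (hn : 4 ≤ n) : i0 hn < i1 hn := by
  simp only [Fin.lt_def, i0, i1]; omega

theorem i0_le (hn : 4 ≤ n) (i : Fin n) : i0 hn ≤ i := by
  simp only [Fin.le_def, i0]; omega

theorem le_rev_i0 (hn : 4 ≤ n) (i : Fin n) : i ≤ Fin.rev (i0 hn) := by
  have := i.2
  simp only [Fin.le_def, Fin.val_rev, i0]; omega

theorem vec_decomp (x : Fin n → F) : x = ∑ j, x j • (ee j : Fin n → F) := by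
  funext a
  rw [Finset.sum_apply, Finset.sum_eq_single a]
  · rw [Pi.smul_apply, ee_same, smul_eq_mul, mul_one]
  · intro b _ hb
    rw [Pi.smul_apply, ee_ne (Ne.symm hb), smul_zero]
  · intro h
    exact absurd (Finset.mem_univ a) h

/-! ### the totally isotropic subspace `W` -/

/-- vectors supported on the first half -/
def InW (x : Fin n → F) : Prop := ∀ i : Fin n, Fin.rev i ≤ i → x i = 0

theorem inW_ee {j : Fin n} (hj : j < Fin.rev j) : InW (ee j : Fin n → F) := by
  intro i hi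
  apply ee_ne
  intro e
  rw [e] at hi
  exact absurd hi (not_le.2 hj)

theorem inW_add {x y : Fin n → F} (hx : InW x) (hy : InW y) : InW (x + y) := by
  intro i hi
  rw [Pi.add_apply, hx i hi, hy i hi, add_zero]

theorem inW_smul (a : F) {x : Fin n → F} (hx : InW x) : InW (a • x) := by
  intro i hi
  rw [Pi.smul_apply, hx i hi, smul_zero]

theorem inW_sub {x y : Fin n → F} (hx : InW x) (hy : InW y) : InW (x - y) := by
  intro i hi
  rw [Pi.sub_apply, hx i hi, hy i hi, sub_zero]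

theorem up_inW {g : SUJ n F q} (hg : IsUp (mt g)) {x : Fin n → F} (hx : InW x) :
    InW (mt g *ᵥ x) := by
  intro i hi
  show ∑ j, mt g i j * x j = 0
  apply Finset.sum_eq_zero
  intro j _
  by_cases hj : j < i
  · rw [hg i j hj, zero_mul]
  · push Not at hj
    have h1 : Fin.rev j ≤ Fin.rev i := Fin.rev_le_rev.2 hj
    rw [hx j (le_trans h1 (le_trans hi hj)), mul_zero]

/-- the pointwise stabilizer of `W` -/
def fixW : Subgroup (SUJ n F q) where
  carrier := {g | ∀ j : Fin n, j < Fin.rev j → mt g *ᵥ (ee j : Fin n → F) = ee j}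
  one_mem' := fun j _ => act_one _
  mul_mem' := by
    intro a b ha hb j hj
    rw [act_mul, hb j hj, ha j hj]
  inv_mem' := by
    intro a ha j hj
    exact act_fix_inv a (ha j hj)

theorem mem_fixW {g : SUJ n F q} :
    g ∈ fixW (n := n) (F := F) (q := q) ↔
      ∀ j : Fin n, j < Fin.rev j → mt g *ᵥ (ee j : Fin n → F) = ee j := Iff.rfl

theorem fixW_act {g : SUJ n F q} (hg : g ∈ fixW (n := n) (F := F) (q := q)) {x : Fin n → F}
    (hx : InW x) : mt g *ᵥ x = x := by
  conv_lhs => rw [vec_decomp x]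
  conv_rhs => rw [vec_decomp x]
  rw [Matrix.mulVec_sum]
  apply Finset.sum_congr rfl
  intro j _
  rw [Matrix.mulVec_smul]
  by_cases hj : j < Fin.rev j
  · rw [hg j hj]
  · push Not at hj
    rw [hx j hj, zero_smul, zero_smul]

/-- the second good subgroup -/
def RB : Subgroup (SUJ n F q) := U0 n F q ⊓ fixW

theorem RB_le_U0 : (RB : Subgroup (SUJ n F q)) ≤ U0 n F q := inf_le_left

section withF

variable (hF : Fintype.card F = q ^ 2)

include hF

theorem hJ_inW {x u : Fin n → F} (hx : InW x) (hu : InW u) : hermJ n F q x u = 0 := by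
  unfold hermJ
  apply Finset.sum_eq_zero
  intro i _
  by_cases hi : Fin.rev i ≤ i
  · rw [hx i hi, zero_mul]
  · push Not at hi
    have : Fin.rev (Fin.rev i) ≤ Fin.rev i := by rw [Fin.rev_rev]; exact hi.le
    rw [hu _ this, zero_pow (q_pos hF).ne', mul_zero]

theorem eich_inW {u w : Fin n → F} {t : F} (h : Adm hF u w t) (hu : InW u) {x : Fin n → F}
    (hx : InW x) : InW (mt (eich hF u w t) *ᵥ x) := by
  rw [eich_act hF h, hJ_inW hF hx hu, zero_smul, mul_zero, zero_smul, add_zero, add_zero]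
  exact inW_sub hx (inW_smul _ hu)

/-- elements fixing `W` pointwise are upper triangular -/
theorem fixW_up {g : SUJ n F q} (hg : g ∈ fixW (n := n) (F := F) (q := q)) : IsUp (mt g) := by
  intro r c hcr
  rw [← act_ee]
  by_cases hc : c < Fin.rev c
  · rw [hg c hc, ee_ne hcr.ne']
  · push Not at hc
    have h1 : Fin.rev r < Fin.rev c := Fin.rev_lt_rev.2 hcr
    have h2 : Fin.rev r < r := lt_of_lt_of_le h1 (le_trans hc hcr.le)
    have h3 : Fin.rev r < Fin.rev (Fin.rev r) := by rw [Fin.rev_rev]; exact h2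
    have h4 := pres g (ee c : Fin n → F) (ee (Fin.rev r))
    rw [hg _ h3, hJ_ee_right hF, hJ_ee_ee hF, Fin.rev_rev, if_neg hcr.ne] at h4
    exact h4

/-- a `p`-element fixing `W` pointwise lies in `RB` -/
theorem mem_RB_of_fixW {p : ℕ} [Fact p.Prime] [CharP F p] {g : SUJ n F q}
    (hg : g ∈ fixW (n := n) (F := F) (q := q)) {k : ℕ} (hk : g ^ (p ^ k) = 1) : g ∈ RB :=
  ⟨mem_U0_of_up_pow hF (fixW_up hF hg) hk, hg⟩

/-- elements preserving `W` normalize `RB` -/
theorem mem_normalizer_RB (p : ℕ) [Fact p.Prime] [CharP F p] {g : SUJ n F q}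
    (h1 : ∀ x : Fin n → F, InW x → InW (mt g *ᵥ x))
    (h2 : ∀ x : Fin n → F, InW x → InW (mt g⁻¹ *ᵥ x)) :
    g ∈ Subgroup.normalizer ((RB : Subgroup (SUJ n F q)) : Set (SUJ n F q)) := by
  apply mem_normalizer_of_conj_mem
  · intro r hr
    obtain ⟨k, hk⟩ := U0_pow (q := q) p hr.1
    apply mem_RB_of_fixW hF (p := p) (k := k)
    · intro j hj
      rw [act_mul, act_mul, fixW_act hr.2 (h2 _ (inW_ee hj)), act_act_inv]
    · rw [conj_pow, hk, mul_one, mul_inv_cancel]
  · intro r hr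
    obtain ⟨k, hk⟩ := U0_pow (q := q) p hr.1
    apply mem_RB_of_fixW hF (p := p) (k := k)
    · intro j hj
      rw [act_mul, act_mul, fixW_act hr.2 (h1 _ (inW_ee hj)), act_inv_act]
    · have : g⁻¹ * r * g = g⁻¹ * r * g⁻¹⁻¹ := by rw [inv_inv]
      rw [this, conj_pow, hk, mul_one, inv_inv, inv_mul_cancel]

theorem up_mem_normalizer_RB (p : ℕ) [Fact p.Prime] [CharP F p] {g : SUJ n F q}
    (hg : IsUp (mt g)) :
    g ∈ Subgroup.normalizer ((RB : Subgroup (SUJ n F q)) : Set (SUJ n F q)) := by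
  have h1 : ∀ x : Fin n → F, InW x → InW (mt g *ᵥ x) := fun x hx => up_inW hg hx
  have h2 : ∀ x : Fin n → F, InW x → InW (mt g⁻¹ *ᵥ x) := by
    intro x hx
    -- `g⁻¹` is upper triangular as well, since `g` normalizes `U0`... use the flag directly
    have hN := up_mem_normalizer hg
    have hN' : g⁻¹ ∈ Subgroup.normalizer ((U0 n F q : Subgroup (SUJ n F q)) :
        Set (SUJ n F q)) := Subgroup.inv_mem _ hN
    have hup : IsUp (mt g⁻¹) := by
      apply upper_of_normalizes hF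
      intro u hu
      exact (Subgroup.mem_normalizer_iff.1 hN' u).1 hu
    exact up_inW hup hx
  exact mem_normalizer_RB hF p h1 h2

/-- an element commuting with a transvection along `e_j` and of `p`-power order fixes `e_j` -/
theorem fix_of_comm_tv {p : ℕ} [Fact p.Prime] [CharP F p] {j : Fin n} (hj : j ≠ Fin.rev j)
    {θ : F} (hθ0 : θ ≠ 0) (hθ : θ + frobQ hF θ = 0) {y : SUJ n F q}
    (hcomm : y * eich hF (ee j) 0 θ = eich hF (ee j) 0 θ * y) {k : ℕ} (hk : y ^ (p ^ k) = 1) :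
    mt y *ᵥ (ee j : Fin n → F) = ee j := by
  have hiso : hermJ n F q (ee j : Fin n → F) (ee j) = 0 := by
    rw [hJ_ee_ee hF, if_neg hj]
  have hadm := adm_tv hF hiso hθ
  have hc := conj_eich hF y hadm
  have hcomm' : y * eich hF (ee j) 0 θ * y⁻¹ = eich hF (ee j) 0 θ := by
    rw [hcomm, mul_inv_cancel_right]
  rw [hcomm', Matrix.mulVec_zero] at hc
  have h1 := congrArg (fun g : SUJ n F q => mt g *ᵥ (ee (Fin.rev j) : Fin n → F)) hc
  beta_reduce at h1
  have hiso' : hermJ n F q (mt y *ᵥ (ee j : Fin n → F)) (mt y *ᵥ ee j) = 0 := by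
    rw [pres, hiso]
  rw [tvJ_act hF hiso hθ, tvJ_act hF hiso' hθ, hJ_ee_ee hF, if_pos rfl, mul_one,
    add_right_inj] at h1
  set c := hermJ n F q (ee (Fin.rev j) : Fin n → F) (mt y *ᵥ ee j) with hc'
  have h2 : (ee j : Fin n → F) = c • (mt y *ᵥ ee j) := by
    have h3 : θ • (ee j : Fin n → F) = θ • (c • (mt y *ᵥ ee j)) := by
      rw [h1, smul_smul]
    exact smul_right_injective _ hθ0 h3
  have hc0 : c ≠ 0 := by
    intro e
    rw [e, zero_smul] at h2
    have := congrFun h2 j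
    rw [ee_same] at this
    exact one_ne_zero this
  have h4 : mt y *ᵥ (ee j : Fin n → F) = c⁻¹ • ee j := by
    rw [h2, smul_smul, inv_mul_cancel₀ hc0, one_smul]
    rw [← h2]
  have h5 := act_pow_eigen y h4 (p ^ k)
  rw [hk, act_one] at h5
  have h6 : (c⁻¹) ^ (p ^ k) = 1 := by
    have := congrFun h5 j
    rw [Pi.smul_apply, ee_same, smul_eq_mul, mul_one] at this
    exact this.symm
  have h7 : c⁻¹ = 1 := pow_p_eq_one h6
  rw [h7, one_smul] at h4
  exact h4

theorem tvJ_mem_RB {j : Fin n} (hj : j < Fin.rev j) {θ : F} (hθ : θ + frobQ hF θ = 0) :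
    eich hF (ee j) 0 θ ∈ (RB : Subgroup (SUJ n F q)) := by
  have hiso := ee_iso (n := n) (F := F) hF hj.ne
  have hadm := adm_tv hF hiso hθ
  refine ⟨eich_mem_U0 hF hadm hj (fun _ _ => rfl), ?_⟩
  intro i hi
  apply eich_fix hF hadm
  · rw [hJ_ee_ee hF, if_neg]
    intro e
    rw [e, Fin.rev_rev] at hi
    exact absurd hi (not_lt.2 hj.le)
  · exact hJ_zero_right hF _

end withF

end Cfsg.Agent.Helper84.PsuF
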