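import Mathlib
import Cfsg.Agent.Lib.Helper84.PsuF

/-!
# The subgroup `Q0`: the unipotent radical of the stabilizer of `e_0` in `SUJ`
-/

set_option autoImplicit false
set_option linter.unusedSectionVars false
set_option linter.unusedSimpArgs false
set_option linter.unusedVariables false

namespace Cfsg.Agent.Helper84.PsuG

open Matrix Cfsg Cfsg.Agent.Helper13 Cfsg.Agent.Helper13.AutPSLTv Cfsg.Agent.Helper13.AutPSLSylow
open Cfsg.Agent.Helper84.PsuDef Cfsg.Agent.Helper84.PslMat1 Cfsg.Agent.Helper84.PslMat2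
open Cfsg.Agent.Helper84.PslMat3
open Cfsg.Agent.Helper84.PsuA Cfsg.Agent.Helper84.PsuB Cfsg.Agent.Helper84.PsuC
open Cfsg.Agent.Helper84.PsuD Cfsg.Agent.Helper84.PsuE Cfsg.Agent.Helper84.PsuF
open Cfsg.Agent.Helper84.PslGrp

variable {n : ℕ} {F : Type*} [Field F] [Fintype F] {q : ℕ}

/-- the first good subgroup -/
def Q0 (hn : 4 ≤ n) : Subgroup (SUJ n F q) where
  carrier := {g | mt g *ᵥ (ee (i0 hn) : Fin n → F) = ee (i0 hn) ∧
    ∀ x : Fin n → F, x (Fin.rev (i0 hn)) = 0 → ∃ c : F, mt g *ᵥ x = x + c • ee (i0 hn)}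
  one_mem' := ⟨act_one _, fun x _ => ⟨0, by rw [act_one, zero_smul, add_zero]⟩⟩
  mul_mem' := by
    intro a b ha hb
    refine ⟨by rw [act_mul, hb.1, ha.1], fun x hx => ?_⟩
    obtain ⟨c, hc⟩ := hb.2 x hx
    obtain ⟨d, hd⟩ := ha.2 x hx
    refine ⟨d + c, ?_⟩
    rw [act_mul, hc, Matrix.mulVec_add, Matrix.mulVec_smul, ha.1, hd]
    module
  inv_mem' := by
    intro a ha
    refine ⟨act_fix_inv a ha.1, fun x hx => ?_⟩
    obtain ⟨c, hc⟩ := ha.2 x hx
    refine ⟨-c, ?_⟩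
    have h1 := act_inv_act a x
    rw [hc, Matrix.mulVec_add, Matrix.mulVec_smul, act_fix_inv a ha.1] at h1
    have e : mt a⁻¹ *ᵥ x = x - c • ee (i0 hn) := eq_sub_of_add_eq h1
    rw [e]
    module

theorem mem_Q0 {hn : 4 ≤ n} {g : SUJ n F q} : g ∈ Q0 (F := F) (q := q) hn ↔
    mt g *ᵥ (ee (i0 hn) : Fin n → F) = ee (i0 hn) ∧
    ∀ x : Fin n → F, x (Fin.rev (i0 hn)) = 0 → ∃ c : F, mt g *ᵥ x = x + c • ee (i0 hn) :=
  Iff.rfl

section withF

variable (hF : Fintype.card F = q ^ 2)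

include hF

theorem e0_iso (hn : 4 ≤ n) : hermJ n F q (ee (i0 hn) : Fin n → F) (ee (i0 hn)) = 0 :=
  ee_iso hF (i0_lt_rev hn).ne

theorem eich_mem_Q0 (hn : 4 ≤ n) {w : Fin n → F} {t : F} (h : Adm hF (ee (i0 hn)) w t) :
    eich hF (ee (i0 hn)) w t ∈ Q0 (F := F) (q := q) hn := by
  refine ⟨eich_fix hF h h.iso h.orth', fun x hx => ?_⟩
  refine ⟨-hermJ n F q x w, ?_⟩
  rw [eich_act hF h, hJ_ee_right hF, hx]
  module

theorem U0_fix_e0 (hn : 4 ≤ n) {u : SUJ n F q} (hu : u ∈ U0 n F q) :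
    mt u *ᵥ (ee (i0 hn) : Fin n → F) = ee (i0 hn) := by
  funext r
  rw [mem_U0_iff_act.1 hu (i0 hn) r (i0_le hn r), ee_apply]

theorem Q0_le_U0 (hn : 4 ≤ n) : Q0 (F := F) (q := q) hn ≤ U0 n F q := by
  intro g hg
  rw [mem_U0_iff_act]
  intro c r hcr
  by_cases hc : c = Fin.rev (i0 hn)
  · have hr : r = Fin.rev (i0 hn) := le_antisymm (le_rev_i0 hn r) (hc ▸ hcr)
    have h1 := pres g (ee c : Fin n → F) (ee (i0 hn))
    rw [hg.1, hJ_ee_right hF, hJ_ee_ee hF, if_pos hc] at h1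
    rw [hr, h1, if_pos hc.symm]
  · obtain ⟨k, hk⟩ := hg.2 (ee c) (ee_ne (Ne.symm hc))
    rw [hk, Pi.add_apply, Pi.smul_apply, smul_eq_mul, ee_apply c r]
    by_cases hr0 : r = i0 hn
    · have hc0 : c = i0 hn := le_antisymm (hr0 ▸ hcr) (i0_le hn c)
      have h2 := hg.1
      rw [← hc0, hk] at h2
      have h3 := congrFun h2 c
      rw [Pi.add_apply, Pi.smul_apply, smul_eq_mul, ee_same, hc0, ee_same, mul_one] at h3
      have hk0 : k = 0 := by linear_combination h3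
      rw [hk0, zero_mul, add_zero]
    · rw [ee_ne hr0, mul_zero, add_zero]

/-- elements fixing `e_0` normalize `Q0` -/
theorem conj_mem_Q0 (hn : 4 ≤ n) {g : SUJ n F q}
    (hg : mt g *ᵥ (ee (i0 hn) : Fin n → F) = ee (i0 hn)) {r : SUJ n F q}
    (hr : r ∈ Q0 (F := F) (q := q) hn) : g * r * g⁻¹ ∈ Q0 (F := F) (q := q) hn := by
  have hg' := act_fix_inv g hg
  refine ⟨by rw [act_mul, act_mul, hg', hr.1, hg], fun x hx => ?_⟩
  have h1 : (mt g⁻¹ *ᵥ x) (Fin.rev (i0 hn)) = 0 := by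
    rw [← hJ_ee_right hF (mt g⁻¹ *ᵥ x) (i0 hn), hJ_act_left, inv_inv, hg, hJ_ee_right hF, hx]
  obtain ⟨c, hc⟩ := hr.2 _ h1
  refine ⟨c, ?_⟩
  rw [act_mul, act_mul, hc, Matrix.mulVec_add, Matrix.mulVec_smul, act_act_inv, hg]

theorem fix_mem_normalizer_Q0 (hn : 4 ≤ n) {g : SUJ n F q}
    (hg : mt g *ᵥ (ee (i0 hn) : Fin n → F) = ee (i0 hn)) :
    g ∈ Subgroup.normalizer ((Q0 (F := F) (q := q) hn : Subgroup (SUJ n F q)) :
      Set (SUJ n F q)) := by
  apply mem_normalizer_of_conj_mem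
  · intro r hr
    exact conj_mem_Q0 hF hn hg hr
  · intro r hr
    have := conj_mem_Q0 hF hn (act_fix_inv g hg) hr
    rwa [inv_inv] at this

/-- an element fixing `e_0` and commuting with the Eichler elements along `e_0` lies in `Q0` -/
theorem mem_Q0_of_comm (hn : 4 ≤ n) {y : SUJ n F q}
    (h0 : mt y *ᵥ (ee (i0 hn) : Fin n → F) = ee (i0 hn))
    (hcomm : ∀ (w : Fin n → F) (t : F), Adm hF (ee (i0 hn)) w t →
      y * eich hF (ee (i0 hn)) w t = eich hF (ee (i0 hn)) w t * y) :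
    y ∈ Q0 (F := F) (q := q) hn := by
  refine ⟨h0, fun x hx => ?_⟩
  have horth : hermJ n F q x (ee (i0 hn)) = 0 := by rw [hJ_ee_right hF, hx]
  obtain ⟨t, hadm⟩ := exists_adm_t hF (e0_iso hF hn) horth
  have hc := conj_eich hF y hadm
  have hcomm' : y * eich hF (ee (i0 hn)) x t * y⁻¹ = eich hF (ee (i0 hn)) x t := by
    rw [hcomm x t hadm, mul_inv_cancel_right]
  rw [hcomm', h0] at hc
  have hadm' : Adm hF (ee (i0 hn)) (mt y *ᵥ x) t := by
    have := adm_conj hF y hadm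
    rwa [h0] at this
  have h1 := congrArg (fun g : SUJ n F q => mt g *ᵥ (ee (Fin.rev (i0 hn)) : Fin n → F)) hc
  beta_reduce at h1
  rw [eich_act hF hadm, eich_act hF hadm', hJ_ee_ee hF, if_pos rfl] at h1
  refine ⟨hermJ n F q (ee (Fin.rev (i0 hn)) : Fin n → F) (mt y *ᵥ x) -
    hermJ n F q (ee (Fin.rev (i0 hn)) : Fin n → F) x, ?_⟩
  generalize hermJ n F q (ee (Fin.rev (i0 hn)) : Fin n → F) (mt y *ᵥ x) = A at h1 ⊢
  linear_combination (norm := module) -h1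

/-- the elements of `Q0` are Eichler elements -/
theorem exists_eich_of_mem_Q0 (hn : 4 ≤ n) {g : SUJ n F q}
    (hg : g ∈ Q0 (F := F) (q := q) hn) :
    ∃ (w : Fin n → F) (t : F), Adm hF (ee (i0 hn)) w t ∧ g = eich hF (ee (i0 hn)) w t := by
  set e0 : Fin n → F := ee (i0 hn) with he0
  set f : Fin n → F := ee (Fin.rev (i0 hn)) with hf
  have hff : hermJ n F q f f = 0 := by
    rw [hf, hJ_ee_ee hF, Fin.rev_rev, if_neg (i0_lt_rev hn).ne']
  have hfe : hermJ n F q f e0 = 1 := by rw [hf, he0, hJ_ee_ee hF, if_pos rfl]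
  have hef : hermJ n F q e0 f = 1 := by rw [hJ_conj hF, hfe, map_one]
  set w : Fin n → F := mt g *ᵥ f - f with hw
  have hgf : mt g *ᵥ f = f + w := by rw [hw]; abel
  have hwe : hermJ n F q w e0 = 0 := by
    have h1 := pres g f e0
    rw [hg.1, hgf, hJ_add_left, hfe] at h1
    linear_combination h1
  have hew : hermJ n F q e0 w = 0 := by rw [hJ_conj hF, hwe, map_zero]
  have hadm : Adm hF e0 w (hermJ n F q f w) := by
    refine ⟨e0_iso hF hn, hwe, ?_⟩
    have h1 := pres g f f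
    rw [hgf, hJ_add_left, hJ_add_right hF, hJ_add_right hF, hff] at h1
    rw [← hJ_conj hF f w]
    linear_combination h1
  refine ⟨w, _, hadm, ?_⟩
  apply su_ext
  intro x
  -- decompose `x`
  set a := x (Fin.rev (i0 hn)) with ha
  set x' : Fin n → F := x - a • f with hx'
  have hx'0 : x' (Fin.rev (i0 hn)) = 0 := by
    rw [hx', Pi.sub_apply, Pi.smul_apply, hf, ee_same, smul_eq_mul, mul_one, ha, sub_self]
  have hx'e : hermJ n F q x' e0 = 0 := by rw [he0, hJ_ee_right hF, hx'0]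
  obtain ⟨c, hc⟩ := hg.2 x' hx'0
  have hcv : c = -hermJ n F q x' w := by
    have h1 := pres g x' f
    rw [hc, hgf, hJ_add_left, hJ_add_right hF, hJ_add_right hF, hJ_smul_left, hJ_smul_left,
      hef, hew] at h1
    linear_combination h1
  have hxd : x = x' + a • f := by rw [hx']; abel
  have e1 : mt g *ᵥ x = x' + c • e0 + a • (f + w) := by
    conv_lhs => rw [hxd]
    rw [Matrix.mulVec_add, Matrix.mulVec_smul, hc, hgf]
  rw [e1, eich_act hF hadm]
  conv_rhs => rw [hxd]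
  simp only [hJ_add_left, hJ_smul_left, hx'e, hfe, hcv]
  module

end withF

end Cfsg.Agent.Helper84.PsuG
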