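import Mathlib
import Cfsg.Agent.Lib.Helper84.PsuG

/-!
# The good subgroups of `PSUJ` and block elements
-/

set_option autoImplicit false
set_option linter.unusedSectionVars false
set_option linter.unusedSimpArgs false
set_option linter.unusedVariables false

namespace Cfsg.Agent.Helper84.PsuH

open Matrix Cfsg Cfsg.Agent.Helper13 Cfsg.Agent.Helper13.AutPSLTv Cfsg.Agent.Helper13.AutPSLSylow
open Cfsg.Agent.Helper84.PsuDef Cfsg.Agent.Helper84.PslMat1 Cfsg.Agent.Helper84.PslMat2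
open Cfsg.Agent.Helper84.PslMat3
open Cfsg.Agent.Helper84.PsuA Cfsg.Agent.Helper84.PsuB Cfsg.Agent.Helper84.PsuC
open Cfsg.Agent.Helper84.PsuD Cfsg.Agent.Helper84.PsuE Cfsg.Agent.Helper84.PsuF
open Cfsg.Agent.Helper84.PsuG Cfsg.Agent.Helper84.PslGrp

variable {n : ℕ} {F : Type*} [Field F] [Fintype F] {q : ℕ}

/-! ### the good subgroups are fully normalized and centric -/

section good

variable (hF : Fintype.card F = q ^ 2) {p : ℕ} [Fact p.Prime] [CharP F p]

include hF

theorem QA_fn (hn : 4 ≤ n) (S : Sylow p (PSUJ n F q))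
    (hS : (S : Subgroup (PSUJ n F q)) = U0bar n F q) :
    (groupFusionSystem (S : Subgroup (PSUJ n F q))).IsFullyNormalized
      ((Q0 (F := F) (q := q) hn).map pj) := by
  apply fullyNormalized_of_normal S
  · rw [hS]
    exact Subgroup.map_mono (Q0_le_U0 hF hn)
  · rw [hS]
    refine le_trans (Subgroup.map_mono ?_) (Subgroup.le_normalizer_map pj)
    intro u hu
    exact fix_mem_normalizer_Q0 hF hn (U0_fix_e0 hF hn hu)

theorem QA_cen (hn : 4 ≤ n) (S : Sylow p (PSUJ n F q))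
    (hS : (S : Subgroup (PSUJ n F q)) = U0bar n F q) :
    (groupFusionSystem (S : Subgroup (PSUJ n F q))).IsCentric
      ((Q0 (F := F) (q := q) hn).map pj) := by
  rw [hS]
  apply centric_of_lift (p := p) pj (U0 n F q) (Q0 hn) (Q0_le_U0 hF hn)
    (fun u hu => U0_pow p hu) pj_surjective
  intro y hy hcomm
  obtain ⟨k, hk⟩ := hy
  have hc : ∀ r ∈ Q0 (F := F) (q := q) hn, y * r = r * y := by
    intro r hr
    obtain ⟨b, hb⟩ := U0_pow (q := q) p (Q0_le_U0 hF hn hr)
    exact comm_of_pj_comm hF (by omega) hb (hcomm r hr)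
  obtain ⟨θ, hθ0, hθ⟩ := exists_tz hF
  have h0 : mt y *ᵥ (ee (i0 hn) : Fin n → F) = ee (i0 hn) :=
    fix_of_comm_tv hF (i0_lt_rev hn).ne hθ0 hθ
      (hc _ (eich_mem_Q0 hF hn (adm_tv hF (e0_iso hF hn) hθ))) hk
  exact mem_Q0_of_comm hF hn h0 (fun w t hadm => hc _ (eich_mem_Q0 hF hn hadm))

theorem RB_fn (S : Sylow p (PSUJ n F q))
    (hS : (S : Subgroup (PSUJ n F q)) = U0bar n F q) :
    (groupFusionSystem (S : Subgroup (PSUJ n F q))).IsFullyNormalized
      ((RB : Subgroup (SUJ n F q)).map pj) := by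
  apply fullyNormalized_of_normal S
  · rw [hS]
    exact Subgroup.map_mono RB_le_U0
  · rw [hS]
    refine le_trans (Subgroup.map_mono ?_) (Subgroup.le_normalizer_map pj)
    intro u hu
    exact up_mem_normalizer_RB hF p (isUp_of_isUT (mem_U0.1 hu))

theorem RB_cen (hn : 4 ≤ n) (S : Sylow p (PSUJ n F q))
    (hS : (S : Subgroup (PSUJ n F q)) = U0bar n F q) :
    (groupFusionSystem (S : Subgroup (PSUJ n F q))).IsCentric
      ((RB : Subgroup (SUJ n F q)).map pj) := by
  rw [hS]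
  apply centric_of_lift (p := p) pj (U0 n F q) RB RB_le_U0
    (fun u hu => U0_pow p hu) pj_surjective
  intro y hy hcomm
  obtain ⟨k, hk⟩ := hy
  obtain ⟨θ, hθ0, hθ⟩ := exists_tz hF
  apply mem_RB_of_fixW hF (p := p) _ hk
  intro j hj
  have hmem := tvJ_mem_RB (n := n) hF hj hθ
  obtain ⟨b, hb⟩ := U0_pow (q := q) p hmem.1
  exact fix_of_comm_tv hF hj.ne hθ0 hθ (comm_of_pj_comm hF (by omega) hb (hcomm _ hmem)) hk

/-- membership in the generating set -/
theorem gen_mem (hn : 4 ≤ n) (S : Sylow p (PSUJ n F q))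
    (hS : (S : Subgroup (PSUJ n F q)) = U0bar n F q) (R : Subgroup (SUJ n F q))
    (hfn : (groupFusionSystem (S : Subgroup (PSUJ n F q))).IsFullyNormalized (R.map pj))
    (hcen : (groupFusionSystem (S : Subgroup (PSUJ n F q))).IsCentric (R.map pj))
    {k : SUJ n F q} (hk : IsUp (mt k))
    (hcl : k ∈ Subgroup.closure {x : SUJ n F q |
      x ∈ Subgroup.normalizer ((R : Subgroup (SUJ n F q)) : Set (SUJ n F q)) ∧
        ∃ b : ℕ, x ^ (p ^ b) = 1}) :
    (pj k : PSUJ n F q) ∈ GenSet S := by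
  refine ⟨by rw [hS]; exact pj_up_normalizer hk, R.map pj, hfn, hcen, ?_⟩
  have h1 : (pj k : PSUJ n F q) ∈ (Subgroup.closure {x : SUJ n F q |
      x ∈ Subgroup.normalizer ((R : Subgroup (SUJ n F q)) : Set (SUJ n F q)) ∧
        ∃ b : ℕ, x ^ (p ^ b) = 1}).map pj := Subgroup.mem_map_of_mem _ hcl
  rw [MonoidHom.map_closure] at h1
  refine Subgroup.closure_mono ?_ h1
  rintro _ ⟨x, ⟨hxN, b, hb⟩, rfl⟩
  exact ⟨Subgroup.le_normalizer_map pj (Subgroup.mem_map_of_mem pj hxN), pj_pelement hb⟩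

end good

/-! ### block elements -/

/-- vectors supported on `I` -/
def SuppIn (I : Fin n → Prop) (x : Fin n → F) : Prop := ∀ r : Fin n, ¬ I r → x r = 0

theorem suppIn_ee {I : Fin n → Prop} {c : Fin n} (hc : I c) : SuppIn I (ee c : Fin n → F) := by
  intro r hr
  apply ee_ne
  intro e
  exact hr (e ▸ hc)

theorem suppIn_add {I : Fin n → Prop} {x y : Fin n → F} (hx : SuppIn I x) (hy : SuppIn I y) :
    SuppIn I (x + y) := by
  intro r hr
  rw [Pi.add_apply, hx r hr, hy r hr, add_zero]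

theorem suppIn_sub {I : Fin n → Prop} {x y : Fin n → F} (hx : SuppIn I x) (hy : SuppIn I y) :
    SuppIn I (x - y) := by
  intro r hr
  rw [Pi.sub_apply, hx r hr, hy r hr, sub_zero]

theorem suppIn_smul {I : Fin n → Prop} (a : F) {x : Fin n → F} (hx : SuppIn I x) :
    SuppIn I (a • x) := by
  intro r hr
  rw [Pi.smul_apply, hx r hr, smul_zero]

theorem suppIn_neg {I : Fin n → Prop} {x : Fin n → F} (hx : SuppIn I x) : SuppIn I (-x) := by
  intro r hr
  rw [Pi.neg_apply, hx r hr, neg_zero]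

/-- elements acting on the block `I` only -/
def Blk (I : Fin n → Prop) : Subgroup (SUJ n F q) where
  carrier := {g | (∀ x : Fin n → F, SuppIn I x → SuppIn I (mt g *ᵥ x)) ∧
    (∀ x : Fin n → F, SuppIn I x → SuppIn I (mt g⁻¹ *ᵥ x)) ∧
    ∀ c : Fin n, ¬ I c → mt g *ᵥ (ee c : Fin n → F) = ee c}
  one_mem' := by
    refine ⟨fun x hx => by rw [act_one]; exact hx, fun x hx => by rw [inv_one, act_one]; exact hx,
      fun c _ => act_one _⟩
  mul_mem' := by
    intro a b ha hb
    refine ⟨fun x hx => by rw [act_mul]; exact ha.1 _ (hb.1 _ hx),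
      fun x hx => by rw [_root_.mul_inv_rev, act_mul]; exact hb.2.1 _ (ha.2.1 _ hx),
      fun c hc => by rw [act_mul, hb.2.2 c hc, ha.2.2 c hc]⟩
  inv_mem' := by
    intro a ha
    refine ⟨ha.2.1, fun x hx => by rw [inv_inv]; exact ha.1 x hx,
      fun c hc => act_fix_inv a (ha.2.2 c hc)⟩

section blk

variable (hF : Fintype.card F = q ^ 2)

include hF

theorem eich_mem_Blk {I : Fin n → Prop} (hI : ∀ c, I c → I (Fin.rev c)) {u w : Fin n → F}
    {t : F} (h : Adm hF u w t) (hu : SuppIn I u) (hw : SuppIn I w) :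
    eich hF u w t ∈ Blk (q := q) I := by
  have key : ∀ (w' : Fin n → F) (t' : F), Adm hF u w' t' → SuppIn I w' →
      ∀ x : Fin n → F, SuppIn I x → SuppIn I (mt (eich hF u w' t') *ᵥ x) := by
    intro w' t' h' hw' x hx
    rw [eich_act hF h']
    exact suppIn_add (suppIn_sub (suppIn_add hx (suppIn_smul _ hw')) (suppIn_smul _ hu))
      (suppIn_smul _ hu)
  refine ⟨key w t h hw, ?_, ?_⟩
  · rw [eich_inv hF h]
    exact key _ _ (adm_inv hF h) (suppIn_neg hw)
  · intro c hc
    have hc' : ¬ I (Fin.rev c) := fun h' => hc (by have := hI _ h'; rwa [Fin.rev_rev] at this)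
    apply eich_fix hF h
    · rw [hJ_ee_left hF, hu _ hc', map_zero]
    · rw [hJ_ee_left hF, hw _ hc', map_zero]

/-- triangularity of a block element with an eigenvector at the first index of the block -/
theorem up_of_blk {I : Fin n → Prop} {a : Fin n} {g : SUJ n F q} (hg : g ∈ Blk (q := q) I)
    {l : F} (hl : l ≠ 0) (h3 : mt g *ᵥ (ee a : Fin n → F) = l • ee a)
    (h4 : ∀ c r : Fin n, I c → I r → c ≠ a → c < r → r ≠ Fin.rev a →
      (mt g *ᵥ (ee c : Fin n → F)) r = 0)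
    (hmin : ∀ c, I c → a ≤ c) : IsUp (mt g) := by
  intro r c hcr
  rw [← act_ee]
  by_cases hc : I c
  · by_cases hr : I r
    · by_cases hca : c = a
      · rw [hca, h3, Pi.smul_apply, ee_ne (hca ▸ hcr).ne', smul_zero]
      · by_cases hra : r = Fin.rev a
        · have h5 : (ee a : Fin n → F) = l⁻¹ • (mt g *ᵥ ee a) := by
            rw [h3, smul_smul, inv_mul_cancel₀ hl, one_smul]
          rw [hra, ← hJ_ee_right hF (mt g *ᵥ (ee c : Fin n → F)) a, h5, hJ_smul_right hF, pres,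
            hJ_ee_ee hF, if_neg, mul_zero]
          intro e
          rw [e, ← hra] at hcr
          exact lt_irrefl _ hcr
        · exact h4 c r hc hr hca hcr hra
    · exact hg.1 _ (suppIn_ee hc) r hr
  · rw [hg.2.2 c hc, ee_ne hcr.ne']

omit hF in
/-- the eigenvalue of a quotient of two elements -/
theorem k_eigen {g1 g0 : SUJ n F q} {f ea : Fin n → F} {t1 t0 : F}
    (h1 : mt g1 *ᵥ f = t1 • ea) (h0 : mt g0 *ᵥ f = t0 • ea) (ht0 : t0 ≠ 0) :
    mt (g1 * g0⁻¹) *ᵥ ea = (t1 * t0⁻¹) • ea := by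
  have h2 : mt g0⁻¹ *ᵥ ea = t0⁻¹ • f := by
    have := act_inv_act g0 f
    rw [h0, Matrix.mulVec_smul] at this
    rw [← this, smul_smul, inv_mul_cancel₀ ht0, one_smul]
  rw [act_mul, h2, Matrix.mulVec_smul, h1, smul_smul, mul_comm]

end blk

end Cfsg.Agent.Helper84.PsuH
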