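import Mathlib
import Cfsg.Agent.Lib.Helper84.PsuH
import Cfsg.Agent.Lib.Helper44.UnitaryTv

/-!
# Torus elements in the generating set (`SU_2`-type and `SU_3`-type)
-/

set_option autoImplicit false
set_option linter.unusedSectionVars false
set_option linter.unusedSimpArgs false
set_option linter.unusedVariables false

namespace Cfsg.Agent.Helper84.PsuI

open Matrix Cfsg Cfsg.Agent.Helper13 Cfsg.Agent.Helper13.AutPSLTv Cfsg.Agent.Helper13.AutPSLSylow
open Cfsg.Agent.Helper84.PsuDef Cfsg.Agent.Helper84.PslMat1 Cfsg.Agent.Helper84.PslMat2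
open Cfsg.Agent.Helper84.PslMat3
open Cfsg.Agent.Helper84.PsuA Cfsg.Agent.Helper84.PsuB Cfsg.Agent.Helper84.PsuC
open Cfsg.Agent.Helper84.PsuD Cfsg.Agent.Helper84.PsuE Cfsg.Agent.Helper84.PsuF
open Cfsg.Agent.Helper84.PsuG Cfsg.Agent.Helper84.PsuH Cfsg.Agent.Helper84.PslGrp

variable {n : ℕ} {F : Type*} [Field F] [Fintype F] {q : ℕ}

section main

variable (hF : Fintype.card F = q ^ 2) {p : ℕ} [Fact p.Prime] [CharP F p]

include hF

theorem exists_norm (r : F) (hr : frobQ hF r = r) : ∃ α : F, α * frobQ hF α = r := by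
  by_cases h0 : r = 0
  · exact ⟨0, by rw [h0, zero_mul]⟩
  · obtain ⟨x, hx⟩ := Cfsg.Agent.Helper44.exists_norm_eq' hF h0 hr
    exact ⟨x, by rw [frobQ_apply, ← pow_succ', hx]⟩

/-- elements of a block avoiding `0` which are products of `p`-elements normalizing `Q0` -/
theorem blk_normalizes_Q0 (hn : 4 ≤ n) {I : Fin n → Prop} (hI0 : ¬ I (i0 hn)) {g : SUJ n F q}
    (hg : g ∈ Blk (q := q) I) :
    g ∈ Subgroup.normalizer ((Q0 (F := F) (q := q) hn : Subgroup (SUJ n F q)) :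
      Set (SUJ n F q)) :=
  fix_mem_normalizer_Q0 hF hn (hg.2.2 _ hI0)

/-- the generic membership: a quotient of two products of two Eichler elements -/
theorem quot_mem_closure {R : Subgroup (SUJ n F q)} {u1 w1 u2 w2 u3 w3 u4 w4 : Fin n → F}
    {t1 t2 t3 t4 : F} (h1 : Adm hF u1 w1 t1) (h2 : Adm hF u2 w2 t2) (h3 : Adm hF u3 w3 t3)
    (h4 : Adm hF u4 w4 t4)
    (hN : ∀ (u w : Fin n → F) (t : F), Adm hF u w t →
      (u = u1 ∧ w = w1 ∧ t = t1) ∨ (u = u2 ∧ w = w2 ∧ t = t2) ∨ (u = u3 ∧ w = w3 ∧ t = t3) ∨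
        (u = u4 ∧ w = w4 ∧ t = t4) →
      eich hF u w t ∈ Subgroup.normalizer ((R : Subgroup (SUJ n F q)) : Set (SUJ n F q))) :
    eich hF u2 w2 t2 * eich hF u1 w1 t1 * (eich hF u4 w4 t4 * eich hF u3 w3 t3)⁻¹ ∈
      Subgroup.closure {x : SUJ n F q |
        x ∈ Subgroup.normalizer ((R : Subgroup (SUJ n F q)) : Set (SUJ n F q)) ∧
          ∃ b : ℕ, x ^ (p ^ b) = 1} := by
  have hmem : ∀ (u w : Fin n → F) (t : F), Adm hF u w t →
      (u = u1 ∧ w = w1 ∧ t = t1) ∨ (u = u2 ∧ w = w2 ∧ t = t2) ∨ (u = u3 ∧ w = w3 ∧ t = t3) ∨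
        (u = u4 ∧ w = w4 ∧ t = t4) →
      eich hF u w t ∈ Subgroup.closure {x : SUJ n F q |
        x ∈ Subgroup.normalizer ((R : Subgroup (SUJ n F q)) : Set (SUJ n F q)) ∧
          ∃ b : ℕ, x ^ (p ^ b) = 1} := by
    intro u w t h hc
    apply Subgroup.subset_closure
    exact ⟨hN u w t h hc, 2, eich_pow_char_sq hF p h⟩
  exact Subgroup.mul_mem _ (Subgroup.mul_mem _ (hmem _ _ _ h2 (Or.inr (Or.inl ⟨rfl, rfl, rfl⟩)))
    (hmem _ _ _ h1 (Or.inl ⟨rfl, rfl, rfl⟩)))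
    (Subgroup.inv_mem _ (Subgroup.mul_mem _ (hmem _ _ _ h4 (Or.inr (Or.inr (Or.inr ⟨rfl, rfl, rfl⟩))))
      (hmem _ _ _ h3 (Or.inr (Or.inr (Or.inl ⟨rfl, rfl, rfl⟩))))))

/-! ### `SU_2`-type torus elements -/

theorem gA_act {j : Fin n} (hj : j ≠ Fin.rev j) {t : F} (ht0 : t ≠ 0)
    (ht : t + frobQ hF t = 0) :
    hermJ n F q (ee j : Fin n → F) (ee j) = 0 ∧
    hermJ n F q (ee (Fin.rev j) : Fin n → F) (ee (Fin.rev j)) = 0 ∧
    -t⁻¹ + frobQ hF (-t⁻¹) = 0 ∧
    mt (eich hF (ee (Fin.rev j)) 0 (-t⁻¹) * eich hF (ee j) 0 t) *ᵥ (ee (Fin.rev j) : Fin n → F) =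
      t • ee j := by
  have hiso1 : hermJ n F q (ee j : Fin n → F) (ee j) = 0 := by rw [hJ_ee_ee hF, if_neg hj]
  have hiso2 : hermJ n F q (ee (Fin.rev j) : Fin n → F) (ee (Fin.rev j)) = 0 := by
    rw [hJ_ee_ee hF, Fin.rev_rev, if_neg (Ne.symm hj)]
  have hσt : frobQ hF t = -t := by linear_combination ht
  have hs : -t⁻¹ + frobQ hF (-t⁻¹) = 0 := by
    rw [map_neg, map_inv₀, hσt]
    field_simp
    ring
  refine ⟨hiso1, hiso2, hs, ?_⟩
  have a1 : hermJ n F q (ee (Fin.rev j) : Fin n → F) (ee j) = 1 := by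
    rw [hJ_ee_ee hF, if_pos rfl]
  have a3 : hermJ n F q (ee j : Fin n → F) (ee (Fin.rev j)) = 1 := by
    rw [hJ_ee_ee hF, Fin.rev_rev, if_pos rfl]
  rw [act_mul, tvJ_act hF hiso1 ht, Matrix.mulVec_add, Matrix.mulVec_smul, tvJ_act hF hiso2 hs,
    tvJ_act hF hiso2 hs, a1, hiso2, a3]
  have e : (t * 1) * (-t⁻¹ * 1) = -1 := by field_simp
  have e2 : (ee (Fin.rev j) : Fin n → F) + (-t⁻¹ * 0) • ee (Fin.rev j) +
      (t * 1) • ((ee j : Fin n → F) + (-t⁻¹ * 1) • ee (Fin.rev j)) =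
      t • ee j + (1 + (t * 1) * (-t⁻¹ * 1)) • ee (Fin.rev j) := by module
  rw [e2, e]
  simp

theorem kA (hn : 4 ≤ n) (S : Sylow p (PSUJ n F q))
    (hS : (S : Subgroup (PSUJ n F q)) = U0bar n F q) {j : Fin n} (hj : j < Fin.rev j)
    (hj0 : j ≠ i0 hn) {l : F} (hl : l ≠ 0) (hlq : frobQ hF l = l) :
    ∃ k : SUJ n F q, IsUp (mt k) ∧ mt k j j = l ∧
      (∀ c : Fin n, c < Fin.rev c → c ≠ j → mt k c c = 1) ∧ (pj k : PSUJ n F q) ∈ GenSet S := by
  obtain ⟨θ, hθ0, hθ⟩ := exists_tz hF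
  have ht : l * θ + frobQ hF (l * θ) = 0 := by
    rw [map_mul, hlq]
    linear_combination l * hθ
  have ht0 : l * θ ≠ 0 := mul_ne_zero hl hθ0
  obtain ⟨hiso1, hiso2, hs, hact⟩ := gA_act hF hj.ne ht0 ht
  obtain ⟨-, -, hs0, hact0⟩ := gA_act hF hj.ne hθ0 hθ
  set I : Fin n → Prop := fun c => c = j ∨ c = Fin.rev j with hI
  have hIrev : ∀ c, I c → I (Fin.rev c) := by
    rintro c (rfl | rfl)
    · exact Or.inr rfl
    · exact Or.inl (Fin.rev_rev _)
  have hsj : SuppIn I (ee j : Fin n → F) := suppIn_ee (Or.inl rfl)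
  have hsj' : SuppIn I (ee (Fin.rev j) : Fin n → F) := suppIn_ee (Or.inr rfl)
  have hs00 : SuppIn I (0 : Fin n → F) := fun _ _ => rfl
  have hjv : (j : ℕ) < n - ((j : ℕ) + 1) := by
    have := Fin.lt_def.1 hj
    rwa [Fin.val_rev] at this
  have hI0 : ¬ I (i0 hn) := by
    rintro (e | e)
    · exact hj0 e.symm
    · have := congrArg Fin.val e
      rw [Fin.val_rev] at this
      simp only [i0] at this
      omega
  set k : SUJ n F q := eich hF (ee (Fin.rev j)) 0 (-(l * θ)⁻¹) * eich hF (ee j) 0 (l * θ) *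
    (eich hF (ee (Fin.rev j)) 0 (-θ⁻¹) * eich hF (ee j) 0 θ)⁻¹ with hk
  have hkB : k ∈ Blk (q := q) I := by
    apply Subgroup.mul_mem
    · exact Subgroup.mul_mem _ (eich_mem_Blk hF hIrev (adm_tv hF hiso2 hs) hsj' hs00)
        (eich_mem_Blk hF hIrev (adm_tv hF hiso1 ht) hsj hs00)
    · exact Subgroup.inv_mem _ (Subgroup.mul_mem _
        (eich_mem_Blk hF hIrev (adm_tv hF hiso2 hs0) hsj' hs00)
        (eich_mem_Blk hF hIrev (adm_tv hF hiso1 hθ) hsj hs00))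
  have heig : mt k *ᵥ (ee j : Fin n → F) = l • ee j := by
    have := k_eigen hact hact0 hθ0
    rwa [mul_inv_cancel_right₀ hθ0] at this
  have hup : IsUp (mt k) := by
    apply up_of_blk hF hkB hl heig
    · rintro c r (rfl | rfl) (rfl | rfl) hca hcr hra
      · exact absurd rfl hca
      · exact absurd rfl hra
      · exact absurd hcr (not_lt.2 hj.le)
      · exact absurd hcr (lt_irrefl _)
    · rintro c (rfl | rfl)
      · exact le_rfl
      · exact hj.le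
  refine ⟨k, hup, ?_, ?_, ?_⟩
  · rw [← act_ee, heig, Pi.smul_apply, ee_same, smul_eq_mul, mul_one]
  · intro c hc hcj
    have hcI : ¬ I c := by
      rintro (e | e)
      · exact hcj e
      · rw [e, Fin.rev_rev] at hc
        exact absurd hc (not_lt.2 hj.le)
    rw [← act_ee, hkB.2.2 c hcI, ee_same]
  · apply gen_mem hF hn S hS (Q0 hn) (QA_fn hF hn S hS) (QA_cen hF hn S hS) hup
    apply quot_mem_closure hF (adm_tv hF hiso1 ht) (adm_tv hF hiso2 hs) (adm_tv hF hiso1 hθ)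
      (adm_tv hF hiso2 hs0)
    intro u w t hadm hc
    apply blk_normalizes_Q0 hF hn hI0
    rcases hc with ⟨rfl, rfl, rfl⟩ | ⟨rfl, rfl, rfl⟩ | ⟨rfl, rfl, rfl⟩ | ⟨rfl, rfl, rfl⟩
    · exact eich_mem_Blk hF hIrev hadm hsj hs00
    · exact eich_mem_Blk hF hIrev hadm hsj' hs00
    · exact eich_mem_Blk hF hIrev hadm hsj hs00
    · exact eich_mem_Blk hF hIrev hadm hsj' hs00

/-! ### `SU_3`-type torus elements -/

theorem gB_act {j d : Fin n} (hj : j ≠ Fin.rev j) (hd : Fin.rev d = d) (hjd : j ≠ d)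
    {t α β s : F} (hα : t + frobQ hF t + α * frobQ hF α = 0)
    (hs : s + frobQ hF s + β * frobQ hF β = 0) (hc2 : α + t * β = 0)
    (hc3 : 1 - α * frobQ hF β + t * s = 0) :
    Adm hF (ee j) (α • ee d) t ∧ Adm hF (ee (Fin.rev j)) (β • ee d) s ∧
    mt (eich hF (ee (Fin.rev j)) (β • ee d) s * eich hF (ee j) (α • ee d) t) *ᵥ
      (ee (Fin.rev j) : Fin n → F) = t • ee j := by
  have hiso1 : hermJ n F q (ee j : Fin n → F) (ee j) = 0 := by rw [hJ_ee_ee hF, if_neg hj]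
  have hiso2 : hermJ n F q (ee (Fin.rev j) : Fin n → F) (ee (Fin.rev j)) = 0 := by
    rw [hJ_ee_ee hF, Fin.rev_rev, if_neg (Ne.symm hj)]
  have a1 : hermJ n F q (ee (Fin.rev j) : Fin n → F) (ee j) = 1 := by
    rw [hJ_ee_ee hF, if_pos rfl]
  have a3 : hermJ n F q (ee j : Fin n → F) (ee (Fin.rev j)) = 1 := by
    rw [hJ_ee_ee hF, Fin.rev_rev, if_pos rfl]
  have b1 : hermJ n F q (ee d : Fin n → F) (ee d) = 1 := by
    rw [hJ_ee_ee hF, hd, if_pos rfl]
  have hdj : d ≠ Fin.rev j := by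
    intro e
    apply hjd
    rw [← Fin.rev_rev j, ← e, hd]
  have b2 : hermJ n F q (ee d : Fin n → F) (ee j) = 0 := by
    rw [hJ_ee_ee hF, if_neg hdj]
  have b3 : hermJ n F q (ee d : Fin n → F) (ee (Fin.rev j)) = 0 := by
    rw [hJ_ee_ee hF, Fin.rev_rev, if_neg (Ne.symm hjd)]
  have b4 : hermJ n F q (ee j : Fin n → F) (ee d) = 0 := by
    rw [hJ_ee_ee hF, hd, if_neg hjd]
  have b5 : hermJ n F q (ee (Fin.rev j) : Fin n → F) (ee d) = 0 := by
    rw [hJ_ee_ee hF, hd, if_neg (Ne.symm hdj)]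
  have hX : Adm hF (ee j) (α • ee d) t := by
    refine ⟨hiso1, by rw [hJ_smul_left, b2, mul_zero], ?_⟩
    rw [hJ_smul_left, hJ_smul_right hF, b1]
    linear_combination hα
  have hY : Adm hF (ee (Fin.rev j)) (β • ee d) s := by
    refine ⟨hiso2, by rw [hJ_smul_left, b3, mul_zero], ?_⟩
    rw [hJ_smul_left, hJ_smul_right hF, b1]
    linear_combination hs
  refine ⟨hX, hY, ?_⟩
  rw [act_mul, eich_act hF hX]
  simp only [Matrix.mulVec_add, Matrix.mulVec_sub, Matrix.mulVec_smul, eich_act hF hY,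
    hJ_smul_right hF, hJ_smul_left, hJ_add_left, hJ_sub_left, a1, a3, hiso1, hiso2, b1, b2, b3,
    b4, b5]
  linear_combination (norm := module) hc2 • (ee d : Fin n → F) +
    hc3 • (ee (Fin.rev j) : Fin n → F)

theorem kB (hn : 4 ≤ n) (S : Sylow p (PSUJ n F q))
    (hS : (S : Subgroup (PSUJ n F q)) = U0bar n F q) {j d : Fin n} (hj : j < Fin.rev j)
    (hj0 : j ≠ i0 hn) (hd : Fin.rev d = d) {l : F} (hl : l ≠ 0) :
    ∃ k : SUJ n F q, IsUp (mt k) ∧ mt k j j = l ∧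
      (∀ c : Fin n, c < Fin.rev c → c ≠ j → mt k c c = 1) ∧ (pj k : PSUJ n F q) ∈ GenSet S := by
  have hjv : (j : ℕ) < n - ((j : ℕ) + 1) := by
    have := Fin.lt_def.1 hj
    rwa [Fin.val_rev] at this
  have hdv : n - ((d : ℕ) + 1) = (d : ℕ) := by
    have := congrArg Fin.val hd
    rwa [Fin.val_rev] at this
  have hjd : j ≠ d := Fin.ne_of_val_ne (by omega)
  have hjd' : j < d := Fin.lt_def.2 (by omega)
  have hdj' : d < Fin.rev j := Fin.lt_def.2 (by rw [Fin.val_rev]; omega)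
  -- parameters
  have key : ∀ t : F, t ≠ 0 → ∃ α β s : F, t + frobQ hF t + α * frobQ hF α = 0 ∧
      s + frobQ hF s + β * frobQ hF β = 0 ∧ α + t * β = 0 ∧ 1 - α * frobQ hF β + t * s = 0 := by
    intro t ht0
    have hfix : frobQ hF (-(t + frobQ hF t)) = -(t + frobQ hF t) := by
      rw [map_neg, map_add, frobQ_frobQ]
      ring
    obtain ⟨α, hα⟩ := exists_norm hF _ hfix
    have hσt0 : frobQ hF t ≠ 0 := by
      intro e
      apply ht0
      have := congrArg (frobQ hF) e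
      rwa [frobQ_frobQ, map_zero] at this
    refine ⟨α, -α / t, (frobQ hF t)⁻¹, by rw [hα]; ring, ?_, by field_simp; ring, ?_⟩
    · rw [map_inv₀, frobQ_frobQ, map_div₀, map_neg]
      field_simp
      linear_combination hα
    · rw [map_div₀, map_neg]
      field_simp
      linear_combination hα
  obtain ⟨α, β, s, h1, h2, h3, h4⟩ := key l hl
  obtain ⟨α0, β0, s0, h10, h20, h30, h40⟩ := key 1 one_ne_zero
  obtain ⟨hX, hY, hact⟩ := gB_act hF hj.ne hd hjd h1 h2 h3 h4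
  obtain ⟨hX0, hY0, hact0⟩ := gB_act hF hj.ne hd hjd h10 h20 h30 h40
  set I : Fin n → Prop := fun c => c = j ∨ c = d ∨ c = Fin.rev j with hI
  have hIrev : ∀ c, I c → I (Fin.rev c) := by
    rintro c (rfl | rfl | rfl)
    · exact Or.inr (Or.inr rfl)
    · exact Or.inr (Or.inl hd)
    · exact Or.inl (Fin.rev_rev _)
  have hsj : SuppIn I (ee j : Fin n → F) := suppIn_ee (Or.inl rfl)
  have hsd : ∀ a : F, SuppIn I (a • ee d : Fin n → F) :=
    fun a => suppIn_smul a (suppIn_ee (Or.inr (Or.inl rfl)))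
  have hsj' : SuppIn I (ee (Fin.rev j) : Fin n → F) := suppIn_ee (Or.inr (Or.inr rfl))
  have hI0 : ¬ I (i0 hn) := by
    rintro (e | e | e)
    · exact hj0 e.symm
    · have := congrArg Fin.val e
      simp only [i0] at this
      omega
    · have := congrArg Fin.val e
      rw [Fin.val_rev] at this
      simp only [i0] at this
      omega
  set k : SUJ n F q := eich hF (ee (Fin.rev j)) (β • ee d) s * eich hF (ee j) (α • ee d) l *
    (eich hF (ee (Fin.rev j)) (β0 • ee d) s0 * eich hF (ee j) (α0 • ee d) 1)⁻¹ with hk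
  have hkB : k ∈ Blk (q := q) I := by
    apply Subgroup.mul_mem
    · exact Subgroup.mul_mem _ (eich_mem_Blk hF hIrev hY hsj' (hsd _))
        (eich_mem_Blk hF hIrev hX hsj (hsd _))
    · exact Subgroup.inv_mem _ (Subgroup.mul_mem _
        (eich_mem_Blk hF hIrev hY0 hsj' (hsd _)) (eich_mem_Blk hF hIrev hX0 hsj (hsd _)))
  have heig : mt k *ᵥ (ee j : Fin n → F) = l • ee j := by
    have := k_eigen hact hact0 one_ne_zero
    rwa [inv_one, mul_one] at this
  have hup : IsUp (mt k) := by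
    apply up_of_blk hF hkB hl heig
    · rintro c r (rfl | rfl | rfl) (rfl | rfl | rfl) hca hcr hra
      · exact absurd rfl hca
      · exact absurd rfl hca
      · exact absurd rfl hca
      · exact absurd hcr (not_lt.2 hjd'.le)
      · exact absurd hcr (lt_irrefl _)
      · exact absurd rfl hra
      · exact absurd hcr (not_lt.2 hj.le)
      · exact absurd hcr (not_lt.2 hdj'.le)
      · exact absurd hcr (lt_irrefl _)
    · rintro c (rfl | rfl | rfl)
      · exact le_rfl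
      · exact hjd'.le
      · exact hj.le
  refine ⟨k, hup, ?_, ?_, ?_⟩
  · rw [← act_ee, heig, Pi.smul_apply, ee_same, smul_eq_mul, mul_one]
  · intro c hc hcj
    have hcI : ¬ I c := by
      rintro (e | e | e)
      · exact hcj e
      · rw [e, hd] at hc
        exact lt_irrefl _ hc
      · rw [e, Fin.rev_rev] at hc
        exact absurd hc (not_lt.2 hj.le)
    rw [← act_ee, hkB.2.2 c hcI, ee_same]
  · apply gen_mem hF hn S hS (Q0 hn) (QA_fn hF hn S hS) (QA_cen hF hn S hS) hup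
    apply quot_mem_closure hF hX hY hX0 hY0
    intro u w t hadm hc
    apply blk_normalizes_Q0 hF hn hI0
    rcases hc with ⟨rfl, rfl, rfl⟩ | ⟨rfl, rfl, rfl⟩ | ⟨rfl, rfl, rfl⟩ | ⟨rfl, rfl, rfl⟩
    · exact eich_mem_Blk hF hIrev hadm hsj (hsd _)
    · exact eich_mem_Blk hF hIrev hadm hsj' (hsd _)
    · exact eich_mem_Blk hF hIrev hadm hsj (hsd _)
    · exact eich_mem_Blk hF hIrev hadm hsj' (hsd _)

/-! ### Levi-type torus elements -/

theorem gL_act (hn : 4 ≤ n) {j : Fin n} (hj : j < Fin.rev j) (hj0 : j ≠ i0 hn) {s : F}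
    (hs0 : s ≠ 0) :
    Adm hF (ee (i0 hn)) ((-frobQ hF s) • ee (Fin.rev j)) 0 ∧
    Adm hF (ee j) ((frobQ hF s)⁻¹ • ee (Fin.rev (i0 hn))) 0 ∧
    mt (eich hF (ee j) ((frobQ hF s)⁻¹ • ee (Fin.rev (i0 hn))) 0 *
      eich hF (ee (i0 hn)) ((-frobQ hF s) • ee (Fin.rev j)) 0) *ᵥ (ee j : Fin n → F) =
        s • ee (i0 hn) ∧
    mt (eich hF (ee j) ((frobQ hF s)⁻¹ • ee (Fin.rev (i0 hn))) 0 *
      eich hF (ee (i0 hn)) ((-frobQ hF s) • ee (Fin.rev j)) 0) *ᵥ (ee (i0 hn) : Fin n → F) =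
        ee (i0 hn) - s⁻¹ • ee j := by
  have h00 := i0_lt_rev hn
  have hiso0 : hermJ n F q (ee (i0 hn) : Fin n → F) (ee (i0 hn)) = 0 := e0_iso hF hn
  have hisoj : hermJ n F q (ee j : Fin n → F) (ee j) = 0 := by rw [hJ_ee_ee hF, if_neg hj.ne]
  have c1 : hermJ n F q (ee (Fin.rev j) : Fin n → F) (ee (i0 hn)) = 0 := by
    rw [hJ_ee_ee hF, if_neg]
    intro e
    exact hj0 (Fin.rev_inj.1 e)
  have c2 : hermJ n F q (ee (Fin.rev j) : Fin n → F) (ee (Fin.rev j)) = 0 := by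
    rw [hJ_ee_ee hF, Fin.rev_rev, if_neg hj.ne']
  have c3 : hermJ n F q (ee (Fin.rev (i0 hn)) : Fin n → F) (ee j) = 0 := by
    rw [hJ_ee_ee hF, if_neg]
    intro e
    exact hj0 (Fin.rev_inj.1 e).symm
  have c4 : hermJ n F q (ee (Fin.rev (i0 hn)) : Fin n → F) (ee (Fin.rev (i0 hn))) = 0 := by
    rw [hJ_ee_ee hF, Fin.rev_rev, if_neg h00.ne']
  have c5 : hermJ n F q (ee j : Fin n → F) (ee (i0 hn)) = 0 := by
    rw [hJ_ee_ee hF, if_neg]
    intro e
    rw [e] at hj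
    rw [Fin.rev_rev] at hj
    exact absurd hj (not_lt.2 (i0_le hn _))
  have c6 : hermJ n F q (ee j : Fin n → F) (ee (Fin.rev j)) = 1 := by
    rw [hJ_ee_ee hF, Fin.rev_rev, if_pos rfl]
  have c7 : hermJ n F q (ee j : Fin n → F) (ee (Fin.rev (i0 hn))) = 0 := by
    rw [hJ_ee_ee hF, Fin.rev_rev, if_neg hj0]
  have c8 : hermJ n F q (ee (i0 hn) : Fin n → F) (ee j) = 0 := by
    rw [hJ_ee_ee hF, if_neg]
    intro e
    rw [← e] at hj
    exact absurd hj (not_lt.2 (i0_le hn j))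
  have c9 : hermJ n F q (ee (i0 hn) : Fin n → F) (ee (Fin.rev (i0 hn))) = 1 := by
    rw [hJ_ee_ee hF, Fin.rev_rev, if_pos rfl]
  have c10 : hermJ n F q (ee (i0 hn) : Fin n → F) (ee (Fin.rev j)) = 0 := by
    rw [hJ_ee_ee hF, Fin.rev_rev, if_neg (Ne.symm hj0)]
  have hA : Adm hF (ee (i0 hn)) ((-frobQ hF s) • ee (Fin.rev j)) 0 := by
    refine ⟨hiso0, by rw [hJ_smul_left, c1, mul_zero], ?_⟩
    rw [hJ_smul_left, hJ_smul_right hF, c2, map_zero]
    ring
  have hB : Adm hF (ee j) ((frobQ hF s)⁻¹ • ee (Fin.rev (i0 hn))) 0 := by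
    refine ⟨hisoj, by rw [hJ_smul_left, c3, mul_zero], ?_⟩
    rw [hJ_smul_left, hJ_smul_right hF, c4, map_zero]
    ring
  have hσs : frobQ hF (frobQ hF s) = s := frobQ_frobQ hF s
  refine ⟨hA, hB, ?_, ?_⟩
  · rw [act_mul, eich_act hF hA]
    simp only [Matrix.mulVec_add, Matrix.mulVec_sub, Matrix.mulVec_smul, eich_act hF hB,
      hJ_smul_right hF, hJ_smul_left, hJ_add_left, hJ_sub_left, map_neg, map_inv₀, hσs,
      hiso0, hisoj, c1, c2, c3, c4, c5, c6, c7, c8, c9, c10]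
    have e1 : s * s⁻¹ = 1 := mul_inv_cancel₀ hs0
    linear_combination (norm := module) (-e1) • (ee j : Fin n → F)
  · rw [act_mul, eich_act hF hA]
    simp only [Matrix.mulVec_add, Matrix.mulVec_sub, Matrix.mulVec_smul, eich_act hF hB,
      hJ_smul_right hF, hJ_smul_left, hJ_add_left, hJ_sub_left, map_neg, map_inv₀, hσs,
      hiso0, hisoj, c1, c2, c3, c4, c5, c6, c7, c8, c9, c10]
    module

theorem kL (hn : 4 ≤ n) (S : Sylow p (PSUJ n F q))
    (hS : (S : Subgroup (PSUJ n F q)) = U0bar n F q) {j : Fin n} (hj : j < Fin.rev j)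
    (hj0 : j ≠ i0 hn) {s : F} (hs0 : s ≠ 0) :
    ∃ k : SUJ n F q, IsUp (mt k) ∧ mt k (i0 hn) (i0 hn) = s ∧ mt k j j = s⁻¹ ∧
      (∀ c : Fin n, c < Fin.rev c → c ≠ j → c ≠ i0 hn → mt k c c = 1) ∧
      (pj k : PSUJ n F q) ∈ GenSet S := by
  have h00 := i0_lt_rev hn
  obtain ⟨hA, hB, hact, hact'⟩ := gL_act hF hn hj hj0 hs0
  obtain ⟨hA1, hB1, hact1, hact1'⟩ := gL_act hF hn hj hj0 (one_ne_zero : (1 : F) ≠ 0)
  rw [one_smul] at hact1
  rw [inv_one, one_smul] at hact1'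
  set I : Fin n → Prop := fun c => c = i0 hn ∨ c = j ∨ c = Fin.rev j ∨ c = Fin.rev (i0 hn)
    with hI
  have hIrev : ∀ c, I c → I (Fin.rev c) := by
    rintro c (rfl | rfl | rfl | rfl)
    · exact Or.inr (Or.inr (Or.inr rfl))
    · exact Or.inr (Or.inr (Or.inl rfl))
    · exact Or.inr (Or.inl (Fin.rev_rev _))
    · exact Or.inl (Fin.rev_rev _)
  have hs_0 : SuppIn I (ee (i0 hn) : Fin n → F) := suppIn_ee (Or.inl rfl)
  have hs_j : SuppIn I (ee j : Fin n → F) := suppIn_ee (Or.inr (Or.inl rfl))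
  have hs_j' : ∀ a : F, SuppIn I (a • ee (Fin.rev j) : Fin n → F) :=
    fun a => suppIn_smul a (suppIn_ee (Or.inr (Or.inr (Or.inl rfl))))
  have hs_0' : ∀ a : F, SuppIn I (a • ee (Fin.rev (i0 hn)) : Fin n → F) :=
    fun a => suppIn_smul a (suppIn_ee (Or.inr (Or.inr (Or.inr rfl))))
  set g1 : SUJ n F q := eich hF (ee j) ((frobQ hF s)⁻¹ • ee (Fin.rev (i0 hn))) 0 *
      eich hF (ee (i0 hn)) ((-frobQ hF s) • ee (Fin.rev j)) 0 with hg1
  set g0 : SUJ n F q := eich hF (ee j) ((frobQ hF 1)⁻¹ • ee (Fin.rev (i0 hn))) 0 *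
      eich hF (ee (i0 hn)) ((-frobQ hF 1) • ee (Fin.rev j)) 0 with hg0
  set k : SUJ n F q := g1 * g0⁻¹ with hk
  have hkB : k ∈ Blk (q := q) I := by
    apply Subgroup.mul_mem
    · exact Subgroup.mul_mem _ (eich_mem_Blk hF hIrev hB hs_j (hs_0' _))
        (eich_mem_Blk hF hIrev hA hs_0 (hs_j' _))
    · exact Subgroup.inv_mem _ (Subgroup.mul_mem _
        (eich_mem_Blk hF hIrev hB1 hs_j (hs_0' _)) (eich_mem_Blk hF hIrev hA1 hs_0 (hs_j' _)))
  have heig : mt k *ᵥ (ee (i0 hn) : Fin n → F) = s • ee (i0 hn) := by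
    have h1 : mt g0 *ᵥ (ee j : Fin n → F) = (1 : F) • ee (i0 hn) := by rw [one_smul]; exact hact1
    have := k_eigen hact h1 one_ne_zero
    rwa [inv_one, mul_one] at this
  have hg0inv : mt g0⁻¹ *ᵥ (ee j : Fin n → F) = ee j - ee (i0 hn) := by
    have h1 : mt g0 *ᵥ ((ee j : Fin n → F) - ee (i0 hn)) = ee j := by
      rw [Matrix.mulVec_sub, hact1, hact1']
      abel
    have := act_inv_act g0 ((ee j : Fin n → F) - ee (i0 hn))
    rwa [h1] at this
  have hkj : mt k *ᵥ (ee j : Fin n → F) = (s - 1) • ee (i0 hn) + s⁻¹ • ee j := by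
    rw [hk, act_mul, hg0inv, Matrix.mulVec_sub, hact, hact']
    module
  have hup : IsUp (mt k) := by
    apply up_of_blk hF hkB hs0 heig
    · rintro c r (rfl | rfl | rfl | rfl) (rfl | rfl | rfl | rfl) hca hcr hra
      all_goals first
        | exact absurd rfl hca
        | exact absurd rfl hra
        | exact absurd hcr (lt_irrefl _)
        | exact absurd hcr (not_lt.2 (i0_le hn _))
        | exact absurd hcr (not_lt.2 (le_rev_i0 hn _))
        | exact absurd hcr (not_lt.2 hj.le)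
        | skip
      -- the entry `(rev j, j)`
      rw [hkj, Pi.add_apply, Pi.smul_apply, Pi.smul_apply, ee_ne, ee_ne hj.ne', smul_zero,
        smul_zero, add_zero]
      intro e
      rw [e] at hj
      exact absurd hj (not_lt.2 (i0_le hn _))
    · intro c _
      exact i0_le hn c
  refine ⟨k, hup, ?_, ?_, ?_, ?_⟩
  · rw [← act_ee, heig, Pi.smul_apply, ee_same, smul_eq_mul, mul_one]
  · rw [← act_ee, hkj, Pi.add_apply, Pi.smul_apply, Pi.smul_apply, ee_ne hj0, ee_same,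
      smul_zero, zero_add, smul_eq_mul, mul_one]
  · intro c hc hcj hc0
    have hcI : ¬ I c := by
      rintro (e | e | e | e)
      · exact hc0 e
      · exact hcj e
      · rw [e, Fin.rev_rev] at hc
        exact absurd hc (not_lt.2 hj.le)
      · rw [e, Fin.rev_rev] at hc
        exact absurd hc (not_lt.2 h00.le)
    rw [← act_ee, hkB.2.2 c hcI, ee_same]
  · apply gen_mem hF hn S hS RB (RB_fn hF S hS) (RB_cen hF hn S hS) hup
    apply quot_mem_closure hF hA hB hA1 hB1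
    intro u w t hadm hc
    have hW : InW u := by
      rcases hc with ⟨rfl, -, -⟩ | ⟨rfl, -, -⟩ | ⟨rfl, -, -⟩ | ⟨rfl, -, -⟩
      · exact inW_ee h00
      · exact inW_ee hj
      · exact inW_ee h00
      · exact inW_ee hj
    apply mem_normalizer_RB hF p
    · intro x hx
      exact eich_inW hF hadm hW hx
    · intro x hx
      rw [eich_inv hF hadm]
      exact eich_inW hF (adm_inv hF hadm) hW hx

end main

end Cfsg.Agent.Helper84.PsuI
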