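import Mathlib
import Cfsg.Agent.Lib.Helper84.PsuI

/-!
# `N_G(S)` is generated by the generating set (`PSUJ`)
-/

set_option autoImplicit false
set_option linter.unusedSectionVars false
set_option linter.unusedSimpArgs false
set_option linter.unusedVariables false

namespace Cfsg.Agent.Helper84.PsuJ

open Matrix Cfsg Cfsg.Agent.Helper13 Cfsg.Agent.Helper13.AutPSLTv Cfsg.Agent.Helper13.AutPSLSylow
open Cfsg.Agent.Helper84.PsuDef Cfsg.Agent.Helper84.PslMat1 Cfsg.Agent.Helper84.PslMat2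
open Cfsg.Agent.Helper84.PslMat3
open Cfsg.Agent.Helper84.PsuA Cfsg.Agent.Helper84.PsuB Cfsg.Agent.Helper84.PsuC
open Cfsg.Agent.Helper84.PsuD Cfsg.Agent.Helper84.PsuE Cfsg.Agent.Helper84.PsuF
open Cfsg.Agent.Helper84.PsuG Cfsg.Agent.Helper84.PsuH Cfsg.Agent.Helper84.PsuI
open Cfsg.Agent.Helper84.PslGrp

variable {n : ℕ} {F : Type*} [Field F] [Fintype F] {q : ℕ}

section main

variable (hF : Fintype.card F = q ^ 2) {p : ℕ} [Fact p.Prime] [CharP F p]

include hF

theorem diag_ne_zero {g : SUJ n F q} (hg : IsUp (mt g)) (j : Fin n) : mt g j j ≠ 0 := by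
  intro e
  have := diag_rel hF hg j
  rw [e, zero_mul] at this
  exact zero_ne_one this

omit hF in
theorem i1_ne_i0 (hn : 4 ≤ n) : i1 hn ≠ i0 hn := (i0_lt_i1 hn).ne'

/-- the last step: only the second diagonal entry is non-trivial -/
theorem fin1 (hn : 4 ≤ n) (S : Sylow p (PSUJ n F q))
    (hS : (S : Subgroup (PSUJ n F q)) = U0bar n F q) (g : SUJ n F q) (hg : IsUp (mt g))
    (hd : ∀ c : Fin n, c < Fin.rev c → c ≠ i1 hn → mt g c c = 1) :
    (pj g : PSUJ n F q) ∈ Subgroup.closure (GenSet S) := by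
  have hρ := diag_ne_zero hF hg (i1 hn)
  have hfinish : ∀ k : SUJ n F q, IsUp (mt k) → mt k (i1 hn) (i1 hn) = (mt g (i1 hn) (i1 hn))⁻¹ →
      (∀ c : Fin n, c < Fin.rev c → c ≠ i1 hn → mt k c c = 1) →
      (pj k : PSUJ n F q) ∈ GenSet S → (pj g : PSUJ n F q) ∈ Subgroup.closure (GenSet S) := by
    intro k hk h1 h2 h3
    have hgk := hg.mul hk
    have hmem : g * k ∈ U0 n F q := by
      apply mem_U0_of_up hF (by rw [mt_mul]; exact hgk.1)
      intro c hc
      rw [mt_mul, hgk.2]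
      by_cases hc1 : c = i1 hn
      · rw [hc1, h1, mul_inv_cancel₀ hρ]
      · rw [hd c hc hc1, h2 c hc hc1, one_mul]
    have e : (pj g : PSUJ n F q) = pj (g * k) * (pj k)⁻¹ := by
      rw [map_mul, mul_inv_cancel_right]
    rw [e]
    apply Subgroup.mul_mem _ _ (Subgroup.inv_mem _ (Subgroup.subset_closure h3))
    apply Subgroup.subset_closure
    apply mem_GenSet_of_mem
    rw [hS]
    exact pj_mem_U0bar hmem
  by_cases hmid : ∃ d : Fin n, Fin.rev d = d
  · obtain ⟨d, hd'⟩ := hmid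
    obtain ⟨k, hk, h1, h2, h3⟩ := kB hF hn S hS (i1_lt_rev hn) (i1_ne_i0 hn) hd'
      (inv_ne_zero hρ)
    exact hfinish k hk h1 h2 h3
  · push Not at hmid
    -- the second diagonal entry lies in the fixed field
    have hsec : ∀ i : Fin n, Fin.rev i < i → i ≠ Fin.rev (i1 hn) → mt g i i = 1 := by
      intro i hi hi1
      have h1 := diag_rel hF hg (Fin.rev i)
      rw [Fin.rev_rev, hd (Fin.rev i) (by rw [Fin.rev_rev]; exact hi)
        (fun e => hi1 (by rw [← e, Fin.rev_rev])), one_mul] at h1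
      exact frobQ_eq_one hF h1
    have hprod := prod_diag g hg
    rw [Finset.prod_eq_mul (i1 hn) (Fin.rev (i1 hn)) (i1_lt_rev hn).ne] at hprod
    · have h1 := diag_rel hF hg (i1 hn)
      have h2 : frobQ hF (mt g (Fin.rev (i1 hn)) (Fin.rev (i1 hn))) =
          (mt g (i1 hn) (i1 hn))⁻¹ := eq_inv_of_mul_eq_one_right h1
      have h3 : mt g (Fin.rev (i1 hn)) (Fin.rev (i1 hn)) = (mt g (i1 hn) (i1 hn))⁻¹ :=
        eq_inv_of_mul_eq_one_right hprod
      have hlq : frobQ hF (mt g (i1 hn) (i1 hn))⁻¹ = (mt g (i1 hn) (i1 hn))⁻¹ := by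
        rw [← h3]
        exact h2.trans h3.symm
      obtain ⟨k, hk, h1', h2', h3'⟩ := kA hF hn S hS (i1_lt_rev hn) (i1_ne_i0 hn)
        (inv_ne_zero hρ) hlq
      exact hfinish k hk h1' h2' h3'
    · intro c _ hc
      rcases lt_trichotomy c (Fin.rev c) with h | h | h
      · exact hd c h hc.1
      · exact absurd h.symm (hmid c)
      · exact hsec c h hc.2
    · intro h
      exact absurd (Finset.mem_univ _) h
    · intro h
      exact absurd (Finset.mem_univ _) h

theorem fin2 (hn : 4 ≤ n) (S : Sylow p (PSUJ n F q))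
    (hS : (S : Subgroup (PSUJ n F q)) = U0bar n F q) (g : SUJ n F q) (hg : IsUp (mt g))
    (hd : ∀ c : Fin n, c < Fin.rev c → c ≠ i1 hn → c ≠ i0 hn → mt g c c = 1) :
    (pj g : PSUJ n F q) ∈ Subgroup.closure (GenSet S) := by
  have hτ := diag_ne_zero hF hg (i0 hn)
  obtain ⟨k, hk, h0, h1, h2, h3⟩ := kL hF hn S hS (i1_lt_rev hn) (i1_ne_i0 hn) (inv_ne_zero hτ)
  have hgk := hg.mul hk
  have hmem : (pj (g * k) : PSUJ n F q) ∈ Subgroup.closure (GenSet S) := by
    apply fin1 hF hn S hS (g * k) (by rw [mt_mul]; exact hgk.1)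
    intro c hc hc1
    rw [mt_mul, hgk.2]
    by_cases hc0 : c = i0 hn
    · rw [hc0, h0, mul_inv_cancel₀ hτ]
    · rw [hd c hc hc1 hc0, h2 c hc hc1 hc0, one_mul]
  have e : (pj g : PSUJ n F q) = pj (g * k) * (pj k)⁻¹ := by
    rw [map_mul, mul_inv_cancel_right]
  rw [e]
  exact Subgroup.mul_mem _ hmem (Subgroup.inv_mem _ (Subgroup.subset_closure h3))

theorem fin3 (hn : 4 ≤ n) (S : Sylow p (PSUJ n F q))
    (hS : (S : Subgroup (PSUJ n F q)) = U0bar n F q) (s : Finset (Fin n)) :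
    ∀ g : SUJ n F q, IsUp (mt g) →
      (∀ c : Fin n, c < Fin.rev c → c ∉ s → c ≠ i1 hn → c ≠ i0 hn → mt g c c = 1) →
      (pj g : PSUJ n F q) ∈ Subgroup.closure (GenSet S) := by
  induction s using Finset.induction_on with
  | empty =>
    intro g hg hd
    exact fin2 hF hn S hS g hg (fun c hc h1 h0 => hd c hc (Finset.notMem_empty c) h1 h0)
  | insert a s ha ih =>
    intro g hg hd
    by_cases hgood : a < Fin.rev a ∧ a ≠ i1 hn ∧ a ≠ i0 hn
    · obtain ⟨ha1, ha2, ha3⟩ := hgood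
      have hτ := diag_ne_zero hF hg a
      obtain ⟨k, hk, h0, h1, h2, h3⟩ := kL hF hn S hS ha1 ha3 hτ
      have hgk := hg.mul hk
      have hmem : (pj (g * k) : PSUJ n F q) ∈ Subgroup.closure (GenSet S) := by
        apply ih (g * k) (by rw [mt_mul]; exact hgk.1)
        intro c hc hcs hc1 hc0
        rw [mt_mul, hgk.2]
        by_cases hca : c = a
        · rw [hca, h1, mul_inv_cancel₀ hτ]
        · have hcn : c ∉ insert a s := by
            rw [Finset.mem_insert]
            rintro (e | e)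
            · exact hca e
            · exact hcs e
          rw [hd c hc hcn hc1 hc0, h2 c hc hca hc0, one_mul]
      have e : (pj g : PSUJ n F q) = pj (g * k) * (pj k)⁻¹ := by
        rw [map_mul, mul_inv_cancel_right]
      rw [e]
      exact Subgroup.mul_mem _ hmem (Subgroup.inv_mem _ (Subgroup.subset_closure h3))
    · apply ih g hg
      intro c hc hcs hc1 hc0
      apply hd c hc _ hc1 hc0
      rw [Finset.mem_insert]
      rintro (e | e)
      · exact hgood ⟨e ▸ hc, e ▸ hc1, e ▸ hc0⟩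
      · exact hcs e

/-- `N_G(S)` is generated by the generating set -/
theorem normalizer_le_closure (hn : 4 ≤ n) (S : Sylow p (PSUJ n F q))
    (hS : (S : Subgroup (PSUJ n F q)) = U0bar n F q) :
    ∀ x ∈ Subgroup.normalizer ((S : Subgroup (PSUJ n F q)) : Set (PSUJ n F q)),
      x ∈ Subgroup.closure (GenSet S) := by
  intro x hx
  obtain ⟨g, rfl⟩ := pj_surjective x
  rw [hS] at hx
  have hup := up_of_normalizer hF p (by omega) hx
  exact fin3 hF hn S hS Finset.univ g hup (fun c _ hc _ _ => absurd (Finset.mem_univ c) hc)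

end main

end Cfsg.Agent.Helper84.PsuJ
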