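import Mathlib
import Cfsg.Agent.Lib.Helper84.PsuJ

/-!
# Strongly closed subgroups of `U0` (part 1): transvections and Siegel elements
-/

set_option autoImplicit false
set_option linter.unusedSectionVars false
set_option linter.unusedSimpArgs false
set_option linter.unusedVariables false

namespace Cfsg.Agent.Helper84.PsuK

open Matrix Cfsg Cfsg.Agent.Helper13 Cfsg.Agent.Helper13.AutPSLTv Cfsg.Agent.Helper13.AutPSLSylow
open Cfsg.Agent.Helper84.PsuDef Cfsg.Agent.Helper84.PslMat1 Cfsg.Agent.Helper84.PslMat2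
open Cfsg.Agent.Helper84.PslMat3
open Cfsg.Agent.Helper84.PsuA Cfsg.Agent.Helper84.PsuB Cfsg.Agent.Helper84.PsuC
open Cfsg.Agent.Helper84.PsuD Cfsg.Agent.Helper84.PsuE Cfsg.Agent.Helper84.PsuF
open Cfsg.Agent.Helper84.PsuG Cfsg.Agent.Helper84.PsuH Cfsg.Agent.Helper84.PsuI
open Cfsg.Agent.Helper84.PslGrp

variable {n : ℕ} {F : Type*} [Field F] [Fintype F] {q : ℕ}

/-- closure under conjugation inside `U0` -/
def SC (K : Subgroup (SUJ n F q)) : Prop :=
  ∀ x ∈ K, ∀ g : SUJ n F q, g * x * g⁻¹ ∈ U0 n F q → g * x * g⁻¹ ∈ K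

section main

variable (hF : Fintype.card F = q ^ 2)

include hF

/-- transvections along vectors of `W` lie in `U0` -/
theorem tvJ_W_mem_U0 {v : Fin n → F} (hv : InW v) {t : F} (ht : t + frobQ hF t = 0) :
    eich hF v 0 t ∈ U0 n F q := by
  have hiso : hermJ n F q v v = 0 := hJ_inW hF hv hv
  rw [mem_U0_iff_act]
  intro c r hcr
  rw [tvJ_act hF hiso ht, hJ_ee_left hF, Pi.add_apply, Pi.smul_apply, smul_eq_mul, ee_apply]
  by_cases hr : Fin.rev r ≤ r
  · rw [hv r hr, mul_zero, add_zero]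
  · push Not at hr
    have h1 : Fin.rev (Fin.rev c) ≤ Fin.rev c := by
      rw [Fin.rev_rev]
      exact le_trans hcr (le_trans hr.le (Fin.rev_le_rev.2 hcr))
    rw [hv _ h1, map_zero, mul_zero, zero_mul, add_zero]

/-- a torus-like element scaling `e_0` and an element mapping `e_0` to `e_j` -/
theorem exists_moves (hn : 4 ≤ n) {j : Fin n} (hj : j < Fin.rev j) (hj0 : j ≠ i0 hn) :
    (∀ s : F, s ≠ 0 → ∃ g : SUJ n F q, mt g *ᵥ (ee (i0 hn) : Fin n → F) = s • ee (i0 hn)) ∧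
    (∃ g : SUJ n F q, mt g *ᵥ (ee (i0 hn) : Fin n → F) = ee j ∧
      ∀ c : Fin n, c ≠ i0 hn → c ≠ j → c ≠ Fin.rev j → c ≠ Fin.rev (i0 hn) →
        mt g *ᵥ (ee c : Fin n → F) = ee c) ∧
    (∀ s : F, s ≠ 0 → ∃ g : SUJ n F q,
      mt g *ᵥ (ee (i0 hn) : Fin n → F) = ee (i0 hn) - s⁻¹ • ee j) := by
  have h00 := i0_lt_rev hn
  obtain ⟨hA1, hB1, hact1, hact1'⟩ := gL_act hF hn hj hj0 (one_ne_zero : (1 : F) ≠ 0)
  refine ⟨fun s hs0 => ?_, ?_, fun s hs0 => ?_⟩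
  · obtain ⟨hA, hB, hact, hact'⟩ := gL_act hF hn hj hj0 hs0
    have := k_eigen hact hact1 one_ne_zero
    rw [inv_one, mul_one] at this
    exact ⟨_, this⟩
  · set g0 : SUJ n F q := eich hF (ee j) ((frobQ hF 1)⁻¹ • ee (Fin.rev (i0 hn))) 0 *
      eich hF (ee (i0 hn)) ((-frobQ hF 1) • ee (Fin.rev j)) 0 with hg0
    rw [one_smul] at hact1
    refine ⟨g0⁻¹, ?_, ?_⟩
    · have := act_inv_act g0 (ee j : Fin n → F)
      rwa [hact1] at this
    · intro c h1 h2 h3 h4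
      apply act_fix_inv
      have hAc : mt (eich hF (ee (i0 hn)) ((-frobQ hF 1) • ee (Fin.rev j)) 0) *ᵥ
          (ee c : Fin n → F) = ee c := by
        apply eich_fix hF hA1
        · rw [hJ_ee_ee hF, if_neg h4]
        · rw [hJ_smul_right hF, hJ_ee_ee hF, Fin.rev_rev, if_neg h2, mul_zero]
      have hBc : mt (eich hF (ee j) ((frobQ hF 1)⁻¹ • ee (Fin.rev (i0 hn))) 0) *ᵥ
          (ee c : Fin n → F) = ee c := by
        apply eich_fix hF hB1
        · rw [hJ_ee_ee hF, if_neg h3]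
        · rw [hJ_smul_right hF, hJ_ee_ee hF, Fin.rev_rev, if_neg h1, mul_zero]
      rw [hg0, act_mul, hAc, hBc]
  · obtain ⟨hA, hB, hact, hact'⟩ := gL_act hF hn hj hj0 hs0
    exact ⟨_, hact'⟩

/-- all transvections along `e_0` -/
theorem tv0_all (hn : 4 ≤ n) {K : Subgroup (SUJ n F q)} (hK : SC K) {t0 : F} (ht00 : t0 ≠ 0)
    (ht0 : t0 + frobQ hF t0 = 0) (h : eich hF (ee (i0 hn)) 0 t0 ∈ K) :
    ∀ t : F, t + frobQ hF t = 0 → eich hF (ee (i0 hn)) 0 t ∈ K := by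
  intro t ht
  have hiso := e0_iso (n := n) (F := F) hF hn
  by_cases ht0' : t = 0
  · rw [ht0', eich_zero hF hiso]
    exact K.one_mem
  have hσt : frobQ hF t = -t := by linear_combination ht
  have hσt0 : frobQ hF t0 = -t0 := by linear_combination ht0
  have hr : frobQ hF (t / t0) = t / t0 := by
    rw [map_div₀, hσt, hσt0, neg_div_neg_eq]
  obtain ⟨s, hs⟩ := exists_norm hF _ hr
  have hs0 : s ≠ 0 := by
    intro e
    rw [e, zero_mul] at hs
    exact div_ne_zero ht0' ht00 hs.symm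
  obtain ⟨g, hg⟩ := (exists_moves hF hn (i1_lt_rev hn) (PsuJ.i1_ne_i0 hn)).1 s hs0
  have hconj : g * eich hF (ee (i0 hn)) 0 t0 * g⁻¹ = eich hF (ee (i0 hn)) 0 t := by
    rw [conj_eich hF g (adm_tv hF hiso ht0), hg, Matrix.mulVec_zero, tvJ_smul hF hiso ht0, hs]
    congr 1
    field_simp
  rw [← hconj]
  apply hK _ h
  rw [hconj]
  exact tvJ_W_mem_U0 hF (inW_ee (i0_lt_rev hn)) ht

/-- all transvections along `e_j` in the first half -/
theorem tvj_all (hn : 4 ≤ n) {K : Subgroup (SUJ n F q)} (hK : SC K)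
    (h0 : ∀ t : F, t + frobQ hF t = 0 → eich hF (ee (i0 hn)) 0 t ∈ K)
    {j : Fin n} (hj : j < Fin.rev j) {t : F} (ht : t + frobQ hF t = 0) :
    eich hF (ee j) 0 t ∈ K := by
  by_cases hj0 : j = i0 hn
  · rw [hj0]
    exact h0 t ht
  obtain ⟨g, hg, -⟩ := (exists_moves hF hn hj hj0).2.1
  have hiso := e0_iso (n := n) (F := F) hF hn
  have hconj : g * eich hF (ee (i0 hn)) 0 t * g⁻¹ = eich hF (ee j) 0 t := by
    rw [conj_eich hF g (adm_tv hF hiso ht), hg, Matrix.mulVec_zero]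
  rw [← hconj]
  apply hK _ (h0 t ht)
  rw [hconj]
  exact tvJ_W_mem_U0 hF (inW_ee hj) ht

/-- the Siegel-type elements `E(e_0, c e_j, 0)` -/
theorem siegel_mem (hn : 4 ≤ n) {K : Subgroup (SUJ n F q)} (hK : SC K)
    (h0 : ∀ t : F, t + frobQ hF t = 0 → eich hF (ee (i0 hn)) 0 t ∈ K)
    {j : Fin n} (hj : j < Fin.rev j) (hj0 : j ≠ i0 hn) (c : F) :
    Adm hF (ee (i0 hn)) (c • ee j) 0 ∧ eich hF (ee (i0 hn)) (c • ee j) 0 ∈ K := by
  have h00 := i0_lt_rev hn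
  have hiso := e0_iso (n := n) (F := F) hF hn
  have hisoj : hermJ n F q (ee j : Fin n → F) (ee j) = 0 := by rw [hJ_ee_ee hF, if_neg hj.ne]
  have c5 : hermJ n F q (ee j : Fin n → F) (ee (i0 hn)) = 0 := by
    rw [hJ_ee_ee hF, if_neg]
    intro e
    rw [e, Fin.rev_rev] at hj
    exact absurd hj (not_lt.2 (i0_le hn _))
  have c8 : hermJ n F q (ee (i0 hn) : Fin n → F) (ee j) = 0 := by
    rw [hJ_conj hF, c5, map_zero]
  have hadm : Adm hF (ee (i0 hn)) (c • ee j) 0 := by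
    refine ⟨hiso, by rw [hJ_smul_left, c5, mul_zero], ?_⟩
    rw [hJ_smul_left, hJ_smul_right hF, hisoj, map_zero]
    ring
  refine ⟨hadm, ?_⟩
  obtain ⟨θ, hθ0, hθ⟩ := exists_tz hF
  have hσθ : frobQ hF θ = -θ := by linear_combination hθ
  by_cases hc0 : c = 0
  · rw [hc0, zero_smul, eich_zero hF hiso]
    exact K.one_mem
  -- `c = θ a`
  set a : F := c / θ with ha
  have ha0 : a ≠ 0 := div_ne_zero hc0 hθ0
  have hca : c = θ * a := by rw [ha]; field_simp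
  -- the vector `e_0 + a e_j`
  obtain ⟨g, hg⟩ := (exists_moves hF hn hj hj0).2.2 (-a⁻¹) (neg_ne_zero.2 (inv_ne_zero ha0))
  have hv : (ee (i0 hn) : Fin n → F) - (-a⁻¹)⁻¹ • ee j = ee (i0 hn) + a • ee j := by
    rw [inv_neg, inv_inv, neg_smul, sub_neg_eq_add]
  rw [hv] at hg
  have hvW : InW ((ee (i0 hn) : Fin n → F) + a • ee j) :=
    inW_add (inW_ee h00) (inW_smul a (inW_ee hj))
  have hvi : hermJ n F q ((ee (i0 hn) : Fin n → F) + a • ee j) (ee (i0 hn) + a • ee j) = 0 :=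
    hJ_inW hF hvW hvW
  have hconj : g * eich hF (ee (i0 hn)) 0 θ * g⁻¹ = eich hF (ee (i0 hn) + a • ee j) 0 θ := by
    rw [conj_eich hF g (adm_tv hF hiso hθ), hg, Matrix.mulVec_zero]
  have hmem : eich hF ((ee (i0 hn) : Fin n → F) + a • ee j) 0 θ ∈ K := by
    rw [← hconj]
    apply hK _ (h0 θ hθ)
    rw [hconj]
    exact tvJ_W_mem_U0 hF hvW hθ
  have ht2 : θ * (a * frobQ hF a) + frobQ hF (θ * (a * frobQ hF a)) = 0 := by
    rw [map_mul, map_mul, frobQ_frobQ, hσθ]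
    ring
  have hdecomp : eich hF ((ee (i0 hn) : Fin n → F) + a • ee j) 0 θ =
      eich hF (ee (i0 hn)) 0 θ * eich hF (ee j) 0 (θ * (a * frobQ hF a)) *
        eich hF (ee (i0 hn)) (c • ee j) 0 := by
    apply su_ext
    intro x
    rw [act_mul, act_mul, tvJ_act hF hvi hθ, eich_act hF hadm, tvJ_act hF hisoj ht2,
      tvJ_act hF hiso hθ]
    simp only [hJ_add_left, hJ_sub_left, hJ_smul_left, hJ_add_right hF, hJ_smul_right hF,
      hiso, hisoj, c5, c8, hca, map_mul, hσθ]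
    module
  have e : eich hF (ee (i0 hn)) (c • ee j) 0 =
      (eich hF (ee (i0 hn)) 0 θ * eich hF (ee j) 0 (θ * (a * frobQ hF a)))⁻¹ *
        eich hF ((ee (i0 hn) : Fin n → F) + a • ee j) 0 θ := by
    rw [hdecomp]
    group
  rw [e]
  exact K.mul_mem (K.inv_mem (K.mul_mem (h0 θ hθ) (tvj_all hF hn hK h0 hj ht2))) hmem

end main

end Cfsg.Agent.Helper84.PsuK
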