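import Mathlib
import Cfsg.Agent.Lib.Helper84.PsuK

/-!
# Strongly closed subgroups of `U0` (part 2): the subgroup `Q0`
-/

set_option autoImplicit false
set_option linter.unusedSectionVars false
set_option linter.unusedSimpArgs false
set_option linter.unusedVariables false

namespace Cfsg.Agent.Helper84.PsuL

open Matrix Cfsg Cfsg.Agent.Helper13 Cfsg.Agent.Helper13.AutPSLTv Cfsg.Agent.Helper13.AutPSLSylow
open Cfsg.Agent.Helper84.PsuDef Cfsg.Agent.Helper84.PslMat1 Cfsg.Agent.Helper84.PslMat2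
open Cfsg.Agent.Helper84.PslMat3
open Cfsg.Agent.Helper84.PsuA Cfsg.Agent.Helper84.PsuB Cfsg.Agent.Helper84.PsuC
open Cfsg.Agent.Helper84.PsuD Cfsg.Agent.Helper84.PsuE Cfsg.Agent.Helper84.PsuF
open Cfsg.Agent.Helper84.PsuG Cfsg.Agent.Helper84.PsuH Cfsg.Agent.Helper84.PsuI
open Cfsg.Agent.Helper84.PsuK Cfsg.Agent.Helper84.PslGrp

variable {n : ℕ} {F : Type*} [Field F] [Fintype F] {q : ℕ}

section main

variable (hF : Fintype.card F = q ^ 2)

/-- all Eichler elements `E(e_0, w, t)` with the given `w` lie in `K` -/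
def PK (hn : 4 ≤ n) (K : Subgroup (SUJ n F q)) (w : Fin n → F) : Prop :=
  ∀ t : F, Adm hF (ee (i0 hn)) w t → eich hF (ee (i0 hn)) w t ∈ K

include hF

theorem orth_iff (hn : 4 ≤ n) (w : Fin n → F) :
    hermJ n F q w (ee (i0 hn)) = 0 ↔ w (Fin.rev (i0 hn)) = 0 := by
  rw [hJ_ee_right hF]

variable (hn : 4 ≤ n) {K : Subgroup (SUJ n F q)}
  (h0 : ∀ t : F, t + frobQ hF t = 0 → eich hF (ee (i0 hn)) 0 t ∈ K)

include h0

theorem PK_of_one {w : Fin n → F} {t1 : F} (h1 : Adm hF (ee (i0 hn)) w t1)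
    (hmem : eich hF (ee (i0 hn)) w t1 ∈ K) : PK hF hn K w := by
  intro t ht
  have hiso := e0_iso (n := n) (F := F) hF hn
  have hτ : (t - t1) + frobQ hF (t - t1) = 0 := by
    rw [map_sub]
    linear_combination ht.tr - h1.tr
  have e : eich hF (ee (i0 hn)) w t = eich hF (ee (i0 hn)) w t1 * eich hF (ee (i0 hn)) 0 (t - t1) := by
    rw [eich_mul hF h1 (adm_tv hF hiso hτ), hJ_zero_left, add_zero]
    congr 1
    ring
  rw [e]
  exact K.mul_mem hmem (h0 _ hτ)

theorem PK_zero : PK hF hn K 0 := by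
  intro t ht
  apply h0
  have := ht.tr
  rwa [hJ_zero_left, add_zero] at this

theorem PK_add {w w' : Fin n → F} (hw : w (Fin.rev (i0 hn)) = 0) (hw' : w' (Fin.rev (i0 hn)) = 0)
    (h1 : PK hF hn K w) (h2 : PK hF hn K w') : PK hF hn K (w + w') := by
  have hiso := e0_iso (n := n) (F := F) hF hn
  obtain ⟨t, ht⟩ := exists_adm_t hF hiso ((orth_iff hF hn w).2 hw)
  obtain ⟨t', ht'⟩ := exists_adm_t hF hiso ((orth_iff hF hn w').2 hw')
  apply PK_of_one hF hn h0 (adm_mul hF ht ht')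
  rw [← eich_mul hF ht ht']
  exact K.mul_mem (h1 t ht) (h2 t' ht')

theorem PK_neg {w : Fin n → F} (hw : w (Fin.rev (i0 hn)) = 0) (h1 : PK hF hn K w) :
    PK hF hn K (-w) := by
  have hiso := e0_iso (n := n) (F := F) hF hn
  obtain ⟨t, ht⟩ := exists_adm_t hF hiso ((orth_iff hF hn w).2 hw)
  apply PK_of_one hF hn h0 (adm_inv hF ht)
  rw [← eich_inv hF ht]
  exact K.inv_mem (h1 t ht)

theorem PK_e0 (c : F) : PK hF hn K (c • ee (i0 hn)) := by
  intro t ht
  have hiso := e0_iso (n := n) (F := F) hF hn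
  have htr : t + frobQ hF t = 0 := by
    have := ht.tr
    rwa [hJ_smul_left, hJ_smul_right hF, hiso, mul_zero, mul_zero, add_zero] at this
  have hτ : (t + c - frobQ hF c) + frobQ hF (t + c - frobQ hF c) = 0 := by
    rw [map_sub, map_add, frobQ_frobQ]
    linear_combination htr
  have e : eich hF (ee (i0 hn)) (c • ee (i0 hn)) t = eich hF (ee (i0 hn)) 0 (t + c - frobQ hF c) := by
    apply su_ext
    intro x
    rw [eich_act hF ht, tvJ_act hF hiso hτ, hJ_smul_right hF]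
    module
  rw [e]
  exact h0 _ hτ

variable (hK : SC K)

include hK

theorem PK_siegel {j : Fin n} (hj : j < Fin.rev j) (hj0 : j ≠ i0 hn) (c : F) :
    PK hF hn K (c • ee j) := by
  obtain ⟨hadm, hmem⟩ := siegel_mem hF hn hK h0 hj hj0 c
  exact PK_of_one hF hn h0 hadm hmem

theorem rev_i0_ne {j : Fin n} (hj : j < Fin.rev j) : j ≠ Fin.rev (i0 hn) := by
  intro e
  rw [e, Fin.rev_rev] at hj
  exact absurd hj (not_lt.2 (i0_le hn _))

theorem PK_levi {j : Fin n} (hj : j < Fin.rev j) (hj0 : j ≠ i0 hn) (c : F) :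
    PK hF hn K (c • ee (Fin.rev j)) := by
  have hiso := e0_iso (n := n) (F := F) hF hn
  obtain ⟨θ, hθ0, hθ⟩ := exists_tz hF
  have hisoj' : hermJ n F q (ee (Fin.rev j) : Fin n → F) (ee (Fin.rev j)) = 0 := by
    rw [hJ_ee_ee hF, Fin.rev_rev, if_neg hj.ne']
  set c' : F := c / θ with hc'
  have hcc : c = c' * θ := by rw [hc']; field_simp
  obtain ⟨hadm, hmem⟩ := siegel_mem hF hn hK h0 hj hj0 c'
  -- conjugate by the lower transvection
  have h1 : mt (eich hF (ee (Fin.rev j)) 0 θ) *ᵥ (ee (i0 hn) : Fin n → F) = ee (i0 hn) := by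
    rw [tvJ_act hF hisoj' hθ, hJ_ee_ee hF, Fin.rev_rev, if_neg (Ne.symm hj0), mul_zero,
      zero_smul, add_zero]
  have h2 : mt (eich hF (ee (Fin.rev j)) 0 θ) *ᵥ (c' • ee j : Fin n → F) =
      c' • ee j + c • ee (Fin.rev j) := by
    rw [Matrix.mulVec_smul, tvJ_act hF hisoj' hθ, hJ_ee_ee hF, Fin.rev_rev, if_pos rfl, hcc]
    module
  have hconj := conj_eich hF (eich hF (ee (Fin.rev j)) 0 θ) hadm
  rw [h1, h2] at hconj
  have hadm2 : Adm hF (ee (i0 hn)) (c' • ee j + c • ee (Fin.rev j)) 0 := by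
    have := adm_conj hF (eich hF (ee (Fin.rev j)) 0 θ) hadm
    rwa [h1, h2] at this
  have hmem2 : eich hF (ee (i0 hn)) (c' • ee j + c • ee (Fin.rev j)) 0 ∈ K := by
    rw [← hconj]
    apply hK _ hmem
    rw [hconj]
    exact Q0_le_U0 hF hn (eich_mem_Q0 hF hn hadm2)
  have hP2 := PK_of_one hF hn h0 hadm2 hmem2
  have hP1 := PK_siegel hF hn h0 hK hj hj0 c'
  have hz1 : (c' • ee j : Fin n → F) (Fin.rev (i0 hn)) = 0 := by
    rw [Pi.smul_apply, ee_ne (Ne.symm (rev_i0_ne hF hn h0 hK hj)), smul_zero]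
  have hz2 : (c' • ee j + c • ee (Fin.rev j) : Fin n → F) (Fin.rev (i0 hn)) = 0 := by
    rw [← orth_iff hF hn]
    exact hadm2.orth
  have e : (c • ee (Fin.rev j) : Fin n → F) = -(c' • ee j) + (c' • ee j + c • ee (Fin.rev j)) := by
    abel
  rw [e]
  apply PK_add hF hn h0 _ hz2 (PK_neg hF hn h0 hz1 hP1) hP2
  rw [Pi.neg_apply, hz1, neg_zero]

theorem PK_mid {d : Fin n} (hd : Fin.rev d = d) (c : F) : PK hF hn K (c • ee d) := by
  have hiso := e0_iso (n := n) (F := F) hF hn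
  have h11 := i1_lt_rev hn
  have h10 := PsuJ.i1_ne_i0 hn
  have hd1 : d ≠ i1 hn := by
    intro e
    rw [e] at hd
    exact h11.ne hd.symm
  have hd0 : d ≠ i0 hn := by
    intro e
    rw [e] at hd
    exact (i0_lt_rev hn).ne hd.symm
  have hiso1' : hermJ n F q (ee (Fin.rev (i1 hn)) : Fin n → F) (ee (Fin.rev (i1 hn))) = 0 := by
    rw [hJ_ee_ee hF, Fin.rev_rev, if_neg h11.ne']
  have horth : hermJ n F q (ee d : Fin n → F) (ee (Fin.rev (i1 hn))) = 0 := by
    rw [hJ_ee_ee hF, Fin.rev_rev, if_neg hd1]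
  obtain ⟨s, hY⟩ := exists_adm_t hF hiso1' horth
  obtain ⟨hadm, hmem⟩ := siegel_mem hF hn hK h0 h11 h10 c
  have h1 : mt (eich hF (ee (Fin.rev (i1 hn))) (ee d) s) *ᵥ (ee (i0 hn) : Fin n → F) =
      ee (i0 hn) := by
    apply eich_fix hF hY
    · rw [hJ_ee_ee hF, Fin.rev_rev, if_neg (Ne.symm h10)]
    · rw [hJ_ee_ee hF, hd, if_neg (Ne.symm hd0)]
  have h2 : mt (eich hF (ee (Fin.rev (i1 hn))) (ee d) s) *ᵥ (c • ee (i1 hn) : Fin n → F) =
      c • ee (i1 hn) + c • ee d + (c * s) • ee (Fin.rev (i1 hn)) := by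
    rw [Matrix.mulVec_smul, eich_act hF hY, hJ_ee_ee hF, Fin.rev_rev, if_pos rfl, hJ_ee_ee hF, hd,
      if_neg (Ne.symm hd1)]
    module
  have hconj := conj_eich hF (eich hF (ee (Fin.rev (i1 hn))) (ee d) s) hadm
  rw [h1, h2] at hconj
  have hadm2 : Adm hF (ee (i0 hn))
      (c • ee (i1 hn) + c • ee d + (c * s) • ee (Fin.rev (i1 hn))) 0 := by
    have := adm_conj hF (eich hF (ee (Fin.rev (i1 hn))) (ee d) s) hadm
    rwa [h1, h2] at this
  have hmem2 : eich hF (ee (i0 hn))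
      (c • ee (i1 hn) + c • ee d + (c * s) • ee (Fin.rev (i1 hn))) 0 ∈ K := by
    rw [← hconj]
    apply hK _ hmem
    rw [hconj]
    exact Q0_le_U0 hF hn (eich_mem_Q0 hF hn hadm2)
  have hP := PK_of_one hF hn h0 hadm2 hmem2
  have hP1 := PK_siegel hF hn h0 hK h11 h10 c
  have hP3 := PK_levi hF hn h0 hK h11 h10 (c * s)
  have hz1 : (c • ee (i1 hn) : Fin n → F) (Fin.rev (i0 hn)) = 0 := by
    rw [Pi.smul_apply, ee_ne (Ne.symm (rev_i0_ne hF hn h0 hK h11)), smul_zero]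
  have hz3 : ((c * s) • ee (Fin.rev (i1 hn)) : Fin n → F) (Fin.rev (i0 hn)) = 0 := by
    rw [Pi.smul_apply, ee_ne, smul_zero]
    intro e
    exact h10 (Fin.rev_inj.1 e).symm
  have hz : (c • ee (i1 hn) + c • ee d + (c * s) • ee (Fin.rev (i1 hn)) : Fin n → F)
      (Fin.rev (i0 hn)) = 0 := by
    rw [← orth_iff hF hn]
    exact hadm2.orth
  have e : (c • ee d : Fin n → F) = (-(c • ee (i1 hn)) +
      (c • ee (i1 hn) + c • ee d + (c * s) • ee (Fin.rev (i1 hn)))) +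
      -((c * s) • ee (Fin.rev (i1 hn))) := by
    abel
  rw [e]
  have hz' : (-(c • ee (i1 hn)) + (c • ee (i1 hn) + c • ee d +
      (c * s) • ee (Fin.rev (i1 hn))) : Fin n → F) (Fin.rev (i0 hn)) = 0 := by
    rw [Pi.add_apply, Pi.neg_apply, hz1, hz, neg_zero, add_zero]
  apply PK_add hF hn h0 hz' _ _ (PK_neg hF hn h0 hz3 hP3)
  · rw [Pi.neg_apply, hz3, neg_zero]
  · apply PK_add hF hn h0 _ hz (PK_neg hF hn h0 hz1 hP1) hP
    rw [Pi.neg_apply, hz1, neg_zero]

/-- all Eichler elements along `e_0` -/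
theorem PK_all (w : Fin n → F) (hw : w (Fin.rev (i0 hn)) = 0) : PK hF hn K w := by
  have key : ∀ s : Finset (Fin n),
      (∑ i ∈ s, w i • (ee i : Fin n → F)) (Fin.rev (i0 hn)) = 0 ∧
        PK hF hn K (∑ i ∈ s, w i • (ee i : Fin n → F)) := by
    intro s
    induction s using Finset.induction_on with
    | empty =>
      rw [Finset.sum_empty]
      exact ⟨rfl, PK_zero hF hn h0⟩
    | insert a s ha ih =>
      rw [Finset.sum_insert ha]
      have hza : (w a • (ee a : Fin n → F)) (Fin.rev (i0 hn)) = 0 := by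
        rw [Pi.smul_apply, smul_eq_mul]
        by_cases e : a = Fin.rev (i0 hn)
        · rw [e, hw, zero_mul]
        · rw [ee_ne (Ne.symm e), mul_zero]
      refine ⟨by rw [Pi.add_apply, hza, ih.1, add_zero], ?_⟩
      apply PK_add hF hn h0 hza ih.1 _ ih.2
      by_cases e : a = Fin.rev (i0 hn)
      · rw [e, hw, zero_smul]
        exact PK_zero hF hn h0
      by_cases e0 : a = i0 hn
      · rw [e0]
        exact PK_e0 hF hn h0 _
      rcases lt_trichotomy a (Fin.rev a) with h | h | h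
      · exact PK_siegel hF hn h0 hK h e0 _
      · exact PK_mid hF hn h0 hK h.symm _
      · have h' : Fin.rev a < Fin.rev (Fin.rev a) := by rw [Fin.rev_rev]; exact h
        have := PK_levi hF hn h0 hK h' (fun e' => e (by rw [← e', Fin.rev_rev])) (w a)
        rwa [Fin.rev_rev] at this
  have := (key Finset.univ).2
  rwa [← vec_decomp w] at this

/-- `Q0` lies in `K` -/
theorem Q0_le : Q0 (F := F) (q := q) hn ≤ K := by
  intro g hg
  obtain ⟨w, t, hadm, rfl⟩ := exists_eich_of_mem_Q0 hF hn hg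
  exact PK_all hF hn h0 hK w ((orth_iff hF hn w).1 hadm.orth) t hadm

end main

end Cfsg.Agent.Helper84.PsuL
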