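import Mathlib
import Cfsg.Agent.Lib.Helper84.PsuL

/-!
# Strongly closed subgroups of `U0` (part 3): generation of `U0` by Eichler elements
-/

set_option autoImplicit false
set_option linter.unusedSectionVars false
set_option linter.unusedSimpArgs false
set_option linter.unusedVariables false

namespace Cfsg.Agent.Helper84.PsuM

open Matrix Cfsg Cfsg.Agent.Helper13 Cfsg.Agent.Helper13.AutPSLTv Cfsg.Agent.Helper13.AutPSLSylow
open Cfsg.Agent.Helper84.PsuDef Cfsg.Agent.Helper84.PslMat1 Cfsg.Agent.Helper84.PslMat2
open Cfsg.Agent.Helper84.PslMat3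
open Cfsg.Agent.Helper84.PsuA Cfsg.Agent.Helper84.PsuB Cfsg.Agent.Helper84.PsuC
open Cfsg.Agent.Helper84.PsuD Cfsg.Agent.Helper84.PsuE Cfsg.Agent.Helper84.PsuF
open Cfsg.Agent.Helper84.PsuG Cfsg.Agent.Helper84.PsuH Cfsg.Agent.Helper84.PsuI
open Cfsg.Agent.Helper84.PsuK Cfsg.Agent.Helper84.PsuL Cfsg.Agent.Helper84.PslGrp

variable {n : ℕ} {F : Type*} [Field F] [Fintype F] {q : ℕ}

section main

variable (hF : Fintype.card F = q ^ 2)

include hF

/-- the Eichler elements along `e_k` of `U0` lie in a strongly closed `K` containing `Q0` -/
theorem eich_k_mem (hn : 4 ≤ n) {K : Subgroup (SUJ n F q)} (hK : SC K)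
    (hQ : Q0 (F := F) (q := q) hn ≤ K) {k : Fin n} (hk : k < Fin.rev k) {w : Fin n → F} {t : F}
    (hw1 : ∀ i, i ≤ k → w i = 0) (hw2 : ∀ i, Fin.rev k ≤ i → w i = 0)
    (hadm : Adm hF (ee k) w t) : eich hF (ee k) w t ∈ K := by
  by_cases hk0 : k = i0 hn
  · subst hk0
    exact hQ (eich_mem_Q0 hF hn hadm)
  obtain ⟨g, hg0, hgfix⟩ := (exists_moves hF hn hk hk0).2.1
  have hw0 : w (Fin.rev (i0 hn)) = 0 := hw2 _ (Fin.rev_le_rev.2 (i0_le hn k))
  have hgw : mt g *ᵥ w = w := by
    conv_lhs => rw [vec_decomp w]
    conv_rhs => rw [vec_decomp w]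
    rw [Matrix.mulVec_sum]
    apply Finset.sum_congr rfl
    intro c _
    rw [Matrix.mulVec_smul]
    by_cases h1 : c = i0 hn
    · rw [h1, hw1 _ (i0_le hn k), zero_smul, zero_smul]
    by_cases h2 : c = k
    · rw [h2, hw1 _ le_rfl, zero_smul, zero_smul]
    by_cases h3 : c = Fin.rev k
    · rw [h3, hw2 _ le_rfl, zero_smul, zero_smul]
    by_cases h4 : c = Fin.rev (i0 hn)
    · rw [h4, hw0, zero_smul, zero_smul]
    rw [hgfix c h1 h2 h3 h4]
  have hadm0 : Adm hF (ee (i0 hn)) w t :=
    ⟨e0_iso hF hn, (orth_iff hF hn w).2 hw0, hadm.tr⟩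
  have hconj := conj_eich hF g hadm0
  rw [hg0, hgw] at hconj
  rw [← hconj]
  apply hK _ (hQ (eich_mem_Q0 hF hn hadm0))
  rw [hconj]
  exact eich_mem_U0 hF hadm hk hw2

/-- `U0` is generated by its Eichler elements -/
theorem U0_le_of_eich (H : Subgroup (SUJ n F q))
    (hH : ∀ (k : Fin n) (w : Fin n → F) (t : F), k < Fin.rev k → (∀ i, i ≤ k → w i = 0) →
      (∀ i, Fin.rev k ≤ i → w i = 0) → Adm hF (ee k) w t → eich hF (ee k) w t ∈ H) :
    U0 n F q ≤ H := by
  have key : ∀ M : ℕ, ∀ g ∈ U0 n F q,
      (∀ c : Fin n, M ≤ (c : ℕ) → mt g *ᵥ (ee c : Fin n → F) = ee c) → g ∈ H := by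
    intro M
    induction M with
    | zero =>
      intro g _ hfix
      rw [eq_one_of_fix_basis (fun j => hfix j (Nat.zero_le _))]
      exact H.one_mem
    | succ M ih =>
      intro g hg hfix
      by_cases hM : M < n
      · set c : Fin n := ⟨M, hM⟩ with hc
        have hfix' : ∀ c' : Fin n, c < c' → mt g *ᵥ (ee c' : Fin n → F) = ee c' := by
          intro c' hc'
          apply hfix
          have := Fin.lt_def.1 hc'
          simp only [hc] at this
          omega
        have hgU := mem_U0_iff_act.1 hg
        -- the entries of the column above the diagonal, via the fixed vectors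
        have hentry : ∀ r : Fin n, c < Fin.rev r → r ≠ c →
            (mt g *ᵥ (ee c : Fin n → F)) r = 0 := by
          intro r hr hrc
          have h1 := pres g (ee c : Fin n → F) (ee (Fin.rev r))
          rw [hfix' _ hr, hJ_ee_right hF, Fin.rev_rev, hJ_ee_ee hF, Fin.rev_rev,
            if_neg (Ne.symm hrc)] at h1
          exact h1
        by_cases hk : Fin.rev c < c
        · set k : Fin n := Fin.rev c with hkdef
          have hkk : k < Fin.rev k := by rw [hkdef, Fin.rev_rev]; exact hk
          have hrk : Fin.rev k = c := by rw [hkdef, Fin.rev_rev]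
          set y : Fin n → F := mt g *ᵥ (ee c : Fin n → F) with hy
          have hy1 : ∀ r, c ≤ r → y r = if r = c then 1 else 0 := fun r hr => hgU c r hr
          have hy2 : ∀ i, i < k → y i = 0 := by
            intro i hi
            apply hentry i
            · have := Fin.rev_lt_rev.2 hi
              rwa [hrk] at this
            · exact (lt_trans hi hk).ne
          set w : Fin n → F := fun i => if k < i ∧ i < c then y i else 0 with hw
          have hwk : ∀ i, i ≤ k → w i = 0 := by
            intro i hi
            simp only [hw]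
            rw [if_neg]
            exact fun h => absurd h.1 (not_lt.2 hi)
          have hwc : ∀ i, Fin.rev k ≤ i → w i = 0 := by
            intro i hi
            rw [hrk] at hi
            simp only [hw]
            rw [if_neg]
            exact fun h => absurd h.2 (not_lt.2 hi)
          have hdecomp : y = ee c + w + y k • ee k := by
            funext i
            simp only [Pi.add_apply, Pi.smul_apply, smul_eq_mul, hw]
            rcases lt_trichotomy i k with h | h | h
            · rw [hy2 i h, ee_ne (lt_trans h hk).ne, ee_ne h.ne, if_neg (fun h' => absurd h'.1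
                (not_lt.2 h.le))]
              ring
            · rw [h, ee_ne hk.ne, ee_same, if_neg (fun h' => absurd h'.1 (lt_irrefl _))]
              ring
            · rcases lt_trichotomy i c with h' | h' | h'
              · rw [if_pos ⟨h, h'⟩, ee_ne h'.ne, ee_ne h.ne']
                ring
              · rw [h', hy1 c le_rfl, if_pos rfl, ee_same, ee_ne hk.ne',
                  if_neg (fun h'' => absurd h''.2 (lt_irrefl _))]
                ring
              · rw [hy1 i h'.le, if_neg h'.ne', ee_ne h'.ne', ee_ne h.ne',
                  if_neg (fun h'' => absurd h''.2 (not_lt.2 h'.le))]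
                ring
          have hisok : hermJ n F q (ee k : Fin n → F) (ee k) = 0 := ee_iso hF hkk.ne
          have hisoc : hermJ n F q (ee c : Fin n → F) (ee c) = 0 := by
            rw [hJ_ee_ee hF, if_neg hk.ne']
          have hck : hermJ n F q (ee c : Fin n → F) (ee k) = 1 := by
            rw [hJ_ee_ee hF, hrk, if_pos rfl]
          have hkc : hermJ n F q (ee k : Fin n → F) (ee c) = 1 := by
            rw [hJ_ee_ee hF, if_pos hkdef]
          have hwk' : hermJ n F q w (ee k) = 0 := by
            rw [hJ_ee_right hF, hwc _ le_rfl]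
          have hkw : hermJ n F q (ee k : Fin n → F) w = 0 := by
            rw [hJ_conj hF, hwk', map_zero]
          have hwc' : hermJ n F q w (ee c) = 0 := by
            rw [hJ_ee_right hF, ← hkdef, hwk _ le_rfl]
          have hcw : hermJ n F q (ee c : Fin n → F) w = 0 := by
            rw [hJ_conj hF, hwc', map_zero]
          have hadm : Adm hF (ee k) w (y k) := by
            refine ⟨hisok, hwk', ?_⟩
            have h1 := pres g (ee c : Fin n → F) (ee c)
            rw [← hy, hisoc, hdecomp] at h1
            simp only [hJ_add_left, hJ_add_right hF, hJ_smul_left, hJ_smul_right hF, hisok, hisoc,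
              hck, hkc, hwk', hkw, hwc', hcw] at h1
            linear_combination h1
          have hE : eich hF (ee k) w (y k) ∈ H := hH k w (y k) hkk hwk hwc hadm
          have hEU : eich hF (ee k) w (y k) ∈ U0 n F q := eich_mem_U0 hF hadm hkk hwc
          have hEc : mt (eich hF (ee k) w (y k)) *ᵥ (ee c : Fin n → F) = y := by
            rw [eich_act hF hadm, hck, hcw]
            conv_rhs => rw [hdecomp]
            module
          have hEfix : ∀ c' : Fin n, c < c' →
              mt (eich hF (ee k) w (y k)) *ᵥ (ee c' : Fin n → F) = ee c' := by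
            intro c' hc'
            apply eich_fix hF hadm
            · rw [hJ_ee_ee hF, hrk, if_neg hc'.ne']
            · rw [hJ_ee_left hF, hwk _ (by rw [hkdef]; exact (Fin.rev_lt_rev.2 hc').le), map_zero]
          have hg' : (eich hF (ee k) w (y k))⁻¹ * g ∈ H := by
            apply ih _ ((U0 n F q).mul_mem ((U0 n F q).inv_mem hEU) hg)
            intro c' hc'
            rw [act_mul]
            rcases eq_or_lt_of_le (show c ≤ c' from Fin.le_def.2 (by simp only [hc]; exact hc'))
              with h | h
            · rw [← h, ← hy]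
              have h5 := act_inv_act (eich hF (ee k) w (y k)) (ee c : Fin n → F)
              rw [hEc] at h5
              exact h5
            · rw [hfix' c' h, act_fix_inv _ (hEfix c' h)]
          have e : g = eich hF (ee k) w (y k) * ((eich hF (ee k) w (y k))⁻¹ * g) := by group
          rw [e]
          exact H.mul_mem hE hg'
        · push Not at hk
          apply ih g hg
          intro c' hc'
          rcases eq_or_lt_of_le (show c ≤ c' from Fin.le_def.2 (by simp only [hc]; exact hc'))
            with h | h
          · rw [← h]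
            funext r
            rw [ee_apply]
            by_cases hr : c ≤ r
            · exact hgU c r hr
            · push Not at hr
              rw [if_neg hr.ne]
              apply hentry r _ hr.ne
              exact lt_of_le_of_lt hk (Fin.rev_lt_rev.2 hr)
          · exact hfix' c' h
      · apply ih g hg
        intro c hc
        exact absurd (lt_of_le_of_lt hc c.2) hM
  intro g hg
  exact key n g hg (fun c hc => absurd c.2 (not_lt.2 hc))

end main

end Cfsg.Agent.Helper84.PsuM
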