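import Mathlib
import Cfsg.Agent.Lib.Helper84.PsuM

/-!
# The fusion system of `PSUJ_n(q)` (antidiagonal model of `PSU_n(q)`) in the defining
characteristic is simple, for `n ≥ 4`
-/

set_option autoImplicit false
set_option linter.unusedSectionVars false
set_option linter.unusedSimpArgs false
set_option linter.unusedVariables false

namespace Cfsg.Agent.Helper84.PsuZ

open Matrix Cfsg Cfsg.Agent.Helper13 Cfsg.Agent.Helper13.AutPSLTv Cfsg.Agent.Helper13.AutPSLSylow
open Cfsg.Agent.Helper84.PsuDef Cfsg.Agent.Helper84.PslMat1 Cfsg.Agent.Helper84.PslMat2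
open Cfsg.Agent.Helper84.PslMat3
open Cfsg.Agent.Helper84.PsuA Cfsg.Agent.Helper84.PsuB Cfsg.Agent.Helper84.PsuC
open Cfsg.Agent.Helper84.PsuD Cfsg.Agent.Helper84.PsuE Cfsg.Agent.Helper84.PsuF
open Cfsg.Agent.Helper84.PsuG Cfsg.Agent.Helper84.PsuH Cfsg.Agent.Helper84.PsuI
open Cfsg.Agent.Helper84.PsuJ
open Cfsg.Agent.Helper84.PsuK Cfsg.Agent.Helper84.PsuL Cfsg.Agent.Helper84.PsuM
open Cfsg.Agent.Helper84.PslGrp

variable {n : ℕ} {F : Type*} [Field F] [Fintype F] {q : ℕ}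

section main

variable (hF : Fintype.card F = q ^ 2) {p : ℕ} [Fact p.Prime] [CharP F p]

include hF

theorem eich_e0_smul (hn : 4 ≤ n) {c t : F} (ht : Adm hF (ee (i0 hn)) (c • ee (i0 hn)) t) :
    (t + c - frobQ hF c) + frobQ hF (t + c - frobQ hF c) = 0 ∧
    eich hF (ee (i0 hn)) (c • ee (i0 hn)) t = eich hF (ee (i0 hn)) 0 (t + c - frobQ hF c) := by
  have hiso := e0_iso (n := n) (F := F) hF hn
  have htr : t + frobQ hF t = 0 := by
    have := ht.tr
    rwa [hJ_smul_left, hJ_smul_right hF, hiso, mul_zero, mul_zero, add_zero] at this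
  have hτ : (t + c - frobQ hF c) + frobQ hF (t + c - frobQ hF c) = 0 := by
    rw [map_sub, map_add, frobQ_frobQ]
    linear_combination htr
  refine ⟨hτ, ?_⟩
  apply su_ext
  intro x
  rw [eich_act hF ht, tvJ_act hF hiso hτ, hJ_smul_right hF]
  module

/-- a nontrivial strongly closed subgroup of `S` is `S` -/
theorem stronglyClosed_eq (hn : 4 ≤ n) (S : Sylow p (PSUJ n F q))
    (hS : (S : Subgroup (PSUJ n F q)) = U0bar n F q) {T : Subgroup (PSUJ n F q)}
    (hT : (groupFusionSystem (S : Subgroup (PSUJ n F q))).StronglyClosed T) (hT1 : T ≠ ⊥) :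
    T = (S : Subgroup (PSUJ n F q)) := by
  have hn2 : 2 ≤ n := by omega
  have hiso := e0_iso (n := n) (F := F) hF hn
  have hK : SC (T.comap (pj : SUJ n F q →* PSUJ n F q)) := by
    intro x hx g hmem
    have h1 : (pj g : PSUJ n F q) * pj x * (pj g)⁻¹ ∈ (S : Subgroup (PSUJ n F q)) := by
      rw [pj_conj, hS]
      exact pj_mem_U0bar hmem
    have h2 := conj_mem_of_stronglyClosed hT (Subgroup.mem_comap.1 hx) (pj g) h1
    rw [pj_conj] at h2
    exact Subgroup.mem_comap.2 h2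
  obtain ⟨z, hzT, hz1, hzc⟩ := exists_central_of_stronglyClosed S.isPGroup' hT hT1
  have hzS : z ∈ U0bar n F q := by rw [← hS]; exact hT.1 hzT
  obtain ⟨z0, hz0U, rfl⟩ := hzS
  have hcomm : ∀ u ∈ U0 n F q, z0 * u = u * z0 := by
    intro u hu
    obtain ⟨b, hb⟩ := U0_pow (q := q) p hu
    exact comm_of_pj_comm hF hn2 hb (hzc (pj u) (by rw [hS]; exact pj_mem_U0bar hu))
  have hzQ : z0 ∈ Q0 (F := F) (q := q) hn :=
    mem_Q0_of_comm hF hn (U0_fix_e0 hF hn hz0U)
      (fun w t hadm => hcomm _ (Q0_le_U0 hF hn (eich_mem_Q0 hF hn hadm)))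
  obtain ⟨w0, t0, hadm0, e0⟩ := exists_eich_of_mem_Q0 hF hn hzQ
  have hz01 : z0 ≠ 1 := by
    rintro rfl
    exact hz1 (map_one _)
  -- `w0` is a multiple of `e_0`
  have hw0 : ∀ i : Fin n, i ≠ i0 hn → w0 i = 0 := by
    intro i hi
    by_contra hne
    obtain ⟨b, hb⟩ : ∃ b : F, frobQ hF b ≠ b := by
      by_contra hcon
      push Not at hcon
      exact frobQ_ne_id hF (RingHom.ext hcon)
    set a : F := frobQ hF (b / w0 i) with ha
    have hσa : frobQ hF a = b / w0 i := frobQ_frobQ hF _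
    have horth : hermJ n F q (a • ee (Fin.rev i) : Fin n → F) (ee (i0 hn)) = 0 := by
      rw [hJ_smul_left, hJ_ee_ee hF, if_neg, mul_zero]
      intro e
      exact hi (Fin.rev_inj.1 e)
    obtain ⟨t, hadm⟩ := exists_adm_t hF hiso horth
    have hu := eich_mem_Q0 hF hn hadm
    have hc1 := hcomm _ (Q0_le_U0 hF hn hu)
    have hc2 : eich hF (ee (i0 hn)) (a • ee (Fin.rev i)) t * z0 *
        (eich hF (ee (i0 hn)) (a • ee (Fin.rev i)) t)⁻¹ = z0 := by
      rw [← hc1, mul_inv_cancel_right]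
    rw [e0, conj_eich hF _ hadm0, eich_fix hF hadm hiso hadm.orth'] at hc2
    have hβ : hermJ n F q w0 (a • ee (Fin.rev i)) = b := by
      rw [hJ_smul_right hF, hJ_ee_right hF, Fin.rev_rev, hσa]
      field_simp
    have hw' : mt (eich hF (ee (i0 hn)) (a • ee (Fin.rev i)) t) *ᵥ w0 = w0 - b • ee (i0 hn) := by
      rw [eich_act hF hadm, hadm0.orth, hβ]
      module
    rw [hw'] at hc2
    have hadm' : Adm hF (ee (i0 hn)) (w0 - b • ee (i0 hn)) t0 := by
      have := adm_conj hF (eich hF (ee (i0 hn)) (a • ee (Fin.rev i)) t) hadm0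
      rwa [eich_fix hF hadm hiso hadm.orth', hw'] at this
    have h3 := congrArg (fun g : SUJ n F q => (mt g *ᵥ (ee (Fin.rev (i0 hn)) : Fin n → F))
      (i0 hn)) hc2
    beta_reduce at h3
    rw [eich_act hF hadm', eich_act hF hadm0] at h3
    simp only [hJ_sub_right hF, hJ_smul_right hF, hJ_ee_ee hF, if_pos, Pi.add_apply,
      Pi.sub_apply, Pi.smul_apply, smul_eq_mul, ee_same, ee_ne (i0_lt_rev hn).ne] at h3
    apply hb
    linear_combination h3
  have hw0' : w0 = w0 (i0 hn) • ee (i0 hn) := by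
    funext i
    rw [Pi.smul_apply, smul_eq_mul]
    by_cases hi : i = i0 hn
    · rw [hi, ee_same, mul_one]
    · rw [hw0 i hi, ee_ne hi, mul_zero]
  rw [hw0'] at hadm0 e0
  obtain ⟨hτ, e1⟩ := eich_e0_smul hF hn hadm0
  rw [e1] at e0
  set τ : F := t0 + w0 (i0 hn) - frobQ hF (w0 (i0 hn)) with hτdef
  have hτ0 : τ ≠ 0 := by
    intro e
    apply hz01
    rw [e0, e, eich_zero hF hiso]
  have hmemK : eich hF (ee (i0 hn)) 0 τ ∈ T.comap (pj : SUJ n F q →* PSUJ n F q) := by
    rw [← e0]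
    exact Subgroup.mem_comap.2 hzT
  have h0 := tv0_all hF hn hK hτ0 hτ hmemK
  have hQ := Q0_le hF hn h0 hK
  have hU : U0 n F q ≤ T.comap (pj : SUJ n F q →* PSUJ n F q) :=
    U0_le_of_eich hF _ (fun k w t hk hw1 hw2 hadm => eich_k_mem hF hn hK hQ hk hw1 hw2 hadm)
  apply le_antisymm hT.1
  rw [hS]
  exact Subgroup.map_le_iff_le_comap.2 hU

/-- the fusion system of `PSUJ_n(q)` on the standard Sylow subgroup is simple -/
theorem psuj_simple_U0 (hn : 4 ≤ n) (S : Sylow p (PSUJ n F q))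
    (hS : (S : Subgroup (PSUJ n F q)) = U0bar n F q) :
    (groupFusionSystem (S : Subgroup (PSUJ n F q))).IsSimple p := by
  have hiso := e0_iso (n := n) (F := F) hF hn
  apply Cfsg.Agent.Helper84.PslCrit.simple_crit S
  · intro h
    obtain ⟨θ, hθ0, hθ⟩ := exists_tz hF
    have hadm := adm_tv hF hiso hθ
    have hmem : (pj (eich hF (ee (i0 hn)) 0 θ) : PSUJ n F q) ∈ (S : Subgroup (PSUJ n F q)) := by
      rw [hS]
      exact pj_mem_U0bar (Q0_le_U0 hF hn (eich_mem_Q0 hF hn hadm))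
    rw [h, Subgroup.mem_bot] at hmem
    have h1 := pj_eq_one_of_fix hF (by omega) hmem (eich_fix hF hadm hiso hadm.orth')
    have h2 := congrArg (fun g : SUJ n F q => (mt g *ᵥ (ee (Fin.rev (i0 hn)) : Fin n → F))
      (i0 hn)) h1
    beta_reduce at h2
    rw [tvJ_act hF hiso hθ, act_one, hJ_ee_ee hF, if_pos rfl, Pi.add_apply, Pi.smul_apply,
      ee_ne (i0_lt_rev hn).ne, ee_same, smul_eq_mul, mul_one, mul_one, zero_add] at h2
    exact hθ0 h2
  · intro T hT
    by_cases h : T = ⊥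
    · exact Or.inl h
    · exact Or.inr (stronglyClosed_eq hF hn S hS hT h)
  · exact normalizer_le_closure hF hn S hS

end main

/-- the fusion system of `PSUJ_n(q)` on any Sylow `p`-subgroup is simple (`n ≥ 4`) -/
theorem psuj_simple {K : Type*} [Field K] [Fintype K] (p q : ℕ) [Fact p.Prime] [CharP K p]
    (hK : Fintype.card K = q ^ 2) (n : ℕ) (hn : 4 ≤ n) (S : Sylow p (PSUJ n K q)) :
    (groupFusionSystem (S : Subgroup (PSUJ n K q))).IsSimple p := by
  obtain ⟨P, hP⟩ := exists_sylow_U0 (n := n) hK p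
  have hS0 : ((P.mapSurjective (pj_surjective (n := n) (F := K) (q := q)) :
      Sylow p (PSUJ n K q)) : Subgroup (PSUJ n K q)) = U0bar n K q := by
    rw [Sylow.coe_mapSurjective, hP]
    rfl
  exact simple_of_sylow _ S (psuj_simple_U0 hK hn _ hS0)

end Cfsg.Agent.Helper84.PsuZ
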