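import Mathlib
import Cfsg.Agent.Lib.Helper84.PslCrit
import Cfsg.Agent.Lib.Helper84.PslGrp

/-!
# A simplicity criterion for `F_S(A / Z(A))`, `Z(A) = {1, z}`, stated inside `A`
-/

set_option autoImplicit false
open Cfsg

namespace Cfsg.Agent.Helper84.Sp4Crit

open Cfsg.FusionSystem
open Pointwise

variable {A : Type*} [Group A]

/-- `S` itself is centric in `F_S(G)` (finite `G`) -/
theorem centric_self [Finite A] (S : Subgroup A) : (groupFusionSystem S).IsCentric S := by
  rw [Cfsg.Agent.Helper33.isCentric_groupFusionSystem_iff]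
  refine ⟨le_rfl, fun g hg => ?_⟩
  have hcard : Nat.card (MulAut.conj g • S : Subgroup A) = Nat.card S := by
    apply Nat.card_congr
    exact (Subgroup.equivSMul (MulAut.conj g) S).symm.toEquiv
  have heq : (MulAut.conj g • S : Subgroup A) = S := by
    apply Subgroup.eq_of_le_of_card_ge hg
    rw [hcard]
  rw [heq]
  exact inf_le_left

theorem crit_quot [Finite A] (z : A)
    (hcen : ∀ g : A, g ∈ Subgroup.center A ↔ g = 1 ∨ g = z)
    (P : Sylow 2 A) (hzP : z ∈ (P : Subgroup A))
    (hne : ∃ x ∈ (P : Subgroup A), x ≠ 1 ∧ x ≠ z)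
    (hsc : ∀ T : Subgroup A, z ∈ T → T ≤ (P : Subgroup A) → (∃ x ∈ T, x ≠ 1 ∧ x ≠ z) →
      (∀ x ∈ T, ∀ g : A, g * x * g⁻¹ ∈ (P : Subgroup A) → g * x * g⁻¹ ∈ T) →
      T = (P : Subgroup A))
    (hb : ∀ g ∈ Subgroup.normalizer ((P : Subgroup A) : Set A),
      g ∈ Subgroup.closure {k : A | k ∈ Subgroup.normalizer ((P : Subgroup A) : Set A) ∧
        (k ∈ (P : Subgroup A) ∨ ∃ R : Subgroup A, z ∈ R ∧ R ≤ (P : Subgroup A) ∧
          (P : Subgroup A) ≤ Subgroup.normalizer (R : Set A) ∧
          (∀ x : A, (∀ r ∈ R, x * r * x⁻¹ * r⁻¹ = 1 ∨ x * r * x⁻¹ * r⁻¹ = z) → x ∈ R) ∧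
          k ∈ Subgroup.closure {u : A | u ∈ Subgroup.normalizer (R : Set A) ∧
            ∃ m : ℕ, u ^ (2 ^ m) = 1})})
    (S' : Sylow 2 (A ⧸ Subgroup.center A)) :
    (groupFusionSystem (S' : Subgroup (A ⧸ Subgroup.center A))).IsSimple 2 := by
  classical
  set π : A →* A ⧸ Subgroup.center A := QuotientGroup.mk' (Subgroup.center A) with hπ
  have hsurj : Function.Surjective π := QuotientGroup.mk'_surjective _
  have hker : ∀ x : A, π x = 1 ↔ x = 1 ∨ x = z := by
    intro x
    rw [hπ, QuotientGroup.mk'_apply, QuotientGroup.eq_one_iff, hcen]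
  have hkerP : ∀ x : A, π x = 1 → x ∈ (P : Subgroup A) := by
    intro x hx
    rcases (hker x).1 hx with h | h
    · rw [h]; exact Subgroup.one_mem _
    · rw [h]; exact hzP
  set Pb : Sylow 2 (A ⧸ Subgroup.center A) := P.mapSurjective hsurj with hPb
  have hPbc : (Pb : Subgroup (A ⧸ Subgroup.center A)) = (P : Subgroup A).map π := rfl
  -- membership in the image
  have hmemPb : ∀ x : A, π x ∈ (Pb : Subgroup (A ⧸ Subgroup.center A)) ↔ x ∈ (P : Subgroup A) := by
    intro x
    rw [hPbc]
    constructor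
    · rintro ⟨y, hy, hyx⟩
      have h1 : π (y⁻¹ * x) = 1 := by rw [map_mul, map_inv, hyx, inv_mul_cancel]
      have h2 := hkerP _ h1
      have : x = y * (y⁻¹ * x) := by group
      rw [this]
      exact Subgroup.mul_mem _ hy h2
    · intro hx
      exact ⟨x, hx, rfl⟩
  have hmemMap : ∀ (R : Subgroup A), z ∈ R → ∀ x : A, π x ∈ R.map π ↔ x ∈ R := by
    intro R hzR x
    constructor
    · rintro ⟨y, hy, hyx⟩
      have h1 : π (y⁻¹ * x) = 1 := by rw [map_mul, map_inv, hyx, inv_mul_cancel]
      have h2 : y⁻¹ * x ∈ R := by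
        rcases (hker _).1 h1 with h | h
        · rw [h]; exact R.one_mem
        · rw [h]; exact hzR
      have : x = y * (y⁻¹ * x) := by group
      rw [this]
      exact R.mul_mem hy h2
    · intro hx
      exact ⟨x, hx, rfl⟩
  have hnormMap : ∀ (R : Subgroup A) (u : A), u ∈ Subgroup.normalizer (R : Set A) →
      π u ∈ Subgroup.normalizer ((R.map π : Subgroup (A ⧸ Subgroup.center A)) : Set _) := by
    intro R u hu
    exact Subgroup.le_normalizer_map π ⟨u, hu, rfl⟩
  have hsimple : (groupFusionSystem (Pb : Subgroup (A ⧸ Subgroup.center A))).IsSimple 2 := by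
    apply Cfsg.Agent.Helper84.PslCrit.simple_crit Pb
    · -- nontrivial
      obtain ⟨x, hxP, hx1, hxz⟩ := hne
      intro hbot
      have : π x ∈ (Pb : Subgroup (A ⧸ Subgroup.center A)) := (hmemPb x).2 hxP
      rw [hbot, Subgroup.mem_bot] at this
      rcases (hker x).1 this with h | h
      · exact hx1 h
      · exact hxz h
    · -- strongly closed
      intro Tb hTb
      by_cases hbot : Tb = ⊥
      · exact Or.inl hbot
      right
      have hTbP : Tb ≤ (Pb : Subgroup (A ⧸ Subgroup.center A)) := hTb.1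
      set T : Subgroup A := Tb.comap π with hT
      have hzT : z ∈ T := by
        show π z ∈ Tb
        rw [(hker z).2 (Or.inr rfl)]
        exact Tb.one_mem
      have hTP : T ≤ (P : Subgroup A) := by
        intro x hx
        exact (hmemPb x).1 (hTbP hx)
      have hneT : ∃ x ∈ T, x ≠ 1 ∧ x ≠ z := by
        obtain ⟨y, hy1⟩ := (Subgroup.ne_bot_iff_exists_ne_one.1 hbot)
        obtain ⟨x, hxy⟩ := hsurj (y : A ⧸ Subgroup.center A)
        refine ⟨x, ?_, ?_, ?_⟩
        · show π x ∈ Tb
          rw [hxy]; exact y.2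
        · intro h
          apply hy1
          apply Subtype.ext
          rw [← hxy, h, map_one]
          rfl
        · intro h
          apply hy1
          apply Subtype.ext
          rw [← hxy]
          exact (hker x).2 (Or.inr h)
      have hclT : ∀ x ∈ T, ∀ g : A, g * x * g⁻¹ ∈ (P : Subgroup A) → g * x * g⁻¹ ∈ T := by
        intro x hx g hg
        show π (g * x * g⁻¹) ∈ Tb
        rw [map_mul, map_mul, map_inv]
        apply Cfsg.Agent.Helper84.PslGrp.conj_mem_of_stronglyClosed hTb hx (π g)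
        rw [← map_inv, ← map_mul, ← map_mul]
        exact (hmemPb _).2 hg
      have hTeq := hsc T hzT hTP hneT hclT
      apply le_antisymm hTbP
      intro y hy
      obtain ⟨x, rfl⟩ := hsurj y
      have hx : x ∈ T := by rw [hTeq]; exact (hmemPb x).1 hy
      exact hx
    · -- automizer
      intro gb hgb
      obtain ⟨g, rfl⟩ := hsurj gb
      have hgN : g ∈ Subgroup.normalizer ((P : Subgroup A) : Set A) := by
        rw [Subgroup.mem_normalizer_iff]
        intro x
        have := (Subgroup.mem_normalizer_iff.1 hgb) (π x)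
        rw [hmemPb, ← map_inv, ← map_mul, ← map_mul, hmemPb] at this
        exact this
      have h1 := hb g hgN
      have h2 : π g ∈ (Subgroup.closure {k : A | k ∈ Subgroup.normalizer ((P : Subgroup A) : Set A) ∧
        (k ∈ (P : Subgroup A) ∨ ∃ R : Subgroup A, z ∈ R ∧ R ≤ (P : Subgroup A) ∧
          (P : Subgroup A) ≤ Subgroup.normalizer (R : Set A) ∧
          (∀ x : A, (∀ r ∈ R, x * r * x⁻¹ * r⁻¹ = 1 ∨ x * r * x⁻¹ * r⁻¹ = z) → x ∈ R) ∧
          k ∈ Subgroup.closure {u : A | u ∈ Subgroup.normalizer (R : Set A) ∧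
            ∃ m : ℕ, u ^ (2 ^ m) = 1})}).map π := ⟨g, h1, rfl⟩
      rw [MonoidHom.map_closure] at h2
      refine Subgroup.closure_mono ?_ h2
      rintro _ ⟨k, ⟨hkN, hk⟩, rfl⟩
      have hkNb : π k ∈ Subgroup.normalizer
          (((Pb : Subgroup (A ⧸ Subgroup.center A))) : Set (A ⧸ Subgroup.center A)) := by
        rw [hPbc]; exact hnormMap _ k hkN
      refine ⟨hkNb, ?_⟩
      -- images of 2-elements
      have hpow : ∀ (R : Subgroup A) (u : A), u ∈ Subgroup.normalizer (R : Set A) →
          (∃ m : ℕ, u ^ (2 ^ m) = 1) →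
          π u ∈ {g : A ⧸ Subgroup.center A | g ∈ Subgroup.normalizer
            ((R.map π : Subgroup (A ⧸ Subgroup.center A)) : Set _) ∧
            ∃ m : ℕ, orderOf g = 2 ^ m} := by
        intro R u hu ⟨m, hm⟩
        refine ⟨hnormMap R u hu, ?_⟩
        have : (π u) ^ (2 ^ m) = 1 := by rw [← map_pow, hm, map_one]
        have hdvd := orderOf_dvd_of_pow_eq_one this
        obtain ⟨m', -, hm'⟩ := (Nat.dvd_prime_pow Nat.prime_two).1 hdvd
        exact ⟨m', hm'⟩
      rcases hk with hkP | ⟨R, hzR, hRP, hPR, hRc, hkR⟩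
      · refine ⟨(Pb : Subgroup (A ⧸ Subgroup.center A)), ?_, centric_self _, ?_⟩
        · exact Cfsg.Agent.Helper84.PslGrp.fullyNormalized_of_normal Pb le_rfl
            Subgroup.le_normalizer
        · apply Subgroup.subset_closure
          have hk2 : ∃ m : ℕ, k ^ (2 ^ m) = 1 := by
            obtain ⟨m, hm⟩ := P.isPGroup' ⟨k, hkP⟩
            exact ⟨m, by simpa using congrArg Subtype.val hm⟩
          have := hpow (P : Subgroup A) k hkN hk2
          rw [hPbc]
          exact this
      · refine ⟨R.map π, ?_, ?_, ?_⟩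
        · apply Cfsg.Agent.Helper84.PslGrp.fullyNormalized_of_normal Pb
          · rw [hPbc]; exact Subgroup.map_mono hRP
          · rw [hPbc]
            rintro _ ⟨s, hs, rfl⟩
            exact hnormMap R s (hPR hs)
        · apply Cfsg.Agent.Helper84.PslGrp.centric_of_centralizer_le
          · rw [hPbc]; exact Subgroup.map_mono hRP
          · intro xb hxb
            obtain ⟨x, rfl⟩ := hsurj xb
            rw [hmemMap R hzR]
            apply hRc
            intro r hr
            have hcomm := Subgroup.mem_centralizer_iff.1 hxb (π r) ⟨r, hr, rfl⟩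
            have : π (x * r * x⁻¹ * r⁻¹) = 1 := by
              rw [map_mul, map_mul, map_mul, map_inv, map_inv, ← hcomm]
              group
            exact (hker _).1 this
        · have h3 : π k ∈ (Subgroup.closure {u : A | u ∈ Subgroup.normalizer (R : Set A) ∧
              ∃ m : ℕ, u ^ (2 ^ m) = 1}).map π := ⟨k, hkR, rfl⟩
          rw [MonoidHom.map_closure] at h3
          refine Subgroup.closure_mono ?_ h3
          rintro _ ⟨u, ⟨huN, hu2⟩, rfl⟩
          exact hpow R u huN hu2
  exact Cfsg.Agent.Helper84.PslGrp.simple_of_sylow Pb S' hsimple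

end Cfsg.Agent.Helper84.Sp4Crit
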