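import Mathlib
import Cfsg.Prelude.Def_Classical
import Cfsg.Agent.Lib.Helper84.Sp4Defs
import Cfsg.Agent.Lib.Helper84.Sp4Crit
import Cfsg.Agent.Lib.Helper84.Sp4Basic
import Cfsg.Agent.Lib.Helper77.Sp4C4
import Cfsg.Agent.Lib.Helper77.Sp4QGEN
import Cfsg.Agent.Lib.Helper85.Sp4QN8
import Cfsg.Agent.Lib.Helper85.Sp4Q8
import Cfsg.Agent.Lib.Helper41.Sp4NQF
import Cfsg.Agent.Lib.Helper41.Sp4NQA
import Cfsg.Agent.Lib.Helper58.Sp4OM
import Cfsg.Agent.Lib.Helper71.Sp4NQB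
import Cfsg.Agent.Lib.Helper58.Sp4EMB
import Cfsg.Agent.Lib.Helper46.Sp4CTT
import Cfsg.Agent.Lib.Helper71.Sp4CEN
import Cfsg.Agent.Lib.Helper79.Sp4NSS
import Cfsg.Agent.Lib.Helper79.Sp4SC1
import Cfsg.Agent.Lib.Helper79.Sp4SC2
import Cfsg.Agent.Lib.Helper65.Sp4R1A
import Cfsg.Agent.Lib.Helper69.Sp4R1C
import Cfsg.Agent.Lib.Helper46.Sp4UU
import Cfsg.Agent.Lib.Helper65.Sp4DDGEN
import Cfsg.Agent.Lib.Helper69.Sp4R1B
import Cfsg.Agent.Lib.Helper67.Psu3SYLABS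
import Cfsg.Agent.Lib.Helper5.SpCenter

/-!
# Assembly of S5320: the 2-fusion system of `PSp(4,q)`, `q` odd, is simple
-/

set_option autoImplicit false
open Cfsg

namespace Cfsg.Agent.Helper84.Sp4Asm

open Matrix Cfsg.Agent.Helper84.Sp4
open Cfsg.Agent.Helper77.Sp4 (conj_i0 Q_gen)
open Cfsg.Agent.Helper85.Sp4 (mem_Q_of_conj_signs Q_caseB)
open Cfsg.Agent.Helper41.Sp4 (normalizer_Q_of_fix normalizer_Q_caseA)
open Cfsg.Agent.Helper58.Sp4 (om_pow_three om_conj_i0 om_conj_j0 sw_conj emb_injective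
  emb_ne_emb_mul_sw mem_SS_iff)
open Cfsg.Agent.Helper71.Sp4 (normalizer_Q_caseB center_mod)
open Cfsg.Agent.Helper46.Sp4 (mem_range_emb_of_comm mem_range_emb_sw_of_conj uu_pow_four
  uu_conj_tt uu_conj_sw uu_conj_i0 uu_conj_j0 uu_conj_dd)
open Cfsg.Agent.Helper79.Sp4 (normalizer_SS tt_mem_of_normal eq_SS_of_tt_mem)
open Cfsg.Agent.Helper65.Sp4 (mem_R1_iff dd_mem_closure)
open Cfsg.Agent.Helper69.Sp4 (R1_centric normalizer_R1_caseB)

variable {F : Type*} [Field F]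

theorem two_ne_zero_of_odd [Fintype F] (hodd : Fintype.card F % 2 = 1) : (2 : F) ≠ 0 := by
  intro h
  have h1 : ringChar F ∣ 2 := by
    apply ringChar.dvd
    exact_mod_cast h
  have h2 : ringChar F = 2 := by
    rcases (Nat.dvd_prime Nat.prime_two).1 h1 with h | h
    · exact absurd h (CharP.ringChar_ne_one)
    · exact h
  have := FiniteField.even_card_iff_char_two.1 h2
  omega

theorem neg_one_ne_one (h2 : (2 : F) ≠ 0) : (-1 : SL2 F) ≠ 1 := by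
  intro h
  have := congrArg (fun X : SL2 F => (X : Matrix (Fin 2) (Fin 2) F) 0 0) h
  simp at this
  apply h2
  have h3 : (1 : F) + 1 = 0 := by linear_combination -this
  rw [← h3]; norm_num

theorem center_iff (g : Sp4 F) : g ∈ Subgroup.center (Sp4 F) ↔ g = 1 ∨ g = zc := by
  have hz : (zc : Sp4 F) = Cfsg.Agent.Helper5.spNegOne (Fin 2) F := by
    apply Subtype.ext
    show embM ((-1 : SL2 F) : Matrix (Fin 2) (Fin 2) F) ((-1 : SL2 F) : Matrix (Fin 2) (Fin 2) F) = -1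
    ext i j
    rcases i with i | i <;> rcases j with j | j <;> fin_cases i <;> fin_cases j <;>
      simp [embM, Matrix.one_apply]
  constructor
  · intro hg
    rw [hz]
    exact Cfsg.Agent.Helper5.center_sp_subset g hg
  · rintro (rfl | rfl)
    · exact Subgroup.one_mem _
    · rw [hz]; exact Cfsg.Agent.Helper5.spNegOne_mem_center

section

variable [Fintype F]

theorem emb_mem_SS {a b : SL2 F} (ha : a ∈ (Q : Subgroup (SL2 F)))
    (hb : b ∈ (Q : Subgroup (SL2 F))) : emb (a, b) ∈ (SS : Subgroup (Sp4 F)) :=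
  (mem_SS_iff _).2 ⟨a, ha, b, hb, Or.inl rfl⟩

theorem sw_mem_SS : (sw : Sp4 F) ∈ (SS : Subgroup (Sp4 F)) := by
  rw [mem_SS_iff]
  exact ⟨1, Subgroup.one_mem _, 1, Subgroup.one_mem _, Or.inr (by rw [show ((1 : SL2 F), (1 : SL2 F)) = 1 from rfl, map_one, one_mul])⟩

theorem isPGroup_SS : IsPGroup 2 (SS : Subgroup (Sp4 F)) := by
  have hQ : ∀ a ∈ (Q : Subgroup (SL2 F)), ∃ m : ℕ, a ^ (2 ^ m) = 1 := by
    intro a ha
    obtain ⟨m, hm⟩ := (isPGroup_Q (F := F)) ⟨a, ha⟩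
    exact ⟨m, by simpa using congrArg Subtype.val hm⟩
  have hemb : ∀ a ∈ (Q : Subgroup (SL2 F)), ∀ b ∈ (Q : Subgroup (SL2 F)),
      ∃ m : ℕ, (emb (a, b) : Sp4 F) ^ (2 ^ m) = 1 := by
    intro a ha b hb
    obtain ⟨m, hm⟩ := hQ a ha
    obtain ⟨n, hn⟩ := hQ b hb
    refine ⟨m + n, ?_⟩
    rw [← map_pow, Prod.pow_mk]
    have h1 : a ^ (2 ^ (m + n)) = 1 := by rw [pow_add, pow_mul, hm, one_pow]
    have h2 : b ^ (2 ^ (m + n)) = 1 := by rw [pow_add, mul_comm, pow_mul, hn, one_pow]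
    rw [h1, h2]
    exact map_one _
  rintro ⟨g, hg⟩
  obtain ⟨a, ha, b, hb, h | h⟩ := (mem_SS_iff g).1 hg
  · obtain ⟨m, hm⟩ := hemb a ha b hb
    refine ⟨m, Subtype.ext ?_⟩
    show g ^ (2 ^ m) = 1
    rw [h]; exact hm
  · have hsq : g * g = emb (a * b, b * a) := by
      rw [h]
      have hsw := sw_conj (F := F) a b
      have hss : (sw : Sp4 F)⁻¹ = sw := by
        have := Cfsg.Agent.Helper58.Sp4.sw_mul_sw (F := F)
        exact inv_eq_of_mul_eq_one_left this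
      rw [hss] at hsw
      calc emb (a, b) * sw * (emb (a, b) * sw) = emb (a, b) * (sw * emb (a, b) * sw) := by group
        _ = emb (a, b) * emb (b, a) := by rw [hsw]
        _ = emb (a * b, b * a) := by rw [← map_mul]; rfl
    obtain ⟨m, hm⟩ := hemb (a * b) (Subgroup.mul_mem _ ha hb) (b * a) (Subgroup.mul_mem _ hb ha)
    refine ⟨m + 1, Subtype.ext ?_⟩
    show g ^ (2 ^ (m + 1)) = 1
    rw [pow_succ, mul_comm, pow_mul, pow_two, hsq, hm]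

theorem zc_mem_SS : (zc : Sp4 F) ∈ (SS : Subgroup (Sp4 F)) := emb_mem_SS neg_one_mem_Q neg_one_mem_Q

theorem tt_mem_SS : (tt : Sp4 F) ∈ (SS : Subgroup (Sp4 F)) :=
  emb_mem_SS neg_one_mem_Q (Subgroup.one_mem _)

theorem tt_ne_one (h2 : (2 : F) ≠ 0) : (tt : Sp4 F) ≠ 1 := by
  intro h
  have h1 : emb ((-1 : SL2 F), (1 : SL2 F)) = emb (1 : SL2 F × SL2 F) := by
    rw [map_one]; exact h
  have h3 := emb_injective h1
  exact neg_one_ne_one h2 (congrArg Prod.fst h3)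

theorem tt_ne_zc (h2 : (2 : F) ≠ 0) : (tt : Sp4 F) ≠ zc := by
  intro h
  have h3 := emb_injective (h : emb ((-1 : SL2 F), (1 : SL2 F)) = emb ((-1 : SL2 F), (-1 : SL2 F)))
  exact neg_one_ne_one h2 (congrArg Prod.snd h3).symm

/-- conjugation by a diagonal element -/
theorem diag_conj (c : SL2 F) (g : Sp4 F) (a b : SL2 F) :
    (g = emb (a, b) → emb (c, c) * g * (emb (c, c))⁻¹ = emb (c * a * c⁻¹, c * b * c⁻¹)) ∧
    (g = emb (a, b) * sw →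
      emb (c, c) * g * (emb (c, c))⁻¹ = emb (c * a * c⁻¹, c * b * c⁻¹) * sw) := by
  have hinv : (emb (c, c) : Sp4 F)⁻¹ = emb (c⁻¹, c⁻¹) := by
    rw [← map_inv]; rfl
  constructor
  · rintro rfl
    rw [hinv, ← map_mul, ← map_mul]
    rfl
  · rintro rfl
    have hsw : (sw : Sp4 F) * emb (c⁻¹, c⁻¹) = emb (c⁻¹, c⁻¹) * sw := by
      have := sw_conj (F := F) c⁻¹ c⁻¹
      calc (sw : Sp4 F) * emb (c⁻¹, c⁻¹) = (sw * emb (c⁻¹, c⁻¹) * sw⁻¹) * sw := by group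
        _ = emb (c⁻¹, c⁻¹) * sw := by rw [this]
    rw [hinv]
    calc emb (c, c) * (emb (a, b) * sw) * emb (c⁻¹, c⁻¹)
        = emb (c, c) * emb (a, b) * (sw * emb (c⁻¹, c⁻¹)) := by group
      _ = emb (c, c) * emb (a, b) * (emb (c⁻¹, c⁻¹) * sw) := by rw [hsw]
      _ = (emb (c, c) * emb (a, b) * emb (c⁻¹, c⁻¹)) * sw := by group
      _ = emb (c * a * c⁻¹, c * b * c⁻¹) * sw := by
          rw [← map_mul, ← map_mul]; rfl

theorem diag_conj_mem {c : SL2 F}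
    (hc : ∀ x ∈ (Q : Subgroup (SL2 F)), c * x * c⁻¹ ∈ (Q : Subgroup (SL2 F)))
    {g : Sp4 F} (hg : g ∈ (SS : Subgroup (Sp4 F))) :
    emb (c, c) * g * (emb (c, c))⁻¹ ∈ (SS : Subgroup (Sp4 F)) := by
  obtain ⟨a, ha, b, hb, h | h⟩ := (mem_SS_iff g).1 hg
  · rw [(diag_conj c g a b).1 h]
    exact emb_mem_SS (hc a ha) (hc b hb)
  · rw [(diag_conj c g a b).2 h]
    exact Subgroup.mul_mem _ (emb_mem_SS (hc a ha) (hc b hb)) sw_mem_SS

theorem diag_mem_normalizer {c : SL2 F}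
    (hc : c ∈ Subgroup.normalizer ((Q : Subgroup (SL2 F)) : Set (SL2 F))) :
    emb (c, c) ∈ Subgroup.normalizer ((SS : Subgroup (Sp4 F)) : Set (Sp4 F)) := by
  apply Cfsg.Agent.Helper84.PslGrp.mem_normalizer_of_conj_mem
  · intro g hg
    apply diag_conj_mem _ hg
    intro x hx
    exact (Subgroup.mem_normalizer_iff.1 hc x).1 hx
  · intro g hg
    have hc' : c⁻¹ ∈ Subgroup.normalizer ((Q : Subgroup (SL2 F)) : Set (SL2 F)) :=
      Subgroup.inv_mem _ hc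
    have := diag_conj_mem (c := c⁻¹) (fun x hx => (Subgroup.mem_normalizer_iff.1 hc' x).1 hx) hg
    have e : (emb (c⁻¹, c⁻¹) : Sp4 F) = (emb (c, c))⁻¹ := by rw [← map_inv]; rfl
    rw [e, inv_inv] at this
    exact this

/-- the normal form of `N(SS)` -/
theorem normalizer_form (h2 : (2 : F) ≠ 0) (g : Sp4 F)
    (hg : g ∈ Subgroup.normalizer ((SS : Subgroup (Sp4 F)) : Set (Sp4 F))) :
    ∃ s ∈ (SS : Subgroup (Sp4 F)),
      ∃ a ∈ Subgroup.normalizer ((Q : Subgroup (SL2 F)) : Set (SL2 F)), g = s * emb (a, a) :=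
  normalizer_SS h2 (center_mod h2) (mem_range_emb_of_comm h2) (mem_range_emb_sw_of_conj h2)
    mem_SS_iff emb_injective emb_ne_emb_mul_sw sw_conj g hg

theorem dd_pow_three (h2 : (2 : F) ≠ 0) : (dd : Sp4 F) ^ 3 = 1 := by
  unfold dd
  rw [← map_pow]
  have : ((om : SL2 F), (om : SL2 F)) ^ 3 = 1 := by
    rw [Prod.pow_mk, om_pow_three h2]; rfl
  rw [this, map_one]

/-- case A: the normalizer of `SS` is `SS` -/
theorem normalizer_caseA (h2 : (2 : F) ≠ 0)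
    (hA : ∃ c ∈ (Tor2 : Subgroup (SL2 F)), c ^ 4 ≠ 1) (g : Sp4 F)
    (hg : g ∈ Subgroup.normalizer ((SS : Subgroup (Sp4 F)) : Set (Sp4 F))) :
    g ∈ (SS : Subgroup (Sp4 F)) := by
  obtain ⟨s, hs, a, ha, rfl⟩ := normalizer_form h2 g hg
  have haQ : a ∈ (Q : Subgroup (SL2 F)) :=
    normalizer_Q_of_fix h2 a ha (normalizer_Q_caseA h2 hA a ha)
  exact Subgroup.mul_mem _ hs (emb_mem_SS haQ haQ)

/-- case B: the normalizer of `SS` is `SS ⟨dd⟩` -/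
theorem normalizer_caseB (h2 : (2 : F) ≠ 0)
    (hB : ∀ c ∈ (Tor2 : Subgroup (SL2 F)), c ^ 4 = 1) :
    (om : SL2 F) ∈ Subgroup.normalizer ((Q : Subgroup (SL2 F)) : Set (SL2 F)) ∧
    ∀ g : Sp4 F, g ∈ Subgroup.normalizer ((SS : Subgroup (Sp4 F)) : Set (Sp4 F)) →
      ∃ s ∈ (SS : Subgroup (Sp4 F)), g = s ∨ g = s * dd ∨ g = s * dd⁻¹ := by
  obtain ⟨homN, hNQ⟩ := normalizer_Q_caseB h2 hB (Q_caseB h2 hB) (normalizer_Q_of_fix h2)
    (om_conj_i0 h2) (om_conj_j0 h2)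
  refine ⟨homN, ?_⟩
  intro g hg
  obtain ⟨s, hs, a, ha, rfl⟩ := normalizer_form h2 g hg
  have hddN := diag_mem_normalizer homN
  have hdd : (emb (om, om) : Sp4 F) = dd := rfl
  rcases hNQ a ha with h | h | h
  · exact ⟨s * emb (a, a), Subgroup.mul_mem _ hs (emb_mem_SS h h), Or.inl rfl⟩
  · -- a = om * a'
    set a' := om⁻¹ * a with ha'
    have e : (emb (a, a) : Sp4 F) = dd * emb (a', a') := by
      rw [← hdd, ← map_mul]
      congr 1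
      rw [Prod.mk_mul_mk, ha']
      congr 1 <;> group
    have hmem : dd * emb (a', a') * dd⁻¹ ∈ (SS : Subgroup (Sp4 F)) :=
      (Subgroup.mem_normalizer_iff.1 hddN _).1 (emb_mem_SS h h)
    refine ⟨s * (dd * emb (a', a') * dd⁻¹), Subgroup.mul_mem _ hs hmem, Or.inr (Or.inl ?_)⟩
    rw [e]; group
  · set a' := om * a with ha'
    have e : (emb (a, a) : Sp4 F) = dd⁻¹ * emb (a', a') := by
      rw [← hdd, ← map_inv, ← map_mul]
      congr 1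
      rw [Prod.inv_mk, Prod.mk_mul_mk, ha']
      congr 1 <;> group
    have hmem : dd⁻¹ * emb (a', a') * dd⁻¹⁻¹ ∈ (SS : Subgroup (Sp4 F)) :=
      (Subgroup.mem_normalizer_iff.1 (Subgroup.inv_mem _ hddN) _).1 (emb_mem_SS h h)
    refine ⟨s * (dd⁻¹ * emb (a', a') * dd⁻¹⁻¹), Subgroup.mul_mem _ hs hmem, Or.inr (Or.inr ?_)⟩
    rw [e]; group

theorem odd_orderOf_dd (h2 : (2 : F) ≠ 0) : Odd (orderOf (dd : Sp4 F)) := by
  have hdvd : orderOf (dd : Sp4 F) ∣ 3 := orderOf_dvd_of_pow_eq_one (dd_pow_three h2)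
  rcases (Nat.dvd_prime Nat.prime_three).1 hdvd with h | h
  · rw [h]; exact odd_one
  · rw [h]; decide

/-- `SS` is a Sylow 2-subgroup -/
theorem exists_sylow (h2 : (2 : F) ≠ 0) :
    ∃ P : Sylow 2 (Sp4 F), (P : Subgroup (Sp4 F)) = SS := by
  apply Cfsg.Agent.Helper67.Psu3.exists_sylow_of_normalizer SS isPGroup_SS
  intro g hg
  by_cases hA : ∃ c ∈ (Tor2 : Subgroup (SL2 F)), c ^ 4 ≠ 1
  · exact ⟨g, normalizer_caseA h2 hA g hg, 1, by rw [orderOf_one]; exact odd_one, by rw [mul_one]⟩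
  · push_neg at hA
    obtain ⟨-, hN⟩ := normalizer_caseB h2 hA
    obtain ⟨s, hs, h | h | h⟩ := hN g hg
    · exact ⟨s, hs, 1, by rw [orderOf_one]; exact odd_one, by rw [mul_one]; exact h⟩
    · exact ⟨s, hs, dd, odd_orderOf_dd h2, h⟩
    · exact ⟨s, hs, dd⁻¹, by rw [orderOf_inv]; exact odd_orderOf_dd h2, h⟩

theorem strongly_closed (h2 : (2 : F) ≠ 0) (T : Subgroup (Sp4 F)) (hZT : zc ∈ T)
    (hTS : T ≤ SS) (hne : ∃ x ∈ T, x ≠ 1 ∧ x ≠ zc)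
    (hcl : ∀ x ∈ T, ∀ g : Sp4 F, g * x * g⁻¹ ∈ (SS : Subgroup (Sp4 F)) → g * x * g⁻¹ ∈ T) :
    T = SS := by
  have hnorm : ∀ x ∈ T, ∀ s ∈ (SS : Subgroup (Sp4 F)), s * x * s⁻¹ ∈ T := by
    intro x hx s hs
    exact hcl x hx s (Subgroup.mul_mem _ (Subgroup.mul_mem _ hs (hTS hx)) (Subgroup.inv_mem _ hs))
  have htt := tt_mem_of_normal h2 (center_mod h2) isPGroup_SS T hZT hTS hne hnorm
  exact eq_SS_of_tt_mem h2 ⟨uu, uu_conj_tt h2⟩ (conj_i0 h2) (Q_gen h2) mem_SS_iff sw_conj T hZT hTS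
    htt hcl

theorem hb_cond (h2 : (2 : F) ≠ 0) (g : Sp4 F)
    (hg : g ∈ Subgroup.normalizer ((SS : Subgroup (Sp4 F)) : Set (Sp4 F))) :
    g ∈ Subgroup.closure {k : Sp4 F | k ∈ Subgroup.normalizer ((SS : Subgroup (Sp4 F)) : Set (Sp4 F)) ∧
        (k ∈ (SS : Subgroup (Sp4 F)) ∨ ∃ R : Subgroup (Sp4 F), zc ∈ R ∧ R ≤ (SS : Subgroup (Sp4 F)) ∧
          (SS : Subgroup (Sp4 F)) ≤ Subgroup.normalizer (R : Set (Sp4 F)) ∧
          (∀ x : Sp4 F, (∀ r ∈ R, x * r * x⁻¹ * r⁻¹ = 1 ∨ x * r * x⁻¹ * r⁻¹ = zc) → x ∈ R) ∧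
          k ∈ Subgroup.closure {u : Sp4 F | u ∈ Subgroup.normalizer (R : Set (Sp4 F)) ∧
            ∃ m : ℕ, u ^ (2 ^ m) = 1})} := by
  have hSSmem : ∀ s ∈ (SS : Subgroup (Sp4 F)), s ∈ Subgroup.closure {k : Sp4 F |
      k ∈ Subgroup.normalizer ((SS : Subgroup (Sp4 F)) : Set (Sp4 F)) ∧
        (k ∈ (SS : Subgroup (Sp4 F)) ∨ ∃ R : Subgroup (Sp4 F), zc ∈ R ∧ R ≤ (SS : Subgroup (Sp4 F)) ∧
          (SS : Subgroup (Sp4 F)) ≤ Subgroup.normalizer (R : Set (Sp4 F)) ∧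
          (∀ x : Sp4 F, (∀ r ∈ R, x * r * x⁻¹ * r⁻¹ = 1 ∨ x * r * x⁻¹ * r⁻¹ = zc) → x ∈ R) ∧
          k ∈ Subgroup.closure {u : Sp4 F | u ∈ Subgroup.normalizer (R : Set (Sp4 F)) ∧
            ∃ m : ℕ, u ^ (2 ^ m) = 1})} := by
    intro s hs
    exact Subgroup.subset_closure ⟨Subgroup.le_normalizer hs, Or.inl hs⟩
  by_cases hA : ∃ c ∈ (Tor2 : Subgroup (SL2 F)), c ^ 4 ≠ 1
  · exact hSSmem g (normalizer_caseA h2 hA g hg)
  · push_neg at hA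
    obtain ⟨homN, hN⟩ := normalizer_caseB h2 hA
    have hQ8 := Q_caseB h2 hA
    have hR1 := mem_R1_iff h2 (sw_conj (F := F))
    obtain ⟨hR1S, hSR1, hdR1⟩ := normalizer_R1_caseB h2 hQ8 hR1 mem_SS_iff sw_conj homN
    have hcent := R1_centric h2 (mem_range_emb_of_comm h2) (mem_range_emb_sw_of_conj h2) hR1
      emb_injective sw_conj (mem_Q_of_conj_signs h2)
    have hddc := dd_mem_closure h2 hQ8 hR1 hdR1 (uu_pow_four h2) (uu_conj_tt h2) (uu_conj_sw h2)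
      (uu_conj_i0 h2) (uu_conj_j0 h2) (uu_conj_dd h2)
    have hzR1 : (zc : Sp4 F) ∈ (R1 : Subgroup (Sp4 F)) := by
      rw [hR1]
      exact ⟨-1, neg_one_mem_Q, Or.inl rfl⟩
    have hddmem : (dd : Sp4 F) ∈ Subgroup.closure {k : Sp4 F |
        k ∈ Subgroup.normalizer ((SS : Subgroup (Sp4 F)) : Set (Sp4 F)) ∧
        (k ∈ (SS : Subgroup (Sp4 F)) ∨ ∃ R : Subgroup (Sp4 F), zc ∈ R ∧ R ≤ (SS : Subgroup (Sp4 F)) ∧
          (SS : Subgroup (Sp4 F)) ≤ Subgroup.normalizer (R : Set (Sp4 F)) ∧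
          (∀ x : Sp4 F, (∀ r ∈ R, x * r * x⁻¹ * r⁻¹ = 1 ∨ x * r * x⁻¹ * r⁻¹ = zc) → x ∈ R) ∧
          k ∈ Subgroup.closure {u : Sp4 F | u ∈ Subgroup.normalizer (R : Set (Sp4 F)) ∧
            ∃ m : ℕ, u ^ (2 ^ m) = 1})} := by
      apply Subgroup.subset_closure
      exact ⟨diag_mem_normalizer homN, Or.inr ⟨R1, hzR1, hR1S, hSR1, hcent, hddc⟩⟩
    obtain ⟨s, hs, h | h | h⟩ := hN g hg
    · rw [h]; exact hSSmem s hs
    · rw [h]; exact Subgroup.mul_mem _ (hSSmem s hs) hddmem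
    · rw [h]; exact Subgroup.mul_mem _ (hSSmem s hs) (Subgroup.inv_mem _ hddmem)

end

/-- S5320 -/
theorem main [Fintype F] (hodd : Fintype.card F % 2 = 1) (S : Sylow 2 (Cfsg.PSp 2 F)) :
    (groupFusionSystem (S : Subgroup (Cfsg.PSp 2 F))).IsSimple 2 := by
  have h2 := two_ne_zero_of_odd hodd
  obtain ⟨P, hP⟩ := exists_sylow (F := F) h2
  apply Cfsg.Agent.Helper84.Sp4Crit.crit_quot (A := Sp4 F) zc center_iff P
  · rw [hP]; exact zc_mem_SS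
  · rw [hP]; exact ⟨tt, tt_mem_SS, tt_ne_one h2, tt_ne_zc h2⟩
  · intro T hZT hTP hne hcl
    rw [hP] at hTP hcl ⊢
    exact strongly_closed h2 T hZT hTP hne hcl
  · intro g hg
    rw [hP] at hg ⊢
    exact hb_cond h2 g hg

end Cfsg.Agent.Helper84.Sp4Asm
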