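import Mathlib
import Cfsg.Prelude.Def_OddOrderLocal
import Cfsg.Agent.Lib.Helper98.TIHDefs
import Cfsg.Agent.Lib.Helper52.CoprimeSylow

set_option autoImplicit false

/-! ZTI server (helper98, S4151), piece (B2): an element of prime order of `C_H(Q)` lies in a
Sylow subgroup of `H` centralized by `Q`. -/

namespace Cfsg.Agent.Helper84.ZTI

universe u

/-- (B2) -/
theorem exists_sylow_le_centralizer {G : Type u} [Group G] [Finite G] (H Q : Subgroup G)
    (hQ : Q ≤ Subgroup.normalizer (H : Set G)) (hcop : (Nat.card Q).Coprime (Nat.card H))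
    (hZ : IsZGroup H)
    (hB1 : ∀ (P : Subgroup G) (p : ℕ), p.Prime → IsPGroup p P → IsCyclic P → ∀ q : G,
      q ∈ Subgroup.normalizer (P : Set G) → (orderOf q).Coprime p → ∀ x ∈ P, x ≠ 1 →
      q * x * q⁻¹ = x → ∀ y ∈ P, q * y * q⁻¹ = y)
    (p : ℕ) (hp : p.Prime) (x : G) (hxH : x ∈ H) (hxQ : x ∈ Subgroup.centralizer (Q : Set G))
    (hx : orderOf x = p) :
    ∃ P : Subgroup G, P ≤ H ⊓ Subgroup.centralizer (Q : Set G) ∧ x ∈ P ∧
      Nat.card P = p ^ (Nat.card H).factorization p := by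
  have hpF : Fact p.Prime := ⟨hp⟩
  -- `U := zpowers x`
  have hUH : Subgroup.zpowers x ≤ H := (Subgroup.zpowers_le).mpr hxH
  have hUcard : Nat.card (Subgroup.zpowers x) = p ^ 1 := by
    rw [Nat.card_zpowers, hx, pow_one]
  have hU : IsPGroup p (Subgroup.zpowers x) := IsPGroup.of_card hUcard
  have hUc : Subgroup.zpowers x ≤ Subgroup.centralizer (Q : Set G) :=
    (Subgroup.zpowers_le).mpr hxQ
  have hQU : Q ≤ Subgroup.normalizer ((Subgroup.zpowers x : Subgroup G) : Set G) :=
    (Subgroup.le_centralizer_iff.mp hUc).trans (Subgroup.centralizer_le_normalizer _)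
  have hsolv : Group.IsSolvable H := inferInstance
  obtain ⟨P, hPH, hPcard, hUP, hQP⟩ :=
    Cfsg.Agent.Helper52.exists_invariant_sylow_ge Q H hQ hcop (Or.inr hsolv) p
      (Subgroup.zpowers x) hUH hU hQU
  have hPp : IsPGroup p P := IsPGroup.of_card hPcard
  -- `P` is cyclic
  have hcyc : IsCyclic P := by
    have h1 : IsPGroup p (P.subgroupOf H) :=
      hPp.of_equiv (Subgroup.subgroupOfEquivOfLe hPH).symm
    have h2 : IsCyclic (P.subgroupOf H) := h1.isCyclic_of_isZGroup
    exact isCyclic_of_surjective (Subgroup.subgroupOfEquivOfLe hPH).toMonoidHom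
      (Subgroup.subgroupOfEquivOfLe hPH).surjective
  have hxP : x ∈ P := hUP (Subgroup.mem_zpowers x)
  have hx1 : x ≠ 1 := by
    intro h
    rw [h, orderOf_one] at hx
    exact hp.one_lt.ne hx
  have hpH : p ∣ Nat.card H := by
    have := orderOf_dvd_natCard (⟨x, hxH⟩ : H)
    rwa [← Subgroup.orderOf_coe, hx] at this
  refine ⟨P, le_inf hPH ?_, hxP, hPcard⟩
  intro y hy
  rw [Subgroup.mem_centralizer_iff]
  intro q hq
  have hqo : (orderOf q).Coprime p := by
    have h1 : orderOf q ∣ Nat.card Q := by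
      have := orderOf_dvd_natCard (⟨q, hq⟩ : Q)
      rwa [← Subgroup.orderOf_coe] at this
    exact Nat.Coprime.coprime_dvd_left h1 (Nat.Coprime.coprime_dvd_right hpH hcop)
  have hqx : q * x * q⁻¹ = x := by
    have := (Subgroup.mem_centralizer_iff.mp hxQ) q hq
    rw [this, mul_inv_cancel_right]
  have := hB1 P p hp hPp hcyc q (hQP hq) hqo x hxP hx1 hqx y hy
  calc q * y = q * y * q⁻¹ * q := by group
    _ = y * q := by rw [this]

end Cfsg.Agent.Helper84.ZTI
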