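import Mathlib
import Cfsg.Prelude.Def_OddOrderLocal
import Cfsg.Agent.Lib.Helper98.TIHDefs
import Cfsg.Agent.Lib.Helper52.CoprimeSylow

set_option autoImplicit false

/-! ZTI server (helper98, S4151), piece (B3): `C` is a Hall subgroup of `H`. -/

namespace Cfsg.Agent.Helper84.ZTI

universe u

/-- (B3) `C` is a Hall subgroup of `H`. -/
theorem coprime_card_relIndex_of_sylow {G : Type u} [Group G] [Finite G] (H C : Subgroup G)
    (hCH : C ≤ H)
    (hB2 : ∀ (p : ℕ), p.Prime → ∀ x ∈ C, orderOf x = p →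
      ∃ P : Subgroup G, P ≤ C ∧ Nat.card P = p ^ (Nat.card H).factorization p) :
    (Nat.card C).Coprime (C.relIndex H) := by
  apply Nat.coprime_of_dvd
  intro p hp hpC hpI
  have : Fact p.Prime := ⟨hp⟩
  obtain ⟨x, hx⟩ := exists_prime_orderOf_dvd_card' (G := C) p hpC
  have hx' : orderOf (x : G) = p := by rw [Subgroup.orderOf_coe]; exact hx
  obtain ⟨P, hPC, hPcard⟩ := hB2 p hp (x : G) x.2 hx'
  have h1 : Nat.card P ∣ Nat.card C := Subgroup.card_dvd_of_le hPC
  have h2 : Nat.card C * C.relIndex H = Nat.card H :=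
    Cfsg.Agent.Helper52.card_mul_relIndex_eq hCH
  have h1' : p ^ (Nat.card H).factorization p ∣ Nat.card C := by
    rw [← hPcard]; exact h1
  have h3 : p ^ ((Nat.card H).factorization p + 1) ∣ Nat.card H := by
    rw [pow_succ]
    calc p ^ (Nat.card H).factorization p * p ∣ Nat.card C * C.relIndex H :=
          Nat.mul_dvd_mul h1' hpI
      _ = Nat.card H := h2
  exact Nat.pow_succ_factorization_not_dvd Nat.card_pos.ne' hp h3

end Cfsg.Agent.Helper84.ZTI
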